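import Mathlib

set_option autoImplicit false

/-!
# Baer–Suzuki theorem (Alperin–Lyons proof)

* `baer_suzuki_set`: a conjugation-closed set `C` in a finite group such that any two of its
  elements generate a `p`-group lies in every Sylow `p`-subgroup.
* `baer_suzuki_closure`: then `closure C` is a normal `p`-subgroup.
* `baer_suzuki_elt`: element form.
* `baer_suzuki_subgroup`: subgroup form.
* `involution_mem_sylow_of_no_inverted`, `involution_inverts_odd`: the involution corollary.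
-/

namespace Cfsg.Agent.Helper21

open scoped Pointwise

theorem bs_normalizer_grow {G : Type*} [Group G] [Finite G] {p : ℕ} [Fact p.Prime] (P D : Subgroup G)
    (hP : IsPGroup p P) (hD : D < P) :
    ∃ x ∈ P, x ∈ Subgroup.normalizer (D : Set G) ∧ x ∉ D := by
  have := hP.isNilpotent
  have nc := Group.normalizerCondition_of_isNilpotent (G := P)
  have hlt : D.subgroupOf P < ⊤ := by
    rw [lt_top_iff_ne_top, Ne, Subgroup.subgroupOf_eq_top]
    exact not_le_of_gt hD
  have h := nc _ hlt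
  obtain ⟨x, hx, hxD⟩ := SetLike.exists_of_lt h
  rw [← Subgroup.subgroupOf_normalizer_eq hD.le, Subgroup.mem_subgroupOf] at hx
  rw [Subgroup.mem_subgroupOf] at hxD
  exact ⟨x, x.2, hx, hxD⟩

theorem bs_mem_sylow_smul {G : Type*} [Group G] {p : ℕ} (g x : G) (P : Sylow p G) :
    x ∈ ((g • P : Sylow p G) : Subgroup G) ↔ g⁻¹ * x * g ∈ (P : Subgroup G) := by
  rw [Sylow.coe_subgroup_smul, Subgroup.mem_pointwise_smul_iff_inv_smul_mem]
  simp [MulAut.smul_def]

/-- An element conjugating a generating set into the generated subgroup, both ways, normalizes it. -/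
theorem bs_mem_normalizer_closure {G : Type*} [Group G] (D : Set G) (y : G)
    (h1 : ∀ d ∈ D, y * d * y⁻¹ ∈ Subgroup.closure D)
    (h2 : ∀ d ∈ D, y⁻¹ * d * y ∈ Subgroup.closure D) :
    y ∈ Subgroup.normalizer ((Subgroup.closure D : Subgroup G) : Set G) := by
  have e1 : Subgroup.closure D ≤ (Subgroup.closure D).comap (MulAut.conj y).toMonoidHom := by
    rw [Subgroup.closure_le]
    intro d hd
    simpa [MulAut.conj_apply] using h1 d hd
  have e2 : Subgroup.closure D ≤ (Subgroup.closure D).comap (MulAut.conj y⁻¹).toMonoidHom := by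
    rw [Subgroup.closure_le]
    intro d hd
    simpa [MulAut.conj_apply] using h2 d hd
  rw [Subgroup.mem_normalizer_iff]
  intro n
  constructor
  · intro hn
    simpa [MulAut.conj_apply] using e1 hn
  · intro hn
    have := e2 hn
    simpa [MulAut.conj_apply, mul_assoc] using this

/-- Inside a Sylow subgroup `P`, a proper "closed" subset `D` of `C ∩ P` is normalized by some
element of `C ∩ P` outside `D`. -/
theorem bs_grow {G : Type*} [Group G] [Finite G] {p : ℕ} [Fact p.Prime] (C : Set G)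
    (hC : ∀ g : G, ∀ c ∈ C, g * c * g⁻¹ ∈ C) (P : Sylow p G) (D : Set G)
    (hDC : D ⊆ C) (hDP : D ⊆ ((P : Subgroup G) : Set G))
    (hDcl : C ∩ (Subgroup.closure D : Set G) ⊆ D)
    (y₀ : G) (hy₀C : y₀ ∈ C) (hy₀P : y₀ ∈ (P : Subgroup G)) (hy₀D : y₀ ∉ D) :
    ∃ y ∈ C, y ∈ (P : Subgroup G) ∧ y ∉ D ∧ (∀ d ∈ D, y * d * y⁻¹ ∈ D) ∧
      (∀ d ∈ D, y⁻¹ * d * y ∈ D) := by
  let 𝒯 : Set (Subgroup G) := {T | D ⊆ T ∧ T ≤ (P : Subgroup G) ∧ C ∩ (T : Set G) ⊆ D}
  have hne : 𝒯.Nonempty :=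
    ⟨Subgroup.closure D, Subgroup.subset_closure, (Subgroup.closure_le _).mpr hDP, hDcl⟩
  obtain ⟨T, hT⟩ := (Set.toFinite 𝒯).exists_maximal hne
  obtain ⟨⟨hDT, hTP, hCT⟩, hTmax⟩ := hT
  have hTne : T ≠ (P : Subgroup G) := by
    intro hTeq
    apply hy₀D
    apply hCT
    rw [hTeq]
    exact ⟨hy₀C, hy₀P⟩
  obtain ⟨x, hxP, hxN, hxT⟩ := bs_normalizer_grow (P : Subgroup G) T P.isPGroup'
    (lt_of_le_of_ne hTP hTne)
  have hnot : ¬ (C ∩ ((Subgroup.normalizer (T : Set G) ⊓ (P : Subgroup G) : Subgroup G) : Set G) ⊆ D) := by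
    intro hsub
    have hmem : (Subgroup.normalizer (T : Set G) ⊓ (P : Subgroup G)) ∈ 𝒯 :=
      ⟨fun d hd => ⟨Subgroup.le_normalizer (hDT hd), hDP hd⟩, inf_le_right, hsub⟩
    have hle : T ≤ Subgroup.normalizer (T : Set G) ⊓ (P : Subgroup G) :=
      le_inf Subgroup.le_normalizer hTP
    exact hxT (hTmax hmem hle ⟨hxN, hxP⟩)
  rw [Set.not_subset] at hnot
  obtain ⟨y, ⟨hyC, hyN, hyP⟩, hyD⟩ := hnot
  refine ⟨y, hyC, hyP, hyD, ?_, ?_⟩
  · intro d hd
    apply hCT
    exact ⟨hC y d (hDC hd), ((Subgroup.mem_normalizer_iff.mp hyN) d).mp (hDT hd)⟩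
  · intro d hd
    apply hCT
    have h1 := hC y⁻¹ d (hDC hd)
    have h2 := ((Subgroup.mem_normalizer_iff.mp (Subgroup.inv_mem _ hyN)) d).mp (hDT hd)
    rw [inv_inv] at h1 h2
    exact ⟨h1, h2⟩

theorem bs_ncard_eq {G : Type*} [Group G] [Finite G] {p : ℕ} [Fact p.Prime] (C : Set G)
    (hC : ∀ g : G, ∀ c ∈ C, g * c * g⁻¹ ∈ C) (P Q : Sylow p G) :
    (C ∩ ((P : Subgroup G) : Set G)).ncard = (C ∩ ((Q : Subgroup G) : Set G)).ncard := by
  obtain ⟨g, rfl⟩ := MulAction.exists_smul_eq G P Q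
  have : C ∩ (((g • P : Sylow p G) : Subgroup G) : Set G)
      = (fun x => g * x * g⁻¹) '' (C ∩ ((P : Subgroup G) : Set G)) := by
    ext x
    simp only [Set.mem_inter_iff, SetLike.mem_coe, Set.mem_image, bs_mem_sylow_smul]
    constructor
    · rintro ⟨hxC, hxP⟩
      refine ⟨g⁻¹ * x * g, ⟨?_, hxP⟩, by group⟩
      have := hC g⁻¹ x hxC
      rwa [inv_inv] at this
    · rintro ⟨z, ⟨hzC, hzP⟩, rfl⟩
      refine ⟨hC g z hzC, ?_⟩
      have : g⁻¹ * (g * z * g⁻¹) * g = z := by group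
      rwa [this]
  rw [this]
  refine (Set.ncard_image_of_injective _ ?_).symm
  intro a b hab
  simpa using hab

/-- **Baer–Suzuki**, set form: a conjugation-closed subset `C` of a finite group, any two of whose
elements generate a `p`-group, is contained in every Sylow `p`-subgroup. -/
theorem baer_suzuki_set {G : Type*} [Group G] [Finite G] {p : ℕ} [Fact p.Prime] (C : Set G)
    (hC : ∀ g : G, ∀ c ∈ C, g * c * g⁻¹ ∈ C)
    (h : ∀ c ∈ C, ∀ d ∈ C, IsPGroup p ↥(Subgroup.closure ({c, d} : Set G))) :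
    ∀ P : Sylow p G, C ⊆ ((P : Subgroup G) : Set G) := by
  classical
  have key : ∀ P Q : Sylow p G, C ∩ ((P : Subgroup G) : Set G) = C ∩ ((Q : Subgroup G) : Set G) := by
    by_contra hne
    push Not at hne
    let S : Set (Sylow p G × Sylow p G) :=
      {pq | C ∩ ((pq.1 : Subgroup G) : Set G) ≠ C ∩ ((pq.2 : Subgroup G) : Set G)}
    have hSne : S.Nonempty := by
      obtain ⟨P, Q, hPQ⟩ := hne
      exact ⟨(P, Q), hPQ⟩
    obtain ⟨⟨P, Q⟩, hPQ, hmax⟩ := (Set.toFinite S).exists_maximalFor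
      (fun pq => (C ∩ ((pq.1 : Subgroup G) : Set G) ∩ ((pq.2 : Subgroup G) : Set G)).ncard) S hSne
    have hPQ' : C ∩ ((P : Subgroup G) : Set G) ≠ C ∩ ((Q : Subgroup G) : Set G) := hPQ
    obtain ⟨D, hDdef⟩ : ∃ D : Set G, D = C ∩ ((P : Subgroup G) : Set G) ∩ ((Q : Subgroup G) : Set G) :=
      ⟨_, rfl⟩
    have hDC : D ⊆ C := by rw [hDdef]; exact fun d hd => hd.1.1
    have hDP : D ⊆ ((P : Subgroup G) : Set G) := by rw [hDdef]; exact fun d hd => hd.1.2
    have hDQ : D ⊆ ((Q : Subgroup G) : Set G) := by rw [hDdef]; exact fun d hd => hd.2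
    have hDcl : C ∩ (Subgroup.closure D : Set G) ⊆ D := by
      intro c hc
      have h1 : Subgroup.closure D ≤ (P : Subgroup G) := (Subgroup.closure_le _).mpr hDP
      have h2 : Subgroup.closure D ≤ (Q : Subgroup G) := (Subgroup.closure_le _).mpr hDQ
      rw [hDdef]
      exact ⟨⟨hc.1, h1 hc.2⟩, h2 hc.2⟩
    -- elements outside
    have hnPQ : ¬ (C ∩ ((P : Subgroup G) : Set G) ⊆ C ∩ ((Q : Subgroup G) : Set G)) := by
      intro hsub
      exact hPQ' (Set.eq_of_subset_of_ncard_le hsub (bs_ncard_eq C hC Q P).le)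
    have hnQP : ¬ (C ∩ ((Q : Subgroup G) : Set G) ⊆ C ∩ ((P : Subgroup G) : Set G)) := by
      intro hsub
      exact hPQ' (Set.eq_of_subset_of_ncard_le hsub (bs_ncard_eq C hC P Q).le).symm
    rw [Set.not_subset] at hnPQ hnQP
    obtain ⟨y₀, ⟨hy₀C, hy₀P⟩, hy₀Q⟩ := hnPQ
    obtain ⟨z₀, ⟨hz₀C, hz₀Q⟩, hz₀P⟩ := hnQP
    have hy₀D : y₀ ∉ D := fun hd => hy₀Q ⟨hy₀C, hDQ hd⟩
    have hz₀D : z₀ ∉ D := fun hd => hz₀P ⟨hz₀C, hDP hd⟩
    obtain ⟨y, hyC, hyP, hyD, hy1, hy2⟩ := bs_grow C hC P D hDC hDP hDcl y₀ hy₀C hy₀P hy₀D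
    obtain ⟨z, hzC, hzQ, hzD, hz1, hz2⟩ := bs_grow C hC Q D hDC hDQ hDcl z₀ hz₀C hz₀Q hz₀D
    have hyN : y ∈ Subgroup.normalizer ((Subgroup.closure D : Subgroup G) : Set G) :=
      bs_mem_normalizer_closure D y (fun d hd => Subgroup.subset_closure (hy1 d hd))
        (fun d hd => Subgroup.subset_closure (hy2 d hd))
    have hzN : z ∈ Subgroup.normalizer ((Subgroup.closure D : Subgroup G) : Set G) :=
      bs_mem_normalizer_closure D z (fun d hd => Subgroup.subset_closure (hz1 d hd))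
        (fun d hd => Subgroup.subset_closure (hz2 d hd))
    have hK : IsPGroup p ↥(Subgroup.closure ({y, z} : Set G)) := h y hyC z hzC
    have hE : IsPGroup p ↥(Subgroup.closure D) :=
      P.isPGroup'.to_le ((Subgroup.closure_le _).mpr hDP)
    have hKE : Subgroup.closure ({y, z} : Set G) ≤
        Subgroup.normalizer ((Subgroup.closure D : Subgroup G) : Set G) := by
      rw [Subgroup.closure_le]
      intro w hw
      rcases hw with rfl | rfl
      · exact hyN
      · exact hzN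
    obtain ⟨R, hR⟩ := (IsPGroup.to_sup_of_normal_left' hE hK hKE).exists_le_sylow
    have hDR : D ⊆ ((R : Subgroup G) : Set G) := fun d hd =>
      hR (Subgroup.mem_sup_left (Subgroup.subset_closure hd))
    have hyR : y ∈ (R : Subgroup G) :=
      hR (Subgroup.mem_sup_right (Subgroup.subset_closure (by simp)))
    have hzR : z ∈ (R : Subgroup G) :=
      hR (Subgroup.mem_sup_right (Subgroup.subset_closure (by simp)))
    have hPR : C ∩ ((P : Subgroup G) : Set G) = C ∩ ((R : Subgroup G) : Set G) := by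
      by_contra hne'
      have hmem : (P, R) ∈ S := hne'
      have hlt : D.ncard < (C ∩ ((P : Subgroup G) : Set G) ∩ ((R : Subgroup G) : Set G)).ncard := by
        refine Set.ncard_lt_ncard ?_ (Set.toFinite _)
        refine ⟨fun d hd => ⟨⟨hDC hd, hDP hd⟩, hDR hd⟩, fun hrev => hyD (hrev ⟨⟨hyC, hyP⟩, hyR⟩)⟩
      have := hmax hmem (by simp only; rw [← hDdef]; exact hlt.le)
      simp only at this
      rw [← hDdef] at this
      omega
    have hQR : C ∩ ((Q : Subgroup G) : Set G) = C ∩ ((R : Subgroup G) : Set G) := by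
      by_contra hne'
      have hmem : (Q, R) ∈ S := hne'
      have hlt : D.ncard < (C ∩ ((Q : Subgroup G) : Set G) ∩ ((R : Subgroup G) : Set G)).ncard := by
        refine Set.ncard_lt_ncard ?_ (Set.toFinite _)
        refine ⟨fun d hd => ⟨⟨hDC hd, hDQ hd⟩, hDR hd⟩, fun hrev => hzD (hrev ⟨⟨hzC, hzQ⟩, hzR⟩)⟩
      have := hmax hmem (by simp only; rw [← hDdef]; exact hlt.le)
      simp only at this
      rw [← hDdef] at this
      omega
    exact hPQ' (hPR.trans hQR.symm)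
  intro P c hc
  have hcp : IsPGroup p ↥(Subgroup.zpowers c) := by
    apply (h c hc c hc).to_le
    rw [Subgroup.zpowers_le]
    exact Subgroup.subset_closure (by simp)
  obtain ⟨P₀, hP₀⟩ := hcp.exists_le_sylow
  have : c ∈ C ∩ ((P₀ : Subgroup G) : Set G) := ⟨hc, hP₀ (Subgroup.mem_zpowers c)⟩
  rw [key P₀ P] at this
  exact this.2

theorem bs_closure_normal {G : Type*} [Group G] (C : Set G)
    (hC : ∀ g : G, ∀ c ∈ C, g * c * g⁻¹ ∈ C) : (Subgroup.closure C).Normal := by
  constructor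
  intro n hn g
  have e1 : Subgroup.closure C ≤ (Subgroup.closure C).comap (MulAut.conj g).toMonoidHom := by
    rw [Subgroup.closure_le]
    intro d hd
    have := Subgroup.subset_closure (hC g d hd)
    simpa [MulAut.conj_apply] using this
  simpa [MulAut.conj_apply] using e1 hn

/-- **Baer–Suzuki**, closure form: `closure C` is a normal `p`-subgroup. -/
theorem baer_suzuki_closure {G : Type*} [Group G] [Finite G] {p : ℕ} [Fact p.Prime] (C : Set G)
    (hC : ∀ g : G, ∀ c ∈ C, g * c * g⁻¹ ∈ C)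
    (h : ∀ c ∈ C, ∀ d ∈ C, IsPGroup p ↥(Subgroup.closure ({c, d} : Set G))) :
    (Subgroup.closure C).Normal ∧ IsPGroup p ↥(Subgroup.closure C) := by
  refine ⟨bs_closure_normal C hC, ?_⟩
  obtain ⟨P⟩ : Nonempty (Sylow p G) := inferInstance
  exact P.isPGroup'.to_le ((Subgroup.closure_le _).mpr (baer_suzuki_set C hC h P))

/-- **Baer–Suzuki**, element form. -/
theorem baer_suzuki_elt {G : Type*} [Group G] [Finite G] {p : ℕ} [Fact p.Prime] (x : G)
    (h : ∀ g : G, IsPGroup p ↥(Subgroup.closure ({x, g * x * g⁻¹} : Set G))) :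
    ∃ N : Subgroup G, N.Normal ∧ IsPGroup p ↥N ∧ x ∈ N ∧ ∀ P : Sylow p G, N ≤ P := by
  let C : Set G := {c | ∃ g : G, c = g * x * g⁻¹}
  have hC : ∀ g : G, ∀ c ∈ C, g * c * g⁻¹ ∈ C := by
    rintro g c ⟨a, rfl⟩
    exact ⟨g * a, by group⟩
  have hpair : ∀ c ∈ C, ∀ d ∈ C, IsPGroup p ↥(Subgroup.closure ({c, d} : Set G)) := by
    rintro c ⟨a, rfl⟩ d ⟨b, rfl⟩
    have h1 := (h (a⁻¹ * b)).map (MulAut.conj a).toMonoidHom
    apply h1.to_le
    rw [Subgroup.closure_le]
    intro w hw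
    rcases hw with hw | hw
    · rw [hw]
      exact ⟨x, Subgroup.subset_closure (by simp), by simp [MulAut.conj_apply]⟩
    · rw [Set.mem_singleton_iff] at hw
      rw [hw]
      refine ⟨a⁻¹ * b * x * (a⁻¹ * b)⁻¹, Subgroup.subset_closure (by simp), ?_⟩
      simp only [MulEquiv.coe_toMonoidHom, MulAut.conj_apply]
      group
  have hx : x ∈ C := ⟨1, by simp⟩
  exact ⟨Subgroup.closure C, bs_closure_normal C hC, (baer_suzuki_closure C hC hpair).2,
    Subgroup.subset_closure hx, fun P => (Subgroup.closure_le _).mpr (baer_suzuki_set C hC hpair P)⟩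

/-- **Baer–Suzuki**, subgroup form. -/
theorem baer_suzuki_subgroup {G : Type*} [Group G] [Finite G] {p : ℕ} [Fact p.Prime] (X : Subgroup G)
    (h : ∀ g : G, IsPGroup p ↥(X ⊔ X.map (MulAut.conj g).toMonoidHom)) :
    ∃ N : Subgroup G, N.Normal ∧ IsPGroup p ↥N ∧ X ≤ N := by
  let C : Set G := {c | ∃ g : G, ∃ x ∈ X, c = g * x * g⁻¹}
  have hC : ∀ g : G, ∀ c ∈ C, g * c * g⁻¹ ∈ C := by
    rintro g c ⟨a, x, hx, rfl⟩
    exact ⟨g * a, x, hx, by group⟩
  have hpair : ∀ c ∈ C, ∀ d ∈ C, IsPGroup p ↥(Subgroup.closure ({c, d} : Set G)) := by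
    rintro c ⟨a, x, hx, rfl⟩ d ⟨b, x', hx', rfl⟩
    have h1 := (h (a⁻¹ * b)).map (MulAut.conj a).toMonoidHom
    apply h1.to_le
    rw [Subgroup.closure_le]
    intro w hw
    rcases hw with hw | hw
    · rw [hw]
      exact ⟨x, Subgroup.mem_sup_left hx, by simp [MulAut.conj_apply]⟩
    · rw [Set.mem_singleton_iff] at hw
      rw [hw]
      refine ⟨a⁻¹ * b * x' * (a⁻¹ * b)⁻¹,
        Subgroup.mem_sup_right ⟨x', hx', by
          simp only [MulEquiv.coe_toMonoidHom, MulAut.conj_apply]⟩, ?_⟩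
      simp only [MulEquiv.coe_toMonoidHom, MulAut.conj_apply]
      group
  exact ⟨Subgroup.closure C, bs_closure_normal C hC, (baer_suzuki_closure C hC hpair).2,
    fun x hx => Subgroup.subset_closure ⟨1, x, hx, by simp⟩⟩

/-- Two involutions whose product has 2-power order generate a 2-group. -/
theorem isPGroup_two_closure_pair {G : Type*} [Group G] (s u : G) (hs : s * s = 1) (hu : u * u = 1)
    (a : ℕ) (hr : (s * u) ^ 2 ^ a = 1) : IsPGroup 2 ↥(Subgroup.closure ({s, u} : Set G)) := by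
  have hsinv : s⁻¹ = s := inv_eq_of_mul_eq_one_left hs
  have huinv : u⁻¹ = u := inv_eq_of_mul_eq_one_left hu
  have hA : IsPGroup 2 ↥(Subgroup.zpowers (s * u)) := by
    apply IsPGroup.of_card_dvd_pow (n := a)
    rw [Nat.card_zpowers]
    exact orderOf_dvd_of_pow_eq_one hr
  have hB : IsPGroup 2 ↥(Subgroup.zpowers s) := by
    apply IsPGroup.of_card_dvd_pow (n := 1)
    rw [Nat.card_zpowers]
    apply orderOf_dvd_of_pow_eq_one
    rw [pow_one, sq, hs]
  have hconj : s * (s * u) * s⁻¹ = (s * u)⁻¹ := by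
    rw [mul_inv_rev, hsinv, huinv, ← mul_assoc, hs, one_mul]
  have hconj' : s⁻¹ * (s * u) * s = (s * u)⁻¹ := by
    have : s⁻¹ * (s * u) * s = s * (s * u) * s⁻¹ := by rw [hsinv]
    rw [this, hconj]
  have hN : s ∈ Subgroup.normalizer ((Subgroup.zpowers (s * u) : Subgroup G) : Set G) := by
    rw [Subgroup.zpowers_eq_closure]
    apply bs_mem_normalizer_closure
    · intro d hd
      rw [Set.mem_singleton_iff] at hd
      rw [hd, hconj]
      exact Subgroup.inv_mem _ (Subgroup.subset_closure rfl)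
    · intro d hd
      rw [Set.mem_singleton_iff] at hd
      rw [hd, hconj']
      exact Subgroup.inv_mem _ (Subgroup.subset_closure rfl)
  have hAB := IsPGroup.to_sup_of_normal_left' hA hB ((Subgroup.zpowers_le).mpr hN)
  apply hAB.to_le
  rw [Subgroup.closure_le]
  intro w hw
  rcases hw with hw | hw
  · rw [hw]
    exact Subgroup.mem_sup_right (Subgroup.mem_zpowers _)
  · rw [Set.mem_singleton_iff] at hw
    rw [hw]
    have hmem : s⁻¹ * (s * u) ∈ Subgroup.zpowers (s * u) ⊔ Subgroup.zpowers s :=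
      Subgroup.mul_mem _ (Subgroup.mem_sup_right (Subgroup.inv_mem _ (Subgroup.mem_zpowers _)))
        (Subgroup.mem_sup_left (Subgroup.mem_zpowers _))
    have e : s⁻¹ * (s * u) = u := by group
    rwa [e] at hmem

/-- An involution inverting no nontrivial element of odd order lies in a normal 2-subgroup. -/
theorem involution_mem_sylow_of_no_inverted {G : Type*} [Group G] [Finite G] (t : G) (ht : t * t = 1)
    (hno : ∀ h : G, Odd (orderOf h) → t * h * t⁻¹ = h⁻¹ → h = 1) :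
    ∃ N : Subgroup G, N.Normal ∧ IsPGroup 2 ↥N ∧ t ∈ N ∧ ∀ P : Sylow 2 G, N ≤ P := by
  have : Fact (Nat.Prime 2) := ⟨Nat.prime_two⟩
  apply baer_suzuki_elt
  intro g
  have htinv : t⁻¹ = t := inv_eq_of_mul_eq_one_left ht
  have hu : (g * t * g⁻¹) * (g * t * g⁻¹) = 1 := by
    calc (g * t * g⁻¹) * (g * t * g⁻¹) = g * (t * t) * g⁻¹ := by group
      _ = 1 := by rw [ht]; group
  obtain ⟨a, m, hm, hrm⟩ := Nat.exists_eq_two_pow_mul_odd (orderOf_pos (t * (g * t * g⁻¹))).ne'
  have hconj : t * (t * (g * t * g⁻¹)) * t⁻¹ = (t * (g * t * g⁻¹))⁻¹ := by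
    rw [mul_inv_rev, htinv, inv_eq_of_mul_eq_one_left hu, ← mul_assoc, ht, one_mul]
  have hx : (t * (g * t * g⁻¹)) ^ 2 ^ a = 1 := by
    apply hno
    · rw [orderOf_pow_of_dvd (by positivity) ⟨m, hrm⟩, hrm, Nat.mul_div_cancel_left _ (by positivity)]
      exact hm
    · rw [← conj_pow, hconj, inv_pow]
  exact isPGroup_two_closure_pair t (g * t * g⁻¹) ht hu a hx

/-- An involution lying in no normal 2-subgroup inverts a nontrivial element of odd order. -/
theorem involution_inverts_odd {G : Type*} [Group G] [Finite G] (t : G) (ht : orderOf t = 2)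
    (hO : ∀ N : Subgroup G, N.Normal → IsPGroup 2 N → t ∉ N) :
    ∃ h : G, h ≠ 1 ∧ Odd (orderOf h) ∧ t * h * t⁻¹ = h⁻¹ := by
  by_contra hcon
  push Not at hcon
  have ht2 : t * t = 1 := by rw [← sq, ← ht, pow_orderOf_eq_one]
  obtain ⟨N, hN, hNp, htN, -⟩ := involution_mem_sylow_of_no_inverted t ht2 (fun h hodd hinv => by
    by_contra hne
    exact hcon h hne hodd hinv)
  exact hO N hN hNp htN

end Cfsg.Agent.Helper21
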