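import Mathlib
import Cfsg.Prelude.Def_Local
import Cfsg.Agent.Helper24.SelfCent
import Cfsg.Agent.Helper28.Basic

set_option autoImplicit false
set_option linter.style.haveILetI false

namespace Cfsg.Agent.Helper21

open scoped commutatorElement

universe u

theorem relIndex_ker_comap {G : Type*} [Group G] (N : Subgroup G) [N.Normal]
    (C : Subgroup (G ⧸ N)) :
    N.relIndex (C.comap (QuotientGroup.mk' N)) = Nat.card C := by
  have h1 := Subgroup.relIndex_comap (⊥ : Subgroup (G ⧸ N)) (QuotientGroup.mk' N)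
    (C.comap (QuotientGroup.mk' N))
  rw [MonoidHom.comap_bot, QuotientGroup.ker_mk',
    Subgroup.map_comap_eq_self_of_surjective (QuotientGroup.mk'_surjective N),
    Subgroup.relIndex_bot_left] at h1
  exact h1

theorem relIndex_map_dvd {G H : Type*} [Group G] [Group H] (f : G →* H) (A B : Subgroup G)
    [A.Normal] (hAB : A ≤ B) : (A.map f).relIndex (B.map f) ∣ A.relIndex B := by
  rw [Subgroup.relIndex_map_map]
  haveI : (A ⊔ f.ker).Normal := Subgroup.sup_normal A f.ker
  have h1 : B ⊔ f.ker = B ⊔ (A ⊔ f.ker) := by rw [← sup_assoc, sup_eq_left.mpr hAB]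
  rw [h1, Subgroup.relIndex_sup_right, ← Subgroup.inf_relIndex_right (H := A ⊔ f.ker) (K := B)]
  have h2 := Subgroup.relIndex_mul_relIndex (H := A) (K := (A ⊔ f.ker) ⊓ B) (L := B)
    (le_inf le_sup_left hAB) inf_le_right
  exact Dvd.intro_left _ h2

/-- a normal series `V 0 = 1 ≤ V 1 ≤ …` with `p'`-factors at even and `p`-factors at odd
positions reaching the top at position `2k+1`. -/
def IsPChain (p k : ℕ) {G : Type*} [Group G] (V : ℕ → Subgroup G) : Prop :=
  V 0 = ⊥ ∧ (∀ n, (V n).Normal) ∧ (∀ n, V n ≤ V (n + 1)) ∧ V (2 * k + 1) = ⊤ ∧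
    (∀ n, Even n → ((V n).relIndex (V (n + 1))).Coprime p) ∧
    (∀ n, ¬ Even n → ∃ m, (V n).relIndex (V (n + 1)) = p ^ m)

def PChain (p k : ℕ) (G : Type*) [Group G] : Prop := ∃ V : ℕ → Subgroup G, IsPChain p k V

theorem ups_succ_even (p : ℕ) (G : Type*) [Group G] (n : ℕ) (hn : Even n) :
    (Cfsg.upperPSeries p G (n + 1)).1 =
      (Cfsg.pPrimeCore p (G ⧸ (Cfsg.upperPSeries p G n).1)).comap (QuotientGroup.mk' _) := by
  rw [Cfsg.upperPSeries]
  simp only [if_pos hn]

theorem ups_succ_odd (p : ℕ) (G : Type*) [Group G] (n : ℕ) (hn : ¬ Even n) :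
    (Cfsg.upperPSeries p G (n + 1)).1 =
      (Cfsg.pCore p (G ⧸ (Cfsg.upperPSeries p G n).1)).comap (QuotientGroup.mk' _) := by
  rw [Cfsg.upperPSeries]
  simp only [if_neg hn]

theorem ups_zero (p : ℕ) (G : Type*) [Group G] : (Cfsg.upperPSeries p G 0).1 = ⊥ := by
  rw [Cfsg.upperPSeries]

theorem pchain_of_plength {G : Type*} [Group G] [Finite G] (p : ℕ) [Fact p.Prime] (k : ℕ)
    (h : Cfsg.PLengthLE p k G) : PChain p k G := by
  refine ⟨fun n => (Cfsg.upperPSeries p G n).1, ups_zero p G,
    fun n => (Cfsg.upperPSeries p G n).2, ?_, h, ?_, ?_⟩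
  · intro n
    show (Cfsg.upperPSeries p G n).1 ≤ (Cfsg.upperPSeries p G (n + 1)).1
    by_cases hn : Even n
    · rw [ups_succ_even p G n hn]
      intro x hx
      rw [Subgroup.mem_comap, QuotientGroup.mk'_apply, (QuotientGroup.eq_one_iff x).mpr hx]
      exact one_mem _
    · rw [ups_succ_odd p G n hn]
      intro x hx
      rw [Subgroup.mem_comap, QuotientGroup.mk'_apply, (QuotientGroup.eq_one_iff x).mpr hx]
      exact one_mem _
  · intro n hn
    show ((Cfsg.upperPSeries p G n).1.relIndex (Cfsg.upperPSeries p G (n + 1)).1).Coprime p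
    rw [ups_succ_even p G n hn, relIndex_ker_comap]
    exact Cfsg.Agent.Helper24.h24_pPrimeCore_coprime p
  · intro n hn
    show ∃ m, (Cfsg.upperPSeries p G n).1.relIndex (Cfsg.upperPSeries p G (n + 1)).1 = p ^ m
    rw [ups_succ_odd p G n hn, relIndex_ker_comap]
    exact IsPGroup.iff_card.mp (Cfsg.Agent.Helper28.pCore_isPGroup p _)

theorem IsPChain.quot {G : Type*} [Group G] {p k : ℕ} (hp : p.Prime) {V : ℕ → Subgroup G}
    (hV : IsPChain p k V) (N : Subgroup G) [N.Normal] :
    IsPChain p k (fun n => (V n).map (QuotientGroup.mk' N)) := by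
  obtain ⟨h0, hn, hmono, htop, hev, hod⟩ := hV
  refine ⟨by simp [h0], fun n => Subgroup.Normal.map (hn n) _ (QuotientGroup.mk'_surjective N),
    fun n => Subgroup.map_mono (hmono n), ?_, ?_, ?_⟩
  · show (V (2 * k + 1)).map _ = ⊤
    rw [htop]; exact Subgroup.map_top_of_surjective _ (QuotientGroup.mk'_surjective N)
  · intro n hne
    haveI := hn n
    exact Nat.Coprime.coprime_dvd_left (relIndex_map_dvd _ _ _ (hmono n)) (hev n hne)
  · intro n hno
    haveI := hn n
    obtain ⟨m, hm⟩ := hod n hno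
    have h1 := relIndex_map_dvd (QuotientGroup.mk' N) _ _ (hmono n)
    rw [hm] at h1
    obtain ⟨m', _, hm'⟩ := (Nat.dvd_prime_pow hp).mp h1
    exact ⟨m', hm'⟩

theorem IsPChain.shift {G : Type*} [Group G] {p k : ℕ} (hp : p.Prime) {V : ℕ → Subgroup G}
    [hn2 : (V 2).Normal] (hV : IsPChain p (k + 1) V) :
    IsPChain p k (fun n => (V (n + 2)).map (QuotientGroup.mk' (V 2))) := by
  obtain ⟨h0, hn, hmono, htop, hev, hod⟩ := hV
  refine ⟨?_, fun n => Subgroup.Normal.map (hn _) _ (QuotientGroup.mk'_surjective _),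
    fun n => Subgroup.map_mono (hmono _), ?_, ?_, ?_⟩
  · show (V (0 + 2)).map _ = ⊥
    rw [zero_add]; exact QuotientGroup.map_mk'_self (V 2)
  · show (V (2 * k + 1 + 2)).map _ = ⊤
    rw [show 2 * k + 1 + 2 = 2 * (k + 1) + 1 by ring, htop]
    exact Subgroup.map_top_of_surjective _ (QuotientGroup.mk'_surjective _)
  · intro n hne
    haveI := hn (n + 2)
    have he2 : Even (n + 2) := by rw [Nat.even_add]; simp [hne]
    exact Nat.Coprime.coprime_dvd_left (relIndex_map_dvd _ _ _ (hmono (n + 2)))
      (hev (n + 2) he2)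
  · intro n hno
    haveI := hn (n + 2)
    have ho2 : ¬ Even (n + 2) := by rw [Nat.even_add]; simp [hno]
    obtain ⟨m, hm⟩ := hod (n + 2) ho2
    have h1 := relIndex_map_dvd (QuotientGroup.mk' (V 2)) _ _ (hmono (n + 2))
    rw [hm] at h1
    obtain ⟨m', _, hm'⟩ := (Nat.dvd_prime_pow hp).mp h1
    exact ⟨m', hm'⟩

section dsub
variable {G : Type*} [Group G]

/-- derived series of a subgroup, inside the ambient group. -/
def dsub (H : Subgroup G) : ℕ → Subgroup G
  | 0 => H
  | n + 1 => ⁅dsub H n, dsub H n⁆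

theorem dsub_zero (H : Subgroup G) : dsub H 0 = H := rfl

theorem dsub_succ (H : Subgroup G) (n : ℕ) : dsub H (n + 1) = ⁅dsub H n, dsub H n⁆ := rfl

theorem dsub_mono {H K : Subgroup G} (h : H ≤ K) (n : ℕ) : dsub H n ≤ dsub K n := by
  induction n with
  | zero => exact h
  | succ n ih => exact Subgroup.commutator_mono ih ih

theorem dsub_add (H : Subgroup G) (m n : ℕ) : dsub H (m + n) = dsub (dsub H m) n := by
  induction n with
  | zero => rfl
  | succ n ih => rw [← add_assoc, dsub_succ, ih, dsub_succ]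

theorem map_dsub {G' : Type*} [Group G'] (f : G →* G') (H : Subgroup G) (n : ℕ) :
    (dsub H n).map f = dsub (H.map f) n := by
  induction n with
  | zero => rfl
  | succ n ih => rw [dsub_succ, Subgroup.map_commutator, ih, dsub_succ]

theorem dsub_top (G : Type*) [Group G] (n : ℕ) :
    dsub (⊤ : Subgroup G) n = derivedSeries G n := by
  induction n with
  | zero => rfl
  | succ n ih => rw [dsub_succ, ih, derivedSeries_succ]

theorem dsub_eq_map (H : Subgroup G) (n : ℕ) :
    dsub H n = (derivedSeries ↥H n).map H.subtype := by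
  rw [← dsub_top, map_dsub, ← MonoidHom.range_eq_map, Subgroup.range_subtype]

theorem hd_quot [Finite G] {q d : ℕ} (hq : q.Prime)
    (h : ∀ S : Subgroup G, IsPGroup q S → dsub S d = ⊥) (N : Subgroup G) [N.Normal] :
    ∀ S : Subgroup (G ⧸ N), IsPGroup q S → dsub S d = ⊥ := by
  intro S hS
  haveI := Fact.mk hq
  obtain ⟨Q, hQ⟩ := hS.exists_le_sylow
  obtain ⟨P, hP⟩ := Sylow.mapSurjective_surjective (QuotientGroup.mk'_surjective N) q Q
  have h1 : (Q : Subgroup (G ⧸ N)) = (P : Subgroup G).map (QuotientGroup.mk' N) := by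
    rw [← hP, Sylow.coe_mapSurjective]
  have h2 : dsub (Q : Subgroup (G ⧸ N)) d = ⊥ := by
    rw [h1, ← map_dsub, h P P.isPGroup', Subgroup.map_bot]
  exact le_bot_iff.mp (h2 ▸ dsub_mono hQ d)

end dsub

/-- derived length is at most `∑ d_i l_i`. -/
theorem dl_bound (r : ℕ) (q : Fin r → ℕ) (hq : ∀ i, (q i).Prime) (d : Fin r → ℕ) :
    ∀ (m : ℕ) (G : Type u) [Group G] [Finite G] (l : Fin r → ℕ),
      Nat.card G + ∑ i, l i ≤ m →
      (∀ s : ℕ, s.Prime → s ∣ Nat.card G → ∃ i, q i = s) →
      (∀ i, ∀ S : Subgroup G, IsPGroup (q i) S → dsub S (d i) = ⊥) →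
      (∀ i, PChain (q i) (l i) G) →
      derivedSeries G (∑ i, d i * l i) = ⊥ := by
  classical
  intro m
  induction m using Nat.strong_induction_on with
  | _ m ih =>
  intro G _ _ l hm hcov hD hC
  obtain ⟨D, hDdef⟩ : ∃ D, D = ∑ i, d i * l i := ⟨_, rfl⟩
  rw [← hDdef, ← dsub_top]
  choose V hV using hC
  have key : ∀ i, dsub (⊤ : Subgroup G) D ≤ V i 1 := by
    intro i
    obtain ⟨h0, hn, hmono, htop, hev, hod⟩ := hV i
    haveI := hn 1
    have hcovq : ∀ (N : Subgroup G) [N.Normal], ∀ s : ℕ, s.Prime → s ∣ Nat.card (G ⧸ N) →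
        ∃ i, q i = s := by
      intro N _ s hs hsd
      exact hcov s hs (hsd.trans (Subgroup.card_quotient_dvd_card N))
    have hpull : ∀ (N : Subgroup G) [N.Normal] (e : ℕ), derivedSeries (G ⧸ N) e = ⊥ →
        dsub (⊤ : Subgroup G) e ≤ N := by
      intro N _ e he
      have h1 : (dsub (⊤ : Subgroup G) e).map (QuotientGroup.mk' N) = ⊥ := by
        rw [map_dsub, Subgroup.map_top_of_surjective _ (QuotientGroup.mk'_surjective _),
          dsub_top, he]
      have h2 := (Subgroup.map_eq_bot_iff _).mp h1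
      rwa [QuotientGroup.ker_mk'] at h2
    by_cases hN : V i 1 = ⊥
    · rcases Nat.eq_zero_or_pos (l i) with hl0 | hlpos
      · rw [hl0] at htop
        have h1 : V i 1 = ⊤ := by simpa using htop
        rw [h1]; exact le_top
      · haveI := hn 2
        obtain ⟨e, he⟩ := hod 1 (by decide)
        rw [hN, Subgroup.relIndex_bot_left] at he
        haveI := Fact.mk (hq i)
        have hPq : IsPGroup (q i) (V i 2) := IsPGroup.of_card he
        obtain ⟨l', hl'⟩ : ∃ l' : Fin r → ℕ, l' = Function.update l i (l i - 1) := ⟨_, rfl⟩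
        have hs1 : ∑ j, l' j = (l i - 1) + ∑ j ∈ Finset.univ \ {i}, l j := by
          rw [hl']; exact Finset.sum_update_of_mem (Finset.mem_univ i) l (l i - 1)
        have hs2 : ∑ j, l j = l i + ∑ j ∈ Finset.univ \ {i}, l j := by
          have := Finset.sum_update_of_mem (Finset.mem_univ i) l (l i)
          rw [Function.update_eq_self] at this
          exact this
        have hfun : (fun j => d j * l' j) =
            Function.update (fun j => d j * l j) i (d i * (l i - 1)) := by
          funext j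
          by_cases hj : j = i
          · subst hj; rw [hl']; simp
          · rw [hl', Function.update_of_ne hj, Function.update_of_ne hj]
        have hs3 : ∑ j, d j * l' j =
            d i * (l i - 1) + ∑ j ∈ Finset.univ \ {i}, d j * l j := by
          rw [hfun]
          exact Finset.sum_update_of_mem (Finset.mem_univ i) (fun j => d j * l j)
            (d i * (l i - 1))
        have hs4 : ∑ j, d j * l j = d i * l i + ∑ j ∈ Finset.univ \ {i}, d j * l j := by
          have := Finset.sum_update_of_mem (Finset.mem_univ i) (fun j => d j * l j) (d i * l i)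
          rw [Function.update_eq_self] at this
          exact this
        have hsD : D = (∑ j, d j * l' j) + d i := by
          rw [hDdef, hs3, hs4]
          obtain ⟨t, ht⟩ : ∃ t, l i = t + 1 := ⟨l i - 1, by omega⟩
          rw [ht, Nat.add_sub_cancel]; ring
        have hcardle : Nat.card (G ⧸ V i 2) ≤ Nat.card G :=
          Nat.le_of_dvd Nat.card_pos (Subgroup.card_quotient_dvd_card _)
        have hchains : ∀ j, PChain (q j) (l' j) (G ⧸ V i 2) := by
          intro j
          by_cases hj : j = i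
          · subst hj
            have hlj : l' j = l j - 1 := by rw [hl']; simp
            rw [hlj]
            have hV' : IsPChain (q j) ((l j - 1) + 1) (V j) := by
              rw [show l j - 1 + 1 = l j by omega]; exact hV j
            exact ⟨_, hV'.shift (hq j)⟩
          · have hlj : l' j = l j := by rw [hl', Function.update_of_ne hj]
            rw [hlj]
            exact ⟨_, (hV j).quot (hq j) (V i 2)⟩
        have hquot := ih (Nat.card (G ⧸ V i 2) + ∑ j, l' j) (by omega) (G ⧸ V i 2) l' le_rfl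
          (hcovq (V i 2)) (fun j => hd_quot (hq j) (hD j) (V i 2)) hchains
        have h1 := hpull (V i 2) _ hquot
        have h2 : dsub (⊤ : Subgroup G) D =
            dsub (dsub (⊤ : Subgroup G) (∑ j, d j * l' j)) (d i) := by
          rw [hsD, dsub_add]
        rw [h2]
        calc dsub (dsub (⊤ : Subgroup G) (∑ j, d j * l' j)) (d i)
            ≤ dsub (V i 2) (d i) := dsub_mono h1 _
          _ = ⊥ := hD i _ hPq
          _ ≤ V i 1 := bot_le
    · have hcard := Subgroup.card_eq_card_quotient_mul_card_subgroup (V i 1)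
      have hNcard : 1 < Nat.card (V i 1) := by
        by_contra hcon
        push Not at hcon
        exact hN ((V i 1).eq_bot_of_card_le hcon)
      have hqpos : 0 < Nat.card (G ⧸ V i 1) := Nat.card_pos
      have hcardlt : Nat.card (G ⧸ V i 1) < Nat.card G := by
        rw [hcard]; nlinarith
      have hquot := ih (Nat.card (G ⧸ V i 1) + ∑ j, l j) (by omega) (G ⧸ V i 1) l le_rfl
        (hcovq (V i 1)) (fun j => hd_quot (hq j) (hD j) (V i 1))
        (fun j => ⟨_, (hV j).quot (hq j) (V i 1)⟩)
      rw [← hDdef] at hquot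
      exact hpull (V i 1) _ hquot
  rw [eq_bot_iff]
  intro x hx
  rw [Subgroup.mem_bot, ← orderOf_eq_one_iff]
  by_contra hne
  obtain ⟨s, hs, hsd⟩ := Nat.exists_prime_and_dvd hne
  obtain ⟨i, hi⟩ := hcov s hs (hsd.trans (orderOf_dvd_natCard x))
  obtain ⟨h0, hn, hmono, htop, hev, hod⟩ := hV i
  have hcop := hev 0 (by decide)
  rw [h0, Subgroup.relIndex_bot_left] at hcop
  have h3 : s ∣ Nat.card (V i 1) := hsd.trans (Subgroup.orderOf_dvd_natCard _ (key i hx))
  rw [← hi] at h3
  exact (Nat.Prime.coprime_iff_not_dvd (hq i)).mp hcop.symm h3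

end Cfsg.Agent.Helper21
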