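import Mathlib
import Cfsg.Prelude.Def_Local
import Cfsg.Agent.Helper21.PChain

set_option autoImplicit false
set_option linter.style.haveILetI false

namespace Cfsg.Agent.Helper21

open scoped commutatorElement

universe u

/-- `PSer p k A B`: there is a chain of `G`-normal subgroups from `A` up to `B` whose factors are
`p'`-groups or `p`-groups, with exactly `k` steps declared as `p`-steps. -/
inductive PSer {G : Type*} [Group G] (p : ℕ) : ℕ → Subgroup G → Subgroup G → Prop
  | refl (A : Subgroup G) (hA : A.Normal) : PSer p 0 A A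
  | pprime {k : ℕ} {A B C : Subgroup G} (h : PSer p k A B) (hBC : B ≤ C) (hC : C.Normal)
      (hc : (B.relIndex C).Coprime p) : PSer p k A C
  | pstep {k : ℕ} {A B C : Subgroup G} (h : PSer p k A B) (hBC : B ≤ C) (hC : C.Normal)
      (hc : ∃ m, B.relIndex C = p ^ m) : PSer p (k + 1) A C

section
variable {G : Type*} [Group G] {p : ℕ}

theorem PSer.normal_right {k : ℕ} {A B : Subgroup G} (h : PSer p k A B) : B.Normal := by
  cases h with
  | refl _ hA => exact hA
  | pprime _ _ hC _ => exact hC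
  | pstep _ _ hC _ => exact hC

theorem PSer.normal_left {k : ℕ} {A B : Subgroup G} (h : PSer p k A B) : A.Normal := by
  induction h with
  | refl _ hA => exact hA
  | pprime _ _ _ _ ih => exact ih
  | pstep _ _ _ _ ih => exact ih

theorem PSer.le {k : ℕ} {A B : Subgroup G} (h : PSer p k A B) : A ≤ B := by
  induction h with
  | refl _ _ => exact le_rfl
  | pprime _ hBC _ _ ih => exact ih.trans hBC
  | pstep _ hBC _ _ ih => exact ih.trans hBC

theorem PSer.trans {a b : ℕ} {A B C : Subgroup G} (h1 : PSer p a A B) (h2 : PSer p b B C) :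
    PSer p (a + b) A C := by
  induction h2 with
  | refl _ _ => exact h1
  | pprime _ hBC hC hc ih => exact PSer.pprime (ih h1) hBC hC hc
  | pstep _ hBC hC hc ih => exact PSer.pstep (ih h1) hBC hC hc

theorem PSer.succ {k : ℕ} {A B : Subgroup G} (h : PSer p k A B) : PSer p (k + 1) A B :=
  PSer.pstep h le_rfl h.normal_right ⟨0, by simp [Subgroup.relIndex_self]⟩

theorem PSer.mono {k : ℕ} {A B : Subgroup G} (h : PSer p k A B) {k' : ℕ} (hk : k ≤ k') :
    PSer p k' A B := by
  induction hk with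
  | refl => exact h
  | step _ ih => exact ih.succ

theorem PSer.map {G' : Type*} [Group G'] (hp : p.Prime) (f : G →* G')
    (hf : Function.Surjective f) {k : ℕ} {A B : Subgroup G} (h : PSer p k A B) :
    PSer p k (A.map f) (B.map f) := by
  induction h with
  | refl A hA => exact PSer.refl _ (hA.map f hf)
  | pprime h hBC hC hc ih =>
    haveI := h.normal_right
    exact PSer.pprime ih (Subgroup.map_mono hBC) (hC.map f hf)
      (Nat.Coprime.coprime_dvd_left (relIndex_map_dvd f _ _ hBC) hc)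
  | pstep h hBC hC hc ih =>
    haveI := h.normal_right
    obtain ⟨m, hm⟩ := hc
    have h1 := relIndex_map_dvd f _ _ hBC
    rw [hm] at h1
    obtain ⟨m', _, hm'⟩ := (Nat.dvd_prime_pow hp).mp h1
    exact PSer.pstep ih (Subgroup.map_mono hBC) (hC.map f hf) ⟨m', hm'⟩

theorem PSer.comap {G' : Type*} [Group G'] (f : G →* G') (hf : Function.Surjective f) {k : ℕ}
    {A B : Subgroup G'} (h : PSer p k A B) : PSer p k (A.comap f) (B.comap f) := by
  induction h with
  | refl A hA => exact PSer.refl _ (hA.comap f)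
  | pprime h hBC hC hc ih =>
    refine PSer.pprime ih (Subgroup.comap_mono hBC) (hC.comap f) ?_
    rw [Subgroup.relIndex_comap, Subgroup.map_comap_eq_self_of_surjective hf]; exact hc
  | pstep h hBC hC hc ih =>
    refine PSer.pstep ih (Subgroup.comap_mono hBC) (hC.comap f) ?_
    rw [Subgroup.relIndex_comap, Subgroup.map_comap_eq_self_of_surjective hf]; exact hc

theorem relIndex_dvd_of_le_right' (B : Subgroup G) [B.Normal] {X C : Subgroup G} (h : X ≤ C) :
    B.relIndex X ∣ B.relIndex C := by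
  have h1 := Subgroup.relIndex_ker (QuotientGroup.mk' B) (K := X)
  have h2 := Subgroup.relIndex_ker (QuotientGroup.mk' B) (K := C)
  rw [QuotientGroup.ker_mk'] at h1 h2
  rw [h1, h2]
  exact Subgroup.card_dvd_of_le (Subgroup.map_mono h)

theorem relIndex_inf_dvd (B C M : Subgroup G) [B.Normal] (hBC : B ≤ C) :
    (B ⊓ M).relIndex (C ⊓ M) ∣ B.relIndex C := by
  have h1 : (B ⊓ M).relIndex (C ⊓ M) = B.relIndex (C ⊓ M) := by
    rw [← Subgroup.inf_relIndex_right (H := B) (K := C ⊓ M)]
    congr 1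
    rw [← inf_assoc, inf_eq_left.mpr hBC]
  rw [h1]
  exact relIndex_dvd_of_le_right' B inf_le_left

theorem PSer.inf (hp : p.Prime) (M : Subgroup G) [M.Normal] {k : ℕ} {A B : Subgroup G}
    (h : PSer p k A B) : PSer p k (A ⊓ M) (B ⊓ M) := by
  induction h with
  | refl A hA =>
    haveI := hA
    exact PSer.refl _ inferInstance
  | pprime h hBC hC hc ih =>
    haveI := h.normal_right
    haveI := hC
    exact PSer.pprime ih (inf_le_inf_right M hBC) inferInstance
      (Nat.Coprime.coprime_dvd_left (relIndex_inf_dvd _ _ M hBC) hc)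
  | pstep h hBC hC hc ih =>
    haveI := h.normal_right
    haveI := hC
    obtain ⟨m, hm⟩ := hc
    have h1 := relIndex_inf_dvd _ _ M hBC
    rw [hm] at h1
    obtain ⟨m', _, hm'⟩ := (Nat.dvd_prime_pow hp).mp h1
    exact PSer.pstep ih (inf_le_inf_right M hBC) inferInstance ⟨m', hm'⟩

theorem IsPChain.pser {k : ℕ} {V : ℕ → Subgroup G} (hV : IsPChain p k V) :
    ∀ n, PSer p (n / 2) ⊥ (V n) := by
  obtain ⟨h0, hn, hmono, htop, hev, hod⟩ := hV
  intro n
  induction n with
  | zero => rw [h0]; exact PSer.refl ⊥ inferInstance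
  | succ n ih =>
    by_cases hne : Even n
    · have h1 : (n + 1) / 2 = n / 2 := by obtain ⟨t, rfl⟩ := hne; omega
      rw [h1]; exact PSer.pprime ih (hmono n) (hn _) (hev n hne)
    · have h1 : (n + 1) / 2 = n / 2 + 1 := by
        rw [Nat.not_even_iff_odd] at hne; obtain ⟨t, rfl⟩ := hne; omega
      rw [h1]; exact PSer.pstep ih (hmono n) (hn _) (hod n hne)

theorem pser_of_plength [Finite G] (p : ℕ) [Fact p.Prime] (k : ℕ)
    (h : Cfsg.PLengthLE p k G) : PSer p k ⊥ (⊤ : Subgroup G) := by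
  obtain ⟨V, hV⟩ := pchain_of_plength p k h
  have h1 := hV.pser (2 * k + 1)
  rw [hV.2.2.2.1, show (2 * k + 1) / 2 = k by omega] at h1
  exact h1

theorem le_comap_pPrimeCore (p : ℕ) (U X : Subgroup G) [U.Normal] [X.Normal]
    (h : (U.relIndex X).Coprime p) :
    X ≤ (Cfsg.pPrimeCore p (G ⧸ U)).comap (QuotientGroup.mk' U) := by
  rw [← Subgroup.map_le_iff_le_comap]
  have h1 := Subgroup.relIndex_ker (QuotientGroup.mk' U) (K := X)
  rw [QuotientGroup.ker_mk'] at h1
  exact le_sSup ⟨Subgroup.Normal.map inferInstance _ (QuotientGroup.mk'_surjective U),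
    by rw [← h1]; exact h⟩

theorem le_comap_pCore (p : ℕ) (U X : Subgroup G) [U.Normal] [X.Normal]
    (h : ∃ m, U.relIndex X = p ^ m) :
    X ≤ (Cfsg.pCore p (G ⧸ U)).comap (QuotientGroup.mk' U) := by
  rw [← Subgroup.map_le_iff_le_comap]
  have h1 := Subgroup.relIndex_ker (QuotientGroup.mk' U) (K := X)
  rw [QuotientGroup.ker_mk'] at h1
  obtain ⟨m, hm⟩ := h
  exact le_sSup ⟨Subgroup.Normal.map inferInstance _ (QuotientGroup.mk'_surjective U),
    IsPGroup.of_card (by rw [← h1]; exact hm)⟩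

theorem ups_le_succ (p : ℕ) (G : Type*) [Group G] (n : ℕ) :
    (Cfsg.upperPSeries p G n).1 ≤ (Cfsg.upperPSeries p G (n + 1)).1 := by
  by_cases hn : Even n
  · rw [ups_succ_even p G n hn]
    intro x hx
    rw [Subgroup.mem_comap, QuotientGroup.mk'_apply, (QuotientGroup.eq_one_iff x).mpr hx]
    exact one_mem _
  · rw [ups_succ_odd p G n hn]
    intro x hx
    rw [Subgroup.mem_comap, QuotientGroup.mk'_apply, (QuotientGroup.eq_one_iff x).mpr hx]
    exact one_mem _

theorem ups_relIndex_even [Finite G] (p : ℕ) (n : ℕ) (hn : Even n) :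
    ((Cfsg.upperPSeries p G n).1.relIndex (Cfsg.upperPSeries p G (n + 1)).1).Coprime p := by
  rw [ups_succ_even p G n hn, relIndex_ker_comap]
  exact Cfsg.Agent.Helper24.h24_pPrimeCore_coprime p

/-- a `G`-invariant `p`-series with `k` `p`-steps starting inside `O_{p'}(G)` stays inside the
`(2k+1)`-st term of the upper `p`-series. -/
theorem PSer.le_ups [Finite G] (p : ℕ) [Fact p.Prime] {k : ℕ} {A B : Subgroup G}
    (h : PSer p k A B) (hA : A ≤ (Cfsg.upperPSeries p G 1).1) :
    B ≤ (Cfsg.upperPSeries p G (2 * k + 1)).1 := by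
  have hp := (Fact.out : p.Prime)
  induction h with
  | refl A _ => exact hA
  | @pprime k A B C h hBC hC hc ih =>
    have ih' := ih hA
    haveI := hC
    have hU1 : (Cfsg.upperPSeries p G (2 * k + 1)).1 =
        (Cfsg.pPrimeCore p (G ⧸ (Cfsg.upperPSeries p G (2 * k)).1)).comap
          (QuotientGroup.mk' _) := ups_succ_even p G (2 * k) (even_two_mul k)
    have hcop : ((Cfsg.upperPSeries p G (2 * k)).1.relIndex
        (C ⊔ (Cfsg.upperPSeries p G (2 * k + 1)).1)).Coprime p := by
      rw [← Subgroup.relIndex_mul_relIndex (Cfsg.upperPSeries p G (2 * k)).1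
        (Cfsg.upperPSeries p G (2 * k + 1)).1 (C ⊔ (Cfsg.upperPSeries p G (2 * k + 1)).1)
        (ups_le_succ p G (2 * k)) le_sup_right]
      apply Nat.Coprime.mul_left
      · exact ups_relIndex_even p (2 * k) (even_two_mul k)
      · rw [Subgroup.relIndex_sup_right]
        exact Nat.Coprime.coprime_dvd_left (Subgroup.relIndex_dvd_of_le_left _ ih') hc
    have hX : C ⊔ (Cfsg.upperPSeries p G (2 * k + 1)).1 ≤
        (Cfsg.upperPSeries p G (2 * k + 1)).1 :=
      calc C ⊔ (Cfsg.upperPSeries p G (2 * k + 1)).1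
          ≤ (Cfsg.pPrimeCore p (G ⧸ (Cfsg.upperPSeries p G (2 * k)).1)).comap
              (QuotientGroup.mk' _) := le_comap_pPrimeCore p _ _ hcop
        _ = (Cfsg.upperPSeries p G (2 * k + 1)).1 := hU1.symm
    exact le_sup_left.trans hX
  | @pstep k A B C h hBC hC hc ih =>
    have ih' := ih hA
    haveI := hC
    have hodd : ¬ Even (2 * k + 1) := by
      rw [Nat.not_even_iff_odd]; exact odd_two_mul_add_one k
    have hU2 : (Cfsg.upperPSeries p G (2 * k + 1 + 1)).1 =
        (Cfsg.pCore p (G ⧸ (Cfsg.upperPSeries p G (2 * k + 1)).1)).comap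
          (QuotientGroup.mk' _) := ups_succ_odd p G (2 * k + 1) hodd
    have hpow : ∃ m, (Cfsg.upperPSeries p G (2 * k + 1)).1.relIndex
        (C ⊔ (Cfsg.upperPSeries p G (2 * k + 1)).1) = p ^ m := by
      rw [Subgroup.relIndex_sup_right]
      obtain ⟨m, hm⟩ := hc
      have h1 : (Cfsg.upperPSeries p G (2 * k + 1)).1.relIndex C ∣ B.relIndex C :=
        Subgroup.relIndex_dvd_of_le_left _ ih'
      rw [hm] at h1
      obtain ⟨m', _, hm'⟩ := (Nat.dvd_prime_pow hp).mp h1
      exact ⟨m', hm'⟩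
    have hX : C ⊔ (Cfsg.upperPSeries p G (2 * k + 1)).1 ≤
        (Cfsg.upperPSeries p G (2 * k + 1 + 1)).1 :=
      calc C ⊔ (Cfsg.upperPSeries p G (2 * k + 1)).1
          ≤ (Cfsg.pCore p (G ⧸ (Cfsg.upperPSeries p G (2 * k + 1)).1)).comap
              (QuotientGroup.mk' _) := le_comap_pCore p _ _ hpow
        _ = (Cfsg.upperPSeries p G (2 * k + 1 + 1)).1 := hU2.symm
    have h3 : (Cfsg.upperPSeries p G (2 * k + 1 + 1)).1 ≤
        (Cfsg.upperPSeries p G (2 * (k + 1) + 1)).1 := ups_le_succ p G (2 * k + 1 + 1)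
    exact (le_sup_left.trans hX).trans h3

theorem plength_of_pser [Finite G] (p : ℕ) [Fact p.Prime] (k : ℕ)
    (h : PSer p k ⊥ (⊤ : Subgroup G)) : Cfsg.PLengthLE p k G :=
  top_le_iff.mp (h.le_ups p bot_le)

end

/-- Hall–Higman: the `p`-length is bounded by `∏ (1 + l_q)` over the other primes. -/
theorem pser_bound (p : ℕ) (hp : p.Prime) : ∀ (r : ℕ) (q : Fin r → ℕ) (l : Fin r → ℕ),
    (∀ i, (q i).Prime ∧ q i ≠ p) →
    ∀ (G : Type u) [Group G] [Finite G] (M : Subgroup G), M.Normal →
      (∀ s : ℕ, s.Prime → s ∣ Nat.card M → s ≠ p → ∃ i, q i = s) →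
      (∀ i, PSer (q i) (l i) ⊥ M) → PSer p (∏ i, (1 + l i)) ⊥ M := by
  intro r
  induction r with
  | zero =>
    intro q l hq G _ _ M hM hcov _
    haveI := hM
    simp only [Finset.univ_eq_empty, Finset.prod_empty]
    have hcard : ∃ m, Nat.card M = p ^ m := by
      refine ⟨_, Nat.eq_prime_pow_of_unique_prime_dvd Nat.card_pos.ne' ?_⟩
      intro s hs hsd
      by_contra hne
      obtain ⟨i, _⟩ := hcov s hs hsd hne
      exact i.elim0
    refine PSer.pstep (PSer.refl ⊥ inferInstance) bot_le hM ?_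
    rw [Subgroup.relIndex_bot_left]; exact hcard
  | succ r ih =>
    intro q l hq G _ _ M hM hcov hser
    haveI := hM
    rw [Fin.prod_univ_succ]
    obtain ⟨PP, hPP⟩ : ∃ PP : ℕ, PP = ∏ i : Fin r, (1 + l i.succ) := ⟨_, rfl⟩
    rw [← hPP]
    have hblock : ∀ B₀ B : Subgroup G, B₀.Normal → B.Normal → B₀ ≤ B → B ≤ M →
        (B₀.relIndex B).Coprime (q 0) → PSer p PP B₀ B := by
      intro B₀ B hB₀ hB hle hBM hcop
      haveI := hB₀
      haveI := hB
      have h1 := ih (fun i => q i.succ) (fun i => l i.succ) (fun i => hq i.succ) (G ⧸ B₀)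
        (B.map (QuotientGroup.mk' B₀)) (hB.map _ (QuotientGroup.mk'_surjective B₀)) ?_ ?_
      · rw [← hPP] at h1
        have h2 := h1.comap (QuotientGroup.mk' B₀) (QuotientGroup.mk'_surjective B₀)
        rw [MonoidHom.comap_bot, QuotientGroup.ker_mk', Subgroup.comap_map_eq,
          QuotientGroup.ker_mk', sup_eq_left.mpr hle] at h2
        exact h2
      · intro s hs hsd hsp
        have hrk := Subgroup.relIndex_ker (QuotientGroup.mk' B₀) (K := B)
        rw [QuotientGroup.ker_mk'] at hrk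
        rw [← hrk] at hsd
        have hsM : s ∣ Nat.card M :=
          hsd.trans ((Subgroup.relIndex_dvd_card B₀ B).trans (Subgroup.card_dvd_of_le hBM))
        obtain ⟨i, hi⟩ := hcov s hs hsM hsp
        have hi0 : i ≠ 0 := by
          rintro rfl
          rw [← hi] at hsd
          exact (Nat.Prime.coprime_iff_not_dvd (hq 0).1).mp hcop.symm hsd
        obtain ⟨j, rfl⟩ := Fin.exists_succ_eq.mpr hi0
        exact ⟨j, hi⟩
      · intro j
        have h3 := (hser j.succ).inf (hq j.succ).1 B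
        rw [bot_inf_eq, inf_eq_right.mpr hBM] at h3
        have h4 := h3.map (hq j.succ).1 (QuotientGroup.mk' B₀) (QuotientGroup.mk'_surjective B₀)
        rw [Subgroup.map_bot] at h4
        exact h4
    have hsub : ∀ (k : ℕ) (A B : Subgroup G), PSer (q 0) k A B → B ≤ M →
        ∃ B₀ : Subgroup G, B₀.Normal ∧ B₀ ≤ B ∧ (B₀.relIndex B).Coprime (q 0) ∧
          PSer p (k * PP) A B₀ := by
      intro k A B h
      induction h with
      | refl A hA =>
        intro _
        exact ⟨A, hA, le_rfl, by simp [Subgroup.relIndex_self],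
          by rw [zero_mul]; exact PSer.refl A hA⟩
      | @pprime k A B C h hBC hC hc ih' =>
        intro hCM
        obtain ⟨B₀, hB₀n, hB₀le, hB₀c, hB₀s⟩ := ih' (hBC.trans hCM)
        refine ⟨B₀, hB₀n, hB₀le.trans hBC, ?_, hB₀s⟩
        rw [← Subgroup.relIndex_mul_relIndex B₀ _ _ hB₀le hBC]
        exact Nat.Coprime.mul_left hB₀c hc
      | @pstep k A B C h hBC hC hc ih' =>
        intro hCM
        obtain ⟨B₀, hB₀n, hB₀le, hB₀c, hB₀s⟩ := ih' (hBC.trans hCM)
        refine ⟨C, hC, le_rfl, by simp [Subgroup.relIndex_self], ?_⟩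
        have h1 := hblock B₀ B hB₀n h.normal_right hB₀le (hBC.trans hCM) hB₀c
        have h2 : PSer p PP B₀ C := PSer.pprime h1 hBC hC (by
          obtain ⟨m, hm⟩ := hc
          rw [hm]
          exact Nat.Coprime.pow_left m ((Nat.coprime_primes (hq 0).1 hp).mpr (hq 0).2))
        have h3 := hB₀s.trans h2
        rw [show (k + 1) * PP = k * PP + PP by ring]
        exact h3
    obtain ⟨B₀, hB₀n, hB₀le, hB₀c, hB₀s⟩ := hsub _ _ _ (hser 0) le_rfl
    have h1 := hblock B₀ M hB₀n hM hB₀le le_rfl hB₀c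
    have h2 := hB₀s.trans h1
    rw [show (1 + l 0) * PP = l 0 * PP + PP by ring]
    exact h2

end Cfsg.Agent.Helper21
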