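import Mathlib
import Cfsg.Prelude.Def_Local
import Cfsg.Agent.Helper21.PSer
import Cfsg.Agent.Helper21.BaerSuzuki
import Cfsg.Agent.Helper13.PSolv
import Cfsg.Agent.S0634

set_option autoImplicit false
set_option linter.style.haveILetI false

namespace Cfsg.Agent.Helper21

universe u

theorem ups_relIndex_odd {G : Type*} [Group G] [Finite G] (p : ℕ) [Fact p.Prime] (n : ℕ)
    (hn : ¬ Even n) :
    ∃ m, (Cfsg.upperPSeries p G n).1.relIndex (Cfsg.upperPSeries p G (n + 1)).1 = p ^ m := by
  rw [ups_succ_odd p G n hn, relIndex_ker_comap]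
  exact IsPGroup.iff_card.mp (Cfsg.Agent.Helper28.pCore_isPGroup p _)

theorem normal_pgroup_le_sylow {H : Type*} [Group H] [Finite H] {p : ℕ} [Fact p.Prime]
    (N : Subgroup H) [N.Normal] (hN : IsPGroup p N) (Q : Sylow p H) : N ≤ Q := by
  obtain ⟨Q', hQ'⟩ := hN.exists_le_sylow
  obtain ⟨g, hg⟩ := MulAction.exists_smul_eq H Q' Q
  intro x hx
  have h1 : g⁻¹ * x * g ∈ (Q' : Subgroup H) := hQ' (by
    have := (inferInstance : N.Normal).conj_mem x hx g⁻¹
    simpa using this)
  have h2 : x ∈ ((g • Q' : Sylow p H) : Subgroup H) := (bs_mem_sylow_smul g x Q').mpr h1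
  rw [hg] at h2
  exact h2

/-- Hall–Higman: the `p`-length of a `p`-soluble group is at most the class of a Sylow
`p`-subgroup. -/
theorem plength_le_class (p : ℕ) [Fact p.Prime] : ∀ (c : ℕ) (G : Type u) [Group G] [Finite G],
    Cfsg.IsPSolvable p G → ∀ S : Sylow p G, Group.nilpotencyClass ↥(S : Subgroup G) ≤ c →
      PSer p c ⊥ (⊤ : Subgroup G) := by
  have hp := (Fact.out : p.Prime)
  intro c
  induction c with
  | zero =>
    intro G _ _ hsol S hS
    haveI : Group.IsNilpotent ↥(S : Subgroup G) := S.isPGroup'.isNilpotent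
    have h0 : Group.nilpotencyClass ↥(S : Subgroup G) = 0 := Nat.le_zero.mp hS
    rw [Group.nilpotencyClass_zero_iff_subsingleton] at h0
    have hcard : Nat.card ↥(S : Subgroup G) = 1 := Nat.card_of_subsingleton 1
    have hnd : ¬ p ∣ Nat.card G := by
      intro hd
      have h1 := S.card_eq_multiplicity
      rw [hcard] at h1
      have h2 : 0 < (Nat.card G).factorization p :=
        hp.factorization_pos_of_dvd Nat.card_pos.ne' hd
      have h3 : p ^ (Nat.card G).factorization p = 1 := h1.symm
      have h4 : 1 < p ^ (Nat.card G).factorization p := Nat.one_lt_pow h2.ne' hp.one_lt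
      omega
    refine PSer.pprime (PSer.refl ⊥ inferInstance) bot_le inferInstance ?_
    rw [Subgroup.relIndex_bot_left, Subgroup.card_top]
    exact ((Nat.Prime.coprime_iff_not_dvd hp).mpr hnd).symm
  | succ c ih =>
    intro G _ _ hsol S hS
    haveI : Group.IsNilpotent ↥(S : Subgroup G) := S.isPGroup'.isNilpotent
    have hs1 : PSer p 0 ⊥ (Cfsg.upperPSeries p G 1).1 := by
      refine PSer.pprime (PSer.refl ⊥ inferInstance) bot_le inferInstance ?_
      have h1 := ups_relIndex_even (G := G) p 0 (by decide)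
      rw [ups_zero] at h1
      exact h1
    have hs2 : PSer p 1 ⊥ (Cfsg.upperPSeries p G 2).1 :=
      PSer.pstep hs1 (ups_le_succ p G 1) inferInstance (ups_relIndex_odd p 1 (by decide))
    have hU2 : (Cfsg.upperPSeries p G 2).1 =
        (Cfsg.pCore p (G ⧸ (Cfsg.upperPSeries p G 1).1)).comap (QuotientGroup.mk' _) :=
      ups_succ_odd p G 1 (by decide)
    have hmapU2 : (Cfsg.upperPSeries p G 2).1.map
        (QuotientGroup.mk' (Cfsg.upperPSeries p G 1).1) =
        Cfsg.pCore p (G ⧸ (Cfsg.upperPSeries p G 1).1) := by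
      rw [hU2, Subgroup.map_comap_eq_self_of_surjective (QuotientGroup.mk'_surjective _)]
    have hcent := Cfsg.Agent.S0634.result hsol 0
    have hcent' : Subgroup.centralizer (((Cfsg.upperPSeries p G 2).1.map
        (QuotientGroup.mk' (Cfsg.upperPSeries p G 1).1) : Subgroup _) :
          Set (G ⧸ (Cfsg.upperPSeries p G 1).1)) ≤
        (Cfsg.upperPSeries p G 2).1.map (QuotientGroup.mk' (Cfsg.upperPSeries p G 1).1) :=
      hcent
    have hZ : ∀ z : ↥(S : Subgroup G), z ∈ Subgroup.center ↥(S : Subgroup G) →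
        (z : G) ∈ (Cfsg.upperPSeries p G 2).1 := by
      intro z hz
      have h1 : QuotientGroup.mk' (Cfsg.upperPSeries p G 1).1 (z : G) ∈
          Subgroup.centralizer (((Cfsg.upperPSeries p G 2).1.map
            (QuotientGroup.mk' (Cfsg.upperPSeries p G 1).1) : Subgroup _) :
            Set (G ⧸ (Cfsg.upperPSeries p G 1).1)) := by
        rw [Subgroup.mem_centralizer_iff]
        intro ū hū
        have hū' : ū ∈ ((S.mapSurjective
            (QuotientGroup.mk'_surjective (Cfsg.upperPSeries p G 1).1) : Sylow p _) :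
            Subgroup _) := by
          haveI : (Cfsg.pCore p (G ⧸ (Cfsg.upperPSeries p G 1).1)).Normal :=
            Cfsg.Agent.Helper28.pCore_normal p _
          refine normal_pgroup_le_sylow _ (Cfsg.Agent.Helper28.pCore_isPGroup p _) _ ?_
          rw [← hmapU2]; exact hū
        obtain ⟨s, hs, rfl⟩ := hū'
        have hcomm : s * (z : G) = (z : G) * s := by
          have h2 := Subgroup.mem_center_iff.mp hz ⟨s, hs⟩
          exact congrArg Subtype.val h2
        rw [← map_mul, ← map_mul, hcomm]
      have h2 := hcent' h1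
      rw [hmapU2] at h2
      rw [hU2, Subgroup.mem_comap]
      exact h2
    have hcl : Group.nilpotencyClass
        ↥((S : Subgroup G).map (QuotientGroup.mk' (Cfsg.upperPSeries p G 2).1)) ≤ c := by
      obtain ⟨φ, hφdef⟩ : ∃ φ : ↥(S : Subgroup G) →*
          ↥((S : Subgroup G).map (QuotientGroup.mk' (Cfsg.upperPSeries p G 2).1)),
          φ = (QuotientGroup.mk' (Cfsg.upperPSeries p G 2).1).subgroupMap (S : Subgroup G) :=
        ⟨_, rfl⟩
      have hφ : Function.Surjective φ := hφdef ▸ MonoidHom.subgroupMap_surjective _ _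
      have hker : Subgroup.center ↥(S : Subgroup G) ≤ φ.ker := by
        intro z hz
        rw [MonoidHom.mem_ker]
        apply Subtype.ext
        rw [hφdef]
        show QuotientGroup.mk' (Cfsg.upperPSeries p G 2).1 (z : G) = 1
        rw [QuotientGroup.mk'_apply, QuotientGroup.eq_one_iff]
        exact hZ z hz
      have hψ : Function.Surjective
          (QuotientGroup.lift (Subgroup.center ↥(S : Subgroup G)) φ hker) := by
        intro y
        obtain ⟨x, rfl⟩ := hφ y
        exact ⟨QuotientGroup.mk x, QuotientGroup.lift_mk _ _ _⟩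
      have h1 := Group.nilpotencyClass_le_of_surjective _ hψ
      rw [Group.nilpotencyClass_quotient_center] at h1
      omega
    have hquot := ih (G ⧸ (Cfsg.upperPSeries p G 2).1)
      (Cfsg.Agent.Helper13.isPSolvable_quotient hsol _)
      (S.mapSurjective (QuotientGroup.mk'_surjective _)) hcl
    have h3 := hquot.comap (QuotientGroup.mk' (Cfsg.upperPSeries p G 2).1)
      (QuotientGroup.mk'_surjective _)
    rw [MonoidHom.comap_bot, QuotientGroup.ker_mk', Subgroup.comap_top] at h3
    have h4 := hs2.trans h3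
    rw [add_comm] at h4
    exact h4

end Cfsg.Agent.Helper21
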