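import Mathlib
import Cfsg.Prelude.Def_Local
import Cfsg.Agent.Helper21.PSer
import Cfsg.Agent.Helper21.PLenClass
import Cfsg.Agent.Helper13.PSolv
import Cfsg.Agent.Helper11.CNSolv
import Cfsg.Agent.Helper9.Bend1
import Cfsg.Agent.S4303
import Cfsg.Agent.S0634

set_option autoImplicit false
set_option linter.style.haveILetI false

namespace Cfsg.Agent.Helper21

open scoped commutatorElement

universe u

/-- Norm lemma: if the norm of `x` vanishes on the abelian `p`-group `V` and the nontrivial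
powers of `x` act fixed-point-freely on the `p'`-group `Q`, then `Q` acts trivially on `V`. -/
theorem fn_norm {K V : Type*} [Group K] [CommGroup V] (p : ℕ) [Fact p.Prime]
    (hV : IsPGroup p V) (ρ : K →* MulAut V) (x : K) (m : ℕ) (hm : 0 < m)
    (Q : Subgroup K) [Finite Q] (hQ : (Nat.card Q).Coprime p)
    (hx : ∀ c ∈ Q, x * c * x⁻¹ ∈ Q)
    (hfix : ∀ i, 0 < i → i < m → ∀ c ∈ Q, x ^ i * c = c * x ^ i → c = 1)
    (hN : ∀ v : V, ∏ i ∈ Finset.range m, ρ (x ^ i) v = 1) :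
    ∀ c ∈ Q, ∀ v, ρ c v = v := by
  classical
  have hp := (Fact.out : p.Prime)
  letI : Fintype ↥Q := Fintype.ofFinite _
  obtain ⟨S, hS⟩ : ∃ S : V → V, ∀ v, S v = ∏ c : ↥Q, ρ (c : K) v := ⟨_, fun _ => rfl⟩
  have hxi : ∀ i : ℕ, ∀ c ∈ Q, x ^ i * c * (x ^ i)⁻¹ ∈ Q := by
    intro i
    induction i with
    | zero => intro c hc; simpa using hc
    | succ i ih =>
      intro c hc
      have h1 := hx _ (ih c hc)
      have h2 : x ^ (i + 1) * c * (x ^ (i + 1))⁻¹ = x * (x ^ i * c * (x ^ i)⁻¹) * x⁻¹ := by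
        rw [pow_succ']; group
      rw [h2]; exact h1
  -- `S` is fixed by `Q`
  have hA : ∀ d ∈ Q, ∀ v, ρ d (S v) = S v := by
    intro d hd v
    rw [hS, map_prod]
    have h1 : ∀ c : ↥Q, ρ d (ρ (c : K) v) = ρ (((⟨d, hd⟩ : ↥Q) * c : ↥Q) : K) v := by
      intro c
      rw [Subgroup.coe_mul, map_mul, MulAut.mul_apply]
    rw [Finset.prod_congr rfl (fun c _ => h1 c)]
    exact Fintype.prod_equiv (Equiv.mulLeft (⟨d, hd⟩ : ↥Q)) _ _ (fun c => rfl)
  have hSmul : ∀ u v, S (u * v) = S u * S v := by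
    intro u v
    rw [hS, hS, hS, ← Finset.prod_mul_distrib]
    exact Finset.prod_congr rfl (fun c _ => map_mul _ _ _)
  have hSone : S 1 = 1 := by
    rw [hS]; exact Finset.prod_eq_one (fun c _ => map_one _)
  have hSinv : ∀ u, S u⁻¹ = (S u)⁻¹ := by
    intro u
    rw [eq_inv_iff_mul_eq_one, ← hSmul, inv_mul_cancel, hSone]
  have hSprod : ∀ (s : Finset ℕ) (f : ℕ → V), S (∏ i ∈ s, f i) = ∏ i ∈ s, S (f i) := by
    intro s f
    induction s using Finset.induction_on with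
    | empty => simpa using hSone
    | insert a s ha ih => rw [Finset.prod_insert ha, Finset.prod_insert ha, hSmul, ih]
  -- the twisted sums
  have hB : ∀ i, 0 < i → i < m → ∀ u, ∏ c : ↥Q, ρ ((c : K) * x ^ i * (c : K)⁻¹ * (x ^ i)⁻¹) u
      = S u := by
    intro i hi0 him u
    have hmem : ∀ c : ↥Q, (c : K) * x ^ i * (c : K)⁻¹ * (x ^ i)⁻¹ ∈ Q := by
      intro c
      have h1 := hxi i _ (Q.inv_mem c.2)
      have h2 := Q.mul_mem c.2 h1
      have h3 : (c : K) * x ^ i * (c : K)⁻¹ * (x ^ i)⁻¹ = (c : K) * (x ^ i * (c : K)⁻¹ * (x ^ i)⁻¹) := by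
        group
      rw [h3]; exact h2
    obtain ⟨ψ, hψ⟩ : ∃ ψ : ↥Q → ↥Q, ∀ c, ψ c = ⟨_, hmem c⟩ := ⟨_, fun _ => rfl⟩
    have hinj : Function.Injective ψ := by
      intro c d hcd
      rw [hψ, hψ] at hcd
      have h1 : (c : K) * x ^ i * (c : K)⁻¹ * (x ^ i)⁻¹ = (d : K) * x ^ i * (d : K)⁻¹ * (x ^ i)⁻¹ :=
        congrArg Subtype.val hcd
      have h2 : x ^ i * ((d : K)⁻¹ * (c : K)) = ((d : K)⁻¹ * (c : K)) * x ^ i := by
        have h3 : (c : K) * x ^ i * (c : K)⁻¹ = (d : K) * x ^ i * (d : K)⁻¹ := mul_right_cancel h1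
        have h4 : x ^ i * (c : K)⁻¹ = (c : K)⁻¹ * ((d : K) * x ^ i * (d : K)⁻¹) := by
          rw [← h3]; group
        calc x ^ i * ((d : K)⁻¹ * (c : K))
            = (d : K)⁻¹ * ((d : K) * x ^ i * (d : K)⁻¹) * (c : K) := by group
          _ = (d : K)⁻¹ * ((c : K) * (x ^ i * (c : K)⁻¹)) * (c : K) := by rw [h4]; group
          _ = ((d : K)⁻¹ * (c : K)) * x ^ i := by group
      have h5 := hfix i hi0 him _ (Q.mul_mem (Q.inv_mem d.2) c.2) h2
      apply Subtype.ext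
      have h6 : (c : K) = (d : K) * ((d : K)⁻¹ * (c : K)) := by group
      rw [h6, h5, mul_one]
    have hbij : Function.Bijective ψ := Finite.injective_iff_bijective.mp hinj
    rw [hS]
    exact Fintype.prod_bijective ψ hbij _ _ (fun c => by rw [hψ])
  -- main computation
  have hmain : ∀ v, S v = v ^ Nat.card ↥Q := by
    intro v
    have h1 : ∀ c : ↥Q, ∏ i ∈ Finset.range m, ρ ((c : K) * x ^ i * (c : K)⁻¹) v = 1 := by
      intro c
      have h2 := hN (ρ (c : K)⁻¹ v)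
      have h3 := congrArg (ρ (c : K)) h2
      rw [map_prod, map_one] at h3
      rw [← h3]
      refine Finset.prod_congr rfl (fun i _ => ?_)
      rw [map_mul, map_mul, MulAut.mul_apply, MulAut.mul_apply]
    have h2 : ∏ c : ↥Q, ∏ i ∈ Finset.range m, ρ ((c : K) * x ^ i * (c : K)⁻¹) v = 1 :=
      Finset.prod_eq_one (fun c _ => h1 c)
    rw [Finset.prod_comm] at h2
    obtain ⟨m', rfl⟩ : ∃ m', m = m' + 1 := ⟨m - 1, by omega⟩
    rw [Finset.prod_range_succ'] at h2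
    have h3 : ∏ c : ↥Q, ρ ((c : K) * x ^ 0 * (c : K)⁻¹) v = v ^ Nat.card ↥Q := by
      have : ∀ c : ↥Q, ρ ((c : K) * x ^ 0 * (c : K)⁻¹) v = v := by
        intro c; simp
      rw [Finset.prod_congr rfl (fun c _ => this c), Finset.prod_const, Finset.card_univ,
        Nat.card_eq_fintype_card]
    have h4 : ∀ i ∈ Finset.range m', ∏ c : ↥Q, ρ ((c : K) * x ^ (i + 1) * (c : K)⁻¹) v
        = S (ρ (x ^ (i + 1)) v) := by
      intro i hi
      rw [← hB (i + 1) (by omega) (by have := Finset.mem_range.mp hi; omega)]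
      refine Finset.prod_congr rfl (fun c _ => ?_)
      rw [← MulAut.mul_apply, ← map_mul]
      congr 2
      group
    rw [h3, Finset.prod_congr rfl h4, ← hSprod] at h2
    have h5 := hN v
    rw [Finset.prod_range_succ'] at h5
    have h6 : ∏ i ∈ Finset.range m', ρ (x ^ (i + 1)) v = v⁻¹ := by
      rw [eq_inv_iff_mul_eq_one]
      simpa using h5
    rw [h6, hSinv] at h2
    exact inv_mul_eq_one.mp h2
  intro d hd v
  have h1 := hA d hd v
  rw [hmain, map_pow] at h1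
  have h2 : (ρ d v * v⁻¹) ^ Nat.card ↥Q = 1 := by
    rw [mul_pow, h1, inv_pow, mul_inv_cancel]
  obtain ⟨k, hk⟩ := hV (ρ d v * v⁻¹)
  have h3 : orderOf (ρ d v * v⁻¹) ∣ Nat.gcd (Nat.card ↥Q) (p ^ k) :=
    Nat.dvd_gcd (orderOf_dvd_of_pow_eq_one h2) (orderOf_dvd_of_pow_eq_one hk)
  rw [Nat.Coprime.pow_right k hQ] at h3
  have h4 : ρ d v * v⁻¹ = 1 := orderOf_eq_one_iff.mp (Nat.dvd_one.mp h3)
  exact mul_inv_eq_one.mp h4

/-- The norm lemma applied to a central section `A / B` of a normal `p`-subgroup `P`. -/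
theorem fn_section {H : Type*} [Group H] [Finite H] (p : ℕ) [Fact p.Prime] (P : Subgroup H)
    [P.Normal] (hP : IsPGroup p P) (A B : Subgroup H) [A.Normal] [B.Normal] (hAP : A ≤ P)
    (hcomm : ⁅A, P⁆ ≤ B) (x : H) (m : ℕ) (hm : 0 < m)
    (Q : Subgroup (H ⧸ P)) (hQ : (Nat.card Q).Coprime p)
    (hx : ∀ c ∈ Q, (x : H ⧸ P) * c * (x : H ⧸ P)⁻¹ ∈ Q)
    (hfix : ∀ i, 0 < i → i < m → ∀ c ∈ Q, (x : H ⧸ P) ^ i * c = c * (x : H ⧸ P) ^ i → c = 1)
    (hN : ∀ v ∈ A, (v * x) ^ m = 1) (hxm : x ^ m = 1) :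
    ∀ c : H, (c : H ⧸ P) ∈ Q → ∀ v ∈ A, c * v * c⁻¹ * v⁻¹ ∈ B := by
  classical
  obtain ⟨π, hπ⟩ : ∃ π : H →* H ⧸ B, π = QuotientGroup.mk' B := ⟨_, rfl⟩
  have hπs : Function.Surjective π := hπ ▸ QuotientGroup.mk'_surjective B
  have hπk : ∀ h, π h = 1 ↔ h ∈ B := by
    intro h; rw [hπ]; exact QuotientGroup.eq_one_iff h
  haveI hVn : (A.map π).Normal := Subgroup.Normal.map inferInstance π hπs
  have hcom : ∀ a ∈ A, ∀ u ∈ P, π a * π u = π u * π a := by
    intro a ha u hu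
    have h1 : ⁅a, u⁆ ∈ B := hcomm (Subgroup.commutator_mem_commutator ha hu)
    have h2 := (hπk _).mpr h1
    rw [commutatorElement_def, map_mul, map_mul, map_mul, map_inv, map_inv] at h2
    calc π a * π u = (π a * π u * (π a)⁻¹ * (π u)⁻¹) * (π u * π a) := by group
      _ = π u * π a := by rw [h2, one_mul]
  have hVcomm : ∀ a b : ↥(A.map π), a * b = b * a := by
    rintro ⟨_, a, ha, rfl⟩ ⟨_, b, hb, rfl⟩
    apply Subtype.ext
    exact hcom a ha b (hAP hb)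
  letI : CommGroup ↥(A.map π) :=
    { (inferInstance : Group ↥(A.map π)) with mul_comm := hVcomm }
  obtain ⟨ρ₀, hρ₀⟩ : ∃ ρ₀ : H →* MulAut ↥(A.map π),
      ∀ h (v : ↥(A.map π)), ((ρ₀ h v : ↥(A.map π)) : H ⧸ B) = π h * (v : H ⧸ B) * (π h)⁻¹ :=
    ⟨(MulAut.conjNormal (H := A.map π)).comp π, fun h v => rfl⟩
  have hker : P ≤ ρ₀.ker := by
    intro u hu
    rw [MonoidHom.mem_ker]
    ext ⟨_, a, ha, rfl⟩
    rw [hρ₀]
    show π u * π a * (π u)⁻¹ = π a
    rw [← hcom a ha u hu]; group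
  obtain ⟨ρ, hρ⟩ : ∃ ρ : H ⧸ P →* MulAut ↥(A.map π), ∀ h : H, ρ (h : H ⧸ P) = ρ₀ h :=
    ⟨QuotientGroup.lift P ρ₀ hker, fun h => QuotientGroup.lift_mk _ _ _⟩
  have hV : IsPGroup p ↥(A.map π) := by
    rintro ⟨_, a, ha, rfl⟩
    obtain ⟨k, hk⟩ := hP ⟨a, hAP ha⟩
    refine ⟨k, Subtype.ext ?_⟩
    have h1 : a ^ p ^ k = 1 := congrArg Subtype.val hk
    show π a ^ p ^ k = 1
    rw [← map_pow, h1, map_one]
  have hN' : ∀ v : ↥(A.map π), ∏ i ∈ Finset.range m, ρ ((x : H ⧸ P) ^ i) v = 1 := by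
    rintro ⟨_, a, ha, rfl⟩
    have key : ∀ j : ℕ, ((∏ i ∈ Finset.range j, ρ ((x : H ⧸ P) ^ i) ⟨π a, a, ha, rfl⟩ :
        ↥(A.map π)) : H ⧸ B) = π ((a * x) ^ j * (x ^ j)⁻¹) := by
      intro j
      induction j with
      | zero => simp
      | succ j ih =>
        rw [Finset.prod_range_succ, Subgroup.coe_mul, ih, ← QuotientGroup.mk_pow, hρ, hρ₀]
        show π ((a * x) ^ j * (x ^ j)⁻¹) * (π (x ^ j) * π a * (π (x ^ j))⁻¹) = _
        rw [← map_inv, ← map_mul, ← map_mul, ← map_mul]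
        congr 1
        rw [pow_succ (a * x), pow_succ x]
        group
    apply Subtype.ext
    rw [key m, hN a ha, hxm]
    simp
  have hfin := fn_norm p hV ρ (x : H ⧸ P) m hm Q hQ hx hfix hN'
  intro c hc v hv
  have h1 := hfin _ hc ⟨π v, v, hv, rfl⟩
  rw [hρ] at h1
  have h2 := congrArg Subtype.val h1
  rw [hρ₀] at h2
  have h3 : π c * π v * (π c)⁻¹ = π v := h2
  rw [← hπk, map_mul, map_mul, map_mul, map_inv, map_inv, h3, mul_inv_cancel]

/-- An element stabilizing a normal series of a `p`-group `P` has a `p`-power centralizing `P`. -/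
theorem stab_pow {H : Type*} [Group H] (P : Subgroup H) [Finite P]
    (A : ℕ → Subgroup H) (hA0 : A 0 = P) (r : ℕ) (hAr : A r = ⊥) (hAn : ∀ i, (A i).Normal)
    (hAle : ∀ i, A i ≤ P)
    (h : H) (hh : ∀ i, ∀ v ∈ A i, h * v * h⁻¹ * v⁻¹ ∈ A (i + 1)) :
    ∀ v ∈ P, h ^ (Nat.card P ^ r) * v = v * h ^ (Nat.card P ^ r) := by
  have hpow : ∀ k : ℕ, ∀ i, ∀ v ∈ A i, h ^ k * v * (h ^ k)⁻¹ * v⁻¹ ∈ A (i + 1) := by
    intro k
    induction k with
    | zero => intro i v _; simp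
    | succ k ih =>
      intro i v hv
      have h1 := ih i v hv
      have h2 := hh i v hv
      have h3 := (hAn (i + 1)).conj_mem _ h1 h
      have h4 := (A (i + 1)).mul_mem h3 h2
      have h5 : h ^ (k + 1) * v * (h ^ (k + 1))⁻¹ * v⁻¹
          = h * (h ^ k * v * (h ^ k)⁻¹ * v⁻¹) * h⁻¹ * (h * v * h⁻¹ * v⁻¹) := by
        rw [pow_succ']; group
      rw [h5]; exact h4
  have key : ∀ j, j ≤ r → ∀ v ∈ A (r - j),
      h ^ (Nat.card P ^ j) * v = v * h ^ (Nat.card P ^ j) := by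
    intro j
    induction j with
    | zero =>
      intro _ v hv
      rw [Nat.sub_zero, hAr, Subgroup.mem_bot] at hv
      rw [hv]; simp
    | succ j ih =>
      intro hj v hv
      obtain ⟨g, hg⟩ : ∃ g, g = h ^ (Nat.card P ^ j) := ⟨_, rfl⟩
      have hidx : r - (j + 1) + 1 = r - j := by omega
      obtain ⟨w, hw⟩ : ∃ w, w = g * v * g⁻¹ * v⁻¹ := ⟨_, rfl⟩
      have hwA : w ∈ A (r - j) := by
        rw [hw, hg, ← hidx]; exact hpow _ _ v hv
      have hgw : g * w = w * g := by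
        rw [hg]; exact ih (by omega) w hwA
      have ht : ∀ t : ℕ, g ^ t * v * (g ^ t)⁻¹ = w ^ t * v := by
        intro t
        induction t with
        | zero => simp
        | succ t iht =>
          have h1 : g ^ (t + 1) * v * (g ^ (t + 1))⁻¹ = g * (g ^ t * v * (g ^ t)⁻¹) * g⁻¹ := by
            rw [pow_succ']; group
          have h2 : g * w ^ t = w ^ t * g := (Commute.pow_right hgw t)
          rw [h1, iht, pow_succ]
          calc g * (w ^ t * v) * g⁻¹ = (g * w ^ t) * v * g⁻¹ := by group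
            _ = w ^ t * (g * v * g⁻¹ * v⁻¹) * v := by rw [h2]; group
            _ = w ^ t * w * v := by rw [← hw]
      have hwP : w ^ Nat.card P = 1 := by
        have h1 : (⟨w, hAle _ hwA⟩ : ↥P) ^ Nat.card P = 1 := pow_card_eq_one'
        exact congrArg Subtype.val h1
      have h3 := ht (Nat.card P)
      rw [hwP, one_mul] at h3
      have h4 : h ^ (Nat.card P ^ (j + 1)) = g ^ Nat.card P := by
        rw [hg, ← pow_mul, pow_succ]
      rw [h4]
      calc g ^ Nat.card ↥P * v = (g ^ Nat.card ↥P * v * (g ^ Nat.card ↥P)⁻¹) * g ^ Nat.card ↥P := by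
            group
        _ = v * g ^ Nat.card ↥P := by rw [h3]
  intro v hv
  have := key r le_rfl v (by rw [Nat.sub_self, hA0]; exact hv)
  exact this

/-- Dual Hall–Higman lemma: in a `p`-soluble group with `O_p = 1`, the centralizer of `O_{p'}`
lies in `O_{p'}`. -/
theorem centralizer_pPrimeCore_le {K : Type u} [Group K] [Finite K] {p : ℕ} [Fact p.Prime]
    (hK : Cfsg.IsPSolvable p K) (h : Cfsg.pCore p K = ⊥) :
    Subgroup.centralizer (Cfsg.pPrimeCore p K : Set K) ≤ Cfsg.pPrimeCore p K := by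
  have hp := (Fact.out : p.Prime)
  have h1 := Cfsg.Agent.Helper10.centralizer_gfitting_le K
  have hF : Cfsg.fittingSubgroup K ≤ Cfsg.pPrimeCore p K := by
    apply Cfsg.Agent.Helper10.le_pPrimeCore p (Cfsg.Agent.Helper10.fitting_normal K)
    by_contra hc
    have hd : p ∣ Nat.card ↥(Cfsg.fittingSubgroup K) := by
      by_contra hnd
      exact hc ((Nat.Prime.coprime_iff_not_dvd hp).mpr hnd).symm
    obtain ⟨g, hg⟩ := exists_prime_orderOf_dvd_card' p hd
    have h2 : (g : K) ∈ Cfsg.pCore p K := by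
      refine Cfsg.Agent.Helper9.mem_pCore_of_mem_fitting_h9 p (g : K) g.2 ⟨1, ?_⟩
      have h3 : g ^ p = 1 := by rw [← hg]; exact pow_orderOf_eq_one g
      rw [pow_one]
      exact_mod_cast congrArg Subtype.val h3
    rw [h, Subgroup.mem_bot] at h2
    have h4 : g = 1 := Subtype.ext h2
    rw [h4, orderOf_one] at hg
    exact hp.one_lt.ne hg
  have hL : Cfsg.layer K ≤ Cfsg.pPrimeCore p K := by
    unfold Cfsg.layer
    apply sSup_le
    intro L hL
    have hc := Cfsg.Agent.Helper13.qs_coprime_of_isPSolvable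
      (Cfsg.Agent.Helper13.isPSolvable_subgroup hK L) hL.2
    exact Cfsg.Agent.Helper10.subnormal_coprime_le_pPrimeCore p L hL.1 hc
  have h2 : Cfsg.generalizedFittingSubgroup K ≤ Cfsg.pPrimeCore p K := by
    unfold Cfsg.generalizedFittingSubgroup
    exact sup_le hL hF
  exact (Subgroup.centralizer_le h2).trans (h1.trans h2)

theorem sylow_lift {G G' : Type*} [Group G] [Finite G] [Group G'] (f : G →* G')
    (hf : Function.Surjective f) (q : ℕ) [Fact q.Prime] (P : Sylow q G) (R : Subgroup G')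
    (hR : IsPGroup q R) : ∃ g : G', ∀ y ∈ R, ∃ z ∈ (P : Subgroup G), g⁻¹ * y * g = f z := by
  haveI : Finite G' := Finite.of_surjective f hf
  obtain ⟨Q', hQ'⟩ := hR.exists_le_sylow
  obtain ⟨g, hg⟩ := MulAction.exists_smul_eq G' (P.mapSurjective hf) Q'
  refine ⟨g, fun y hy => ?_⟩
  have h1 : y ∈ ((g • P.mapSurjective hf : Sylow q G') : Subgroup G') := by
    rw [hg]; exact hQ' hy
  rw [bs_mem_sylow_smul] at h1
  obtain ⟨z, hz, hzy⟩ := h1
  exact ⟨z, hz, hzy.symm⟩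

theorem exp_of_surj {G G' : Type*} [Group G] [Finite G] [Group G'] (f : G →* G')
    (hf : Function.Surjective f) (p : ℕ) [Fact p.Prime] (k : ℕ)
    (hexp : ∀ P : Sylow p G, ∀ x ∈ (P : Subgroup G), x ^ k = 1) (y : G')
    (hy : ∃ j : ℕ, y ^ p ^ j = 1) : y ^ k = 1 := by
  have hR : IsPGroup p (Subgroup.zpowers y) := by
    obtain ⟨j, hj⟩ := hy
    rintro ⟨_, i, rfl⟩
    refine ⟨j, Subtype.ext ?_⟩
    show (y ^ i) ^ p ^ j = 1
    rw [← zpow_natCast, ← zpow_mul, mul_comm, zpow_mul, zpow_natCast, hj, one_zpow]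
  obtain ⟨P⟩ := (inferInstance : Nonempty (Sylow p G))
  obtain ⟨g, hg⟩ := sylow_lift f hf p P _ hR
  obtain ⟨z, hz, hzy⟩ := hg y (Subgroup.mem_zpowers y)
  have h1 := hexp _ z hz
  have hy' : y = g * f z * g⁻¹ := by rw [← hzy]; group
  rw [hy', conj_pow, ← map_pow, h1, map_one, mul_one, mul_inv_cancel]

theorem comm_of_surj {G G' : Type*} [Group G] [Finite G] [Group G'] (f : G →* G')
    (hf : Function.Surjective f) (q : ℕ) [Fact q.Prime]
    (hab : ∀ Q : Sylow q G, IsMulCommutative (Q : Subgroup G)) (R : Subgroup G')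
    (hR : IsPGroup q R) : ∀ a ∈ R, ∀ b ∈ R, a * b = b * a := by
  obtain ⟨P⟩ := (inferInstance : Nonempty (Sylow q G))
  obtain ⟨g, hg⟩ := sylow_lift f hf q P R hR
  intro a ha b hb
  obtain ⟨z, hz, hza⟩ := hg a ha
  obtain ⟨w, hw, hwb⟩ := hg b hb
  have h1 : z * w = w * z := by
    have := (hab P).is_comm.comm ⟨z, hz⟩ ⟨w, hw⟩
    exact congrArg Subtype.val this
  have h2 : f z * f w = f w * f z := by rw [← map_mul, h1, map_mul]
  rw [← hza, ← hwb] at h2
  have h3 : g⁻¹ * (a * b) * g = g⁻¹ * (b * a) * g := by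
    calc g⁻¹ * (a * b) * g = (g⁻¹ * a * g) * (g⁻¹ * b * g) := by group
      _ = (g⁻¹ * b * g) * (g⁻¹ * a * g) := h2
      _ = g⁻¹ * (b * a) * g := by group
  exact mul_left_cancel (mul_right_cancel h3)

/-- Key step: the `p^n`-th power of a `p`-element of order dividing `p^(n+1)` lies in `O_p`. -/
theorem pexp_key {H : Type u} [Group H] [Finite H] {p : ℕ} [Fact p.Prime]
    (hH : Cfsg.IsPSolvable p H) (P : Subgroup H) [P.Normal] (hPdef : P = Cfsg.pCore p H)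
    (hcent : Subgroup.centralizer (P : Set H) ≤ P)
    (hab : ∀ (q : ℕ) [Fact q.Prime], q ≠ p → ∀ R : Subgroup (H ⧸ P), IsPGroup q R →
      ∀ a ∈ R, ∀ b ∈ R, a * b = b * a)
    (n : ℕ) (hexp : ∀ y : H, (∃ j : ℕ, y ^ p ^ j = 1) → y ^ p ^ (n + 1) = 1)
    (x : H) (hx : x ^ p ^ (n + 1) = 1) : x ^ p ^ n ∈ P := by
  classical
  have hp := (Fact.out : p.Prime)
  by_contra hx0
  have hPp : IsPGroup p P := hPdef ▸ Cfsg.Agent.Helper28.pCore_isPGroup p H
  have hKsol : Cfsg.IsPSolvable p (H ⧸ P) := Cfsg.Agent.Helper13.isPSolvable_quotient hH P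
  have hKcore : Cfsg.pCore p (H ⧸ P) = ⊥ := by
    subst hPdef; exact Cfsg.Agent.Helper11.pCore_quotient_pCore p
  obtain ⟨M, hMdef⟩ : ∃ M, M = Cfsg.pPrimeCore p (H ⧸ P) := ⟨_, rfl⟩
  haveI hMn : M.Normal := hMdef ▸ Subgroup.sSup_normal _ (fun _ h => h.1)
  have hMc : (Nat.card M).Coprime p := hMdef ▸ Cfsg.Agent.Helper10.pPrimeCore_coprime p _
  have hCM : Subgroup.centralizer (M : Set (H ⧸ P)) ≤ M :=
    hMdef ▸ centralizer_pPrimeCore_le hKsol hKcore
  obtain ⟨xb, hxb⟩ : ∃ xb : H ⧸ P, xb = (x : H ⧸ P) := ⟨_, rfl⟩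
  obtain ⟨x0, hx0def⟩ : ∃ x0 : H ⧸ P, x0 = xb ^ p ^ n := ⟨_, rfl⟩
  have hx0ne : x0 ≠ 1 := by
    rw [hx0def, hxb, ← QuotientGroup.mk_pow]
    intro h
    exact hx0 ((QuotientGroup.eq_one_iff _).mp h)
  have hxbpow : xb ^ p ^ (n + 1) = 1 := by
    rw [hxb, ← QuotientGroup.mk_pow, hx]; rfl
  have hx0p : x0 ^ p = 1 := by
    rw [hx0def, ← pow_mul, ← pow_succ]; exact hxbpow
  have hcomm0 : xb * x0 = x0 * xb := by
    rw [hx0def, ← pow_succ', ← pow_succ]
  have hx0M : x0 ∉ M := by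
    intro hmem
    have h1 : orderOf x0 = p := orderOf_eq_prime hx0p hx0ne
    have h2 : orderOf (⟨x0, hmem⟩ : ↥M) ∣ Nat.card M := orderOf_dvd_natCard _
    rw [Subgroup.orderOf_mk, h1] at h2
    exact (Nat.Prime.coprime_iff_not_dvd hp).mp hMc.symm h2
  obtain ⟨A, hAdef⟩ : ∃ A, A = Subgroup.zpowers xb := ⟨_, rfl⟩
  have hxbA : xb ∈ A := hAdef ▸ Subgroup.mem_zpowers xb
  have hx0A : x0 ∈ A := by rw [hx0def]; exact A.pow_mem hxbA _
  have hAM : A ≤ Subgroup.normalizer (M : Set (H ⧸ P)) := by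
    rw [Subgroup.normalizer_eq_top]; exact le_top
  obtain ⟨j, hj⟩ : ∃ j, Nat.card A = p ^ j := by
    have h1 : orderOf xb ∣ p ^ (n + 1) := orderOf_dvd_of_pow_eq_one hxbpow
    obtain ⟨j, -, hj⟩ := (Nat.dvd_prime_pow hp).mp h1
    exact ⟨j, by rw [hAdef, Nat.card_zpowers, hj]⟩
  have hcop : (Nat.card A).Coprime (Nat.card M) := by
    rw [hj]; exact Nat.Coprime.pow_left j hMc.symm
  have hAsol : Group.IsSolvable A := by
    rw [hAdef]
    refine Group.isSolvable_of_comm (fun a b => ?_)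
    obtain ⟨a, i, rfl⟩ := a
    obtain ⟨b, k, rfl⟩ := b
    apply Subtype.ext
    show xb ^ i * xb ^ k = xb ^ k * xb ^ i
    rw [← zpow_add, ← zpow_add, add_comm]
  have hsyl : ∀ (q : ℕ) [Fact q.Prime], ∃ Q : Subgroup (H ⧸ P), Q ≤ M ∧
      A ≤ Subgroup.normalizer (Q : Set (H ⧸ P)) ∧
      Nat.card Q = q ^ (Nat.card M).factorization q := by
    intro q _
    obtain ⟨Q, -, h1, h2, h3⟩ := Cfsg.Agent.S4303.exists_invariant_sylow A M hAM hcop hAsol q _ ⊥
      rfl bot_le IsPGroup.of_bot (by rw [Subgroup.normalizer_eq_top]; exact le_top)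
    exact ⟨Q, h1, h2, h3⟩
  have hex : ∃ (q : ℕ) (_ : Fact q.Prime) (Q : Subgroup (H ⧸ P)), Q ≤ M ∧
      A ≤ Subgroup.normalizer (Q : Set (H ⧸ P)) ∧
      Nat.card Q = q ^ (Nat.card M).factorization q ∧ ∃ c ∈ Q, x0 * c ≠ c * x0 := by
    by_contra hno
    have hall : ∀ (q : ℕ) [Fact q.Prime] (Q : Subgroup (H ⧸ P)), Q ≤ M →
        A ≤ Subgroup.normalizer (Q : Set (H ⧸ P)) →
        Nat.card Q = q ^ (Nat.card M).factorization q → ∀ c ∈ Q, x0 * c = c * x0 := by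
      intro q hqf Q h1 h2 h3 c hc
      by_contra hcc
      exact hno ⟨q, hqf, Q, h1, h2, h3, c, hc, hcc⟩
    obtain ⟨C, hCdef⟩ : ∃ C, C = M ⊓ Subgroup.centralizer ({x0} : Set (H ⧸ P)) := ⟨_, rfl⟩
    have hcard : Nat.card M ∣ Nat.card C := by
      rw [← Nat.factorization_prime_le_iff_dvd Nat.card_pos.ne' Nat.card_pos.ne']
      intro q hq
      haveI : Fact q.Prime := ⟨hq⟩
      obtain ⟨Q, hQM, hAQ, hQc⟩ := hsyl q
      have hQC : Q ≤ C := by
        rw [hCdef]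
        refine le_inf hQM (fun c hc => ?_)
        rw [Subgroup.mem_centralizer_singleton_iff]
        exact (hall q Q hQM hAQ hQc c hc).symm
      have h1 := Subgroup.card_dvd_of_le hQC
      rw [hQc] at h1
      exact (hq.pow_dvd_iff_le_factorization Nat.card_pos.ne').mp h1
    have hCM' : C = M := by
      have hle : C ≤ M := by rw [hCdef]; exact inf_le_left
      exact Subgroup.eq_of_le_of_card_ge hle (Nat.le_of_dvd Nat.card_pos hcard)
    have h1 : x0 ∈ Subgroup.centralizer (M : Set (H ⧸ P)) := by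
      rw [Subgroup.mem_centralizer_iff]
      intro m hm
      have h2 : m ∈ C := by rw [hCM']; exact hm
      rw [hCdef] at h2
      have h3 := (Subgroup.mem_inf.mp h2).2
      rw [Subgroup.mem_centralizer_singleton_iff] at h3
      exact h3
    exact hx0M (hCM h1)
  obtain ⟨q, hqf, Q, hQM, hAQ, hQc, c0, hc0, hc0x⟩ := hex
  haveI := hqf
  have hq := hqf.out
  have hQq : IsPGroup q Q := IsPGroup.of_card hQc
  have hQcop : (Nat.card Q).Coprime p :=
    Nat.Coprime.coprime_dvd_left (Subgroup.card_dvd_of_le hQM) hMc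
  have hqp : q ≠ p := by
    rintro rfl
    rw [hQc] at hQcop
    have h1 : (Nat.card M).factorization q = 0 := by
      by_contra h0
      have h2 : q ∣ q ^ (Nat.card M).factorization q := dvd_pow_self q h0
      exact (Nat.Prime.coprime_iff_not_dvd hq).mp hQcop.symm h2
    rw [h1, pow_zero] at hQc
    have h3 : Q = ⊥ := Subgroup.card_eq_one.mp hQc
    rw [h3, Subgroup.mem_bot] at hc0
    apply hc0x
    rw [hc0]; simp
  have hQab := hab q hqp Q hQq
  have hnorm : ∀ a ∈ A, ∀ c ∈ Q, a * c * a⁻¹ ∈ Q := by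
    intro a ha c hc
    exact (Subgroup.mem_normalizer_iff.mp (hAQ ha) c).mp hc
  -- the commutator map
  have hc' : ∀ c ∈ Q, x0 * c⁻¹ * x0⁻¹ ∈ Q := fun c hc => hnorm x0 hx0A _ (Q.inv_mem hc)
  obtain ⟨φ, hφ⟩ : ∃ φ : ↥Q →* (H ⧸ P),
      ∀ c : ↥Q, φ c = (c : H ⧸ P) * x0 * (c : H ⧸ P)⁻¹ * x0⁻¹ :=
    ⟨MonoidHom.mk' (fun c => (c : H ⧸ P) * x0 * (c : H ⧸ P)⁻¹ * x0⁻¹) (by
      rintro ⟨c, hc⟩ ⟨d, hd⟩
      show c * d * x0 * (c * d)⁻¹ * x0⁻¹ = c * x0 * c⁻¹ * x0⁻¹ * (d * x0 * d⁻¹ * x0⁻¹)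
      have e1 := hQab _ (hc' d hd) _ (hc' c hc)
      have e2 := hQab _ hd _ (hc' c hc)
      calc c * d * x0 * (c * d)⁻¹ * x0⁻¹
          = c * d * ((x0 * d⁻¹ * x0⁻¹) * (x0 * c⁻¹ * x0⁻¹)) := by group
        _ = c * (d * (x0 * c⁻¹ * x0⁻¹)) * (x0 * d⁻¹ * x0⁻¹) := by rw [e1]; group
        _ = c * ((x0 * c⁻¹ * x0⁻¹) * d) * (x0 * d⁻¹ * x0⁻¹) := by rw [e2]
        _ = c * x0 * c⁻¹ * x0⁻¹ * (d * x0 * d⁻¹ * x0⁻¹) := by group), fun _ => rfl⟩
  obtain ⟨Q₁, hQ₁def⟩ : ∃ Q₁ : Subgroup (H ⧸ P), Q₁ = φ.range := ⟨_, rfl⟩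
  have hQ₁mem : ∀ w, w ∈ Q₁ ↔ ∃ c ∈ Q, w = c * x0 * c⁻¹ * x0⁻¹ := by
    intro w
    rw [hQ₁def, MonoidHom.mem_range]
    constructor
    · rintro ⟨c, rfl⟩
      exact ⟨c, c.2, hφ c⟩
    · rintro ⟨c, hc, rfl⟩
      exact ⟨⟨c, hc⟩, hφ _⟩
  have hQ₁Q : Q₁ ≤ Q := by
    intro w hw
    obtain ⟨c, hc, rfl⟩ := (hQ₁mem w).mp hw
    have h1 := Q.mul_mem hc (hc' c hc)
    have h2 : c * x0 * c⁻¹ * x0⁻¹ = c * (x0 * c⁻¹ * x0⁻¹) := by group
    rw [h2]; exact h1
  have hQ₁cop : (Nat.card Q₁).Coprime p :=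
    Nat.Coprime.coprime_dvd_left (Subgroup.card_dvd_of_le hQ₁Q) hQcop
  have hx₁ : ∀ w ∈ Q₁, xb * w * xb⁻¹ ∈ Q₁ := by
    intro w hw
    obtain ⟨c, hc, rfl⟩ := (hQ₁mem w).mp hw
    rw [hQ₁mem]
    refine ⟨xb * c * xb⁻¹, hnorm xb hxbA c hc, ?_⟩
    have e1 : xb⁻¹ * x0 * xb = x0 := by
      rw [mul_assoc, ← hcomm0, inv_mul_cancel_left]
    have e2 : xb⁻¹ * x0⁻¹ = x0⁻¹ * xb⁻¹ := by
      rw [← mul_inv_rev, ← mul_inv_rev, hcomm0]
    symm
    calc xb * c * xb⁻¹ * x0 * (xb * c * xb⁻¹)⁻¹ * x0⁻¹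
        = xb * c * (xb⁻¹ * x0 * xb) * c⁻¹ * (xb⁻¹ * x0⁻¹) := by group
      _ = xb * c * x0 * c⁻¹ * (x0⁻¹ * xb⁻¹) := by rw [e1, e2]
      _ = xb * (c * x0 * c⁻¹ * x0⁻¹) * xb⁻¹ := by group
  have hqpow : ∀ w ∈ Q, ∀ k : ℕ, w ^ p ^ k = 1 → w = 1 := by
    intro w hw k hk
    obtain ⟨l, hl⟩ := hQq ⟨w, hw⟩
    have hl' : w ^ q ^ l = 1 := congrArg Subtype.val hl
    have h3 : orderOf w ∣ Nat.gcd (q ^ l) (p ^ k) :=
      Nat.dvd_gcd (orderOf_dvd_of_pow_eq_one hl') (orderOf_dvd_of_pow_eq_one hk)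
    have h4 : Nat.Coprime (q ^ l) (p ^ k) :=
      Nat.Coprime.pow l k ((Nat.coprime_primes hq hp).mpr hqp)
    rw [h4] at h3
    exact orderOf_eq_one_iff.mp (Nat.dvd_one.mp h3)
  have hfix0 : ∀ w ∈ Q₁, x0 * w = w * x0 → w = 1 := by
    intro w hw hwx
    obtain ⟨c, hc, hwc⟩ := (hQ₁mem w).mp hw
    have ht : ∀ t : ℕ, x0 ^ t * c * (x0 ^ t)⁻¹ = (w⁻¹) ^ t * c := by
      intro t
      induction t with
      | zero => simp
      | succ t iht =>
        have h1 : x0 ^ (t + 1) * c * (x0 ^ (t + 1))⁻¹ = x0 * (x0 ^ t * c * (x0 ^ t)⁻¹) * x0⁻¹ := by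
          rw [pow_succ']; group
        have hwx' : x0 * w⁻¹ = w⁻¹ * x0 := by
          calc x0 * w⁻¹ = w⁻¹ * (w * x0) * w⁻¹ := by group
            _ = w⁻¹ * x0 := by rw [← hwx]; group
        have h2 : x0 * (w⁻¹) ^ t = (w⁻¹) ^ t * x0 := Commute.pow_right hwx' t
        have h3 : x0 * c * x0⁻¹ = w⁻¹ * c := by rw [hwc]; group
        rw [h1, iht, pow_succ]
        calc x0 * (w⁻¹ ^ t * c) * x0⁻¹ = (x0 * w⁻¹ ^ t) * c * x0⁻¹ := by group
          _ = w⁻¹ ^ t * (x0 * c * x0⁻¹) := by rw [h2]; group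
          _ = w⁻¹ ^ t * w⁻¹ * c := by rw [h3]; group
    have h5 := ht p
    rw [hx0p] at h5
    have h6 : (w⁻¹) ^ p = 1 := by
      have : (w⁻¹) ^ p * c = c := by rw [← h5]; group
      exact mul_eq_right.mp this
    have h7 : w ^ p ^ 1 = 1 := by
      rw [pow_one, ← inv_inj, ← inv_pow, h6, inv_one]
    exact hqpow w (hQ₁Q hw) 1 h7
  have hfix : ∀ i, 0 < i → i < p ^ (n + 1) → ∀ w ∈ Q₁, xb ^ i * w = w * xb ^ i → w = 1 := by
    intro i hi0 hin w hw hwi
    obtain ⟨a, s, hs, his⟩ := Nat.exists_eq_pow_mul_and_not_dvd hi0.ne' p hp.ne_one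
    have han : a ≤ n := by
      by_contra hcon
      have h1 : p ^ (n + 1) ≤ p ^ a := Nat.pow_le_pow_right hp.pos (by omega)
      have h2 : p ^ a ≤ i := by
        rw [his]; exact Nat.le_mul_of_pos_right _ (Nat.pos_of_ne_zero (by rintro rfl; simp at hs))
      omega
    have h1 : (xb ^ i) ^ p ^ (n - a) = x0 ^ s := by
      rw [hx0def, ← pow_mul, ← pow_mul, his]
      congr 1
      have : p ^ n = p ^ a * p ^ (n - a) := by rw [← pow_add]; congr 1; omega
      rw [this]; ring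
    have h2 : x0 ^ s * w = w * x0 ^ s := by
      rw [← h1]; exact Commute.pow_left hwi _
    obtain ⟨t, -, ht⟩ := Nat.exists_mul_mod_eq_one_of_coprime
      ((Nat.Prime.coprime_iff_not_dvd hp).mpr hs).symm hp.one_lt
    have h3 : x0 ^ (s * t) = x0 := by
      have h4 : s * t = p * (s * t / p) + 1 := by
        have := Nat.div_add_mod (s * t) p
        omega
      rw [h4, pow_add, pow_mul, hx0p, one_pow, one_mul, pow_one]
    have h5 : x0 * w = w * x0 := by
      have := Commute.pow_left h2 t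
      rw [← pow_mul, h3] at this
      exact this
    exact hfix0 w hw h5
  -- the sections of the lower central series of `P`
  haveI : Group.IsNilpotent ↥P := hPp.isNilpotent
  obtain ⟨r, hr⟩ := (Subgroup.isNilpotent_iff_lowerCentralSeries P).mp inferInstance
  have hsec : ∀ i, ∀ c : H, (c : H ⧸ P) ∈ Q₁ → ∀ v ∈ P.lowerCentralSeries i,
      c * v * c⁻¹ * v⁻¹ ∈ P.lowerCentralSeries (i + 1) := by
    intro i
    refine fn_section p P hPp (P.lowerCentralSeries i) (P.lowerCentralSeries (i + 1))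
      (Subgroup.lowerCentralSeries_le_self P i) le_rfl x (p ^ (n + 1))
      (Nat.pos_of_ne_zero (pow_ne_zero _ hp.ne_zero)) Q₁ hQ₁cop
      (by rw [← hxb]; exact hx₁) (by rw [← hxb]; exact hfix) ?_ hx
    intro v hv
    have hvP : v ∈ P := Subgroup.lowerCentralSeries_le_self P i hv
    apply hexp
    have h1 : ((v * x : H) : H ⧸ P) = (x : H ⧸ P) := by
      rw [QuotientGroup.mk_mul, (QuotientGroup.eq_one_iff v).mpr hvP, one_mul]
    have h2 : (v * x) ^ p ^ (n + 1) ∈ P := by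
      rw [← QuotientGroup.eq_one_iff, QuotientGroup.mk_pow, h1, ← hxb]
      exact hxbpow
    obtain ⟨k, hk⟩ := hPp ⟨_, h2⟩
    have hk' : ((v * x) ^ p ^ (n + 1)) ^ p ^ k = 1 := congrArg Subtype.val hk
    exact ⟨n + 1 + k, by rw [pow_add, pow_mul]; exact hk'⟩
  obtain ⟨e, he⟩ := IsPGroup.iff_card.mp hPp
  have hQ₁bot : ∀ w ∈ Q₁, w = 1 := by
    intro w hw
    obtain ⟨c, rfl⟩ := QuotientGroup.mk_surjective w
    have h1 := stab_pow P (fun i => P.lowerCentralSeries i) rfl r hr (fun i => inferInstance)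
      (fun i => Subgroup.lowerCentralSeries_le_self P i) c (fun i v hv => hsec i c hw v hv)
    have h2 : c ^ (Nat.card P ^ r) ∈ Subgroup.centralizer (P : Set H) := by
      rw [Subgroup.mem_centralizer_iff]
      intro v hv
      exact (h1 v hv).symm
    have h3 := hcent h2
    rw [he, ← pow_mul] at h3
    have h4 : (c : H ⧸ P) ^ p ^ (e * r) = 1 := by
      rw [← QuotientGroup.mk_pow]; exact (QuotientGroup.eq_one_iff _).mpr h3
    exact hqpow _ (hQ₁Q hw) _ h4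
  have h9 := hQ₁bot _ ((hQ₁mem _).mpr ⟨c0, hc0, rfl⟩)
  apply hc0x
  calc x0 * c0 = (c0 * x0 * c0⁻¹ * x0⁻¹)⁻¹ * c0 * x0 := by group
    _ = c0 * x0 := by rw [h9]; group

/-- A `p`-soluble group with abelian Sylow `q`-subgroups (`q ≠ p`) and Sylow `p`-subgroups of
exponent dividing `p^n` has `p`-length at most `n`. -/
theorem plength_le_exp (p : ℕ) [Fact p.Prime] : ∀ (n : ℕ) (G : Type u) [Group G] [Finite G],
    Cfsg.IsPSolvable p G →
    (∀ (q : ℕ) [Fact q.Prime], q ≠ p → ∀ Q : Sylow q G, IsMulCommutative (Q : Subgroup G)) →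
    (∀ (P : Sylow p G), ∀ x ∈ (P : Subgroup G), x ^ p ^ n = 1) →
      PSer p n ⊥ (⊤ : Subgroup G) := by
  have hp := (Fact.out : p.Prime)
  intro n
  induction n with
  | zero =>
    intro G _ _ hsol hab hexp
    obtain ⟨S⟩ := (inferInstance : Nonempty (Sylow p G))
    have hS : (S : Subgroup G) = ⊥ := by
      rw [Subgroup.eq_bot_iff_forall]
      intro x hx
      have := hexp S x hx
      simpa using this
    have hcard : Nat.card ↥(S : Subgroup G) = 1 := by rw [hS]; exact Subgroup.card_bot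
    have hnd : ¬ p ∣ Nat.card G := by
      intro hd
      have h1 := S.card_eq_multiplicity
      rw [hcard] at h1
      have h2 : 0 < (Nat.card G).factorization p :=
        hp.factorization_pos_of_dvd Nat.card_pos.ne' hd
      have h3 : p ^ (Nat.card G).factorization p = 1 := h1.symm
      have h4 : 1 < p ^ (Nat.card G).factorization p := Nat.one_lt_pow h2.ne' hp.one_lt
      omega
    refine PSer.pprime (PSer.refl ⊥ inferInstance) bot_le inferInstance ?_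
    rw [Subgroup.relIndex_bot_left, Subgroup.card_top]
    exact ((Nat.Prime.coprime_iff_not_dvd hp).mpr hnd).symm
  | succ n ih =>
    intro G _ _ hsol hab hexp
    have hs1 : PSer p 0 ⊥ (Cfsg.upperPSeries p G 1).1 := by
      refine PSer.pprime (PSer.refl ⊥ inferInstance) bot_le inferInstance ?_
      have h1 := ups_relIndex_even (G := G) p 0 (by decide)
      rw [ups_zero] at h1
      exact h1
    have hs2 : PSer p 1 ⊥ (Cfsg.upperPSeries p G 2).1 :=
      PSer.pstep hs1 (ups_le_succ p G 1) inferInstance (ups_relIndex_odd p 1 (by decide))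
    have hU2 : (Cfsg.upperPSeries p G 2).1 =
        (Cfsg.pCore p (G ⧸ (Cfsg.upperPSeries p G 1).1)).comap (QuotientGroup.mk' _) :=
      ups_succ_odd p G 1 (by decide)
    have hmapU2 : (Cfsg.upperPSeries p G 2).1.map
        (QuotientGroup.mk' (Cfsg.upperPSeries p G 1).1) =
        Cfsg.pCore p (G ⧸ (Cfsg.upperPSeries p G 1).1) := by
      rw [hU2, Subgroup.map_comap_eq_self_of_surjective (QuotientGroup.mk'_surjective _)]
    have hcent := Cfsg.Agent.S0634.result hsol 0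
    have hcent' : Subgroup.centralizer ((Cfsg.pCore p (G ⧸ (Cfsg.upperPSeries p G 1).1) :
        Subgroup _) : Set (G ⧸ (Cfsg.upperPSeries p G 1).1)) ≤
        Cfsg.pCore p (G ⧸ (Cfsg.upperPSeries p G 1).1) := by
      rw [← hmapU2]; exact hcent
    haveI hPn : (Cfsg.pCore p (G ⧸ (Cfsg.upperPSeries p G 1).1)).Normal :=
      Cfsg.Agent.Helper28.pCore_normal p _
    have hHsol : Cfsg.IsPSolvable p (G ⧸ (Cfsg.upperPSeries p G 1).1) :=
      Cfsg.Agent.Helper13.isPSolvable_quotient hsol _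
    have hexpH : ∀ y : G ⧸ (Cfsg.upperPSeries p G 1).1, (∃ j : ℕ, y ^ p ^ j = 1) →
        y ^ p ^ (n + 1) = 1 :=
      fun y hy => exp_of_surj (QuotientGroup.mk' _) (QuotientGroup.mk'_surjective _) p _ hexp y hy
    have habK : ∀ (q : ℕ) [Fact q.Prime], q ≠ p →
        ∀ R : Subgroup ((G ⧸ (Cfsg.upperPSeries p G 1).1) ⧸
          Cfsg.pCore p (G ⧸ (Cfsg.upperPSeries p G 1).1)), IsPGroup q R →
        ∀ a ∈ R, ∀ b ∈ R, a * b = b * a := by
      intro q _ hqp R hR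
      exact comm_of_surj ((QuotientGroup.mk' _).comp (QuotientGroup.mk' _))
        ((QuotientGroup.mk'_surjective _).comp (QuotientGroup.mk'_surjective _)) q (hab q hqp) R hR
    have hkey : ∀ z : G, z ^ p ^ (n + 1) = 1 → z ^ p ^ n ∈ (Cfsg.upperPSeries p G 2).1 := by
      intro z hz
      have h1 := pexp_key hHsol (Cfsg.pCore p (G ⧸ (Cfsg.upperPSeries p G 1).1)) rfl hcent' habK n
        hexpH (QuotientGroup.mk' _ z) (by rw [← map_pow, hz, map_one])
      rw [hU2, Subgroup.mem_comap, map_pow]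
      exact h1
    have hquot := ih (G ⧸ (Cfsg.upperPSeries p G 2).1)
      (Cfsg.Agent.Helper13.isPSolvable_quotient hsol _)
      (by
        intro q _ hqp Q
        have h1 := comm_of_surj (QuotientGroup.mk' (Cfsg.upperPSeries p G 2).1)
          (QuotientGroup.mk'_surjective _) q (hab q hqp) (Q : Subgroup _) Q.isPGroup'
        exact ⟨⟨fun a b => Subtype.ext (h1 a a.2 b b.2)⟩⟩)
      (by
        intro P' y hy
        obtain ⟨S⟩ := (inferInstance : Nonempty (Sylow p G))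
        obtain ⟨g, hg⟩ := sylow_lift (QuotientGroup.mk' (Cfsg.upperPSeries p G 2).1)
          (QuotientGroup.mk'_surjective _) p S (P' : Subgroup _) P'.isPGroup'
        obtain ⟨z, hz, hzy⟩ := hg y hy
        have h1 := hkey z (hexp S z hz)
        have h2 : (QuotientGroup.mk' (Cfsg.upperPSeries p G 2).1 z) ^ p ^ n = 1 := by
          rw [← map_pow]
          exact (QuotientGroup.eq_one_iff _).mpr h1
        have hy' : y = g * QuotientGroup.mk' (Cfsg.upperPSeries p G 2).1 z * g⁻¹ := by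
          rw [← hzy]; group
        rw [hy', conj_pow, h2, mul_one, mul_inv_cancel])
    have h3 := hquot.comap (QuotientGroup.mk' (Cfsg.upperPSeries p G 2).1)
      (QuotientGroup.mk'_surjective _)
    rw [MonoidHom.comap_bot, QuotientGroup.ker_mk', Subgroup.comap_top] at h3
    have h4 := hs2.trans h3
    rw [add_comm] at h4
    exact h4

end Cfsg.Agent.Helper21
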