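import Mathlib
import Cfsg.Agent.Helper21.BaerSuzuki

/-!
Coprime automorphisms of `p`-groups are detected on `Ω₁` (helper21).

* `oc_centralizes_odd`: `p` odd, `x` a `p'`-element normalizing the `p`-subgroup `P` and
  commuting with all `u ∈ P` with `u ^ p = 1`; then `x` centralizes `P`.
* `oc_centralizes_two`: the same for `p = 2` and the elements with `u ^ 4 = 1`.
* `oc_eq_one_of_fixed`: if `x u x⁻¹ = u c` with `c` a `p`-element fixed by the `p'`-element `x`,
  then `c = 1`.
* `oc_mul_pow`: the power formula `(a b)^n = a^n b^n z^(n choose 2)` in class two.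
-/

set_option autoImplicit false

namespace Cfsg.Agent.Helper21

theorem oc_card_lt_of_lt {G : Type*} [Group G] [Finite G] {A B : Subgroup G} (h : A < B) :
    Nat.card A < Nat.card B := by
  apply lt_of_le_of_ne (Subgroup.card_le_of_le h.le)
  intro hc
  exact h.ne (Subgroup.eq_of_le_of_card_ge h.le (le_of_eq hc.symm))

/-- If `x u x⁻¹ = u c` where `c` is a `p`-element commuting with the `p'`-element `x`,
then `c = 1`. -/
theorem oc_eq_one_of_fixed {G : Type*} [Group G] {p : ℕ} [Fact p.Prime] (x u c : G)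
    (hx : (orderOf x).Coprime p) (hc : ∃ j : ℕ, orderOf c = p ^ j)
    (h1 : x * u * x⁻¹ = u * c) (h2 : x * c = c * x) : c = 1 := by
  have hpow : ∀ m : ℕ, x ^ m * u * (x ^ m)⁻¹ = u * c ^ m := by
    intro m
    induction m with
    | zero => simp
    | succ m ihm =>
      have hcc : x * c ^ m = c ^ m * x := Commute.pow_right (show Commute x c from h2) m
      calc x ^ (m + 1) * u * (x ^ (m + 1))⁻¹ = x * (x ^ m * u * (x ^ m)⁻¹) * x⁻¹ := by
            rw [pow_succ']; group
        _ = x * (u * c ^ m) * x⁻¹ := by rw [ihm]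
        _ = (x * u * x⁻¹) * (x * c ^ m) * x⁻¹ := by group
        _ = (x * u * x⁻¹) * (c ^ m * x) * x⁻¹ := by rw [hcc]
        _ = (x * u * x⁻¹) * c ^ m := by group
        _ = u * c * c ^ m := by rw [h1]
        _ = u * c ^ (m + 1) := by rw [pow_succ', mul_assoc]
  have h7 := hpow (orderOf x)
  rw [pow_orderOf_eq_one] at h7
  have h8 : c ^ orderOf x = 1 := by
    have h80 : u = u * c ^ orderOf x := by simpa using h7
    have h81 := congrArg (fun w => u⁻¹ * w) h80
    simpa using h81.symm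
  have h9 : orderOf c ∣ orderOf x := orderOf_dvd_of_pow_eq_one h8
  obtain ⟨j, hj⟩ := hc
  have hp := (Fact.out : p.Prime)
  have hj0 : j = 0 := by
    by_contra hne
    have h90 : p ∣ orderOf x := dvd_trans (by rw [hj]; exact dvd_pow_self p hne) h9
    have h91 : p ∣ Nat.gcd (orderOf x) p := Nat.dvd_gcd h90 dvd_rfl
    rw [Nat.Coprime.gcd_eq_one hx] at h91
    exact hp.one_lt.ne' (Nat.dvd_one.mp h91)
  rw [hj0, pow_zero] at hj
  exact orderOf_eq_one_iff.mp hj

/-- Power formula in class two: if `b a = a b z` with `z` commuting with `a` and `b`, then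
`b^n a = a b^n z^n` and `(a b)^n = a^n b^n z^(n choose 2)`. -/
theorem oc_mul_pow {G : Type*} [Group G] (a b z : G) (hba : b * a = a * b * z)
    (hza : z * a = a * z) (hzb : z * b = b * z) (n : ℕ) :
    b ^ n * a = a * b ^ n * z ^ n ∧ (a * b) ^ n = a ^ n * b ^ n * z ^ (n.choose 2) := by
  induction n with
  | zero => simp
  | succ n ih =>
    obtain ⟨ih1, ih2⟩ := ih
    have hzbn : ∀ k : ℕ, z ^ k * b = b * z ^ k :=
      fun k => Commute.pow_left (show Commute z b from hzb) k
    have hzan : ∀ k : ℕ, z ^ k * a = a * z ^ k :=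
      fun k => Commute.pow_left (show Commute z a from hza) k
    have hzbn' : z * b ^ n = b ^ n * z := Commute.pow_right (show Commute z b from hzb) n
    have e1 : b ^ (n + 1) * a = a * b ^ (n + 1) * z ^ (n + 1) := by
      calc b ^ (n + 1) * a = b * (b ^ n * a) := by rw [pow_succ']; group
        _ = b * (a * b ^ n * z ^ n) := by rw [ih1]
        _ = (b * a) * b ^ n * z ^ n := by group
        _ = a * b * z * b ^ n * z ^ n := by rw [hba]
        _ = a * b * (z * b ^ n) * z ^ n := by group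
        _ = a * b * (b ^ n * z) * z ^ n := by rw [hzbn']
        _ = a * (b * b ^ n) * (z * z ^ n) := by group
        _ = a * b ^ (n + 1) * z ^ (n + 1) := by rw [← pow_succ', ← pow_succ']
    refine ⟨e1, ?_⟩
    have hch : (n + 1).choose 2 = n + n.choose 2 := by
      rw [show 2 = 1 + 1 from rfl, Nat.choose_succ_succ', Nat.choose_one_right]
    calc (a * b) ^ (n + 1) = (a * b) ^ n * (a * b) := pow_succ _ _
      _ = a ^ n * b ^ n * z ^ (n.choose 2) * (a * b) := by rw [ih2]
      _ = a ^ n * b ^ n * (z ^ (n.choose 2) * a) * b := by group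
      _ = a ^ n * b ^ n * (a * z ^ (n.choose 2)) * b := by rw [hzan]
      _ = a ^ n * (b ^ n * a) * (z ^ (n.choose 2) * b) := by group
      _ = a ^ n * (a * b ^ n * z ^ n) * (b * z ^ (n.choose 2)) := by rw [ih1, hzbn]
      _ = a ^ n * a * b ^ n * (z ^ n * b) * z ^ (n.choose 2) := by group
      _ = a ^ n * a * b ^ n * (b * z ^ n) * z ^ (n.choose 2) := by rw [hzbn]
      _ = (a ^ n * a) * (b ^ n * b) * (z ^ n * z ^ (n.choose 2)) := by group
      _ = a ^ (n + 1) * b ^ (n + 1) * z ^ ((n + 1).choose 2) := by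
          rw [← pow_succ, ← pow_succ, ← pow_add, hch]

theorem oc_core {G : Type*} [Group G] [Finite G] {p : ℕ} [Fact p.Prime]
    (x : G) (hx : (orderOf x).Coprime p) :
    ∀ (n : ℕ) (P : Subgroup G), IsPGroup p P → x ∈ Subgroup.normalizer (P : Set G) →
      Nat.card P = n →
      (∀ u ∈ P, u ^ (if p = 2 then 4 else p) = 1 → x * u = u * x) →
      x ∈ Subgroup.centralizer (P : Set G) := by
  intro n
  induction n using Nat.strong_induction_on with
  | _ n ih =>
  intro P hP hxN hcard hcent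
  have hp := (Fact.out : p.Prime)
  by_cases hPbot : P = ⊥
  · rw [hPbot, Subgroup.mem_centralizer_iff]
    intro g hg
    have : g = 1 := Subgroup.mem_bot.mp hg
    rw [this]; simp
  have hxP : ∀ u ∈ P, x * u * x⁻¹ ∈ P := fun u hu => (Subgroup.mem_normalizer_iff.mp hxN u).mp hu
  have hxP' : ∀ u ∈ P, x⁻¹ * u * x ∈ P := by
    intro u hu
    have := (Subgroup.mem_normalizer_iff.mp (inv_mem hxN) u).mp hu
    simpa using this
  obtain ⟨W, hWdef⟩ : ∃ W : Set G, W = {w | (∃ u ∈ P, w = u ^ p) ∨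
      (∃ u ∈ P, ∃ v ∈ P, w = u * v * u⁻¹ * v⁻¹)} := ⟨_, rfl⟩
  obtain ⟨T, hTdef⟩ : ∃ T : Subgroup G, T = Subgroup.closure W := ⟨_, rfl⟩
  have hWP : W ⊆ P := by
    rw [hWdef]
    rintro w (⟨u, hu, rfl⟩ | ⟨u, hu, v, hv, rfl⟩)
    · exact pow_mem hu p
    · exact mul_mem (mul_mem (mul_mem hu hv) (inv_mem hu)) (inv_mem hv)
  have hTP : T ≤ P := by rw [hTdef, Subgroup.closure_le]; exact hWP
  have hxT : x ∈ Subgroup.normalizer (T : Set G) := by
    rw [hTdef]
    apply bs_mem_normalizer_closure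
    · intro w hw
      apply Subgroup.subset_closure
      rw [hWdef] at hw ⊢
      rcases hw with ⟨u, hu, rfl⟩ | ⟨u, hu, v, hv, rfl⟩
      · exact Or.inl ⟨x * u * x⁻¹, hxP u hu, (conj_pow).symm⟩
      · exact Or.inr ⟨x * u * x⁻¹, hxP u hu, x * v * x⁻¹, hxP v hv, by group⟩
    · intro w hw
      apply Subgroup.subset_closure
      rw [hWdef] at hw ⊢
      rcases hw with ⟨u, hu, rfl⟩ | ⟨u, hu, v, hv, rfl⟩
      · refine Or.inl ⟨x⁻¹ * u * x, hxP' u hu, ?_⟩
        have := conj_pow (a := x⁻¹) (b := u) (i := p)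
        simpa using this.symm
      · exact Or.inr ⟨x⁻¹ * u * x, hxP' u hu, x⁻¹ * v * x, hxP' v hv, by group⟩
  have hTlt : Nat.card T < n := by
    obtain ⟨k, hk⟩ := IsPGroup.iff_card.mp hP
    have hk0 : k ≠ 0 := by
      rintro rfl
      rw [pow_zero] at hk
      exact hPbot (Subgroup.eq_bot_of_card_eq P hk)
    obtain ⟨k', rfl⟩ := Nat.exists_eq_succ_of_ne_zero hk0
    obtain ⟨M', hM'⟩ := Sylow.exists_subgroup_card_pow_prime (G := ↥P) p (n := k')
      (by rw [hk]; exact pow_dvd_pow p (Nat.le_succ k'))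
    have hidx : M'.index = p := by
      have := M'.card_mul_index
      rw [hM', hk, pow_succ] at this
      exact Nat.eq_of_mul_eq_mul_left (pow_pos hp.pos k') this
    have hMn : M'.Normal := by
      apply Subgroup.normal_of_index_eq_minFac_card
      rw [hidx, hk, Nat.Prime.pow_minFac hp (Nat.succ_ne_zero k')]
    have hQcard : Nat.card (↥P ⧸ M') = p := by rw [← hidx]; rfl
    have hcyc : IsCyclic (↥P ⧸ M') := isCyclic_of_prime_card hQcard
    have hpowM : ∀ u : ↥P, u ^ p ∈ M' := by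
      intro u
      rw [← QuotientGroup.eq_one_iff, QuotientGroup.mk_pow]
      have := pow_card_eq_one' (G := ↥P ⧸ M') (x := (u : ↥P ⧸ M'))
      rwa [hQcard] at this
    have hcommM : ∀ u v : ↥P, u * v * u⁻¹ * v⁻¹ ∈ M' := by
      intro u v
      rw [← QuotientGroup.eq_one_iff]
      obtain ⟨g, hg⟩ := IsCyclic.exists_generator (α := ↥P ⧸ M')
      obtain ⟨i, hi⟩ := Subgroup.mem_zpowers_iff.mp (hg (u : ↥P ⧸ M'))
      obtain ⟨j, hj⟩ := Subgroup.mem_zpowers_iff.mp (hg (v : ↥P ⧸ M'))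
      simp only [QuotientGroup.mk_mul, QuotientGroup.mk_inv]
      rw [← hi, ← hj, ← zpow_add, ← zpow_neg, ← zpow_add, ← zpow_neg, ← zpow_add]
      have : i + j + -i + -j = 0 := by ring
      rw [this, zpow_zero]
    have hTM : T ≤ M'.map P.subtype := by
      rw [hTdef, Subgroup.closure_le, hWdef]
      rintro w (⟨u, hu, rfl⟩ | ⟨u, hu, v, hv, rfl⟩)
      · exact ⟨(⟨u, hu⟩ : P) ^ p, hpowM _, rfl⟩
      · exact ⟨(⟨u, hu⟩ : P) * ⟨v, hv⟩ * (⟨u, hu⟩ : P)⁻¹ * (⟨v, hv⟩ : P)⁻¹, hcommM _ _, rfl⟩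
    have hMc : Nat.card (M'.map P.subtype) = p ^ k' := by
      rw [← hM']
      exact (Nat.card_congr (M'.equivMapOfInjective _ P.subtype_injective).toEquiv).symm
    calc Nat.card T ≤ Nat.card (M'.map P.subtype) := Subgroup.card_le_of_le hTM
      _ = p ^ k' := hMc
      _ < p ^ (k' + 1) := Nat.pow_lt_pow_right hp.one_lt (Nat.lt_succ_self k')
      _ = n := by rw [← hcard, hk]
  have hxCT := ih _ hTlt T (hP.to_le hTP) hxT rfl (fun u hu => hcent u (hTP hu))
  have hxt : ∀ t ∈ T, x * t * x⁻¹ = t := by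
    intro t ht
    have := (Subgroup.mem_centralizer_iff.mp hxCT) t ht
    rw [← this]; group
  obtain ⟨D, hDdef⟩ : ∃ D : Subgroup G,
      D = Subgroup.closure {c | ∃ u ∈ P, c = u⁻¹ * (x * u * x⁻¹)} := ⟨_, rfl⟩
  have hDP : D ≤ P := by
    rw [hDdef, Subgroup.closure_le]
    rintro c ⟨u, hu, rfl⟩
    exact mul_mem (inv_mem hu) (hxP u hu)
  have hxD : x ∈ Subgroup.normalizer (D : Set G) := by
    rw [hDdef]
    apply bs_mem_normalizer_closure
    · rintro c ⟨u, hu, rfl⟩
      apply Subgroup.subset_closure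
      exact ⟨x * u * x⁻¹, hxP u hu, by group⟩
    · rintro c ⟨u, hu, rfl⟩
      apply Subgroup.subset_closure
      exact ⟨x⁻¹ * u * x, hxP' u hu, by group⟩
  have hcp : ∀ c ∈ P, ∃ j : ℕ, orderOf c = p ^ j := by
    intro c hc
    obtain ⟨j, hj⟩ := (IsPGroup.iff_orderOf.mp hP) ⟨c, hc⟩
    exact ⟨j, by rw [← hj, Subgroup.orderOf_mk]⟩
  have hsuff : (∀ u ∈ P, x * (u⁻¹ * (x * u * x⁻¹)) = (u⁻¹ * (x * u * x⁻¹)) * x) →
      x ∈ Subgroup.centralizer (P : Set G) := by
    intro hall
    rw [Subgroup.mem_centralizer_iff]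
    intro u hu
    have hc1 := oc_eq_one_of_fixed (p := p) x u (u⁻¹ * (x * u * x⁻¹)) hx
      (hcp _ (mul_mem (inv_mem hu) (hxP u hu))) (by group) (hall u hu)
    have h11 : x * u * x⁻¹ = u := by
      calc x * u * x⁻¹ = u * (u⁻¹ * (x * u * x⁻¹)) := by group
        _ = u := by rw [hc1, mul_one]
    calc u * x = (x * u * x⁻¹) * x := by rw [h11]
      _ = x * u := by group
  by_cases hDeq : D = P
  · have hTnorm : ∀ u ∈ P, ∀ t ∈ T, u * t * u⁻¹ ∈ T := by
      intro u hu t ht
      have h1 : u * t * u⁻¹ * t⁻¹ ∈ T := by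
        rw [hTdef]; apply Subgroup.subset_closure; rw [hWdef]
        exact Or.inr ⟨u, hu, t, hTP ht, rfl⟩
      have h2 : u * t * u⁻¹ = (u * t * u⁻¹ * t⁻¹) * t := by group
      rw [h2]; exact mul_mem h1 ht
    have hle : D ≤ Subgroup.centralizer (T : Set G) := by
      rw [hDdef, Subgroup.closure_le]
      rintro c ⟨u, hu, rfl⟩
      rw [SetLike.mem_coe, Subgroup.mem_centralizer_iff]
      intro t ht
      have e1 := hxt _ (hTnorm u hu t ht)
      have e2 := hxt t ht
      have e2' : x⁻¹ * t * x = t := by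
        calc x⁻¹ * t * x = x⁻¹ * (x * t * x⁻¹) * x := by rw [e2]
          _ = t := by group
      have e3 : (x * u * x⁻¹) * t * (x * u * x⁻¹)⁻¹ = u * t * u⁻¹ := by
        calc (x * u * x⁻¹) * t * (x * u * x⁻¹)⁻¹ = x * (u * (x⁻¹ * t * x) * u⁻¹) * x⁻¹ := by group
          _ = x * (u * t * u⁻¹) * x⁻¹ := by rw [e2']
          _ = u * t * u⁻¹ := e1
      calc t * (u⁻¹ * (x * u * x⁻¹)) = u⁻¹ * (u * t * u⁻¹) * (x * u * x⁻¹) := by group
        _ = u⁻¹ * ((x * u * x⁻¹) * t * (x * u * x⁻¹)⁻¹) * (x * u * x⁻¹) := by rw [e3]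
        _ = (u⁻¹ * (x * u * x⁻¹)) * t := by group
    have hTcent : ∀ v ∈ P, ∀ t ∈ T, t * v = v * t := by
      intro v hv t ht
      have hvD : v ∈ D := by rw [hDeq]; exact hv
      exact (Subgroup.mem_centralizer_iff.mp (hle hvD)) t ht
    apply hsuff
    intro u hu
    obtain ⟨c, hcdef⟩ : ∃ c : G, c = u⁻¹ * (x * u * x⁻¹) := ⟨_, rfl⟩
    rw [← hcdef]
    have hcP : c ∈ P := by rw [hcdef]; exact mul_mem (inv_mem hu) (hxP u hu)
    obtain ⟨z, hzdef⟩ : ∃ z : G, z = c⁻¹ * u⁻¹ * c⁻¹⁻¹ * u⁻¹⁻¹ := ⟨_, rfl⟩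
    have hzT : z ∈ T := by
      rw [hTdef]; apply Subgroup.subset_closure; rw [hWdef]
      exact Or.inr ⟨c⁻¹, inv_mem hcP, u⁻¹, inv_mem hu, hzdef⟩
    have hcu : c * u = u * c * z := by rw [hzdef]; group
    have hzu : z * u = u * z := hTcent u hu z hzT
    have hzc : z * c = c * z := hTcent c hcP z hzT
    obtain ⟨f1, f2⟩ := oc_mul_pow u c z hcu hzu hzc p
    have huT : u ^ p ∈ T := by
      rw [hTdef]; apply Subgroup.subset_closure; rw [hWdef]; exact Or.inl ⟨u, hu, rfl⟩
    have hcT : c ^ p ∈ T := by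
      rw [hTdef]; apply Subgroup.subset_closure; rw [hWdef]; exact Or.inl ⟨c, hcP, rfl⟩
    have g1 : (u * c) ^ p = u ^ p := by
      have h0 : u * c = x * u * x⁻¹ := by rw [hcdef]; group
      rw [h0, conj_pow, hxt _ huT]
    have g2 : c ^ p * z ^ (p.choose 2) = 1 := by
      rw [g1] at f2
      have h0 := congrArg (fun w => (u ^ p)⁻¹ * w) f2
      simp only [inv_mul_cancel] at h0
      rw [h0]; group
    have g3 : z ^ p = 1 := by
      have h1 := hTcent u hu _ hcT
      have h0 : c ^ p * u = c ^ p * u * z ^ p := by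
        calc c ^ p * u = u * c ^ p * z ^ p := f1
          _ = c ^ p * u * z ^ p := by rw [h1]
      calc z ^ p = (c ^ p * u)⁻¹ * (c ^ p * u * z ^ p) := by group
        _ = (c ^ p * u)⁻¹ * (c ^ p * u) := by rw [← h0]
        _ = 1 := by group
    have g4 : c ^ (if p = 2 then 4 else p) = 1 := by
      by_cases hp2 : p = 2
      · rw [if_pos hp2]
        rw [hp2] at g2 g3
        have h0 : Nat.choose 2 2 = 1 := by decide
        rw [h0, pow_one] at g2
        have h1 : c ^ 2 = z⁻¹ := eq_inv_of_mul_eq_one_left g2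
        calc c ^ 4 = (c ^ 2) ^ 2 := by rw [← pow_mul]
          _ = (z⁻¹) ^ 2 := by rw [h1]
          _ = 1 := by rw [inv_pow, g3, inv_one]
      · rw [if_neg hp2]
        have hodd : Odd p := hp.odd_of_ne_two hp2
        obtain ⟨m, hm⟩ := hodd
        have hch : p.choose 2 = p * m := by
          rw [Nat.choose_two_right, hm]
          have h0 : (2 * m + 1) * (2 * m + 1 - 1) = 2 * ((2 * m + 1) * m) := by
            simp; ring
          rw [h0, Nat.mul_div_cancel_left _ (by norm_num : 0 < 2)]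
        rw [hch, pow_mul, g3, one_pow, mul_one] at g2
        exact g2
    exact hcent c hcP g4
  · have hDlt : Nat.card D < n := by
      rw [← hcard]; exact oc_card_lt_of_lt (lt_of_le_of_ne hDP hDeq)
    have hxCD := ih _ hDlt D (hP.to_le hDP) hxD rfl (fun u hu => hcent u (hDP hu))
    apply hsuff
    intro u hu
    have hcD : u⁻¹ * (x * u * x⁻¹) ∈ D := by
      rw [hDdef]; exact Subgroup.subset_closure ⟨u, hu, rfl⟩
    exact ((Subgroup.mem_centralizer_iff.mp hxCD) _ hcD).symm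

/-- `p` odd: a `p'`-element normalizing a `p`-subgroup `P` and commuting with all elements of `P`
of order dividing `p` centralizes `P`. -/
theorem oc_centralizes_odd {G : Type*} [Group G] [Finite G] {p : ℕ} [Fact p.Prime] (hp2 : p ≠ 2)
    (x : G) (hx : (orderOf x).Coprime p) (P : Subgroup G) (hP : IsPGroup p P)
    (hxN : x ∈ Subgroup.normalizer (P : Set G))
    (hcent : ∀ u ∈ P, u ^ p = 1 → x * u = u * x) :
    x ∈ Subgroup.centralizer (P : Set G) :=
  oc_core x hx _ P hP hxN rfl (fun u hu h => hcent u hu (by rwa [if_neg hp2] at h))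

/-- `p = 2`: an element of odd order normalizing a `2`-subgroup `P` and commuting with all
elements of `P` of order dividing `4` centralizes `P`. -/
theorem oc_centralizes_two {G : Type*} [Group G] [Finite G]
    (x : G) (hx : (orderOf x).Coprime 2) (P : Subgroup G) (hP : IsPGroup 2 P)
    (hxN : x ∈ Subgroup.normalizer (P : Set G))
    (hcent : ∀ u ∈ P, u ^ 4 = 1 → x * u = u * x) :
    x ∈ Subgroup.centralizer (P : Set G) := by
  haveI : Fact (Nat.Prime 2) := ⟨Nat.prime_two⟩
  exact oc_core x hx _ P hP hxN rfl (fun u hu h => hcent u hu (by rwa [if_pos rfl] at h))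

end Cfsg.Agent.Helper21
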