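import Mathlib
import Cfsg.Agent.S3808

set_option autoImplicit false
set_option linter.style.haveILetI false

namespace Cfsg.Agent.Helper21

open scoped commutatorElement

/-- A group generated by an elementwise-commutative subgroup and one element commuting with it is
commutative. -/
theorem comm_of_sup_zpowers {T : Type*} [Group T] (A : Subgroup T) (s : T)
    (htop : A ⊔ Subgroup.zpowers s = ⊤) (hA : ∀ a ∈ A, ∀ b ∈ A, a * b = b * a)
    (hs : ∀ a ∈ A, a * s = s * a) : ∀ x y : T, x * y = y * x := by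
  have hcl : Subgroup.closure ((A : Set T) ∪ {s}) = ⊤ := by
    rw [Subgroup.closure_union, Subgroup.closure_eq, ← Subgroup.zpowers_eq_closure, htop]
  have hc : IsMulCommutative (Subgroup.closure ((A : Set T) ∪ {s})) :=
    Subgroup.isMulCommutative_closure (by
      intro a ha b hb
      rcases ha with ha | ha <;> rcases hb with hb | hb
      · exact hA a ha b hb
      · rw [Set.mem_singleton_iff] at hb; rw [hb]; exact hs a ha
      · rw [Set.mem_singleton_iff] at ha; rw [ha]; exact (hs b hb).symm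
      · rw [Set.mem_singleton_iff] at ha hb; rw [ha, hb])
  intro x y
  have hx : x ∈ Subgroup.closure ((A : Set T) ∪ {s}) := by rw [hcl]; exact Subgroup.mem_top x
  have hy : y ∈ Subgroup.closure ((A : Set T) ∪ {s}) := by rw [hcl]; exact Subgroup.mem_top y
  exact congrArg Subtype.val (hc.is_comm.comm ⟨x, hx⟩ ⟨y, hy⟩)

/-- In a finite group, an element conjugating a subgroup into itself normalizes it. -/
theorem mem_normalizer_of_conj' {S : Type*} [Group S] [Finite S] {H : Subgroup S} {n : S}
    (h : ∀ y ∈ H, n * y * n⁻¹ ∈ H) : n ∈ Subgroup.normalizer (H : Set S) := by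
  have hle : H.map (MulAut.conj n).toMonoidHom ≤ H := by
    rintro _ ⟨y, hy, rfl⟩
    exact h y hy
  have heq : H.map (MulAut.conj n).toMonoidHom = H :=
    Subgroup.eq_of_le_of_card_ge hle
      (by rw [Subgroup.card_map_of_injective (MulAut.conj n).injective])
  rw [Subgroup.mem_normalizer_iff]
  intro y
  constructor
  · intro hy; exact h y hy
  · intro hy
    rw [← heq] at hy
    obtain ⟨w, hw, hwy⟩ := hy
    have : w = y := by
      have h2 : n * w * n⁻¹ = n * y * n⁻¹ := hwy
      exact mul_left_cancel (mul_right_cancel h2)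
    rw [← this]; exact hw

/-- A subgroup of prime index is maximal. -/
theorem eq_top_of_index_prime {S : Type*} [Group S] [Finite S] {p : ℕ} (hp : p.Prime)
    (A : Subgroup S) (hAi : A.index = p) (K : Subgroup S) (hAK : A ≤ K) (hKA : ¬ K ≤ A) :
    K = ⊤ := by
  have h1 := Subgroup.relIndex_mul_index hAK
  rw [hAi] at h1
  have h2 : K.index ∣ p := Dvd.intro_left _ h1
  rcases (Nat.dvd_prime hp).mp h2 with h | h
  · exact Subgroup.index_eq_one.mp h
  · exfalso
    rw [h] at h1
    have h3 : A.relIndex K = 1 := Nat.eq_of_mul_eq_mul_right hp.pos (h1.trans (one_mul p).symm)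
    exact hKA (Subgroup.relIndex_eq_one.mp h3)

/-- In a non-abelian `p`-group with an abelian subgroup of index `p`, the index of the centre is
`p` times the order of the derived subgroup. Also: the centre lies in that subgroup. -/
theorem index_center_of_abelian_index_p {S : Type*} [Group S] [Finite S] (p : ℕ) [Fact p.Prime]
    (hS : IsPGroup p S) (hna : ¬ IsMulCommutative S) (A : Subgroup S)
    (hAc : ∀ a ∈ A, ∀ b ∈ A, a * b = b * a) (hAi : A.index = p) :
    Subgroup.center S ≤ A ∧ (Subgroup.center S).index = p * Nat.card (commutator S) := by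
  classical
  have hp : p.Prime := Fact.out
  haveI hAn : A.Normal := Cfsg.Agent.S3808.normal_of_index_p p hS A hAi
  have hmaxl := eq_top_of_index_prime hp A hAi
  have hncomm : ¬ ∀ x y : S, x * y = y * x := fun h => hna ⟨⟨h⟩⟩
  -- criterion for centrality
  have hcen : ∀ t, t ∉ A → ∀ x, (∀ a ∈ A, a * x = x * a) → t * x = x * t →
      x ∈ Subgroup.center S := by
    intro t ht x hxA hxt
    have htop : A ⊔ Subgroup.zpowers t = ⊤ :=
      hmaxl _ le_sup_left (fun h => ht (h (Subgroup.mem_sup_right (Subgroup.mem_zpowers t))))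
    have h1 : A ⊔ Subgroup.zpowers t ≤ Subgroup.centralizer {x} := by
      apply sup_le
      · intro a ha
        rw [Subgroup.mem_centralizer_iff]
        intro y hy
        rw [Set.mem_singleton_iff] at hy
        rw [hy]; exact (hxA a ha).symm
      · rw [Subgroup.zpowers_le, Subgroup.mem_centralizer_iff]
        intro y hy
        rw [Set.mem_singleton_iff] at hy
        rw [hy]; exact hxt.symm
    rw [htop] at h1
    rw [Subgroup.mem_center_iff]
    intro g
    exact (Subgroup.mem_centralizer_iff.mp (h1 (Subgroup.mem_top g)) x (Set.mem_singleton x)).symm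
  have hZA : Subgroup.center S ≤ A := by
    intro z hz
    by_contra hzA
    apply hncomm
    have htop : A ⊔ Subgroup.zpowers z = ⊤ :=
      hmaxl _ le_sup_left (fun h => hzA (h (Subgroup.mem_sup_right (Subgroup.mem_zpowers z))))
    exact comm_of_sup_zpowers A z htop hAc (fun a _ => Subgroup.mem_center_iff.mp hz a)
  refine ⟨hZA, ?_⟩
  obtain ⟨s, hs⟩ : ∃ s, s ∉ A := by
    by_contra h
    push Not at h
    have h1 : A = ⊤ := by
      rw [eq_top_iff]; intro x _; exact h x
    rw [h1, Subgroup.index_top] at hAi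
    exact hp.one_lt.ne hAi
  have htop : A ⊔ Subgroup.zpowers s = ⊤ :=
    hmaxl _ le_sup_left (fun h => hs (h (Subgroup.mem_sup_right (Subgroup.mem_zpowers s))))
  have hφA : ∀ b ∈ A, b * s * b⁻¹ * s⁻¹ ∈ A := by
    intro b hb
    have h1 := hAn.conj_mem _ (inv_mem hb) s
    have e : b * s * b⁻¹ * s⁻¹ = b * (s * b⁻¹ * s⁻¹) := by group
    rw [e]; exact mul_mem hb h1
  let φ : ↥A →* S := MonoidHom.mk' (fun a => (a : S) * s * (a : S)⁻¹ * s⁻¹) (by
    intro a b
    have hb := hφA b b.2
    have ha := hφA a a.2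
    have hc := hAc _ a.2 _ hb
    calc ((a * b : ↥A) : S) * s * ((a * b : ↥A) : S)⁻¹ * s⁻¹
        = (a : S) * ((b : S) * s * (b : S)⁻¹ * s⁻¹) * (s * (a : S)⁻¹ * s⁻¹) := by
          rw [Subgroup.coe_mul]; group
      _ = ((b : S) * s * (b : S)⁻¹ * s⁻¹) * (a : S) * (s * (a : S)⁻¹ * s⁻¹) := by rw [hc]
      _ = ((b : S) * s * (b : S)⁻¹ * s⁻¹) * ((a : S) * s * (a : S)⁻¹ * s⁻¹) := by group
      _ = ((a : S) * s * (a : S)⁻¹ * s⁻¹) * ((b : S) * s * (b : S)⁻¹ * s⁻¹) := hAc _ hb _ ha)
  have hφapp : ∀ a : ↥A, φ a = (a : S) * s * (a : S)⁻¹ * s⁻¹ := fun a => rfl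
  have hker : φ.ker = (Subgroup.center S).subgroupOf A := by
    ext a
    rw [MonoidHom.mem_ker, hφapp, Subgroup.mem_subgroupOf]
    constructor
    · intro h
      have h1 : (a : S) * s = s * a := mul_inv_eq_iff_eq_mul.mp (mul_inv_eq_one.mp h)
      exact hcen s hs a (fun b hb => hAc b hb a a.2) h1.symm
    · intro h
      rw [← Subgroup.mem_center_iff.mp h s]; group
  have hrange : φ.range = commutator S := by
    apply le_antisymm
    · rintro _ ⟨a, rfl⟩
      rw [hφapp, commutator_def]
      exact Subgroup.commutator_mem_commutator (Subgroup.mem_top (a : S)) (Subgroup.mem_top s)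
    · -- φ.range is normal with commutative quotient
      have hRA : φ.range ≤ A := by
        rintro _ ⟨a, rfl⟩
        exact hφA a a.2
      haveI hRn : φ.range.Normal := by
        have h1 : A ⊔ Subgroup.zpowers s ≤ Subgroup.normalizer (φ.range : Set S) := by
          apply sup_le
          · intro a ha
            apply mem_normalizer_of_conj'
            intro r hr
            have : a * r * a⁻¹ = r := by rw [hAc a ha r (hRA hr), mul_inv_cancel_right]
            rw [this]; exact hr
          · rw [Subgroup.zpowers_le]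
            apply mem_normalizer_of_conj'
            rintro _ ⟨a, rfl⟩
            refine ⟨⟨s * a * s⁻¹, hAn.conj_mem _ a.2 s⟩, ?_⟩
            rw [hφapp, hφapp]
            show s * (a : S) * s⁻¹ * s * (s * (a : S) * s⁻¹)⁻¹ * s⁻¹
              = s * ((a : S) * s * (a : S)⁻¹ * s⁻¹) * s⁻¹
            group
        rw [htop] at h1
        exact Subgroup.normalizer_eq_top_iff.mp (top_le_iff.mp h1)
      let π := QuotientGroup.mk' φ.range
      have hπ : Function.Surjective π := QuotientGroup.mk'_surjective _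
      have hq : ∀ x y : S ⧸ φ.range, x * y = y * x := by
        apply comm_of_sup_zpowers (A.map π) (π s)
        · rw [← MonoidHom.map_zpowers, ← Subgroup.map_sup, htop]
          exact Subgroup.map_top_of_surjective π hπ
        · rintro _ ⟨a, ha, rfl⟩ _ ⟨b, hb, rfl⟩
          rw [← map_mul, ← map_mul, hAc a ha b hb]
        · rintro _ ⟨a, ha, rfl⟩
          have h1 : a * s * a⁻¹ * s⁻¹ ∈ φ.range := ⟨⟨a, ha⟩, rfl⟩
          have h2 : π (a * s * a⁻¹ * s⁻¹) = 1 := (QuotientGroup.eq_one_iff _).mpr h1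
          rw [map_mul, map_mul, map_mul, map_inv, map_inv] at h2
          exact mul_inv_eq_iff_eq_mul.mp (mul_inv_eq_one.mp h2)
      rw [commutator_def, Subgroup.commutator_le]
      intro g₁ _ g₂ _
      apply (QuotientGroup.eq_one_iff _).mp
      show π ⁅g₁, g₂⁆ = 1
      rw [commutatorElement_def, map_mul, map_mul, map_mul, map_inv, map_inv, hq (π g₁) (π g₂)]
      group
  have h1 := Subgroup.relIndex_mul_index hZA
  rw [hAi] at h1
  rw [← h1, ← hrange, ← Subgroup.index_ker, hker, mul_comm]
  rfl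

/-- A `p`-group of order at least `p ^ 4` has an abelian subgroup of order greater than
`p ^ 2`. -/
theorem exists_abelian_card_gt {R : Type*} [Group R] [Finite R] {p : ℕ} [Fact p.Prime]
    (hR : IsPGroup p R) (hbig : p ^ 3 < Nat.card R) :
    ∃ E : Subgroup R, IsMulCommutative E ∧ p ^ 2 < Nat.card E := by
  classical
  have hp : p.Prime := Fact.out
  obtain ⟨r, hr⟩ := IsPGroup.iff_card.mp hR
  have hr4 : 4 ≤ r := by
    rw [hr] at hbig
    have := (Nat.pow_lt_pow_iff_right hp.one_lt).mp hbig
    omega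
  haveI : Nontrivial R := by
    rw [← Finite.one_lt_card_iff_nontrivial, hr]
    exact Nat.one_lt_pow (by omega) hp.one_lt
  haveI := hR.center_nontrivial
  have hdvd : p ∣ Nat.card (Subgroup.center R) := by
    obtain ⟨k, hk⟩ := IsPGroup.iff_card.mp (hR.to_subgroup (Subgroup.center R))
    rw [hk]
    have hk0 : k ≠ 0 := by
      rintro rfl
      rw [pow_zero] at hk
      have := Finite.one_lt_card (α := Subgroup.center R)
      omega
    exact dvd_pow_self p hk0
  obtain ⟨zc, hzc⟩ := exists_prime_orderOf_dvd_card' p hdvd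
  set z : R := (zc : R) with hz
  have hzord : orderOf z = p := by rw [hz, Subgroup.orderOf_coe]; exact hzc
  have hzcen : ∀ g : R, g * z = z * g := fun g => Subgroup.mem_center_iff.mp zc.2 g
  let Zs : Subgroup R := Subgroup.zpowers z
  have hZcard : Nat.card Zs = p := by rw [Nat.card_zpowers, hzord]
  haveI hZn : Zs.Normal := ⟨fun n hn g => by
    have hnc : n ∈ Subgroup.center R := (Subgroup.zpowers_le.mpr zc.2) hn
    have : g * n * g⁻¹ = n := by rw [Subgroup.mem_center_iff.mp hnc g, mul_inv_cancel_right]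
    rw [this]; exact hn⟩
  let π := QuotientGroup.mk' Zs
  have hQ : IsPGroup p (R ⧸ Zs) := hR.to_quotient Zs
  have hqcard : Nat.card (R ⧸ Zs) = p ^ (r - 1) := by
    have h1 := Subgroup.card_mul_index Zs
    rw [hZcard, hr] at h1
    have h3 : p ^ r = p * p ^ (r - 1) := by rw [← pow_succ']; congr 1; omega
    rw [h3] at h1
    exact Nat.eq_of_mul_eq_mul_left hp.pos h1
  haveI : Nontrivial (R ⧸ Zs) := by
    rw [← Finite.one_lt_card_iff_nontrivial, hqcard]
    exact Nat.one_lt_pow (by omega) hp.one_lt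
  haveI := hQ.center_nontrivial
  have hdvd2 : p ∣ Nat.card (Subgroup.center (R ⧸ Zs)) := by
    obtain ⟨k, hk⟩ := IsPGroup.iff_card.mp (hQ.to_subgroup (Subgroup.center (R ⧸ Zs)))
    rw [hk]
    have hk0 : k ≠ 0 := by
      rintro rfl
      rw [pow_zero] at hk
      have := Finite.one_lt_card (α := Subgroup.center (R ⧸ Zs))
      omega
    exact dvd_pow_self p hk0
  obtain ⟨yc, hyc⟩ := exists_prime_orderOf_dvd_card' p hdvd2
  obtain ⟨y, hy⟩ := QuotientGroup.mk'_surjective Zs (yc : R ⧸ Zs)
  have hπy : orderOf (π y) = p := by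
    show orderOf (QuotientGroup.mk' Zs y) = p
    rw [hy, Subgroup.orderOf_coe]; exact hyc
  have hyZ : y ∉ Zs := by
    intro h
    have h1 : π y = 1 := (QuotientGroup.eq_one_iff y).mpr h
    rw [h1, orderOf_one] at hπy
    exact hp.one_lt.ne hπy
  have hycen : ∀ g : R, g * y * g⁻¹ * y⁻¹ ∈ Zs := by
    intro g
    apply (QuotientGroup.eq_one_iff _).mp
    show π (g * y * g⁻¹ * y⁻¹) = 1
    rw [map_mul, map_mul, map_mul, map_inv, map_inv]
    have h1 : π g * π y = π y * π g := by
      have := Subgroup.mem_center_iff.mp yc.2 (π g)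
      rw [← hy] at this
      exact this
    rw [h1]; group
  let f : R →* R := MonoidHom.mk' (fun g => g * y * g⁻¹ * y⁻¹) (by
    intro a b
    have hb : b * y * b⁻¹ * y⁻¹ ∈ Subgroup.center R := Subgroup.zpowers_le.mpr zc.2 (hycen b)
    have hc := Subgroup.mem_center_iff.mp hb
    calc a * b * y * (a * b)⁻¹ * y⁻¹
        = a * (b * y * b⁻¹ * y⁻¹) * (y * a⁻¹ * y⁻¹) := by group
      _ = (b * y * b⁻¹ * y⁻¹) * a * (y * a⁻¹ * y⁻¹) := by rw [hc a]
      _ = (b * y * b⁻¹ * y⁻¹) * (a * y * a⁻¹ * y⁻¹) := by group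
      _ = (a * y * a⁻¹ * y⁻¹) * (b * y * b⁻¹ * y⁻¹) := (hc _).symm)
  have hfapp : ∀ g, f g = g * y * g⁻¹ * y⁻¹ := fun g => rfl
  have hfrange : f.range ≤ Zs := by
    rintro _ ⟨g, rfl⟩
    exact hycen g
  have hker : ∀ g, g ∈ f.ker ↔ g * y = y * g := by
    intro g
    rw [MonoidHom.mem_ker, hfapp]
    constructor
    · intro h
      exact mul_inv_eq_iff_eq_mul.mp (mul_inv_eq_one.mp h)
    · intro h
      rw [h]; group
  have hkcard : p ^ 3 ≤ Nat.card f.ker := by
    have h1 := Subgroup.card_mul_index f.ker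
    rw [Subgroup.index_ker, hr] at h1
    have h2 : Nat.card f.range ≤ p := hZcard ▸ Subgroup.card_le_of_le hfrange
    by_contra hlt
    push Not at hlt
    have h3 : Nat.card f.ker * Nat.card f.range < p ^ 3 * p := by
      calc Nat.card f.ker * Nat.card f.range ≤ Nat.card f.ker * p := Nat.mul_le_mul_left _ h2
        _ < p ^ 3 * p := Nat.mul_lt_mul_of_pos_right hlt hp.pos
    rw [h1, ← pow_succ] at h3
    have := (Nat.pow_lt_pow_iff_right hp.one_lt).mp h3
    omega
  let Ys : Subgroup R := Subgroup.zpowers y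
  have hNcard : Nat.card ↥(Ys ⊔ Zs) = p ^ 2 := by
    have h1 : Zs.relIndex (Ys ⊔ Zs) = p := by
      rw [Subgroup.relIndex_sup_right]
      have h2 := Subgroup.relIndex_ker Ys π
      rw [QuotientGroup.ker_mk'] at h2
      rw [h2, MonoidHom.map_zpowers, Nat.card_zpowers, hπy]
    have h2 := Subgroup.relIndex_mul_relIndex (H := ⊥) (K := Zs) (L := Ys ⊔ Zs) bot_le le_sup_right
    rw [Subgroup.relIndex_bot_left, Subgroup.relIndex_bot_left, h1, hZcard] at h2
    rw [← h2, sq]
  have hNle : Ys ⊔ Zs ≤ f.ker := by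
    apply sup_le
    · rw [Subgroup.zpowers_le, hker]
    · rw [Subgroup.zpowers_le, hker]
      exact (hzcen y).symm
  obtain ⟨x, hxk, hxN⟩ : ∃ x ∈ f.ker, x ∉ Ys ⊔ Zs := by
    by_contra hcon
    push Not at hcon
    have h1 : Nat.card f.ker ≤ Nat.card ↥(Ys ⊔ Zs) :=
      Subgroup.card_le_of_le (fun x hx => hcon x hx)
    rw [hNcard] at h1
    have h3 : p ^ 2 < p ^ 3 := Nat.pow_lt_pow_right hp.one_lt (by norm_num)
    omega
  have hxy : x * y = y * x := (hker x).mp hxk
  let E : Subgroup R := Subgroup.closure {z, y, x}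
  have hEc : IsMulCommutative E := Subgroup.isMulCommutative_closure (by
    intro a ha b hb
    simp only [Set.mem_insert_iff, Set.mem_singleton_iff] at ha hb
    rcases ha with ha | ha | ha <;> rcases hb with hb | hb | hb <;> rw [ha, hb]
    · exact (hzcen y).symm
    · exact (hzcen x).symm
    · exact hzcen y
    · exact hxy.symm
    · exact hzcen x
    · exact hxy)
  have hNE : Ys ⊔ Zs < E := by
    refine lt_of_le_of_ne (sup_le ?_ ?_) ?_
    · rw [Subgroup.zpowers_le]; exact Subgroup.subset_closure (by simp)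
    · rw [Subgroup.zpowers_le]; exact Subgroup.subset_closure (by simp)
    · intro h
      apply hxN
      rw [h]
      exact Subgroup.subset_closure (by simp)
  have h2 : Nat.card ↥(Ys ⊔ Zs) < Nat.card E :=
    lt_of_le_of_ne (Subgroup.card_le_of_le hNE.le)
      (fun hc => hNE.ne (Subgroup.eq_of_le_of_card_ge hNE.le (le_of_eq hc.symm)))
  rw [hNcard] at h2
  exact ⟨E, hEc, h2⟩

end Cfsg.Agent.Helper21
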