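import Mathlib
import Cfsg.Agent.Helper27.SL2Elem
import Cfsg.Agent.Helper21.Offender2
import Cfsg.Agent.Helper21.PGroupAb

set_option autoImplicit false
set_option linter.style.haveILetI false

namespace Cfsg.Agent.Helper21

/-- A subgroup is mapped to itself by conjugation with an element of its normalizer. -/
theorem map_conj_eq_self {G : Type*} [Group G] (H : Subgroup G) (g : G)
    (hg : g ∈ Subgroup.normalizer (H : Set G)) : H.map (MulAut.conj g).toMonoidHom = H := by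
  ext y
  constructor
  · rintro ⟨h, hh, rfl⟩
    exact (Subgroup.mem_normalizer_iff.mp hg h).mp hh
  · intro hy
    refine ⟨g⁻¹ * y * g, ?_, ?_⟩
    · apply (Subgroup.mem_normalizer_iff.mp hg (g⁻¹ * y * g)).mpr
      have e : g * (g⁻¹ * y * g) * g⁻¹ = y := by group
      rw [e]; exact hy
    · show g * (g⁻¹ * y * g) * g⁻¹ = y
      group

/-- `[V, A] ≤ V` when `A` normalizes `V`. -/
theorem comm_le_left {G : Type*} [Group G] (V A : Subgroup G)
    (hAV : A ≤ Subgroup.normalizer (V : Set G)) : ⁅V, A⁆ ≤ V := by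
  rw [Subgroup.commutator_le]
  intro v hv a ha
  rw [commutatorElement_def]
  have h1 : a * v⁻¹ * a⁻¹ ∈ V := (Subgroup.mem_normalizer_iff.mp (hAV ha) v⁻¹).mp (V.inv_mem hv)
  have h2 : v * a * v⁻¹ * a⁻¹ = v * (a * v⁻¹ * a⁻¹) := by group
  rw [h2]; exact V.mul_mem hv h1

/-- An element normalizing `V` and `L` normalizes `[V, L]`. -/
theorem comm_normalizer {G : Type*} [Group G] (V L : Subgroup G) (g : G)
    (hgV : g ∈ Subgroup.normalizer (V : Set G)) (hgL : g ∈ Subgroup.normalizer (L : Set G)) :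
    g ∈ Subgroup.normalizer ((⁅V, L⁆ : Subgroup G) : Set G) := by
  have h1 : (⁅V, L⁆).map (MulAut.conj g).toMonoidHom = ⁅V, L⁆ := by
    rw [Subgroup.map_commutator, map_conj_eq_self V g hgV, map_conj_eq_self L g hgL]
  rw [Subgroup.mem_normalizer_iff]
  intro h
  constructor
  · intro hh
    rw [← h1]
    exact ⟨h, hh, rfl⟩
  · intro hh
    rw [← h1] at hh
    obtain ⟨y, hy, hyh⟩ := hh
    have h3 : g * y * g⁻¹ = g * h * g⁻¹ := hyh
    have : y = h := by
      have h4 : y = g⁻¹ * (g * y * g⁻¹) * g := by group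
      rw [h4, h3]; group
    rw [← this]; exact hy

/-- Product decomposition of `A ⊔ K` when `A` normalizes `K`. -/
theorem mem_sup_of_le_normalizer {G : Type*} [Group G] (A K : Subgroup G)
    (hAK : A ≤ Subgroup.normalizer (K : Set G)) :
    ∀ g ∈ A ⊔ K, ∃ a ∈ A, ∃ k ∈ K, g = k * a := by
  intro g hg
  rw [← Subgroup.closure_eq A, ← Subgroup.closure_eq K, ← Subgroup.closure_union] at hg
  induction hg using Subgroup.closure_induction with
  | mem y hy =>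
    rcases hy with hy | hy
    · exact ⟨y, hy, 1, K.one_mem, by simp⟩
    · exact ⟨1, A.one_mem, y, hy, by simp⟩
  | one => exact ⟨1, A.one_mem, 1, K.one_mem, by simp⟩
  | mul y z hy hz ihy ihz =>
    obtain ⟨a, ha, k, hk, rfl⟩ := ihy
    obtain ⟨a', ha', k', hk', rfl⟩ := ihz
    exact ⟨a * a', A.mul_mem ha ha', k * (a * k' * a⁻¹),
      K.mul_mem hk ((Subgroup.mem_normalizer_iff.mp (hAK ha) k').mp hk'), by group⟩
  | inv y hy ihy =>
    obtain ⟨a, ha, k, hk, rfl⟩ := ihy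
    exact ⟨a⁻¹, A.inv_mem ha, a⁻¹ * k⁻¹ * a⁻¹⁻¹,
      (Subgroup.mem_normalizer_iff.mp (hAK (A.inv_mem ha)) k⁻¹).mp (K.inv_mem hk), by group⟩

/-- `|AK| ≤ |A||K|` when `A` normalizes `K`. -/
theorem card_sup_le_of_le_normalizer {G : Type*} [Group G] [Finite G] (A K : Subgroup G)
    (hAK : A ≤ Subgroup.normalizer (K : Set G)) :
    Nat.card ↥(A ⊔ K) ≤ Nat.card A * Nat.card K := by
  rw [← Nat.card_prod]
  have h : ∀ g : ↥(A ⊔ K), ∃ q : ↥A × ↥K, (q.2 : G) * q.1 = g := fun g => by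
    obtain ⟨a, ha, k, hk, h⟩ := mem_sup_of_le_normalizer A K hAK g g.2
    exact ⟨(⟨a, ha⟩, ⟨k, hk⟩), h.symm⟩
  choose q hq using h
  exact Nat.card_le_card_of_injective q
    (fun g g' h => Subtype.ext (by rw [← hq g, ← hq g', h]))

/-- Conjugation formula along a chain `1 ≤ W ≤ V` stabilized by `g`. -/
theorem chain_conj_pow {G : Type*} [Group G] (V W : Subgroup G)
    (hVcomm : ∀ u ∈ V, ∀ v ∈ V, u * v = v * u) (hWV : W ≤ V) (g : G)
    (hgW : ∀ w ∈ W, g * w * g⁻¹ = w) (hgV : ∀ v ∈ V, g * v * g⁻¹ * v⁻¹ ∈ W) :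
    ∀ (n : ℕ), ∀ v ∈ V, g ^ n * v * (g ^ n)⁻¹ = (g * v * g⁻¹ * v⁻¹) ^ n * v := by
  intro n
  induction n with
  | zero => intro v hv; simp
  | succ n ih =>
    intro v hv
    have hc := hgV v hv
    have h1 : g ^ (n + 1) * v * (g ^ (n + 1))⁻¹ = g * (g ^ n * v * (g ^ n)⁻¹) * g⁻¹ := by
      rw [pow_succ']; group
    rw [h1, ih v hv]
    have h2 : ∀ X : G, g * (X * v) * g⁻¹ = (g * X * g⁻¹) * (g * v * g⁻¹) := fun X => by group
    rw [h2, ← conj_pow, hgW _ hc, pow_succ, mul_assoc ((g * v * g⁻¹ * v⁻¹) ^ n)]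
    congr 1
    group

/-- An element of a faithful group stabilizing a chain `1 ≤ W ≤ V` has `p`-th power one. -/
theorem chain_pow_one {G : Type*} [Group G] {p : ℕ} (V W H : Subgroup G)
    (hVcomm : ∀ u ∈ V, ∀ v ∈ V, u * v = v * u) (hVpow : ∀ v ∈ V, v ^ p = 1) (hWV : W ≤ V)
    (hf : H ⊓ Subgroup.centralizer (V : Set G) = ⊥) (g : G) (hgH : g ∈ H)
    (hgW : ∀ w ∈ W, g * w * g⁻¹ = w) (hgV : ∀ v ∈ V, g * v * g⁻¹ * v⁻¹ ∈ W) : g ^ p = 1 := by
  have h1 : g ^ p ∈ H ⊓ Subgroup.centralizer (V : Set G) := by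
    refine Subgroup.mem_inf.mpr ⟨H.pow_mem hgH p, ?_⟩
    rw [Subgroup.mem_centralizer_iff]
    intro v hv
    have h2 := chain_conj_pow V W hVcomm hWV g hgW hgV p v hv
    rw [hVpow _ (hWV (hgV v hv)), one_mul] at h2
    calc v * g ^ p = (g ^ p * v * (g ^ p)⁻¹) * g ^ p := by rw [h2]
      _ = g ^ p * v := by group
  rw [hf] at h1
  exact Subgroup.mem_bot.mp h1

/-- Generators of a subgroup of prime order. -/
theorem zpowers_eq_of_card_prime {G : Type*} [Group G] {p : ℕ} [Fact p.Prime] (A : Subgroup G)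
    (hAp : Nat.card A = p) (a : G) (haA : a ∈ A) (ha1 : a ≠ 1) :
    A = Subgroup.zpowers a ∧ orderOf a = p := by
  have hp := (Fact.out : p.Prime)
  have h1 : orderOf (⟨a, haA⟩ : ↥A) ∣ Nat.card A := orderOf_dvd_natCard _
  rw [Subgroup.orderOf_mk, hAp] at h1
  have h2 : orderOf a = p := by
    rcases (Nat.dvd_prime hp).mp h1 with h | h
    · exact absurd (orderOf_eq_one_iff.mp h) ha1
    · exact h
  haveI : Finite ↥A := Nat.finite_of_card_ne_zero (by rw [hAp]; exact hp.ne_zero)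
  refine ⟨(Subgroup.eq_of_le_of_card_ge ((Subgroup.zpowers_le).mpr haA) ?_).symm, h2⟩
  rw [Nat.card_zpowers, h2, hAp]

theorem exists_gen_of_card_prime {G : Type*} [Group G] {p : ℕ} [Fact p.Prime] (A : Subgroup G)
    (hAp : Nat.card A = p) : ∃ a ∈ A, a ≠ 1 ∧ orderOf a = p ∧ A = Subgroup.zpowers a := by
  have hp := (Fact.out : p.Prime)
  obtain ⟨a, haA, ha1⟩ : ∃ a ∈ A, a ≠ 1 := by
    by_contra hno
    have hA : A = ⊥ := by
      rw [Subgroup.eq_bot_iff_forall]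
      intro a ha
      by_contra h
      exact hno ⟨a, ha, h⟩
    rw [hA, Subgroup.card_bot] at hAp
    exact hp.one_lt.ne hAp
  obtain ⟨h1, h2⟩ := zpowers_eq_of_card_prime A hAp a haA ha1
  exact ⟨a, haA, ha1, h2, h1⟩

/-- An element of order dividing `p` normalizing a subgroup of order `p` centralizes it. -/
theorem cent_of_card_prime {G : Type*} [Group G] [Finite G] {p : ℕ} [Fact p.Prime] (W : Subgroup G)
    (hW : Nat.card W = p) (g : G) (hgW : ∀ w ∈ W, g * w * g⁻¹ ∈ W) (hg : g ^ p = 1) :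
    ∀ w ∈ W, g * w * g⁻¹ = w := by
  have hp := (Fact.out : p.Prime)
  intro w hw
  by_cases hw1 : w = 1
  · subst hw1; simp
  obtain ⟨hWz, hord⟩ := zpowers_eq_of_card_prime W hW w hw hw1
  have hmem : g * w * g⁻¹ ∈ Subgroup.zpowers w := hWz ▸ hgW w hw
  rw [← mem_powers_iff_mem_zpowers] at hmem
  obtain ⟨k, hk⟩ := hmem
  have hk' : w ^ k = g * w * g⁻¹ := hk
  have hpow : ∀ j : ℕ, g ^ j * w * (g ^ j)⁻¹ = w ^ (k ^ j) := by
    intro j
    induction j with
    | zero => simp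
    | succ j ih =>
      have h1 : g ^ (j + 1) * w * (g ^ (j + 1))⁻¹ = g * (g ^ j * w * (g ^ j)⁻¹) * g⁻¹ := by
        rw [pow_succ']; group
      rw [h1, ih, ← conj_pow, ← hk', ← pow_mul, pow_succ']
  have h2 := hpow p
  rw [hg] at h2
  have h3 : w ^ (k ^ p) = w ^ 1 := by rw [← h2]; simp
  rw [pow_eq_pow_iff_modEq, hord] at h3
  have h4 : k ^ p ≡ k [MOD p] := by
    rw [← ZMod.natCast_eq_natCast_iff]
    push_cast
    exact ZMod.pow_card _
  have h5 : k ≡ 1 [MOD p] := h4.symm.trans h3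
  have h6 : w ^ k = w ^ 1 := by rw [pow_eq_pow_iff_modEq, hord]; exact h5
  rw [← hk', h6, pow_one]

/-- `[V, A ⊔ B] ≤ [V, A][V, B]` for abelian `V` normalized by `A` and `B`. -/
theorem commutator_sup_le {G : Type*} [Group G] (V A B : Subgroup G)
    (hVcomm : ∀ u ∈ V, ∀ v ∈ V, u * v = v * u)
    (hAV : A ≤ Subgroup.normalizer (V : Set G)) (hBV : B ≤ Subgroup.normalizer (V : Set G)) :
    ⁅V, A ⊔ B⁆ ≤ ⁅V, A⁆ ⊔ ⁅V, B⁆ := by
  have hUV : ⁅V, A⁆ ⊔ ⁅V, B⁆ ≤ V := sup_le (comm_le_left V A hAV) (comm_le_left V B hBV)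
  have key : ∀ g ∈ A ⊔ B, g ∈ Subgroup.normalizer (V : Set G) ∧
      ∀ v ∈ V, v * g * v⁻¹ * g⁻¹ ∈ ⁅V, A⁆ ⊔ ⁅V, B⁆ := by
    intro g hg
    rw [← Subgroup.closure_eq A, ← Subgroup.closure_eq B, ← Subgroup.closure_union] at hg
    induction hg using Subgroup.closure_induction with
    | mem y hy =>
      rcases hy with hy | hy
      · refine ⟨hAV hy, fun v hv => ?_⟩
        have h1 := Subgroup.commutator_mem_commutator hv hy
        rw [commutatorElement_def] at h1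
        exact (le_sup_left : ⁅V, A⁆ ≤ ⁅V, A⁆ ⊔ ⁅V, B⁆) h1
      · refine ⟨hBV hy, fun v hv => ?_⟩
        have h1 := Subgroup.commutator_mem_commutator hv hy
        rw [commutatorElement_def] at h1
        exact (le_sup_right : ⁅V, B⁆ ≤ ⁅V, A⁆ ⊔ ⁅V, B⁆) h1
    | one => exact ⟨Subgroup.one_mem _, fun v hv => by simp⟩
    | mul y z hy hz ihy ihz =>
      refine ⟨Subgroup.mul_mem _ ihy.1 ihz.1, fun v hv => ?_⟩
      have h1 : v * (y * z) * v⁻¹ * (y * z)⁻¹
          = (v * y * v⁻¹ * y⁻¹) * (y * (v * z * v⁻¹ * z⁻¹) * y⁻¹) := by group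
      rw [h1]
      refine Subgroup.mul_mem _ (ihy.2 v hv) ?_
      have huU : v * z * v⁻¹ * z⁻¹ ∈ ⁅V, A⁆ ⊔ ⁅V, B⁆ := ihz.2 v hv
      have h2 : ∀ u : G, y * u * y⁻¹ = (u * y * u⁻¹ * y⁻¹)⁻¹ * u := fun u => by group
      rw [h2]
      exact Subgroup.mul_mem _ (Subgroup.inv_mem _ (ihy.2 _ (hUV huU))) huU
    | inv y hy ihy =>
      refine ⟨Subgroup.inv_mem _ ihy.1, fun v hv => ?_⟩
      have hv' : y⁻¹ * v * y ∈ V := by
        have := (Subgroup.mem_normalizer_iff.mp (Subgroup.inv_mem _ ihy.1) v).mp hv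
        simpa using this
      have h1 : v * y⁻¹ * v⁻¹ * y⁻¹⁻¹
          = ((y⁻¹ * v * y) * y * (y⁻¹ * v * y)⁻¹ * y⁻¹)⁻¹ := by group
      rw [h1]
      exact Subgroup.inv_mem _ (ihy.2 _ hv')
  rw [Subgroup.commutator_le]
  intro v hv g hg
  rw [commutatorElement_def]
  exact (key g hg).2 v hv

/-- In `SL(2, p)` for odd `p`, the elementary matrix `Um 1` is conjugate to its fourth power. -/
theorem exists_diag_conj {p : ℕ} [Fact p.Prime] (h2 : p ≠ 2) :
    ∃ D : Matrix.SpecialLinearGroup (Fin 2) (ZMod p),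
      D * Cfsg.Agent.Helper27.SL2E.Um 1 = Cfsg.Agent.Helper27.SL2E.Um 1 ^ 4 * D := by
  have hp := (Fact.out : p.Prime)
  have h20 : (2 : ZMod p) ≠ 0 := by
    intro h
    have h' : ((2 : ℕ) : ZMod p) = 0 := by exact_mod_cast h
    rw [ZMod.natCast_eq_zero_iff] at h'
    exact h2 ((Nat.prime_dvd_prime_iff_eq hp Nat.prime_two).mp h')
  have h4 : (4 : ZMod p) * 2⁻¹ = 2 := by
    have : (4 : ZMod p) = 2 * 2 := by norm_num
    rw [this, mul_assoc, mul_inv_cancel₀ h20, mul_one]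
  obtain ⟨D, hD⟩ : ∃ D : Matrix.SpecialLinearGroup (Fin 2) (ZMod p),
      (D : Matrix (Fin 2) (Fin 2) (ZMod p)) = !![2, 0; 0, 2⁻¹] :=
    ⟨⟨!![2, 0; 0, 2⁻¹], by simp [Matrix.det_fin_two, h20]⟩, rfl⟩
  refine ⟨D, ?_⟩
  rw [← Cfsg.Agent.Helper27.SL2E.Um_nat 4]
  apply Matrix.SpecialLinearGroup.ext
  intro i j
  rw [Matrix.SpecialLinearGroup.coe_mul, Matrix.SpecialLinearGroup.coe_mul,
    Cfsg.Agent.Helper27.SL2E.Um_coe, Cfsg.Agent.Helper27.SL2E.Um_coe, hD, Matrix.mul_fin_two,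
    Matrix.mul_fin_two]
  fin_cases i <;> fin_cases j <;> simp [h4]

/-- Two distinct conjugate subgroups of order `p` with commutators of order `p` on `V`, conjugate
under a normal `p'`-subgroup, generate `SL(2, p)` acting faithfully on a plane; `p ≤ 3`. -/
theorem sl2_of_conj_pair {G : Type*} [Group G] [Finite G] {p : ℕ} [Fact p.Prime]
    (V K H A : Subgroup G)
    (hVcomm : ∀ u ∈ V, ∀ v ∈ V, u * v = v * u) (hVpow : ∀ v ∈ V, v ^ p = 1)
    (hHV : H ≤ Subgroup.normalizer (V : Set G))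
    (hf : H ⊓ Subgroup.centralizer (V : Set G) = ⊥)
    (hKH : K ≤ H) (hKc : (Nat.card K).Coprime p) (hHK : H ≤ Subgroup.normalizer (K : Set G))
    (hAH : A ≤ H) (hAp : Nat.card A = p) (hVA : Nat.card ↥(⁅V, A⁆) = p)
    (x : G) (hx : x ∈ K) (hxA : x ∉ Subgroup.centralizer (A : Set G)) :
    (p = 2 ∨ p = 3) ∧
    Nat.card ↥(⁅V, A ⊔ A.map (MulAut.conj x).toMonoidHom⁆) = p ^ 2 ∧
    (A ⊔ A.map (MulAut.conj x).toMonoidHom) ⊓ Subgroup.centralizer
      ((⁅V, A ⊔ A.map (MulAut.conj x).toMonoidHom⁆ : Subgroup G) : Set G) = ⊥ ∧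
    Nonempty (↥(A ⊔ A.map (MulAut.conj x).toMonoidHom) ≃*
      Matrix.SpecialLinearGroup (Fin 2) (ZMod p)) := by
  classical
  have hp := (Fact.out : p.Prime)
  obtain ⟨B, hBdef⟩ : ∃ B : Subgroup G, B = A.map (MulAut.conj x).toMonoidHom := ⟨_, rfl⟩
  rw [← hBdef]
  obtain ⟨L, hLdef⟩ : ∃ L : Subgroup G, L = A ⊔ B := ⟨_, rfl⟩
  rw [← hLdef]
  obtain ⟨W, hWdef⟩ : ∃ W : Subgroup G, W = ⁅V, L⁆ := ⟨_, rfl⟩
  rw [← hWdef]
  obtain ⟨a, haA, ha1, haord, hAz⟩ := exists_gen_of_card_prime A hAp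
  have hap : a ^ p = 1 := by rw [← haord]; exact pow_orderOf_eq_one a
  have hxH : x ∈ H := hKH hx
  have haH : a ∈ H := hAH haA
  obtain ⟨b, hbdef⟩ : ∃ b : G, b = x * a * x⁻¹ := ⟨_, rfl⟩
  have hBz : B = Subgroup.zpowers b := by
    rw [hBdef, hAz, MonoidHom.map_zpowers, hbdef]; rfl
  have hbB : b ∈ B := by rw [hBz]; exact Subgroup.mem_zpowers b
  have hbH : b ∈ H := by rw [hbdef]; exact H.mul_mem (H.mul_mem hxH haH) (H.inv_mem hxH)
  have hBH : B ≤ H := by rw [hBz, Subgroup.zpowers_le]; exact hbH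
  have hbp : b ^ p = 1 := by rw [hbdef, conj_pow, hap]; group
  have hb1 : b ≠ 1 := by
    intro h; rw [hbdef] at h
    apply ha1
    have h' : a = x⁻¹ * (x * a * x⁻¹) * x := by group
    rw [h', h]; group
  have hBp : Nat.card B = p := by
    rw [hBdef, Subgroup.card_map_of_injective (MulAut.conj x).injective, hAp]
  have hLH : L ≤ H := by rw [hLdef]; exact sup_le hAH hBH
  have hAL : A ≤ L := by rw [hLdef]; exact le_sup_left
  have haL : a ∈ L := hAL haA
  have hbL : b ∈ L := by rw [hLdef]; exact (le_sup_right : B ≤ A ⊔ B) hbB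
  have hxa : x * a ≠ a * x := by
    intro h
    apply hxA
    rw [Subgroup.mem_centralizer_iff]
    intro y hy
    have hy' : y ∈ Subgroup.zpowers a := hAz ▸ hy
    obtain ⟨k, rfl⟩ := Subgroup.mem_zpowers_iff.mp hy'
    exact ((Commute.zpow_right (show Commute x a from h) k).eq).symm
  have hba : b ≠ a := by
    intro h; rw [hbdef] at h
    apply hxa
    calc x * a = (x * a * x⁻¹) * x := by group
      _ = a * x := by rw [h]
  have hLV : L ≤ Subgroup.normalizer (V : Set G) := hLH.trans hHV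
  have hWV : W ≤ V := by rw [hWdef]; exact comm_le_left V L hLV
  have hLW : L ≤ Subgroup.normalizer (W : Set G) := by
    intro g hg; rw [hWdef]; exact comm_normalizer V L g (hLV hg) (Subgroup.le_normalizer hg)
  have hcommW : ∀ g ∈ L, ∀ v ∈ V, g * v * g⁻¹ * v⁻¹ ∈ W := by
    intro g hg v hv
    have h1 := Subgroup.commutator_mem_commutator (H₁ := L) (H₂ := V) hg hv
    rw [Subgroup.commutator_comm, ← hWdef, commutatorElement_def] at h1
    exact h1
  have hCpow : ∀ g ∈ L ⊓ Subgroup.centralizer (W : Set G), g ^ p = 1 := by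
    intro g hg
    obtain ⟨hgL, hgC⟩ := Subgroup.mem_inf.mp hg
    rw [Subgroup.mem_centralizer_iff] at hgC
    refine chain_pow_one V W H hVcomm hVpow hWV hf g (hLH hgL) (fun w hw => ?_) (hcommW g hgL)
    rw [← hgC w hw]; group
  have hKp : ∀ k ∈ K, k ^ p = 1 → k = 1 := by
    intro k hk hkp
    have h4 : orderOf (⟨k, hk⟩ : ↥K) ∣ Nat.card K := orderOf_dvd_natCard _
    rw [Subgroup.orderOf_mk] at h4
    have h5 : orderOf k ∣ p := orderOf_dvd_of_pow_eq_one hkp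
    exact orderOf_eq_one_iff.mp (Nat.eq_one_of_dvd_coprimes hKc h4 h5)
  have hLAK : L ≤ A ⊔ K := by
    rw [hLdef]; refine sup_le le_sup_left ?_
    rw [hBz, Subgroup.zpowers_le, hbdef]
    exact Subgroup.mul_mem _ (Subgroup.mul_mem _ ((le_sup_right : K ≤ A ⊔ K) hx)
      ((le_sup_left : A ≤ A ⊔ K) haA)) (Subgroup.inv_mem _ ((le_sup_right : K ≤ A ⊔ K) hx))
  have hAK : A ≤ Subgroup.normalizer (K : Set G) := hAH.trans hHK
  have hk0 : b * a⁻¹ ∈ K := by
    rw [hbdef]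
    have h1 : a * x⁻¹ * a⁻¹ ∈ K :=
      (Subgroup.mem_normalizer_iff.mp (hAK haA) x⁻¹).mp (K.inv_mem hx)
    have h2 : x * a * x⁻¹ * a⁻¹ = x * (a * x⁻¹ * a⁻¹) := by group
    rw [h2]; exact K.mul_mem hx h1
  -- the kernel of the action on `W` is trivial
  have hC : L ⊓ Subgroup.centralizer (W : Set G) = ⊥ := by
    obtain ⟨C, hCdef⟩ : ∃ C : Subgroup G, C = L ⊓ Subgroup.centralizer (W : Set G) := ⟨_, rfl⟩
    rw [← hCdef] at hCpow ⊢
    have hCL : C ≤ L := by rw [hCdef]; exact inf_le_left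
    have hCp : IsPGroup p C := isPGroup_of_pow_p C hCpow
    have hApg : IsPGroup p A := IsPGroup.of_card (n := 1) (by rw [hAp, pow_one])
    have hLC : L ≤ Subgroup.normalizer (C : Set G) := by
      intro g hg
      refine mem_normalizer_of_conj' (fun c hc => ?_)
      rw [hCdef] at hc ⊢
      obtain ⟨hcL, hcC⟩ := Subgroup.mem_inf.mp hc
      refine Subgroup.mem_inf.mpr ⟨L.mul_mem (L.mul_mem hg hcL) (L.inv_mem hg), ?_⟩
      rw [Subgroup.mem_centralizer_iff] at hcC ⊢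
      intro w hw
      have hw' : g⁻¹ * w * g ∈ W := by
        have := (Subgroup.mem_normalizer_iff.mp (hLW (L.inv_mem hg)) w).mp hw
        simpa using this
      have h1 := hcC _ hw'
      calc w * (g * c * g⁻¹) = g * ((g⁻¹ * w * g) * c) * g⁻¹ := by group
        _ = g * (c * (g⁻¹ * w * g)) * g⁻¹ := by rw [h1]
        _ = g * c * g⁻¹ * w := by group
    have hCA : C ≤ A := by
      have hAC : IsPGroup p ↥(A ⊔ C) := IsPGroup.to_sup_of_normal_right' hApg hCp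
        (fun y hy => hLC (hAL hy))
      intro c hc
      obtain ⟨a', ha', k, hk, hck⟩ := mem_sup_of_le_normalizer A K hAK c (hLAK (hCL hc))
      have hk2 : k ∈ A ⊔ C := by
        have h' : k = c * a'⁻¹ := by rw [hck]; group
        rw [h']
        exact Subgroup.mul_mem _ ((le_sup_right : C ≤ A ⊔ C) hc)
          (Subgroup.inv_mem _ ((le_sup_left : A ≤ A ⊔ C) ha'))
      obtain ⟨n, hn⟩ := hAC ⟨k, hk2⟩
      have hn' : k ^ p ^ n = 1 := congrArg Subtype.val hn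
      have hk1 : k = 1 := by
        have h4 : orderOf (⟨k, hk⟩ : ↥K) ∣ Nat.card K := orderOf_dvd_natCard _
        rw [Subgroup.orderOf_mk] at h4
        have h5 : orderOf k ∣ p ^ n := orderOf_dvd_of_pow_eq_one hn'
        exact orderOf_eq_one_iff.mp
          (Nat.eq_one_of_dvd_coprimes (Nat.Coprime.pow_right n hKc) h4 h5)
      rw [hck, hk1, one_mul]; exact ha'
    by_contra hCne
    have hCA' : C = A := by
      have hdvd : Nat.card C ∣ p := hAp ▸ Subgroup.card_dvd_of_le hCA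
      rcases (Nat.dvd_prime hp).mp hdvd with h | h
      · exact absurd (Subgroup.card_eq_one.mp h) hCne
      · exact Subgroup.eq_of_le_of_card_ge hCA (by rw [h, hAp])
    have haC : a ∈ C := hCA' ▸ haA
    have hk0L : b * a⁻¹ ∈ L := L.mul_mem hbL (L.inv_mem haL)
    have hcomm0C : a * (b * a⁻¹) * a⁻¹ * (b * a⁻¹)⁻¹ ∈ C := by
      have h1 : (b * a⁻¹) * a⁻¹ * (b * a⁻¹)⁻¹ ∈ C :=
        (Subgroup.mem_normalizer_iff.mp (hLC hk0L) a⁻¹).mp (C.inv_mem haC)
      have h2 : a * (b * a⁻¹) * a⁻¹ * (b * a⁻¹)⁻¹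
          = a * ((b * a⁻¹) * a⁻¹ * (b * a⁻¹)⁻¹) := by group
      rw [h2]; exact C.mul_mem haC h1
    have hcomm0K : a * (b * a⁻¹) * a⁻¹ * (b * a⁻¹)⁻¹ ∈ K := by
      have h1 : a * (b * a⁻¹) * a⁻¹ ∈ K := (Subgroup.mem_normalizer_iff.mp (hAK haA) _).mp hk0
      exact K.mul_mem h1 (K.inv_mem hk0)
    have hcomm1 : a * (b * a⁻¹) * a⁻¹ * (b * a⁻¹)⁻¹ = 1 := hKp _ hcomm0K (hCpow _ hcomm0C)
    have hab : a * b = b * a := by
      have h1 : a * (b * a⁻¹) = (b * a⁻¹) * a := by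
        calc a * (b * a⁻¹) = (a * (b * a⁻¹) * a⁻¹ * (b * a⁻¹)⁻¹) * ((b * a⁻¹) * a) := by group
          _ = (b * a⁻¹) * a := by rw [hcomm1, one_mul]
      calc a * b = a * (b * a⁻¹) * a := by group
        _ = (b * a⁻¹) * a * a := by rw [h1]
        _ = b * a := by group
    have hk0p : (b * a⁻¹) ^ p = 1 := by
      have hc : Commute b a⁻¹ := Commute.inv_right (show Commute b a from hab.symm)
      rw [hc.mul_pow, hbp, inv_pow, hap]; simp
    have h0 := hKp _ hk0 hk0p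
    exact hba (by rw [mul_inv_eq_one] at h0; exact h0)
  -- the order of `W`
  have hAVn : A ≤ Subgroup.normalizer (V : Set G) := hAH.trans hHV
  have hBVn : B ≤ Subgroup.normalizer (V : Set G) := hBH.trans hHV
  have hVB : ⁅V, B⁆ = (⁅V, A⁆).map (MulAut.conj x).toMonoidHom := by
    rw [Subgroup.map_commutator, ← hBdef, map_conj_eq_self V x (hHV hxH)]
  have hVBc : Nat.card ↥(⁅V, B⁆) = p := by
    rw [hVB, Subgroup.card_map_of_injective (MulAut.conj x).injective, hVA]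
  have hWU : W ≤ ⁅V, A⁆ ⊔ ⁅V, B⁆ := by
    rw [hWdef, hLdef]; exact commutator_sup_le V A B hVcomm hAVn hBVn
  have hVAW : ⁅V, A⁆ ≤ W := by
    rw [hWdef, hLdef]; exact Subgroup.commutator_mono le_rfl le_sup_left
  have hVBW : ⁅V, B⁆ ≤ W := by
    rw [hWdef, hLdef]; exact Subgroup.commutator_mono le_rfl le_sup_right
  have hVAV : ⁅V, A⁆ ≤ V := comm_le_left V A hAVn
  have hVBV : ⁅V, B⁆ ≤ V := comm_le_left V B hBVn
  have hUcard : Nat.card ↥(⁅V, A⁆ ⊔ ⁅V, B⁆) ≤ p * p := by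
    have h := card_sup_le_of_le_normalizer ⁅V, A⁆ ⁅V, B⁆ (fun y hy => by
      refine mem_normalizer_of_conj' (fun z hz => ?_)
      have h' : y * z * y⁻¹ = z := by rw [hVcomm y (hVAV hy) z (hVBV hz)]; group
      rw [h']; exact hz)
    rwa [hVA, hVBc] at h
  have hVp : IsPGroup p V := isPGroup_of_pow_p V hVpow
  have hWp : IsPGroup p W := hVp.to_le hWV
  obtain ⟨k, hk⟩ := IsPGroup.iff_card.mp hWp
  have hW2 : Nat.card W = p ^ 2 := by
    have hle : Nat.card W ≤ p * p := (Subgroup.card_le_of_le hWU).trans hUcard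
    have hge : p ≤ Nat.card W := by rw [← hVA]; exact Subgroup.card_le_of_le hVAW
    rcases Nat.lt_or_ge k 2 with hk2 | hk2
    · exfalso
      have hk1 : Nat.card W = p := by
        interval_cases k
        · rw [pow_zero] at hk; have := hp.one_lt; omega
        · rw [pow_one] at hk; exact hk
      have hcent := cent_of_card_prime W hk1 a
        (fun w hw => (Subgroup.mem_normalizer_iff.mp (hLW haL) w).mp hw) hap
      have haC : a ∈ L ⊓ Subgroup.centralizer (W : Set G) := by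
        refine Subgroup.mem_inf.mpr ⟨haL, ?_⟩
        rw [Subgroup.mem_centralizer_iff]
        intro w hw
        have h' := hcent w hw
        calc w * a = (a * w * a⁻¹) * a := by rw [h']
          _ = a * w := by group
      rw [hC] at haC
      exact ha1 (Subgroup.mem_bot.mp haC)
    · rcases Nat.eq_or_lt_of_le hk2 with h | h
      · rw [hk, ← h]
      · exfalso
        have h3 : p ^ 3 ≤ p ^ k := Nat.pow_le_pow_right hp.pos h
        have h4 : p ^ 3 = p * p * p := by ring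
        have h5 : p * p * p ≤ p * p * 1 := by omega
        have h6 := Nat.le_of_mul_le_mul_left h5 (Nat.mul_pos hp.pos hp.pos)
        have := hp.one_lt
        omega
  have hinf : ⁅V, A⁆ ⊓ ⁅V, B⁆ = ⊥ := by
    by_contra hne
    have hdvd : Nat.card ↥(⁅V, A⁆ ⊓ ⁅V, B⁆) ∣ p := hVA ▸ Subgroup.card_dvd_of_le inf_le_left
    have hcard : Nat.card ↥(⁅V, A⁆ ⊓ ⁅V, B⁆) = p := by
      rcases (Nat.dvd_prime hp).mp hdvd with h | h
      · exact absurd (Subgroup.card_eq_one.mp h) hne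
      · exact h
    have e1 : ⁅V, A⁆ ⊓ ⁅V, B⁆ = ⁅V, A⁆ :=
      Subgroup.eq_of_le_of_card_ge inf_le_left (by rw [hcard, hVA])
    have e2 : ⁅V, A⁆ ⊓ ⁅V, B⁆ = ⁅V, B⁆ :=
      Subgroup.eq_of_le_of_card_ge inf_le_right (by rw [hcard, hVBc])
    have e3 : ⁅V, A⁆ ⊔ ⁅V, B⁆ = ⁅V, A⁆ := by rw [← e2, e1, sup_idem]
    have h7 : Nat.card W ≤ p := by
      rw [← hVA]; exact Subgroup.card_le_of_le (hWU.trans (le_of_eq e3))
    rw [hW2, sq] at h7
    have := hp.one_lt
    nlinarith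
  have haVA : ∀ w ∈ ⁅V, A⁆, a * w * a⁻¹ = w := by
    refine cent_of_card_prime _ hVA a (fun w hw => ?_) hap
    exact (Subgroup.mem_normalizer_iff.mp
      (comm_normalizer V A a (hAVn haA) (Subgroup.le_normalizer haA)) w).mp hw
  have hbVB : ∀ w ∈ ⁅V, B⁆, b * w * b⁻¹ = w := by
    refine cent_of_card_prime _ hVBc b (fun w hw => ?_) hbp
    exact (Subgroup.mem_normalizer_iff.mp
      (comm_normalizer V B b (hBVn hbB) (Subgroup.le_normalizer hbB)) w).mp hw
  obtain ⟨e₂, he₂B, he₂1, he₂ord, hVBz⟩ := exists_gen_of_card_prime ⁅V, B⁆ hVBc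
  obtain ⟨e₁, he₁def⟩ : ∃ e₁ : G, e₁ = a * e₂ * a⁻¹ * e₂⁻¹ := ⟨_, rfl⟩
  have he₁A : e₁ ∈ ⁅V, A⁆ := by
    have h1 := Subgroup.commutator_mem_commutator (H₁ := A) (H₂ := V) haA (hVBV he₂B)
    rw [Subgroup.commutator_comm, commutatorElement_def] at h1
    rw [he₁def]; exact h1
  have hnotC : ∀ g ∈ L, g ≠ 1 → ¬ ((∀ w ∈ ⁅V, A⁆, g * w * g⁻¹ = w) ∧
      (∀ w ∈ ⁅V, B⁆, g * w * g⁻¹ = w)) := by
    rintro g hgL hg1 ⟨h1, h2⟩
    have hgC : g ∈ L ⊓ Subgroup.centralizer (W : Set G) := by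
      refine Subgroup.mem_inf.mpr ⟨hgL, ?_⟩
      have h3 : ⁅V, A⁆ ⊔ ⁅V, B⁆ ≤ Subgroup.centralizer ({g} : Set G) := by
        refine sup_le (fun w hw => ?_) (fun w hw => ?_)
        · rw [Subgroup.mem_centralizer_singleton_iff]
          have h' := h1 w hw
          calc w * g = (g * w * g⁻¹) * g := by rw [h']
            _ = g * w := by group
        · rw [Subgroup.mem_centralizer_singleton_iff]
          have h' := h2 w hw
          calc w * g = (g * w * g⁻¹) * g := by rw [h']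
            _ = g * w := by group
      rw [Subgroup.mem_centralizer_iff]
      intro w hw
      exact Subgroup.mem_centralizer_singleton_iff.mp (h3 (hWU hw))
    rw [hC] at hgC
    exact hg1 (Subgroup.mem_bot.mp hgC)
  have he₁1 : e₁ ≠ 1 := by
    intro h
    apply hnotC a haL ha1
    refine ⟨haVA, fun w hw => ?_⟩
    have hae : a * e₂ * a⁻¹ = e₂ := by
      rw [he₁def] at h
      exact mul_inv_eq_one.mp h
    have hw' : w ∈ Subgroup.zpowers e₂ := hVBz ▸ hw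
    obtain ⟨n, rfl⟩ := Subgroup.mem_zpowers_iff.mp hw'
    rw [← conj_zpow, hae]
  obtain ⟨hVAz, he₁ord⟩ := zpowers_eq_of_card_prime ⁅V, A⁆ hVA e₁ he₁A he₁1
  obtain ⟨f, hfdef⟩ : ∃ f : G, f = b * e₁ * b⁻¹ * e₁⁻¹ := ⟨_, rfl⟩
  have hfB : f ∈ ⁅V, B⁆ := by
    have h1 := Subgroup.commutator_mem_commutator (H₁ := B) (H₂ := V) hbB (hVAV he₁A)
    rw [Subgroup.commutator_comm, commutatorElement_def] at h1
    rw [hfdef]; exact h1
  have hf1 : f ≠ 1 := by
    intro h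
    apply hnotC b hbL hb1
    refine ⟨fun w hw => ?_, hbVB⟩
    have hbe : b * e₁ * b⁻¹ = e₁ := by
      rw [hfdef] at h
      exact mul_inv_eq_one.mp h
    have hw' : w ∈ Subgroup.zpowers e₁ := hVAz ▸ hw
    obtain ⟨n, rfl⟩ := Subgroup.mem_zpowers_iff.mp hw'
    rw [← conj_zpow, hbe]
  obtain ⟨hVBzf, hford⟩ := zpowers_eq_of_card_prime ⁅V, B⁆ hVBc f hfB hf1
  obtain ⟨m, hm⟩ : ∃ m : ℕ, f ^ m = e₂ := by
    have h' : e₂ ∈ Subgroup.zpowers f := hVBzf ▸ he₂B
    rw [← mem_powers_iff_mem_zpowers] at h'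
    exact h'
  obtain ⟨b', hb'def⟩ : ∃ b' : G, b' = b ^ m := ⟨_, rfl⟩
  have hb'B : b' ∈ B := by rw [hb'def]; exact B.pow_mem hbB m
  have hb'e₂ : b' * e₂ * b'⁻¹ = e₂ := by
    have h1 : Commute b e₂ := by
      have h' := hbVB e₂ he₂B
      show b * e₂ = e₂ * b
      calc b * e₂ = (b * e₂ * b⁻¹) * b := by group
        _ = e₂ * b := by rw [h']
    have h2 : Commute b' e₂ := by rw [hb'def]; exact h1.pow_left m
    calc b' * e₂ * b'⁻¹ = (e₂ * b') * b'⁻¹ := by rw [h2.eq]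
      _ = e₂ := by group
  have hb'e₁ : b' * e₁ * b'⁻¹ = e₁ * e₂ := by
    have h1 := chain_conj_pow V ⁅V, B⁆ hVcomm hVBV b hbVB (fun v hv => by
      have h1 := Subgroup.commutator_mem_commutator (H₁ := B) (H₂ := V) hbB hv
      rw [Subgroup.commutator_comm, commutatorElement_def] at h1
      exact h1) m e₁ (hVAV he₁A)
    rw [← hfdef, hm] at h1
    rw [hb'def, h1]
    exact hVcomm _ (hVBV he₂B) _ (hVAV he₁A)
  have hae₁ : a * e₁ * a⁻¹ = e₁ := haVA e₁ he₁A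
  have hae₂ : a * e₂ * a⁻¹ = e₁ * e₂ := by rw [he₁def]; group
  have hb'1 : b' ≠ 1 := by
    intro h
    rw [h] at hb'e₁
    apply he₂1
    simpa using hb'e₁
  obtain ⟨hBz', -⟩ := zpowers_eq_of_card_prime B hBp b' hb'B hb'1
  have hLcl : L ≤ Subgroup.closure {a, b'} := by
    rw [hLdef]
    refine sup_le ?_ ?_
    · rw [hAz, Subgroup.zpowers_le]; exact Subgroup.subset_closure (by simp)
    · rw [hBz', Subgroup.zpowers_le]; exact Subgroup.subset_closure (by simp)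
  have hb'L : b' ∈ L := by rw [hLdef]; exact (le_sup_right : B ≤ A ⊔ B) hb'B
  have hzinf : Subgroup.zpowers e₁ ⊓ Subgroup.zpowers e₂ = ⊥ := by
    rw [← hVAz, ← hVBz]; exact hinf
  -- passage to the type `↥W`
  have hWcomm : ∀ u v : ↥W, u * v = v * u :=
    fun u v => Subtype.ext (hVcomm u (hWV u.2) v (hWV v.2))
  have hWexp : ∀ u : ↥W, u ^ p = 1 := fun u => Subtype.ext (hVpow u (hWV u.2))
  obtain ⟨φ, hφ⟩ : ∃ φ : ↥L →* MulAut ↥W, ∀ (g : ↥L) (w : ↥W),
      ((φ g w : ↥W) : G) = (g : G) * w * (g : G)⁻¹ :=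
    ⟨W.normalizerMonoidHom.comp (Subgroup.inclusion hLW), fun g w => rfl⟩
  have hφinj : Function.Injective φ := by
    rw [← MonoidHom.ker_eq_bot_iff, Subgroup.eq_bot_iff_forall]
    intro g hg
    rw [MonoidHom.mem_ker] at hg
    have hgC : (g : G) ∈ L ⊓ Subgroup.centralizer (W : Set G) := by
      refine Subgroup.mem_inf.mpr ⟨g.2, ?_⟩
      rw [Subgroup.mem_centralizer_iff]
      intro w hw
      have h2 := hφ g ⟨w, hw⟩
      rw [hg, MulAut.one_apply] at h2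
      have h3 : w = (g : G) * w * (g : G)⁻¹ := h2
      calc w * (g : G) = ((g : G) * w * (g : G)⁻¹) * g := by rw [← h3]
        _ = g * w := by group
    rw [hC] at hgC
    exact Subtype.ext (Subgroup.mem_bot.mp hgC)
  have hind : Subgroup.zpowers (⟨e₁, hVAW he₁A⟩ : ↥W) ⊓
      Subgroup.zpowers (⟨e₂, hVBW he₂B⟩ : ↥W) = ⊥ := by
    rw [Subgroup.eq_bot_iff_forall]
    intro z hz
    obtain ⟨hz1, hz2⟩ := Subgroup.mem_inf.mp hz
    obtain ⟨i, hi⟩ := Subgroup.mem_zpowers_iff.mp hz1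
    obtain ⟨j, hj⟩ := Subgroup.mem_zpowers_iff.mp hz2
    have h1 : (z : G) ∈ Subgroup.zpowers e₁ ⊓ Subgroup.zpowers e₂ := by
      refine Subgroup.mem_inf.mpr ⟨Subgroup.mem_zpowers_iff.mpr ⟨i, ?_⟩,
        Subgroup.mem_zpowers_iff.mpr ⟨j, ?_⟩⟩
      · rw [← hi]; simp
      · rw [← hj]; simp
    rw [hzinf] at h1
    exact Subtype.ext (Subgroup.mem_bot.mp h1)
  obtain ⟨ρ, hρinj, hρU, hρL⟩ := Cfsg.Agent.Helper27.SL2E.exists_rho (G := ↥W) hW2 hWexp hWcomm
    (φ ⟨a, haL⟩) (φ ⟨b', hb'L⟩) ⟨e₁, hVAW he₁A⟩ ⟨e₂, hVBW he₂B⟩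
    (Subtype.ext (by rw [hφ]; exact hae₁)) (Subtype.ext (by rw [hφ]; exact hae₂))
    (Subtype.ext (by rw [hφ]; exact hb'e₁)) (Subtype.ext (by rw [hφ]; exact hb'e₂))
    hind (fun h => he₁1 (congrArg Subtype.val h)) (fun h => he₂1 (congrArg Subtype.val h))
  have hrange : φ.range = ρ.range := by
    apply le_antisymm
    · rintro _ ⟨g, rfl⟩
      have h1 : Subgroup.closure {a, b'} ≤ (ρ.range.comap φ).map L.subtype := by
        rw [Subgroup.closure_le]
        intro y hy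
        rcases hy with hy | hy
        · exact ⟨⟨a, haL⟩, ⟨Cfsg.Agent.Helper27.SL2E.Um 1, hρU⟩, hy.symm⟩
        · rw [Set.mem_singleton_iff] at hy
          exact ⟨⟨b', hb'L⟩, ⟨Cfsg.Agent.Helper27.SL2E.Lm 1, hρL⟩, hy.symm⟩
      obtain ⟨t, ht, hte⟩ := h1 (hLcl g.2)
      have hteq : t = g := Subtype.ext hte
      rw [← hteq]; exact ht
    · rw [MonoidHom.range_eq_map ρ, ← Cfsg.Agent.Helper27.SL2E.closure_eq_top (p := p),
        MonoidHom.map_closure, Subgroup.closure_le]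
      rintro _ ⟨M, hM, rfl⟩
      rcases hM with hM | hM
      · rw [hM, hρU]; exact ⟨_, rfl⟩
      · rw [Set.mem_singleton_iff] at hM; rw [hM, hρL]; exact ⟨_, rfl⟩
  have hiso : Nonempty (↥L ≃* Matrix.SpecialLinearGroup (Fin 2) (ZMod p)) :=
    ⟨(MonoidHom.ofInjective hφinj).trans
      ((MulEquiv.subgroupCongr hrange).trans (MonoidHom.ofInjective hρinj).symm)⟩
  have hp23 : p = 2 ∨ p = 3 := by
    by_cases h2 : p = 2
    · exact Or.inl h2
    right
    obtain ⟨D, hD⟩ := exists_diag_conj (p := p) h2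
    have hDr : ρ D ∈ φ.range := by rw [hrange]; exact ⟨D, rfl⟩
    obtain ⟨g, hg⟩ := hDr
    have h3 : φ (g * ⟨a, haL⟩) = φ (⟨a, haL⟩ ^ 4 * g) := by
      rw [map_mul, map_mul, map_pow, hg, ← hρU, ← map_pow, ← map_mul, ← map_mul, hD]
    have h4 := hφinj h3
    have h5 : (g : G) * a = a ^ 4 * g := by
      have h' := congrArg Subtype.val h4
      simpa using h'
    obtain ⟨a', ha', k', hk', hgk⟩ := mem_sup_of_le_normalizer A K hAK g (hLAK g.2)
    have h6 : a ^ 3 ∈ K := by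
      have h7 : a ^ 3 = (g : G) * a * (g : G)⁻¹ * a⁻¹ := by
        rw [h5]; group
      have hca : a' * a = a * a' := by
        have ha'' : a' ∈ Subgroup.zpowers a := hAz ▸ ha'
        obtain ⟨n, rfl⟩ := Subgroup.mem_zpowers_iff.mp ha''
        exact (Commute.zpow_left (Commute.refl a) n).eq
      have h8 : (g : G) * a * (g : G)⁻¹ * a⁻¹ = k' * (a * k'⁻¹ * a⁻¹) := by
        rw [hgk]
        calc k' * a' * a * (k' * a')⁻¹ * a⁻¹ = k' * (a' * a) * a'⁻¹ * k'⁻¹ * a⁻¹ := by group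
          _ = k' * (a * a') * a'⁻¹ * k'⁻¹ * a⁻¹ := by rw [hca]
          _ = k' * (a * k'⁻¹ * a⁻¹) := by group
      rw [h7, h8]
      exact K.mul_mem hk' ((Subgroup.mem_normalizer_iff.mp (hAK haA) k'⁻¹).mp (K.inv_mem hk'))
    have h9 : a ^ 3 = 1 := hKp _ h6 (by rw [← pow_mul, mul_comm, pow_mul, hap, one_pow])
    have h10 : p ∣ 3 := by rw [← haord]; exact orderOf_dvd_of_pow_eq_one h9
    exact (Nat.prime_dvd_prime_iff_eq hp Nat.prime_three).mp h10
  exact ⟨hp23, hW2, hC, hiso⟩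

/-- The image of `O_{p'}(H)` in the ambient group: a normal `p'`-subgroup of `H`. -/
theorem ppc_explicit {G : Type*} [Group G] [Finite G] {p : ℕ} [Fact p.Prime] (H : Subgroup G) :
    (Cfsg.pPrimeCore p ↥H).map H.subtype ≤ H ∧
    (Nat.card ↥((Cfsg.pPrimeCore p ↥H).map H.subtype)).Coprime p ∧
    H ≤ Subgroup.normalizer (((Cfsg.pPrimeCore p ↥H).map H.subtype : Subgroup G) : Set G) := by
  obtain ⟨K, hKdef⟩ : ∃ K : Subgroup G, K = (Cfsg.pPrimeCore p ↥H).map H.subtype := ⟨_, rfl⟩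
  rw [← hKdef]
  have hKH : K ≤ H := by rw [hKdef]; exact Subgroup.map_subtype_le _
  have hKcard : (Nat.card K).Coprime p := by
    rw [hKdef, Subgroup.card_map_of_injective H.subtype_injective]
    exact Cfsg.Agent.Helper10.pPrimeCore_coprime p ↥H
  have hKn : (Cfsg.pPrimeCore p ↥H).Normal := Subgroup.sSup_normal _ (fun _ h => h.1)
  have hsub : K.subgroupOf H = Cfsg.pPrimeCore p ↥H := by
    rw [hKdef]; exact Subgroup.comap_map_eq_self_of_injective H.subtype_injective _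
  have hHK : H ≤ Subgroup.normalizer (K : Set G) := by
    rw [← Subgroup.normal_subgroupOf_iff_le_normalizer hKH, hsub]; exact hKn
  exact ⟨hKH, hKcard, hHK⟩

end Cfsg.Agent.Helper21
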