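import Mathlib
import Cfsg.Agent.Helper21.SL2Gen
import Cfsg.Agent.S4303
import Cfsg.Agent.S2430

set_option autoImplicit false
set_option linter.style.haveILetI false

namespace Cfsg.Agent.Helper21

theorem sl2_three_noncomm_aux :
    (@Cfsg.Agent.Helper27.SL2E.Lm 3 ⟨Nat.prime_three⟩ 1 *
        @Cfsg.Agent.Helper27.SL2E.Um 3 ⟨Nat.prime_three⟩ 1 *
        (@Cfsg.Agent.Helper27.SL2E.Lm 3 ⟨Nat.prime_three⟩ 1)⁻¹ *
        (@Cfsg.Agent.Helper27.SL2E.Um 3 ⟨Nat.prime_three⟩ 1)⁻¹) *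
      ((@Cfsg.Agent.Helper27.SL2E.Lm 3 ⟨Nat.prime_three⟩ 1)⁻¹ *
        @Cfsg.Agent.Helper27.SL2E.Um 3 ⟨Nat.prime_three⟩ 1 *
        (@Cfsg.Agent.Helper27.SL2E.Lm 3 ⟨Nat.prime_three⟩ 1) *
        (@Cfsg.Agent.Helper27.SL2E.Um 3 ⟨Nat.prime_three⟩ 1)⁻¹)
    ≠ ((@Cfsg.Agent.Helper27.SL2E.Lm 3 ⟨Nat.prime_three⟩ 1)⁻¹ *
        @Cfsg.Agent.Helper27.SL2E.Um 3 ⟨Nat.prime_three⟩ 1 *
        (@Cfsg.Agent.Helper27.SL2E.Lm 3 ⟨Nat.prime_three⟩ 1) *
        (@Cfsg.Agent.Helper27.SL2E.Um 3 ⟨Nat.prime_three⟩ 1)⁻¹) *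
      (@Cfsg.Agent.Helper27.SL2E.Lm 3 ⟨Nat.prime_three⟩ 1 *
        @Cfsg.Agent.Helper27.SL2E.Um 3 ⟨Nat.prime_three⟩ 1 *
        (@Cfsg.Agent.Helper27.SL2E.Lm 3 ⟨Nat.prime_three⟩ 1)⁻¹ *
        (@Cfsg.Agent.Helper27.SL2E.Um 3 ⟨Nat.prime_three⟩ 1)⁻¹) := by
  decide

/-- In `SL(2, 3)` the commutators `[l, u]` and `[l⁻¹, u]` do not commute. -/
theorem sl2_three_noncomm (hf : Fact (Nat.Prime 3)) :
    (@Cfsg.Agent.Helper27.SL2E.Lm 3 hf 1 * @Cfsg.Agent.Helper27.SL2E.Um 3 hf 1 *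
        (@Cfsg.Agent.Helper27.SL2E.Lm 3 hf 1)⁻¹ * (@Cfsg.Agent.Helper27.SL2E.Um 3 hf 1)⁻¹) *
      ((@Cfsg.Agent.Helper27.SL2E.Lm 3 hf 1)⁻¹ * @Cfsg.Agent.Helper27.SL2E.Um 3 hf 1 *
        (@Cfsg.Agent.Helper27.SL2E.Lm 3 hf 1) * (@Cfsg.Agent.Helper27.SL2E.Um 3 hf 1)⁻¹)
    ≠ ((@Cfsg.Agent.Helper27.SL2E.Lm 3 hf 1)⁻¹ * @Cfsg.Agent.Helper27.SL2E.Um 3 hf 1 *
        (@Cfsg.Agent.Helper27.SL2E.Lm 3 hf 1) * (@Cfsg.Agent.Helper27.SL2E.Um 3 hf 1)⁻¹) *
      (@Cfsg.Agent.Helper27.SL2E.Lm 3 hf 1 * @Cfsg.Agent.Helper27.SL2E.Um 3 hf 1 *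
        (@Cfsg.Agent.Helper27.SL2E.Lm 3 hf 1)⁻¹ * (@Cfsg.Agent.Helper27.SL2E.Um 3 hf 1)⁻¹) :=
  sl2_three_noncomm_aux

/-- Two distinct conjugate subgroups of order `p` with commutators of order `p` on `V`, conjugate
under a normal `p'`-subgroup, generate `SL(2, p)` acting faithfully on a plane; `p ≤ 3`. -/
theorem sl2_of_conj_pair_strong {G : Type*} [Group G] [Finite G] {p : ℕ} [Fact p.Prime]
    (V K H A : Subgroup G)
    (hVcomm : ∀ u ∈ V, ∀ v ∈ V, u * v = v * u) (hVpow : ∀ v ∈ V, v ^ p = 1)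
    (hHV : H ≤ Subgroup.normalizer (V : Set G))
    (hf : H ⊓ Subgroup.centralizer (V : Set G) = ⊥)
    (hKH : K ≤ H) (hKc : (Nat.card K).Coprime p) (hHK : H ≤ Subgroup.normalizer (K : Set G))
    (hAH : A ≤ H) (hAp : Nat.card A = p) (hVA : Nat.card ↥(⁅V, A⁆) = p)
    (x : G) (hx : x ∈ K) (hxA : x ∉ Subgroup.centralizer (A : Set G)) :
    (p = 2 ∨ p = 3) ∧
    Nat.card ↥(⁅V, A ⊔ A.map (MulAut.conj x).toMonoidHom⁆) = p ^ 2 ∧
    (A ⊔ A.map (MulAut.conj x).toMonoidHom) ⊓ Subgroup.centralizer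
      ((⁅V, A ⊔ A.map (MulAut.conj x).toMonoidHom⁆ : Subgroup G) : Set G) = ⊥ ∧
    ∃ a b' : G, a ∈ A ∧ orderOf a = p ∧ A = Subgroup.zpowers a ∧
      b' ∈ A.map (MulAut.conj x).toMonoidHom ∧
      ∃ e₁ e₂ : G, e₁ ∈ ⁅V, A⁆ ∧ e₁ ≠ 1 ∧ e₂ ∈ ⁅V, A.map (MulAut.conj x).toMonoidHom⁆ ∧ e₂ ≠ 1 ∧
        a * e₁ * a⁻¹ = e₁ ∧ a * e₂ * a⁻¹ = e₁ * e₂ ∧ b' * e₁ * b'⁻¹ = e₁ * e₂ ∧
        b' * e₂ * b'⁻¹ = e₂ ∧
        ∃ e : ↥(A ⊔ A.map (MulAut.conj x).toMonoidHom) ≃*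
            Matrix.SpecialLinearGroup (Fin 2) (ZMod p),
          (∀ h : a ∈ A ⊔ A.map (MulAut.conj x).toMonoidHom,
            e ⟨a, h⟩ = Cfsg.Agent.Helper27.SL2E.Um 1) ∧
          (∀ h : b' ∈ A ⊔ A.map (MulAut.conj x).toMonoidHom,
            e ⟨b', h⟩ = Cfsg.Agent.Helper27.SL2E.Lm 1) := by
  classical
  have hp := (Fact.out : p.Prime)
  obtain ⟨B, hBdef⟩ : ∃ B : Subgroup G, B = A.map (MulAut.conj x).toMonoidHom := ⟨_, rfl⟩
  rw [← hBdef]
  obtain ⟨L, hLdef⟩ : ∃ L : Subgroup G, L = A ⊔ B := ⟨_, rfl⟩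
  rw [← hLdef]
  obtain ⟨W, hWdef⟩ : ∃ W : Subgroup G, W = ⁅V, L⁆ := ⟨_, rfl⟩
  rw [← hWdef]
  obtain ⟨a, haA, ha1, haord, hAz⟩ := exists_gen_of_card_prime A hAp
  have hap : a ^ p = 1 := by rw [← haord]; exact pow_orderOf_eq_one a
  have hxH : x ∈ H := hKH hx
  have haH : a ∈ H := hAH haA
  obtain ⟨b, hbdef⟩ : ∃ b : G, b = x * a * x⁻¹ := ⟨_, rfl⟩
  have hBz : B = Subgroup.zpowers b := by
    rw [hBdef, hAz, MonoidHom.map_zpowers, hbdef]; rfl
  have hbB : b ∈ B := by rw [hBz]; exact Subgroup.mem_zpowers b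
  have hbH : b ∈ H := by rw [hbdef]; exact H.mul_mem (H.mul_mem hxH haH) (H.inv_mem hxH)
  have hBH : B ≤ H := by rw [hBz, Subgroup.zpowers_le]; exact hbH
  have hbp : b ^ p = 1 := by rw [hbdef, conj_pow, hap]; group
  have hb1 : b ≠ 1 := by
    intro h; rw [hbdef] at h
    apply ha1
    have h' : a = x⁻¹ * (x * a * x⁻¹) * x := by group
    rw [h', h]; group
  have hBp : Nat.card B = p := by
    rw [hBdef, Subgroup.card_map_of_injective (MulAut.conj x).injective, hAp]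
  have hLH : L ≤ H := by rw [hLdef]; exact sup_le hAH hBH
  have hAL : A ≤ L := by rw [hLdef]; exact le_sup_left
  have haL : a ∈ L := hAL haA
  have hbL : b ∈ L := by rw [hLdef]; exact (le_sup_right : B ≤ A ⊔ B) hbB
  have hxa : x * a ≠ a * x := by
    intro h
    apply hxA
    rw [Subgroup.mem_centralizer_iff]
    intro y hy
    have hy' : y ∈ Subgroup.zpowers a := hAz ▸ hy
    obtain ⟨k, rfl⟩ := Subgroup.mem_zpowers_iff.mp hy'
    exact ((Commute.zpow_right (show Commute x a from h) k).eq).symm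
  have hba : b ≠ a := by
    intro h; rw [hbdef] at h
    apply hxa
    calc x * a = (x * a * x⁻¹) * x := by group
      _ = a * x := by rw [h]
  have hLV : L ≤ Subgroup.normalizer (V : Set G) := hLH.trans hHV
  have hWV : W ≤ V := by rw [hWdef]; exact comm_le_left V L hLV
  have hLW : L ≤ Subgroup.normalizer (W : Set G) := by
    intro g hg; rw [hWdef]; exact comm_normalizer V L g (hLV hg) (Subgroup.le_normalizer hg)
  have hcommW : ∀ g ∈ L, ∀ v ∈ V, g * v * g⁻¹ * v⁻¹ ∈ W := by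
    intro g hg v hv
    have h1 := Subgroup.commutator_mem_commutator (H₁ := L) (H₂ := V) hg hv
    rw [Subgroup.commutator_comm, ← hWdef, commutatorElement_def] at h1
    exact h1
  have hCpow : ∀ g ∈ L ⊓ Subgroup.centralizer (W : Set G), g ^ p = 1 := by
    intro g hg
    obtain ⟨hgL, hgC⟩ := Subgroup.mem_inf.mp hg
    rw [Subgroup.mem_centralizer_iff] at hgC
    refine chain_pow_one V W H hVcomm hVpow hWV hf g (hLH hgL) (fun w hw => ?_) (hcommW g hgL)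
    rw [← hgC w hw]; group
  have hKp : ∀ k ∈ K, k ^ p = 1 → k = 1 := by
    intro k hk hkp
    have h4 : orderOf (⟨k, hk⟩ : ↥K) ∣ Nat.card K := orderOf_dvd_natCard _
    rw [Subgroup.orderOf_mk] at h4
    have h5 : orderOf k ∣ p := orderOf_dvd_of_pow_eq_one hkp
    exact orderOf_eq_one_iff.mp (Nat.eq_one_of_dvd_coprimes hKc h4 h5)
  have hLAK : L ≤ A ⊔ K := by
    rw [hLdef]; refine sup_le le_sup_left ?_
    rw [hBz, Subgroup.zpowers_le, hbdef]
    exact Subgroup.mul_mem _ (Subgroup.mul_mem _ ((le_sup_right : K ≤ A ⊔ K) hx)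
      ((le_sup_left : A ≤ A ⊔ K) haA)) (Subgroup.inv_mem _ ((le_sup_right : K ≤ A ⊔ K) hx))
  have hAK : A ≤ Subgroup.normalizer (K : Set G) := hAH.trans hHK
  have hk0 : b * a⁻¹ ∈ K := by
    rw [hbdef]
    have h1 : a * x⁻¹ * a⁻¹ ∈ K :=
      (Subgroup.mem_normalizer_iff.mp (hAK haA) x⁻¹).mp (K.inv_mem hx)
    have h2 : x * a * x⁻¹ * a⁻¹ = x * (a * x⁻¹ * a⁻¹) := by group
    rw [h2]; exact K.mul_mem hx h1
  -- the kernel of the action on `W` is trivial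
  have hC : L ⊓ Subgroup.centralizer (W : Set G) = ⊥ := by
    obtain ⟨C, hCdef⟩ : ∃ C : Subgroup G, C = L ⊓ Subgroup.centralizer (W : Set G) := ⟨_, rfl⟩
    rw [← hCdef] at hCpow ⊢
    have hCL : C ≤ L := by rw [hCdef]; exact inf_le_left
    have hCp : IsPGroup p C := isPGroup_of_pow_p C hCpow
    have hApg : IsPGroup p A := IsPGroup.of_card (n := 1) (by rw [hAp, pow_one])
    have hLC : L ≤ Subgroup.normalizer (C : Set G) := by
      intro g hg
      refine mem_normalizer_of_conj' (fun c hc => ?_)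
      rw [hCdef] at hc ⊢
      obtain ⟨hcL, hcC⟩ := Subgroup.mem_inf.mp hc
      refine Subgroup.mem_inf.mpr ⟨L.mul_mem (L.mul_mem hg hcL) (L.inv_mem hg), ?_⟩
      rw [Subgroup.mem_centralizer_iff] at hcC ⊢
      intro w hw
      have hw' : g⁻¹ * w * g ∈ W := by
        have := (Subgroup.mem_normalizer_iff.mp (hLW (L.inv_mem hg)) w).mp hw
        simpa using this
      have h1 := hcC _ hw'
      calc w * (g * c * g⁻¹) = g * ((g⁻¹ * w * g) * c) * g⁻¹ := by group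
        _ = g * (c * (g⁻¹ * w * g)) * g⁻¹ := by rw [h1]
        _ = g * c * g⁻¹ * w := by group
    have hCA : C ≤ A := by
      have hAC : IsPGroup p ↥(A ⊔ C) := IsPGroup.to_sup_of_normal_right' hApg hCp
        (fun y hy => hLC (hAL hy))
      intro c hc
      obtain ⟨a', ha', k, hk, hck⟩ := mem_sup_of_le_normalizer A K hAK c (hLAK (hCL hc))
      have hk2 : k ∈ A ⊔ C := by
        have h' : k = c * a'⁻¹ := by rw [hck]; group
        rw [h']
        exact Subgroup.mul_mem _ ((le_sup_right : C ≤ A ⊔ C) hc)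
          (Subgroup.inv_mem _ ((le_sup_left : A ≤ A ⊔ C) ha'))
      obtain ⟨n, hn⟩ := hAC ⟨k, hk2⟩
      have hn' : k ^ p ^ n = 1 := congrArg Subtype.val hn
      have hk1 : k = 1 := by
        have h4 : orderOf (⟨k, hk⟩ : ↥K) ∣ Nat.card K := orderOf_dvd_natCard _
        rw [Subgroup.orderOf_mk] at h4
        have h5 : orderOf k ∣ p ^ n := orderOf_dvd_of_pow_eq_one hn'
        exact orderOf_eq_one_iff.mp
          (Nat.eq_one_of_dvd_coprimes (Nat.Coprime.pow_right n hKc) h4 h5)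
      rw [hck, hk1, one_mul]; exact ha'
    by_contra hCne
    have hCA' : C = A := by
      have hdvd : Nat.card C ∣ p := hAp ▸ Subgroup.card_dvd_of_le hCA
      rcases (Nat.dvd_prime hp).mp hdvd with h | h
      · exact absurd (Subgroup.card_eq_one.mp h) hCne
      · exact Subgroup.eq_of_le_of_card_ge hCA (by rw [h, hAp])
    have haC : a ∈ C := hCA' ▸ haA
    have hk0L : b * a⁻¹ ∈ L := L.mul_mem hbL (L.inv_mem haL)
    have hcomm0C : a * (b * a⁻¹) * a⁻¹ * (b * a⁻¹)⁻¹ ∈ C := by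
      have h1 : (b * a⁻¹) * a⁻¹ * (b * a⁻¹)⁻¹ ∈ C :=
        (Subgroup.mem_normalizer_iff.mp (hLC hk0L) a⁻¹).mp (C.inv_mem haC)
      have h2 : a * (b * a⁻¹) * a⁻¹ * (b * a⁻¹)⁻¹
          = a * ((b * a⁻¹) * a⁻¹ * (b * a⁻¹)⁻¹) := by group
      rw [h2]; exact C.mul_mem haC h1
    have hcomm0K : a * (b * a⁻¹) * a⁻¹ * (b * a⁻¹)⁻¹ ∈ K := by
      have h1 : a * (b * a⁻¹) * a⁻¹ ∈ K := (Subgroup.mem_normalizer_iff.mp (hAK haA) _).mp hk0
      exact K.mul_mem h1 (K.inv_mem hk0)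
    have hcomm1 : a * (b * a⁻¹) * a⁻¹ * (b * a⁻¹)⁻¹ = 1 := hKp _ hcomm0K (hCpow _ hcomm0C)
    have hab : a * b = b * a := by
      have h1 : a * (b * a⁻¹) = (b * a⁻¹) * a := by
        calc a * (b * a⁻¹) = (a * (b * a⁻¹) * a⁻¹ * (b * a⁻¹)⁻¹) * ((b * a⁻¹) * a) := by group
          _ = (b * a⁻¹) * a := by rw [hcomm1, one_mul]
      calc a * b = a * (b * a⁻¹) * a := by group
        _ = (b * a⁻¹) * a * a := by rw [h1]
        _ = b * a := by group
    have hk0p : (b * a⁻¹) ^ p = 1 := by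
      have hc : Commute b a⁻¹ := Commute.inv_right (show Commute b a from hab.symm)
      rw [hc.mul_pow, hbp, inv_pow, hap]; simp
    have h0 := hKp _ hk0 hk0p
    exact hba (by rw [mul_inv_eq_one] at h0; exact h0)
  -- the order of `W`
  have hAVn : A ≤ Subgroup.normalizer (V : Set G) := hAH.trans hHV
  have hBVn : B ≤ Subgroup.normalizer (V : Set G) := hBH.trans hHV
  have hVB : ⁅V, B⁆ = (⁅V, A⁆).map (MulAut.conj x).toMonoidHom := by
    rw [Subgroup.map_commutator, ← hBdef, map_conj_eq_self V x (hHV hxH)]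
  have hVBc : Nat.card ↥(⁅V, B⁆) = p := by
    rw [hVB, Subgroup.card_map_of_injective (MulAut.conj x).injective, hVA]
  have hWU : W ≤ ⁅V, A⁆ ⊔ ⁅V, B⁆ := by
    rw [hWdef, hLdef]; exact commutator_sup_le V A B hVcomm hAVn hBVn
  have hVAW : ⁅V, A⁆ ≤ W := by
    rw [hWdef, hLdef]; exact Subgroup.commutator_mono le_rfl le_sup_left
  have hVBW : ⁅V, B⁆ ≤ W := by
    rw [hWdef, hLdef]; exact Subgroup.commutator_mono le_rfl le_sup_right
  have hVAV : ⁅V, A⁆ ≤ V := comm_le_left V A hAVn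
  have hVBV : ⁅V, B⁆ ≤ V := comm_le_left V B hBVn
  have hUcard : Nat.card ↥(⁅V, A⁆ ⊔ ⁅V, B⁆) ≤ p * p := by
    have h := card_sup_le_of_le_normalizer ⁅V, A⁆ ⁅V, B⁆ (fun y hy => by
      refine mem_normalizer_of_conj' (fun z hz => ?_)
      have h' : y * z * y⁻¹ = z := by rw [hVcomm y (hVAV hy) z (hVBV hz)]; group
      rw [h']; exact hz)
    rwa [hVA, hVBc] at h
  have hVp : IsPGroup p V := isPGroup_of_pow_p V hVpow
  have hWp : IsPGroup p W := hVp.to_le hWV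
  obtain ⟨k, hk⟩ := IsPGroup.iff_card.mp hWp
  have hW2 : Nat.card W = p ^ 2 := by
    have hle : Nat.card W ≤ p * p := (Subgroup.card_le_of_le hWU).trans hUcard
    have hge : p ≤ Nat.card W := by rw [← hVA]; exact Subgroup.card_le_of_le hVAW
    rcases Nat.lt_or_ge k 2 with hk2 | hk2
    · exfalso
      have hk1 : Nat.card W = p := by
        interval_cases k
        · rw [pow_zero] at hk; have := hp.one_lt; omega
        · rw [pow_one] at hk; exact hk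
      have hcent := cent_of_card_prime W hk1 a
        (fun w hw => (Subgroup.mem_normalizer_iff.mp (hLW haL) w).mp hw) hap
      have haC : a ∈ L ⊓ Subgroup.centralizer (W : Set G) := by
        refine Subgroup.mem_inf.mpr ⟨haL, ?_⟩
        rw [Subgroup.mem_centralizer_iff]
        intro w hw
        have h' := hcent w hw
        calc w * a = (a * w * a⁻¹) * a := by rw [h']
          _ = a * w := by group
      rw [hC] at haC
      exact ha1 (Subgroup.mem_bot.mp haC)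
    · rcases Nat.eq_or_lt_of_le hk2 with h | h
      · rw [hk, ← h]
      · exfalso
        have h3 : p ^ 3 ≤ p ^ k := Nat.pow_le_pow_right hp.pos h
        have h4 : p ^ 3 = p * p * p := by ring
        have h5 : p * p * p ≤ p * p * 1 := by omega
        have h6 := Nat.le_of_mul_le_mul_left h5 (Nat.mul_pos hp.pos hp.pos)
        have := hp.one_lt
        omega
  have hinf : ⁅V, A⁆ ⊓ ⁅V, B⁆ = ⊥ := by
    by_contra hne
    have hdvd : Nat.card ↥(⁅V, A⁆ ⊓ ⁅V, B⁆) ∣ p := hVA ▸ Subgroup.card_dvd_of_le inf_le_left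
    have hcard : Nat.card ↥(⁅V, A⁆ ⊓ ⁅V, B⁆) = p := by
      rcases (Nat.dvd_prime hp).mp hdvd with h | h
      · exact absurd (Subgroup.card_eq_one.mp h) hne
      · exact h
    have e1 : ⁅V, A⁆ ⊓ ⁅V, B⁆ = ⁅V, A⁆ :=
      Subgroup.eq_of_le_of_card_ge inf_le_left (by rw [hcard, hVA])
    have e2 : ⁅V, A⁆ ⊓ ⁅V, B⁆ = ⁅V, B⁆ :=
      Subgroup.eq_of_le_of_card_ge inf_le_right (by rw [hcard, hVBc])
    have e3 : ⁅V, A⁆ ⊔ ⁅V, B⁆ = ⁅V, A⁆ := by rw [← e2, e1, sup_idem]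
    have h7 : Nat.card W ≤ p := by
      rw [← hVA]; exact Subgroup.card_le_of_le (hWU.trans (le_of_eq e3))
    rw [hW2, sq] at h7
    have := hp.one_lt
    nlinarith
  have haVA : ∀ w ∈ ⁅V, A⁆, a * w * a⁻¹ = w := by
    refine cent_of_card_prime _ hVA a (fun w hw => ?_) hap
    exact (Subgroup.mem_normalizer_iff.mp
      (comm_normalizer V A a (hAVn haA) (Subgroup.le_normalizer haA)) w).mp hw
  have hbVB : ∀ w ∈ ⁅V, B⁆, b * w * b⁻¹ = w := by
    refine cent_of_card_prime _ hVBc b (fun w hw => ?_) hbp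
    exact (Subgroup.mem_normalizer_iff.mp
      (comm_normalizer V B b (hBVn hbB) (Subgroup.le_normalizer hbB)) w).mp hw
  obtain ⟨e₂, he₂B, he₂1, he₂ord, hVBz⟩ := exists_gen_of_card_prime ⁅V, B⁆ hVBc
  obtain ⟨e₁, he₁def⟩ : ∃ e₁ : G, e₁ = a * e₂ * a⁻¹ * e₂⁻¹ := ⟨_, rfl⟩
  have he₁A : e₁ ∈ ⁅V, A⁆ := by
    have h1 := Subgroup.commutator_mem_commutator (H₁ := A) (H₂ := V) haA (hVBV he₂B)
    rw [Subgroup.commutator_comm, commutatorElement_def] at h1
    rw [he₁def]; exact h1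
  have hnotC : ∀ g ∈ L, g ≠ 1 → ¬ ((∀ w ∈ ⁅V, A⁆, g * w * g⁻¹ = w) ∧
      (∀ w ∈ ⁅V, B⁆, g * w * g⁻¹ = w)) := by
    rintro g hgL hg1 ⟨h1, h2⟩
    have hgC : g ∈ L ⊓ Subgroup.centralizer (W : Set G) := by
      refine Subgroup.mem_inf.mpr ⟨hgL, ?_⟩
      have h3 : ⁅V, A⁆ ⊔ ⁅V, B⁆ ≤ Subgroup.centralizer ({g} : Set G) := by
        refine sup_le (fun w hw => ?_) (fun w hw => ?_)
        · rw [Subgroup.mem_centralizer_singleton_iff]
          have h' := h1 w hw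
          calc w * g = (g * w * g⁻¹) * g := by rw [h']
            _ = g * w := by group
        · rw [Subgroup.mem_centralizer_singleton_iff]
          have h' := h2 w hw
          calc w * g = (g * w * g⁻¹) * g := by rw [h']
            _ = g * w := by group
      rw [Subgroup.mem_centralizer_iff]
      intro w hw
      exact Subgroup.mem_centralizer_singleton_iff.mp (h3 (hWU hw))
    rw [hC] at hgC
    exact hg1 (Subgroup.mem_bot.mp hgC)
  have he₁1 : e₁ ≠ 1 := by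
    intro h
    apply hnotC a haL ha1
    refine ⟨haVA, fun w hw => ?_⟩
    have hae : a * e₂ * a⁻¹ = e₂ := by
      rw [he₁def] at h
      exact mul_inv_eq_one.mp h
    have hw' : w ∈ Subgroup.zpowers e₂ := hVBz ▸ hw
    obtain ⟨n, rfl⟩ := Subgroup.mem_zpowers_iff.mp hw'
    rw [← conj_zpow, hae]
  obtain ⟨hVAz, he₁ord⟩ := zpowers_eq_of_card_prime ⁅V, A⁆ hVA e₁ he₁A he₁1
  obtain ⟨f, hfdef⟩ : ∃ f : G, f = b * e₁ * b⁻¹ * e₁⁻¹ := ⟨_, rfl⟩
  have hfB : f ∈ ⁅V, B⁆ := by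
    have h1 := Subgroup.commutator_mem_commutator (H₁ := B) (H₂ := V) hbB (hVAV he₁A)
    rw [Subgroup.commutator_comm, commutatorElement_def] at h1
    rw [hfdef]; exact h1
  have hf1 : f ≠ 1 := by
    intro h
    apply hnotC b hbL hb1
    refine ⟨fun w hw => ?_, hbVB⟩
    have hbe : b * e₁ * b⁻¹ = e₁ := by
      rw [hfdef] at h
      exact mul_inv_eq_one.mp h
    have hw' : w ∈ Subgroup.zpowers e₁ := hVAz ▸ hw
    obtain ⟨n, rfl⟩ := Subgroup.mem_zpowers_iff.mp hw'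
    rw [← conj_zpow, hbe]
  obtain ⟨hVBzf, hford⟩ := zpowers_eq_of_card_prime ⁅V, B⁆ hVBc f hfB hf1
  obtain ⟨m, hm⟩ : ∃ m : ℕ, f ^ m = e₂ := by
    have h' : e₂ ∈ Subgroup.zpowers f := hVBzf ▸ he₂B
    rw [← mem_powers_iff_mem_zpowers] at h'
    exact h'
  obtain ⟨b', hb'def⟩ : ∃ b' : G, b' = b ^ m := ⟨_, rfl⟩
  have hb'B : b' ∈ B := by rw [hb'def]; exact B.pow_mem hbB m
  have hb'e₂ : b' * e₂ * b'⁻¹ = e₂ := by
    have h1 : Commute b e₂ := by
      have h' := hbVB e₂ he₂B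
      show b * e₂ = e₂ * b
      calc b * e₂ = (b * e₂ * b⁻¹) * b := by group
        _ = e₂ * b := by rw [h']
    have h2 : Commute b' e₂ := by rw [hb'def]; exact h1.pow_left m
    calc b' * e₂ * b'⁻¹ = (e₂ * b') * b'⁻¹ := by rw [h2.eq]
      _ = e₂ := by group
  have hb'e₁ : b' * e₁ * b'⁻¹ = e₁ * e₂ := by
    have h1 := chain_conj_pow V ⁅V, B⁆ hVcomm hVBV b hbVB (fun v hv => by
      have h1 := Subgroup.commutator_mem_commutator (H₁ := B) (H₂ := V) hbB hv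
      rw [Subgroup.commutator_comm, commutatorElement_def] at h1
      exact h1) m e₁ (hVAV he₁A)
    rw [← hfdef, hm] at h1
    rw [hb'def, h1]
    exact hVcomm _ (hVBV he₂B) _ (hVAV he₁A)
  have hae₁ : a * e₁ * a⁻¹ = e₁ := haVA e₁ he₁A
  have hae₂ : a * e₂ * a⁻¹ = e₁ * e₂ := by rw [he₁def]; group
  have hb'1 : b' ≠ 1 := by
    intro h
    rw [h] at hb'e₁
    apply he₂1
    simpa using hb'e₁
  obtain ⟨hBz', -⟩ := zpowers_eq_of_card_prime B hBp b' hb'B hb'1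
  have hLcl : L ≤ Subgroup.closure {a, b'} := by
    rw [hLdef]
    refine sup_le ?_ ?_
    · rw [hAz, Subgroup.zpowers_le]; exact Subgroup.subset_closure (by simp)
    · rw [hBz', Subgroup.zpowers_le]; exact Subgroup.subset_closure (by simp)
  have hb'L : b' ∈ L := by rw [hLdef]; exact (le_sup_right : B ≤ A ⊔ B) hb'B
  have hzinf : Subgroup.zpowers e₁ ⊓ Subgroup.zpowers e₂ = ⊥ := by
    rw [← hVAz, ← hVBz]; exact hinf
  -- passage to the type `↥W`
  have hWcomm : ∀ u v : ↥W, u * v = v * u :=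
    fun u v => Subtype.ext (hVcomm u (hWV u.2) v (hWV v.2))
  have hWexp : ∀ u : ↥W, u ^ p = 1 := fun u => Subtype.ext (hVpow u (hWV u.2))
  obtain ⟨φ, hφ⟩ : ∃ φ : ↥L →* MulAut ↥W, ∀ (g : ↥L) (w : ↥W),
      ((φ g w : ↥W) : G) = (g : G) * w * (g : G)⁻¹ :=
    ⟨W.normalizerMonoidHom.comp (Subgroup.inclusion hLW), fun g w => rfl⟩
  have hφinj : Function.Injective φ := by
    rw [← MonoidHom.ker_eq_bot_iff, Subgroup.eq_bot_iff_forall]
    intro g hg
    rw [MonoidHom.mem_ker] at hg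
    have hgC : (g : G) ∈ L ⊓ Subgroup.centralizer (W : Set G) := by
      refine Subgroup.mem_inf.mpr ⟨g.2, ?_⟩
      rw [Subgroup.mem_centralizer_iff]
      intro w hw
      have h2 := hφ g ⟨w, hw⟩
      rw [hg, MulAut.one_apply] at h2
      have h3 : w = (g : G) * w * (g : G)⁻¹ := h2
      calc w * (g : G) = ((g : G) * w * (g : G)⁻¹) * g := by rw [← h3]
        _ = g * w := by group
    rw [hC] at hgC
    exact Subtype.ext (Subgroup.mem_bot.mp hgC)
  have hind : Subgroup.zpowers (⟨e₁, hVAW he₁A⟩ : ↥W) ⊓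
      Subgroup.zpowers (⟨e₂, hVBW he₂B⟩ : ↥W) = ⊥ := by
    rw [Subgroup.eq_bot_iff_forall]
    intro z hz
    obtain ⟨hz1, hz2⟩ := Subgroup.mem_inf.mp hz
    obtain ⟨i, hi⟩ := Subgroup.mem_zpowers_iff.mp hz1
    obtain ⟨j, hj⟩ := Subgroup.mem_zpowers_iff.mp hz2
    have h1 : (z : G) ∈ Subgroup.zpowers e₁ ⊓ Subgroup.zpowers e₂ := by
      refine Subgroup.mem_inf.mpr ⟨Subgroup.mem_zpowers_iff.mpr ⟨i, ?_⟩,
        Subgroup.mem_zpowers_iff.mpr ⟨j, ?_⟩⟩
      · rw [← hi]; simp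
      · rw [← hj]; simp
    rw [hzinf] at h1
    exact Subtype.ext (Subgroup.mem_bot.mp h1)
  obtain ⟨ρ, hρinj, hρU, hρL⟩ := Cfsg.Agent.Helper27.SL2E.exists_rho (G := ↥W) hW2 hWexp hWcomm
    (φ ⟨a, haL⟩) (φ ⟨b', hb'L⟩) ⟨e₁, hVAW he₁A⟩ ⟨e₂, hVBW he₂B⟩
    (Subtype.ext (by rw [hφ]; exact hae₁)) (Subtype.ext (by rw [hφ]; exact hae₂))
    (Subtype.ext (by rw [hφ]; exact hb'e₁)) (Subtype.ext (by rw [hφ]; exact hb'e₂))
    hind (fun h => he₁1 (congrArg Subtype.val h)) (fun h => he₂1 (congrArg Subtype.val h))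
  have hrange : φ.range = ρ.range := by
    apply le_antisymm
    · rintro _ ⟨g, rfl⟩
      have h1 : Subgroup.closure {a, b'} ≤ (ρ.range.comap φ).map L.subtype := by
        rw [Subgroup.closure_le]
        intro y hy
        rcases hy with hy | hy
        · exact ⟨⟨a, haL⟩, ⟨Cfsg.Agent.Helper27.SL2E.Um 1, hρU⟩, hy.symm⟩
        · rw [Set.mem_singleton_iff] at hy
          exact ⟨⟨b', hb'L⟩, ⟨Cfsg.Agent.Helper27.SL2E.Lm 1, hρL⟩, hy.symm⟩
      obtain ⟨t, ht, hte⟩ := h1 (hLcl g.2)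
      have hteq : t = g := Subtype.ext hte
      rw [← hteq]; exact ht
    · rw [MonoidHom.range_eq_map ρ, ← Cfsg.Agent.Helper27.SL2E.closure_eq_top (p := p),
        MonoidHom.map_closure, Subgroup.closure_le]
      rintro _ ⟨M, hM, rfl⟩
      rcases hM with hM | hM
      · rw [hM, hρU]; exact ⟨_, rfl⟩
      · rw [Set.mem_singleton_iff] at hM; rw [hM, hρL]; exact ⟨_, rfl⟩
  have hp23 : p = 2 ∨ p = 3 := by
    by_cases h2 : p = 2
    · exact Or.inl h2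
    right
    obtain ⟨D, hD⟩ := exists_diag_conj (p := p) h2
    have hDr : ρ D ∈ φ.range := by rw [hrange]; exact ⟨D, rfl⟩
    obtain ⟨g, hg⟩ := hDr
    have h3 : φ (g * ⟨a, haL⟩) = φ (⟨a, haL⟩ ^ 4 * g) := by
      rw [map_mul, map_mul, map_pow, hg, ← hρU, ← map_pow, ← map_mul, ← map_mul, hD]
    have h4 := hφinj h3
    have h5 : (g : G) * a = a ^ 4 * g := by
      have h' := congrArg Subtype.val h4
      simpa using h'
    obtain ⟨a', ha', k', hk', hgk⟩ := mem_sup_of_le_normalizer A K hAK g (hLAK g.2)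
    have h6 : a ^ 3 ∈ K := by
      have h7 : a ^ 3 = (g : G) * a * (g : G)⁻¹ * a⁻¹ := by
        rw [h5]; group
      have hca : a' * a = a * a' := by
        have ha'' : a' ∈ Subgroup.zpowers a := hAz ▸ ha'
        obtain ⟨n, rfl⟩ := Subgroup.mem_zpowers_iff.mp ha''
        exact (Commute.zpow_left (Commute.refl a) n).eq
      have h8 : (g : G) * a * (g : G)⁻¹ * a⁻¹ = k' * (a * k'⁻¹ * a⁻¹) := by
        rw [hgk]
        calc k' * a' * a * (k' * a')⁻¹ * a⁻¹ = k' * (a' * a) * a'⁻¹ * k'⁻¹ * a⁻¹ := by group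
          _ = k' * (a * a') * a'⁻¹ * k'⁻¹ * a⁻¹ := by rw [hca]
          _ = k' * (a * k'⁻¹ * a⁻¹) := by group
      rw [h7, h8]
      exact K.mul_mem hk' ((Subgroup.mem_normalizer_iff.mp (hAK haA) k'⁻¹).mp (K.inv_mem hk'))
    have h9 : a ^ 3 = 1 := hKp _ h6 (by rw [← pow_mul, mul_comm, pow_mul, hap, one_pow])
    have h10 : p ∣ 3 := by rw [← haord]; exact orderOf_dvd_of_pow_eq_one h9
    exact (Nat.prime_dvd_prime_iff_eq hp Nat.prime_three).mp h10
  refine ⟨hp23, hW2, hC, a, b', haA, haord, hAz, hb'B, e₁, e₂, he₁A, he₁1, he₂B, he₂1, hae₁, hae₂,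
    hb'e₁, hb'e₂, ?_⟩
  refine ⟨(MonoidHom.ofInjective hφinj).trans
      ((MulEquiv.subgroupCongr hrange).trans (MonoidHom.ofInjective hρinj).symm), ?_, ?_⟩
  · intro h
    rw [MulEquiv.trans_apply, MulEquiv.trans_apply, MulEquiv.symm_apply_eq]
    apply Subtype.ext
    show φ ⟨a, h⟩ = ρ (Cfsg.Agent.Helper27.SL2E.Um 1)
    exact hρU.symm
  · intro h
    rw [MulEquiv.trans_apply, MulEquiv.trans_apply, MulEquiv.symm_apply_eq]
    apply Subtype.ext
    show φ ⟨b', h⟩ = ρ (Cfsg.Agent.Helper27.SL2E.Lm 1)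
    exact hρL.symm

/-- `O_{p'}(H)` is acted on faithfully by every `p`-subgroup of `H` when it is self-centralizing. -/
theorem ppc_explicit_faithful {G : Type*} [Group G] [Finite G] {p : ℕ} [Fact p.Prime]
    (H : Subgroup G)
    (hS1 : Subgroup.centralizer (Cfsg.pPrimeCore p ↥H : Set ↥H) ≤ Cfsg.pPrimeCore p ↥H) :
    ∀ A : Subgroup G, A ≤ H → IsPGroup p A →
      A ⊓ Subgroup.centralizer
        ((((Cfsg.pPrimeCore p ↥H).map H.subtype : Subgroup G)) : Set G) = ⊥ := by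
  have hp := (Fact.out : p.Prime)
  obtain ⟨hKH, hKcard, hHK⟩ := ppc_explicit (p := p) H
  obtain ⟨K, hKdef⟩ : ∃ K : Subgroup G, K = (Cfsg.pPrimeCore p ↥H).map H.subtype := ⟨_, rfl⟩
  rw [← hKdef] at hKH hKcard hHK ⊢
  have hsub : K.subgroupOf H = Cfsg.pPrimeCore p ↥H := by
    rw [hKdef]; exact Subgroup.comap_map_eq_self_of_injective H.subtype_injective _
  intro A hAH hAp
  rw [Subgroup.eq_bot_iff_forall]
  intro a ha
  obtain ⟨haA, haC⟩ := Subgroup.mem_inf.mp ha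
  rw [Subgroup.mem_centralizer_iff] at haC
  have h1 : (⟨a, hAH haA⟩ : ↥H) ∈ Subgroup.centralizer (Cfsg.pPrimeCore p ↥H : Set ↥H) := by
    rw [Subgroup.mem_centralizer_iff]
    intro h hh
    have h2 : (h : G) ∈ K := by
      have : h ∈ K.subgroupOf H := by rw [hsub]; exact hh
      exact Subgroup.mem_subgroupOf.mp this
    exact Subtype.ext (haC _ h2)
  have h3 := hS1 h1
  rw [← hsub, Subgroup.mem_subgroupOf] at h3
  have h4 : orderOf (⟨a, h3⟩ : ↥K) ∣ Nat.card K := orderOf_dvd_natCard _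
  rw [Subgroup.orderOf_mk] at h4
  obtain ⟨k, hk⟩ := hAp ⟨a, haA⟩
  have hk' : a ^ p ^ k = 1 := congrArg Subtype.val hk
  have h5 : orderOf a ∣ p ^ k := orderOf_dvd_of_pow_eq_one hk'
  have h6 := Nat.eq_one_of_dvd_coprimes (Nat.Coprime.pow_right k hKcard) h4 h5
  exact orderOf_eq_one_iff.mp h6

theorem le_normalizer_bot {G : Type*} [Group G] (A : Subgroup G) :
    A ≤ Subgroup.normalizer ((⊥ : Subgroup G) : Set G) := by
  intro y _
  rw [Subgroup.mem_normalizer_iff]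
  intro h
  rw [Subgroup.mem_bot, Subgroup.mem_bot]
  constructor
  · rintro rfl
    group
  · intro h'
    have e : h = y⁻¹ * (y * h * y⁻¹) * y := by group
    rw [e, h']; group

/-- If the index of `C` in `K` is at most that of `S ⊓ C` in `S`, then `K = S C`. -/
theorem exists_mul_of_relIndex_le {G : Type*} [Group G] [Finite G] (S C K : Subgroup G)
    (hSK : S ≤ K) (h : C.relIndex K ≤ C.relIndex S) : ∀ k ∈ K, ∃ s ∈ S, s⁻¹ * k ∈ C := by
  intro k hk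
  have hbij : Function.Bijective (Subgroup.quotientSubgroupOfEmbeddingOfLE C hSK) :=
    (Subgroup.quotientSubgroupOfEmbeddingOfLE C hSK).injective.bijective_of_nat_card_le h
  obtain ⟨q, hq⟩ := hbij.2 (QuotientGroup.mk ⟨k, hk⟩)
  obtain ⟨s, rfl⟩ := QuotientGroup.mk_surjective q
  rw [Subgroup.quotientSubgroupOfEmbeddingOfLE_apply_mk, QuotientGroup.eq] at hq
  exact ⟨s, s.2, by simpa [Subgroup.mem_subgroupOf] using hq⟩

/-- If `a` acts coprimely on `K` and all commutators `[y, a]` are `r`-elements, then `[K, ⟨a⟩]`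
is an `r`-group. -/
theorem rgroup_of_comm_orders {G : Type*} [Group G] [Finite G] (K A : Subgroup G) (a : G)
    (hAz : A = Subgroup.zpowers a)
    (hAK : A ≤ Subgroup.normalizer (K : Set G)) (hcop : (Nat.card A).Coprime (Nat.card K))
    (r : ℕ) [Fact r.Prime] (hord : ∀ y ∈ K, ∃ j : ℕ, orderOf (y * a * y⁻¹ * a⁻¹) ∣ r ^ j) :
    ∃ S : Subgroup G, S ≤ K ∧ IsPGroup r S ∧ ⁅K, A⁆ ≤ S := by
  classical
  have hr := (Fact.out : r.Prime)
  have haA : a ∈ A := hAz ▸ Subgroup.mem_zpowers a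
  have hAsol : Group.IsSolvable A := by
    apply isSolvable_of_comm
    rintro ⟨u, hu⟩ ⟨v, hv⟩
    apply Subtype.ext
    have hu' : u ∈ Subgroup.zpowers a := hAz ▸ hu
    have hv' : v ∈ Subgroup.zpowers a := hAz ▸ hv
    obtain ⟨m, rfl⟩ := Subgroup.mem_zpowers_iff.mp hu'
    obtain ⟨n, rfl⟩ := Subgroup.mem_zpowers_iff.mp hv'
    show a ^ m * a ^ n = a ^ n * a ^ m
    rw [← zpow_add, ← zpow_add, add_comm]
  obtain ⟨C, hCdef⟩ : ∃ C : Subgroup G, C = K ⊓ Subgroup.centralizer (A : Set G) := ⟨_, rfl⟩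
  have hCK : C ≤ K := by rw [hCdef]; exact inf_le_left
  have hmemC : ∀ y ∈ K, y * a * y⁻¹ * a⁻¹ = 1 → y ∈ C := by
    intro y hy h
    rw [hCdef]
    refine Subgroup.mem_inf.mpr ⟨hy, ?_⟩
    rw [Subgroup.mem_centralizer_iff]
    intro z hz
    have hz' : z ∈ Subgroup.zpowers a := hAz ▸ hz
    obtain ⟨n, rfl⟩ := Subgroup.mem_zpowers_iff.mp hz'
    have hya : Commute y a := by
      show y * a = a * y
      calc y * a = (y * a * y⁻¹ * a⁻¹) * (a * y) := by group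
        _ = a * y := by rw [h, one_mul]
    exact ((hya.zpow_right n).eq).symm
  have hK0 : Nat.card K ≠ 0 := Nat.card_pos.ne'
  have hSylq : ∀ q : ℕ, q.Prime → q ≠ r → q ^ (Nat.card K).factorization q ∣ Nat.card C := by
    intro q hq hqr
    haveI : Fact q.Prime := ⟨hq⟩
    obtain ⟨Q, -, hQK, hAQ, hQcard⟩ := Cfsg.Agent.S4303.exists_invariant_sylow A K hAK hcop
      hAsol q _ ⊥ rfl bot_le (IsPGroup.of_bot) (le_normalizer_bot A)
    have hQC : Q ≤ C := by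
      intro y hy
      apply hmemC y (hQK hy)
      have hmem : y * a * y⁻¹ * a⁻¹ ∈ Q := by
        have h1 : a * y⁻¹ * a⁻¹ ∈ Q :=
          (Subgroup.mem_normalizer_iff.mp (hAQ haA) y⁻¹).mp (Q.inv_mem hy)
        have h2 : y * a * y⁻¹ * a⁻¹ = y * (a * y⁻¹ * a⁻¹) := by group
        rw [h2]; exact Q.mul_mem hy h1
      obtain ⟨j, hj⟩ := hord y (hQK hy)
      have h3 : orderOf (⟨y * a * y⁻¹ * a⁻¹, hmem⟩ : ↥Q) ∣ Nat.card Q := orderOf_dvd_natCard _
      rw [Subgroup.orderOf_mk, hQcard] at h3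
      have h4 : orderOf (y * a * y⁻¹ * a⁻¹) = 1 :=
        Nat.eq_one_of_dvd_coprimes (Nat.Coprime.pow _ _ ((Nat.coprime_primes hq hr).mpr hqr))
          h3 hj
      exact orderOf_eq_one_iff.mp h4
    rw [← hQcard]; exact Subgroup.card_dvd_of_le hQC
  -- the index of `C` in `K` is a power of `r`
  have hmul : Nat.card C * C.relIndex K = Nat.card K := by
    have h := Subgroup.relIndex_mul_relIndex ⊥ C K bot_le hCK
    rwa [Subgroup.relIndex_bot_left, Subgroup.relIndex_bot_left] at h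
  have hi0 : C.relIndex K ≠ 0 := by
    intro h0
    rw [h0, mul_zero] at hmul
    exact hK0 hmul.symm
  obtain ⟨m, hm⟩ : ∃ m : ℕ, C.relIndex K = r ^ m := by
    refine ⟨_, Nat.eq_prime_pow_of_unique_prime_dvd hi0 ?_⟩
    intro q hq hqi
    by_contra hqr
    have h1 := hSylq q hq hqr
    have h2 : q ^ ((Nat.card K).factorization q + 1) ∣ Nat.card K := by
      have h2' : q ^ ((Nat.card K).factorization q + 1) ∣ Nat.card C * C.relIndex K := by
        rw [pow_succ]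
        exact Nat.mul_dvd_mul h1 hqi
      rwa [hmul] at h2'
    exact Nat.pow_succ_factorization_not_dvd hK0 hq h2
  -- an invariant Sylow `r`-subgroup
  obtain ⟨S, -, hSK, hAS, hScard⟩ := Cfsg.Agent.S4303.exists_invariant_sylow A K hAK hcop
    hAsol r _ ⊥ rfl bot_le (IsPGroup.of_bot) (le_normalizer_bot A)
  have hSr : IsPGroup r S := IsPGroup.of_card hScard
  have hidx : C.relIndex K ≤ C.relIndex S := by
    have h1 : Nat.card ↥(S ⊓ C) * (S ⊓ C).relIndex S = Nat.card S := by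
      have h := Subgroup.relIndex_mul_relIndex ⊥ (S ⊓ C) S bot_le inf_le_left
      rwa [Subgroup.relIndex_bot_left, Subgroup.relIndex_bot_left] at h
    rw [Subgroup.inf_relIndex_left] at h1
    obtain ⟨j, hj⟩ := IsPGroup.iff_card.mp (hSr.to_le (inf_le_left : S ⊓ C ≤ S))
    have h2 : r ^ j ∣ Nat.card C := hj ▸ Subgroup.card_dvd_of_le inf_le_right
    have h3 : r ^ (j + m) ∣ Nat.card K := by
      have h3' : r ^ (j + m) ∣ Nat.card C * C.relIndex K := by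
        rw [pow_add, hm]
        exact Nat.mul_dvd_mul h2 dvd_rfl
      rwa [hmul] at h3'
    have h4 : j + m ≤ (Nat.card K).factorization r :=
      (hr.pow_dvd_iff_le_factorization hK0).mp h3
    rw [hj, hScard] at h1
    have h5 : r ^ j * C.relIndex S = r ^ j * r ^ ((Nat.card K).factorization r - j) := by
      rw [h1, ← pow_add]
      congr 1
      omega
    have h6 := Nat.eq_of_mul_eq_mul_left (pow_pos hr.pos j) h5
    rw [h6, hm]
    exact Nat.pow_le_pow_right hr.pos (by omega)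
  have hdec := exists_mul_of_relIndex_le S C K hSK hidx
  refine ⟨S, hSK, hSr, ?_⟩
  rw [Subgroup.commutator_le]
  intro k hk z hz
  rw [commutatorElement_def]
  obtain ⟨s, hs, hc⟩ := hdec k hk
  rw [hCdef] at hc
  have hcz := (Subgroup.mem_centralizer_iff.mp (Subgroup.mem_inf.mp hc).2) z hz
  have h1 : k * z * k⁻¹ * z⁻¹ = s * (z * s⁻¹ * z⁻¹) := by
    calc k * z * k⁻¹ * z⁻¹ = s * ((s⁻¹ * k) * z) * (s⁻¹ * k)⁻¹ * s⁻¹ * z⁻¹ := by group
      _ = s * (z * (s⁻¹ * k)) * (s⁻¹ * k)⁻¹ * s⁻¹ * z⁻¹ := by rw [hcz]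
      _ = s * (z * s⁻¹ * z⁻¹) := by group
  rw [h1]
  exact S.mul_mem hs ((Subgroup.mem_normalizer_iff.mp (hAS hz) s⁻¹).mp (S.inv_mem hs))

/-- The commutator of the `p'`-core with a subgroup of order `p` acting as a transvection group
is a `3`-group (`p = 2`) or a non-abelian `2`-group (`p = 3`). -/
theorem comm_ppc_structure {G : Type*} [Group G] [Finite G] {p : ℕ} [Fact p.Prime]
    (V K H A : Subgroup G)
    (hVcomm : ∀ u ∈ V, ∀ v ∈ V, u * v = v * u) (hVpow : ∀ v ∈ V, v ^ p = 1)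
    (hHV : H ≤ Subgroup.normalizer (V : Set G))
    (hf : H ⊓ Subgroup.centralizer (V : Set G) = ⊥)
    (hKH : K ≤ H) (hKc : (Nat.card K).Coprime p) (hHK : H ≤ Subgroup.normalizer (K : Set G))
    (hAH : A ≤ H) (hAp : Nat.card A = p) (hVA : Nat.card ↥(⁅V, A⁆) = p)
    (hAKf : A ⊓ Subgroup.centralizer (K : Set G) = ⊥) :
    (p = 2 ∧ IsPGroup 3 ↥(⁅K, A⁆)) ∨
      (p = 3 ∧ IsPGroup 2 ↥(⁅K, A⁆) ∧ ¬ IsMulCommutative ↥(⁅K, A⁆)) := by
  classical
  have hp := (Fact.out : p.Prime)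
  obtain ⟨x, hxK, hxA⟩ : ∃ x ∈ K, x ∉ Subgroup.centralizer (A : Set G) := by
    by_contra hno
    push Not at hno
    have h1 : K ≤ Subgroup.centralizer (A : Set G) := fun x hx => hno x hx
    have h2 : A ≤ Subgroup.centralizer (K : Set G) := Subgroup.le_centralizer_iff.mp h1
    have h3 : A = ⊥ := by rw [← hAKf]; exact (inf_eq_left.mpr h2).symm
    rw [h3, Subgroup.card_bot] at hAp
    exact hp.one_lt.ne hAp
  obtain ⟨hp23, -, -, a, b', haA, haord, hAz, hb'B, e₁, e₂, -, -, -, -, -, -, -, -, e, hea, heb⟩ :=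
    sl2_of_conj_pair_strong V K H A hVcomm hVpow hHV hf hKH hKc hHK hAH hAp hVA x hxK hxA
  have hAKn : A ≤ Subgroup.normalizer (K : Set G) := hAH.trans hHK
  have hcop : (Nat.card A).Coprime (Nat.card K) := by rw [hAp]; exact hKc.symm
  have hcommK : ∀ y ∈ K, y * a * y⁻¹ * a⁻¹ ∈ K := by
    intro y hy
    have h1 : a * y⁻¹ * a⁻¹ ∈ K :=
      (Subgroup.mem_normalizer_iff.mp (hAKn haA) y⁻¹).mp (K.inv_mem hy)
    have h2 : y * a * y⁻¹ * a⁻¹ = y * (a * y⁻¹ * a⁻¹) := by group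
    rw [h2]; exact K.mul_mem hy h1
  have hordK : ∀ y ∈ K, (orderOf (y * a * y⁻¹ * a⁻¹)).Coprime p := by
    intro y hy
    have h4 : orderOf (⟨_, hcommK y hy⟩ : ↥K) ∣ Nat.card K := orderOf_dvd_natCard _
    rw [Subgroup.orderOf_mk] at h4
    exact Nat.Coprime.coprime_dvd_left h4 hKc
  have hordL : ∀ y ∈ K, orderOf (y * a * y⁻¹ * a⁻¹) ∣ p * (p - 1) * (p + 1) := by
    intro y hy
    by_cases hyA : y ∈ Subgroup.centralizer (A : Set G)
    · have h1 : y * a * y⁻¹ * a⁻¹ = 1 := by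
        rw [Subgroup.mem_centralizer_iff] at hyA
        have h' := hyA a haA
        rw [← h']; group
      rw [h1, orderOf_one]; exact one_dvd _
    · obtain ⟨-, -, -, ⟨e'⟩⟩ :=
        sl2_of_conj_pair V K H A hVcomm hVpow hHV hf hKH hKc hHK hAH hAp hVA y hy hyA
      have hcard : Nat.card ↥(A ⊔ A.map (MulAut.conj y).toMonoidHom) = p * (p - 1) * (p + 1) := by
        rw [Nat.card_congr e'.toEquiv, Cfsg.Agent.S2430.card_SL2, ZMod.card]
      have hmem : y * a * y⁻¹ * a⁻¹ ∈ A ⊔ A.map (MulAut.conj y).toMonoidHom := by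
        refine Subgroup.mul_mem _ ((le_sup_right : A.map (MulAut.conj y).toMonoidHom ≤
          A ⊔ A.map (MulAut.conj y).toMonoidHom) ⟨a, haA, rfl⟩)
          (Subgroup.inv_mem _ ((le_sup_left : A ≤ A ⊔ A.map (MulAut.conj y).toMonoidHom) haA))
      have h4 : orderOf (⟨_, hmem⟩ : ↥(A ⊔ A.map (MulAut.conj y).toMonoidHom)) ∣
          Nat.card ↥(A ⊔ A.map (MulAut.conj y).toMonoidHom) := orderOf_dvd_natCard _
      rw [Subgroup.orderOf_mk, hcard] at h4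
      exact h4
  rcases hp23 with h2 | h3
  · left
    refine ⟨h2, ?_⟩
    subst h2
    haveI : Fact (Nat.Prime 3) := ⟨Nat.prime_three⟩
    obtain ⟨S, hSK, hSr, hle⟩ := rgroup_of_comm_orders K A a hAz hAKn hcop 3 (fun y hy => ⟨1, by
      have h1 := hordL y hy
      have h2 := hordK y hy
      have h3 : orderOf (y * a * y⁻¹ * a⁻¹) ∣ 2 * 3 := h1
      rw [pow_one]
      exact Nat.Coprime.dvd_of_dvd_mul_left h2 h3⟩)
    exact hSr.to_le hle
  · right
    subst h3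
    haveI : Fact (Nat.Prime 2) := ⟨Nat.prime_two⟩
    refine ⟨rfl, ?_, ?_⟩
    · obtain ⟨S, hSK, hSr, hle⟩ := rgroup_of_comm_orders K A a hAz hAKn hcop 2
        (fun y hy => ⟨3, by
          have h1 := hordL y hy
          have h2 := hordK y hy
          have h3 : orderOf (y * a * y⁻¹ * a⁻¹) ∣ 3 * 2 ^ 3 := h1
          exact Nat.Coprime.dvd_of_dvd_mul_left h2 h3⟩)
      exact hSr.to_le hle
    · intro hcomm
      have hb'L : b' ∈ A ⊔ A.map (MulAut.conj x).toMonoidHom :=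
        (le_sup_right : A.map (MulAut.conj x).toMonoidHom ≤
          A ⊔ A.map (MulAut.conj x).toMonoidHom) hb'B
      have haL : a ∈ A ⊔ A.map (MulAut.conj x).toMonoidHom :=
        (le_sup_left : A ≤ A ⊔ A.map (MulAut.conj x).toMonoidHom) haA
      have hLAK : A ⊔ A.map (MulAut.conj x).toMonoidHom ≤ A ⊔ K := by
        refine sup_le le_sup_left ?_
        rintro _ ⟨z, hz, rfl⟩
        show x * z * x⁻¹ ∈ A ⊔ K
        exact Subgroup.mul_mem _ (Subgroup.mul_mem _ ((le_sup_right : K ≤ A ⊔ K) hxK)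
          ((le_sup_left : A ≤ A ⊔ K) hz)) (Subgroup.inv_mem _ ((le_sup_right : K ≤ A ⊔ K) hxK))
      have hmemKA : ∀ g ∈ A ⊔ A.map (MulAut.conj x).toMonoidHom,
          g * a * g⁻¹ * a⁻¹ ∈ ⁅K, A⁆ := by
        intro g hg
        obtain ⟨a', ha', k, hk, hgk⟩ := mem_sup_of_le_normalizer A K hAKn g (hLAK hg)
        have hca : a' * a = a * a' := by
          have ha'' : a' ∈ Subgroup.zpowers a := hAz ▸ ha'
          obtain ⟨n, rfl⟩ := Subgroup.mem_zpowers_iff.mp ha''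
          exact (Commute.zpow_left (Commute.refl a) n).eq
        have h8 : g * a * g⁻¹ * a⁻¹ = k * a * k⁻¹ * a⁻¹ := by
          rw [hgk]
          calc k * a' * a * (k * a')⁻¹ * a⁻¹ = k * (a' * a) * a'⁻¹ * k⁻¹ * a⁻¹ := by group
            _ = k * (a * a') * a'⁻¹ * k⁻¹ * a⁻¹ := by rw [hca]
            _ = k * a * k⁻¹ * a⁻¹ := by group
        rw [h8]
        have h9 := Subgroup.commutator_mem_commutator (H₁ := K) (H₂ := A) hk haA
        rwa [commutatorElement_def] at h9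
      have hc1 := hmemKA b' hb'L
      have hc2 : b'⁻¹ * a * b' * a⁻¹ ∈ ⁅K, A⁆ := by
        have h := hmemKA b'⁻¹ (Subgroup.inv_mem _ hb'L)
        rwa [inv_inv] at h
      have hcc := congrArg Subtype.val (hcomm.is_comm.comm ⟨_, hc1⟩ ⟨_, hc2⟩)
      have hcc' : ((⟨b', hb'L⟩ : ↥(A ⊔ A.map (MulAut.conj x).toMonoidHom)) * ⟨a, haL⟩ *
            (⟨b', hb'L⟩ : ↥(A ⊔ A.map (MulAut.conj x).toMonoidHom))⁻¹ *
            (⟨a, haL⟩ : ↥(A ⊔ A.map (MulAut.conj x).toMonoidHom))⁻¹) *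
          ((⟨b', hb'L⟩ : ↥(A ⊔ A.map (MulAut.conj x).toMonoidHom))⁻¹ * ⟨a, haL⟩ *
            (⟨b', hb'L⟩ : ↥(A ⊔ A.map (MulAut.conj x).toMonoidHom)) *
            (⟨a, haL⟩ : ↥(A ⊔ A.map (MulAut.conj x).toMonoidHom))⁻¹)
          = ((⟨b', hb'L⟩ : ↥(A ⊔ A.map (MulAut.conj x).toMonoidHom))⁻¹ * ⟨a, haL⟩ *
            (⟨b', hb'L⟩ : ↥(A ⊔ A.map (MulAut.conj x).toMonoidHom)) *
            (⟨a, haL⟩ : ↥(A ⊔ A.map (MulAut.conj x).toMonoidHom))⁻¹) *
          ((⟨b', hb'L⟩ : ↥(A ⊔ A.map (MulAut.conj x).toMonoidHom)) * ⟨a, haL⟩ *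
            (⟨b', hb'L⟩ : ↥(A ⊔ A.map (MulAut.conj x).toMonoidHom))⁻¹ *
            (⟨a, haL⟩ : ↥(A ⊔ A.map (MulAut.conj x).toMonoidHom))⁻¹) := by
        apply Subtype.ext
        exact hcc
      have h10 := congrArg e hcc'
      simp only [map_mul, map_inv, hea haL, heb hb'L] at h10
      exact sl2_three_noncomm _ h10

end Cfsg.Agent.Helper21
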