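import Mathlib
import Cfsg.Prelude.Def_Solvable
import Cfsg.Agent.Helper21.SL2Gen2

set_option autoImplicit false
set_option linter.style.haveILetI false

namespace Cfsg.Agent.Helper21

/-- Relative subnormality for subgroups of an ambient group. -/
inductive Sn {G : Type*} [Group G] : Subgroup G → Subgroup G → Prop
  | refl (A : Subgroup G) : Sn A A
  | step (A B C : Subgroup G) : A ≤ B → B ≤ Subgroup.normalizer (A : Set G) → Sn B C → Sn A C

theorem inf_mem_normalizer {G : Type*} [Group G] (A D : Subgroup G) (g : G)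
    (hgA : g ∈ Subgroup.normalizer (A : Set G)) (hgD : g ∈ Subgroup.normalizer (D : Set G)) :
    g ∈ Subgroup.normalizer ((A ⊓ D : Subgroup G) : Set G) := by
  rw [Subgroup.mem_normalizer_iff] at hgA hgD ⊢
  intro h
  rw [Subgroup.mem_inf, Subgroup.mem_inf, hgA h, hgD h]

theorem Sn.le {G : Type*} [Group G] {A C : Subgroup G} (h : Sn A C) : A ≤ C := by
  induction h with
  | refl A => exact le_rfl
  | step A B C hAB _ _ ih => exact hAB.trans ih

theorem Sn.inf_right {G : Type*} [Group G] {A C : Subgroup G} (h : Sn A C) (D : Subgroup G) :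
    Sn (A ⊓ D) (C ⊓ D) := by
  induction h with
  | refl A => exact Sn.refl _
  | step A B C hAB hBA _ ih =>
    refine Sn.step _ (B ⊓ D) _ (inf_le_inf_right D hAB) ?_ ih
    intro g hg
    exact inf_mem_normalizer A D g (hBA (Subgroup.mem_inf.mp hg).1)
      (Subgroup.le_normalizer (Subgroup.mem_inf.mp hg).2)

theorem Sn.of_le {G : Type*} [Group G] {A C D : Subgroup G} (h : Sn A C) (hAD : A ≤ D)
    (hDC : D ≤ C) : Sn A D := by
  have h' := h.inf_right D
  rwa [inf_eq_left.mpr hAD, inf_eq_right.mpr hDC] at h'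

theorem Sn.trans_normal {G : Type*} [Group G] {A B C : Subgroup G} (h : Sn A B) (hBC : B ≤ C)
    (hCB : C ≤ Subgroup.normalizer (B : Set G)) : Sn A C := by
  induction h with
  | refl A => exact Sn.step A C C hBC hCB (Sn.refl C)
  | step A B' B hAB' hB'A _ ih => exact Sn.step A B' C hAB' hB'A (ih hBC hCB)

theorem Sn.exists_normal_proper {G : Type*} [Group G] {A C : Subgroup G} (h : Sn A C)
    (hne : A ≠ C) :
    ∃ N : Subgroup G, A ≤ N ∧ N ≤ C ∧ C ≤ Subgroup.normalizer (N : Set G) ∧ N ≠ C := by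
  induction h with
  | refl A => exact absurd rfl hne
  | step A B C hAB hBA hBC ih =>
    by_cases hB : B = C
    · subst hB
      exact ⟨A, le_rfl, hAB, hBA, hne⟩
    · obtain ⟨N, hBN, hNC, hCN, hN⟩ := ih hB
      exact ⟨N, hAB.trans hBN, hNC, hCN, hN⟩

theorem Sn.map_conj {G : Type*} [Group G] {A C : Subgroup G} (h : Sn A C) (g : G) :
    Sn (A.map (MulAut.conj g).toMonoidHom) (C.map (MulAut.conj g).toMonoidHom) := by
  induction h with
  | refl A => exact Sn.refl _
  | step A B C hAB hBA _ ih =>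
    exact Sn.step _ (B.map (MulAut.conj g).toMonoidHom) _ (Subgroup.map_mono hAB)
      ((Subgroup.map_mono hBA).trans (le_of_eq (Subgroup.map_equiv_normalizer_eq A (MulAut.conj g))))
      ih

/-- Mathlib's subnormality of a subgroup of `↥E` gives relative subnormality in the ambient
group. -/
theorem Sn.of_isSubnormal {G : Type*} [Group G] (E : Subgroup G) (S : Subgroup ↥E)
    (h : S.IsSubnormal) : Sn (S.map E.subtype) E := by
  induction h with
  | top =>
    have h1 : (⊤ : Subgroup ↥E).map E.subtype = E := by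
      rw [← MonoidHom.range_eq_map, Subgroup.range_subtype]
    rw [h1]; exact Sn.refl E
  | step H K h_le hSubn hN ih =>
    refine Sn.step _ (K.map E.subtype) _ (Subgroup.map_mono h_le) ?_ ih
    have hKH : K ≤ Subgroup.normalizer (H : Set ↥E) :=
      (Subgroup.normal_subgroupOf_iff_le_normalizer h_le).mp hN
    rintro _ ⟨k, hk, rfl⟩
    have hk' := hKH hk
    rw [Subgroup.mem_normalizer_iff] at hk' ⊢
    intro x
    constructor
    · rintro ⟨y, hy, rfl⟩
      exact ⟨k * y * k⁻¹, (hk' y).mp hy, rfl⟩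
    · rintro ⟨y, hy, hyx⟩
      refine ⟨k⁻¹ * y * k, ?_, ?_⟩
      · apply (hk' (k⁻¹ * y * k)).mpr
        have e : k * (k⁻¹ * y * k) * k⁻¹ = y := by group
        rw [e]; exact hy
      · have hyx' : (y : G) = (k : G) * x * (k : G)⁻¹ := hyx
        show ((k⁻¹ * y * k : ↥E) : G) = x
        rw [Subgroup.coe_mul, Subgroup.coe_mul, Subgroup.coe_inv, hyx']
        group

/-- The largest normal `p`-subgroup of a subgroup `B`. -/
theorem exists_max_normal_pgroup {G : Type*} [Group G] [Finite G] (p : ℕ) [Fact p.Prime]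
    (B : Subgroup G) :
    ∃ M : Subgroup G, M ≤ B ∧ B ≤ Subgroup.normalizer (M : Set G) ∧ IsPGroup p M ∧
      ∀ P : Subgroup G, P ≤ B → B ≤ Subgroup.normalizer (P : Set G) → IsPGroup p P → P ≤ M := by
  classical
  haveI : Nonempty {P : Subgroup G // P ≤ B ∧ B ≤ Subgroup.normalizer (P : Set G) ∧
      IsPGroup p P} := ⟨⟨⊥, bot_le, le_normalizer_bot B, IsPGroup.of_bot⟩⟩
  obtain ⟨⟨M, hMB, hBM, hMp⟩, hmax⟩ := Finite.exists_max
    (fun P : {P : Subgroup G // P ≤ B ∧ B ≤ Subgroup.normalizer (P : Set G) ∧ IsPGroup p P} =>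
      Nat.card (P : Subgroup G))
  refine ⟨M, hMB, hBM, hMp, ?_⟩
  intro P hPB hBP hPp
  have hsupB : M ⊔ P ≤ B := sup_le hMB hPB
  have hsupN : B ≤ Subgroup.normalizer ((M ⊔ P : Subgroup G) : Set G) := by
    intro g hg
    refine mem_normalizer_of_conj' (fun y hy => ?_)
    have h1 : (M ⊔ P).map (MulAut.conj g).toMonoidHom = M ⊔ P := by
      rw [Subgroup.map_sup, map_conj_eq_self M g (hBM hg), map_conj_eq_self P g (hBP hg)]
    rw [← h1]
    exact ⟨y, hy, rfl⟩
  have hsupP : IsPGroup p ↥(M ⊔ P) := IsPGroup.to_sup_of_normal_right' hMp hPp (hMB.trans hBP)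
  have hle := hmax ⟨M ⊔ P, hsupB, hsupN, hsupP⟩
  have heq : M = M ⊔ P := Subgroup.eq_of_le_of_card_ge le_sup_left hle
  rw [heq]; exact le_sup_right

theorem Sn.exists_normal_pgroup {G : Type*} [Group G] [Finite G] {p : ℕ} [Fact p.Prime]
    {B C : Subgroup G} (h : Sn B C) :
    ∀ A : Subgroup G, A ≤ B → B ≤ Subgroup.normalizer (A : Set G) → IsPGroup p A →
      ∃ Q : Subgroup G, A ≤ Q ∧ Q ≤ C ∧ C ≤ Subgroup.normalizer (Q : Set G) ∧ IsPGroup p Q := by
  induction h with
  | refl B => intro A hAB hBA hA; exact ⟨A, le_rfl, hAB, hBA, hA⟩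
  | step B B' C hBB' hB'B _ ih =>
    intro A hAB hBA hA
    obtain ⟨M, hMB, hBM, hMp, hMmax⟩ := exists_max_normal_pgroup p B
    have hAM : A ≤ M := hMmax A hAB hBA hA
    have hB'M : B' ≤ Subgroup.normalizer (M : Set G) := by
      intro g hg
      refine mem_normalizer_of_conj' (fun y hy => ?_)
      have h1 : M.map (MulAut.conj g).toMonoidHom ≤ M := by
        apply hMmax
        · calc M.map (MulAut.conj g).toMonoidHom ≤ B.map (MulAut.conj g).toMonoidHom :=
                Subgroup.map_mono hMB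
            _ = B := map_conj_eq_self B g (hB'B hg)
        · have h2 : B.map (MulAut.conj g).toMonoidHom ≤ Subgroup.normalizer
              ((M.map (MulAut.conj g).toMonoidHom : Subgroup G) : Set G) :=
            (Subgroup.map_mono hBM).trans
              (le_of_eq (Subgroup.map_equiv_normalizer_eq M (MulAut.conj g)))
          rwa [map_conj_eq_self B g (hB'B hg)] at h2
        · exact hMp.map _
      exact h1 ⟨y, hy, rfl⟩
    obtain ⟨Q, hMQ, hQC, hCQ, hQ⟩ := ih M (hMB.trans hBB') hB'M hMp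
    exact ⟨Q, hAM.trans hMQ, hQC, hCQ, hQ⟩

/-- With `O_p(E) = 1`, subnormal `p`-subgroups of `E` are trivial. -/
theorem sn_pgroup_eq_bot {G : Type*} [Group G] [Finite G] {p : ℕ} [Fact p.Prime] (E : Subgroup G)
    (hOp : Cfsg.pCore p ↥E = ⊥) (P : Subgroup G) (h : Sn P E) (hP : IsPGroup p P) : P = ⊥ := by
  obtain ⟨Q, hPQ, hQE, hEQ, hQ⟩ := h.exists_normal_pgroup P le_rfl Subgroup.le_normalizer hP
  have hn : (Q.subgroupOf E).Normal := (Subgroup.normal_subgroupOf_iff_le_normalizer hQE).mpr hEQ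
  have hpg : IsPGroup p (Q.subgroupOf E) := hQ.comap_subtype
  have hle : Q.subgroupOf E ≤ Cfsg.pCore p ↥E := le_sSup ⟨hn, hpg⟩
  rw [hOp] at hle
  have hQbot : Q = ⊥ := by
    rw [Subgroup.eq_bot_iff_forall]
    intro y hy
    have h1 : (⟨y, hQE hy⟩ : ↥E) ∈ Q.subgroupOf E := Subgroup.mem_subgroupOf.mpr hy
    have h2 := hle h1
    rw [Subgroup.mem_bot] at h2
    exact congrArg Subtype.val h2
  rw [hQbot] at hPQ; exact le_bot_iff.mp hPQ

end Cfsg.Agent.Helper21
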