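import Mathlib
import Cfsg.Agent.Helper21.Subn

set_option autoImplicit false
set_option linter.style.haveILetI false

namespace Cfsg.Agent.Helper21

theorem conj_mem_centralizer {G : Type*} [Group G] (W : Subgroup G) (x c : G)
    (hx : x ∈ Subgroup.normalizer (W : Set G)) (hc : c ∈ Subgroup.centralizer (W : Set G)) :
    x * c * x⁻¹ ∈ Subgroup.centralizer (W : Set G) := by
  rw [Subgroup.mem_centralizer_iff] at hc ⊢
  intro w hw
  have hw' : x⁻¹ * w * x ∈ W := by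
    have := (Subgroup.mem_normalizer_iff.mp (Subgroup.inv_mem _ hx) w).mp hw
    simpa using this
  have h1 := hc _ hw'
  calc w * (x * c * x⁻¹) = x * ((x⁻¹ * w * x) * c) * x⁻¹ := by group
    _ = x * (c * (x⁻¹ * w * x)) * x⁻¹ := by rw [h1]
    _ = x * c * x⁻¹ * w := by group

theorem map_conj_mul {G : Type*} [Group G] (Z : Subgroup G) (g h : G) :
    (Z.map (MulAut.conj h).toMonoidHom).map (MulAut.conj g).toMonoidHom
      = Z.map (MulAut.conj (g * h)).toMonoidHom := by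
  rw [Subgroup.map_map]
  congr 1
  ext y
  simp [mul_assoc]

theorem map_conj_one {G : Type*} [Group G] (Z : Subgroup G) :
    Z.map (MulAut.conj (1 : G)).toMonoidHom = Z := by
  ext y; simp

theorem map_conj_commutator {G : Type*} [Group G] (V Z : Subgroup G) (g : G)
    (hg : g ∈ Subgroup.normalizer (V : Set G)) :
    ⁅V, Z.map (MulAut.conj g).toMonoidHom⁆ = (⁅V, Z⁆).map (MulAut.conj g).toMonoidHom := by
  rw [Subgroup.map_commutator, map_conj_eq_self V g hg]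

theorem mem_normalizer_of_map_eq {G : Type*} [Group G] [Finite G] (Z : Subgroup G) (g : G)
    (h : Z.map (MulAut.conj g).toMonoidHom = Z) : g ∈ Subgroup.normalizer (Z : Set G) :=
  mem_normalizer_of_conj' (fun y hy => by rw [← h]; exact ⟨y, hy, rfl⟩)

/-- In an abelian subgroup, `a b = c d` gives `c b⁻¹ = a d⁻¹`. -/
theorem abel_swap {G : Type*} [Group G] (V : Subgroup G)
    (hVcomm : ∀ u ∈ V, ∀ v ∈ V, u * v = v * u) {a b c d : G} (hb : b ∈ V) (hd : d ∈ V)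
    (h : a * b = c * d) : c * b⁻¹ = a * d⁻¹ := by
  have hbd : b * d = d * b := hVcomm b hb d hd
  have hc' : c = a * b * d⁻¹ := by rw [h]; group
  rw [hc']
  have h1 : b * d⁻¹ = d⁻¹ * b := by
    calc b * d⁻¹ = d⁻¹ * (d * b) * d⁻¹ := by group
      _ = d⁻¹ * (b * d) * d⁻¹ := by rw [hbd]
      _ = d⁻¹ * b := by group
  calc a * b * d⁻¹ * b⁻¹ = a * (b * d⁻¹) * b⁻¹ := by group
    _ = a * (d⁻¹ * b) * b⁻¹ := by rw [h1]
    _ = a * d⁻¹ := by group

/-- `[V, sSup 𝓢] ≤ U` when every member of `𝓢` normalizes `V` and moves `V` inside `U`. -/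
theorem comm_sSup_le {G : Type*} [Group G] (V U : Subgroup G) (hUV : U ≤ V)
    (S : Set (Subgroup G)) (hN : ∀ Z ∈ S, Z ≤ Subgroup.normalizer (V : Set G))
    (h : ∀ Z ∈ S, ⁅V, Z⁆ ≤ U) : ⁅V, sSup S⁆ ≤ U := by
  let T : Subgroup G :=
    { carrier := {e | e ∈ Subgroup.normalizer (V : Set G) ∧ ∀ v ∈ V, v * e * v⁻¹ * e⁻¹ ∈ U}
      mul_mem' := by
        rintro y z ⟨hy1, hy2⟩ ⟨hz1, hz2⟩
        refine ⟨Subgroup.mul_mem _ hy1 hz1, fun v hv => ?_⟩
        have h1 : v * (y * z) * v⁻¹ * (y * z)⁻¹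
            = (v * y * v⁻¹ * y⁻¹) * (y * (v * z * v⁻¹ * z⁻¹) * y⁻¹) := by group
        rw [h1]
        refine U.mul_mem (hy2 v hv) ?_
        have huU : v * z * v⁻¹ * z⁻¹ ∈ U := hz2 v hv
        have h2 : ∀ u : G, y * u * y⁻¹ = (u * y * u⁻¹ * y⁻¹)⁻¹ * u := fun u => by group
        rw [h2]
        exact U.mul_mem (U.inv_mem (hy2 _ (hUV huU))) huU
      one_mem' := ⟨Subgroup.one_mem _, fun v hv => by simp⟩
      inv_mem' := by
        rintro y ⟨hy1, hy2⟩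
        refine ⟨Subgroup.inv_mem _ hy1, fun v hv => ?_⟩
        have hv' : y⁻¹ * v * y ∈ V := by
          have := (Subgroup.mem_normalizer_iff.mp (Subgroup.inv_mem _ hy1) v).mp hv
          simpa using this
        have h1 : v * y⁻¹ * v⁻¹ * y⁻¹⁻¹
            = ((y⁻¹ * v * y) * y * (y⁻¹ * v * y)⁻¹ * y⁻¹)⁻¹ := by group
        rw [h1]
        exact U.inv_mem (hy2 _ hv') }
  have hT : sSup S ≤ T := by
    apply sSup_le
    intro Z hZ e he
    refine ⟨hN Z hZ he, fun v hv => ?_⟩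
    have h1 := Subgroup.commutator_mem_commutator (H₁ := V) (H₂ := Z) hv he
    rw [commutatorElement_def] at h1
    exact h Z hZ h1
  rw [Subgroup.commutator_le]
  intro v hv e he
  rw [commutatorElement_def]
  exact (hT he).2 v hv

/-- Basic facts on a subnormal subgroup acting irreducibly on its commutator module. -/
theorem irr_facts {G : Type*} [Group G] [Finite G] {p : ℕ} (V E Z : Subgroup G)
    (hVcomm : ∀ u ∈ V, ∀ v ∈ V, u * v = v * u) (hVpow : ∀ v ∈ V, v ^ p = 1)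
    (hEV : E ≤ Subgroup.normalizer (V : Set G))
    (hf : E ⊓ Subgroup.centralizer (V : Set G) = ⊥)
    (hH2 : ∀ P : Subgroup G, Sn P E → IsPGroup p P → P = ⊥)
    (hZsn : Sn Z E)
    (hirr : ∀ U : Subgroup G, U ≤ ⁅V, Z⁆ → Z ≤ Subgroup.normalizer (U : Set G) →
      U = ⊥ ∨ U = ⁅V, Z⁆)
    (hcard : 2 < Nat.card Z) :
    Z ≤ Subgroup.normalizer ((⁅V, Z⁆ : Subgroup G) : Set G) ∧ ⁅V, Z⁆ ≤ V ∧
    Z ⊓ Subgroup.centralizer ((⁅V, Z⁆ : Subgroup G) : Set G) = ⊥ ∧ ⁅⁅V, Z⁆, Z⁆ = ⁅V, Z⁆ ∧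
    ⁅V, Z⁆ ≠ ⊥ ∧ ⁅V, Z⁆ ⊓ Subgroup.centralizer (Z : Set G) = ⊥ := by
  have hZE := hZsn.le
  have hZV : Z ≤ Subgroup.normalizer (V : Set G) := hZE.trans hEV
  have hWV : ⁅V, Z⁆ ≤ V := comm_le_left V Z hZV
  have hZW : Z ≤ Subgroup.normalizer ((⁅V, Z⁆ : Subgroup G) : Set G) :=
    fun z hz => comm_normalizer V Z z (hZV hz) (Subgroup.le_normalizer hz)
  have hker : Z ⊓ Subgroup.centralizer ((⁅V, Z⁆ : Subgroup G) : Set G) = ⊥ := by
    apply hH2
    · refine Sn.step _ Z E inf_le_left ?_ hZsn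
      intro z hz
      refine inf_mem_normalizer Z _ z (Subgroup.le_normalizer hz) ?_
      exact mem_normalizer_of_conj' (fun c hc => conj_mem_centralizer _ z c (hZW hz) hc)
    · apply isPGroup_of_pow_p
      intro g hg
      obtain ⟨hgZ, hgC⟩ := Subgroup.mem_inf.mp hg
      rw [Subgroup.mem_centralizer_iff] at hgC
      refine chain_pow_one V ⁅V, Z⁆ E hVcomm hVpow hWV hf g (hZE hgZ) (fun w hw => ?_)
        (fun v hv => ?_)
      · rw [← hgC w hw]; group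
      · have h1 := Subgroup.commutator_mem_commutator (H₁ := Z) (H₂ := V) hgZ hv
        rw [Subgroup.commutator_comm, commutatorElement_def] at h1
        exact h1
  have hZne : Z ≠ ⊥ := by
    rintro rfl
    rw [Subgroup.card_bot] at hcard
    omega
  have hnotcent : ¬ Z ≤ Subgroup.centralizer ((⁅V, Z⁆ : Subgroup G) : Set G) := by
    intro h
    apply hZne
    rw [← hker]; exact (inf_eq_left.mpr h).symm
  have hWW : ⁅⁅V, Z⁆, Z⁆ = ⁅V, Z⁆ := by
    rcases hirr ⁅⁅V, Z⁆, Z⁆ (comm_le_left _ Z hZW)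
      (fun z hz => comm_normalizer _ Z z (hZW hz) (Subgroup.le_normalizer hz)) with h | h
    · exfalso
      apply hnotcent
      exact Subgroup.le_centralizer_iff.mp (Subgroup.commutator_eq_bot_iff_le_centralizer.mp h)
    · exact h
  have hWne : ⁅V, Z⁆ ≠ ⊥ := by
    intro h
    apply hnotcent
    rw [h]
    intro z _
    rw [Subgroup.mem_centralizer_iff]
    intro w hw
    have hw1 : w = 1 := Subgroup.mem_bot.mp hw
    rw [hw1]; simp
  have hfix : ⁅V, Z⁆ ⊓ Subgroup.centralizer (Z : Set G) = ⊥ := by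
    rcases hirr (⁅V, Z⁆ ⊓ Subgroup.centralizer (Z : Set G)) inf_le_left
      (fun z hz => inf_mem_normalizer _ _ z (hZW hz) (mem_normalizer_of_conj'
        (fun c hc => conj_mem_centralizer Z z c (Subgroup.le_normalizer hz) hc))) with h | h
    · exact h
    · exfalso
      apply hnotcent
      have h1 : ⁅V, Z⁆ ≤ Subgroup.centralizer (Z : Set G) := by rw [← h]; exact inf_le_right
      exact Subgroup.le_centralizer_iff.mp h1
  exact ⟨hZW, hWV, hker, hWW, hWne, hfix⟩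

/-- Key step: members of one conjugation-closed family normalize the commutator modules of the
other family. -/
theorem key_stab {G : Type*} [Group G] [Finite G] {p : ℕ} (V E : Subgroup G)
    (hVcomm : ∀ u ∈ V, ∀ v ∈ V, u * v = v * u) (hVpow : ∀ v ∈ V, v ^ p = 1)
    (hEV : E ≤ Subgroup.normalizer (V : Set G))
    (hf : E ⊓ Subgroup.centralizer (V : Set G) = ⊥)
    (hH2 : ∀ P : Subgroup G, Sn P E → IsPGroup p P → P = ⊥)
    (FX FY : Set (Subgroup G))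
    (hFX : ∀ Z ∈ FX, Sn Z E ∧ (∀ U : Subgroup G, U ≤ ⁅V, Z⁆ →
      Z ≤ Subgroup.normalizer (U : Set G) → U = ⊥ ∨ U = ⁅V, Z⁆) ∧ 2 < Nat.card Z)
    (hFY : ∀ Z ∈ FY, Sn Z E ∧ (∀ U : Subgroup G, U ≤ ⁅V, Z⁆ →
      Z ≤ Subgroup.normalizer (U : Set G) → U = ⊥ ∨ U = ⁅V, Z⁆) ∧ 2 < Nat.card Z)
    (hcX : ∀ Z ∈ FX, ∀ g ∈ E, Z.map (MulAut.conj g).toMonoidHom ∈ FX)
    (hcY : ∀ Z ∈ FY, ∀ g ∈ E, Z.map (MulAut.conj g).toMonoidHom ∈ FY)
    (hLAX : ∀ Z₁ ∈ FX, ∀ Z₂ ∈ FX, ⁅V, Z₁⁆ ≠ ⁅V, Z₂⁆ →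
      ⁅⁅V, Z₁⁆, Z₂⁆ = ⊥ ∧ ⁅V, Z₁⁆ ⊓ ⁅V, Z₂⁆ = ⊥)
    (hLAY : ∀ Z₁ ∈ FY, ∀ Z₂ ∈ FY, ⁅V, Z₁⁆ ≠ ⁅V, Z₂⁆ →
      ⁅⁅V, Z₁⁆, Z₂⁆ = ⊥ ∧ ⁅V, Z₁⁆ ⊓ ⁅V, Z₂⁆ = ⊥)
    (hgen : E ≤ sSup (FX ∪ FY))
    (hnot : ∀ Z ∈ FX, ∀ Z₂ ∈ FY,
      E ≤ Subgroup.normalizer ((⁅V, Z₂⁆ : Subgroup G) : Set G) → ¬ ⁅V, Z⁆ ≤ ⁅V, Z₂⁆) :
    ∀ Z ∈ FX, ∀ Z₂ ∈ FY, Z₂ ≤ Subgroup.normalizer ((⁅V, Z⁆ : Subgroup G) : Set G) := by
  classical
  intro Z hZ Z₂ hZ₂
  by_contra hnotle
  obtain ⟨y, hyZ₂, hyN⟩ : ∃ y ∈ Z₂, y ∉ Subgroup.normalizer ((⁅V, Z⁆ : Subgroup G) : Set G) := by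
    by_contra hno
    push Not at hno
    exact hnotle (fun y hy => hno y hy)
  obtain ⟨hZsn, hZirr, hZcard⟩ := hFX Z hZ
  obtain ⟨hZ₂sn, hZ₂irr, hZ₂card⟩ := hFY Z₂ hZ₂
  have hZE := hZsn.le
  have hZ₂E := hZ₂sn.le
  obtain ⟨hZW, hWV, hZker, hZWW, hZWne, hZfix⟩ :=
    irr_facts V E Z hVcomm hVpow hEV hf hH2 hZsn hZirr hZcard
  obtain ⟨ω, hω⟩ : ∃ ω : Subgroup G, ω = ⁅V, Z⁆ := ⟨_, rfl⟩
  obtain ⟨W₂, hW₂⟩ : ∃ W₂ : Subgroup G, W₂ = ⁅V, Z₂⁆ := ⟨_, rfl⟩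
  rw [← hω] at hZW hWV hZker hZWW hZWne hZfix hyN
  have hyE : y ∈ E := hZ₂E hyZ₂
  have hZ' : Z.map (MulAut.conj y).toMonoidHom ∈ FX := hcX Z hZ y hyE
  have hω' : ⁅V, Z.map (MulAut.conj y).toMonoidHom⁆ = ω.map (MulAut.conj y).toMonoidHom := by
    rw [hω]; exact map_conj_commutator V Z y (hEV hyE)
  have hne' : ⁅V, Z⁆ ≠ ⁅V, Z.map (MulAut.conj y).toMonoidHom⁆ := by
    rw [hω', ← hω]
    intro h
    exact hyN (mem_normalizer_of_map_eq ω y h.symm)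
  obtain ⟨hc1, hi1⟩ := hLAX Z hZ _ hZ' hne'
  obtain ⟨hc2, -⟩ := hLAX _ hZ' Z hZ hne'.symm
  rw [hω', ← hω] at hi1
  -- `Z` centralizes `ω^y`
  have hZω' : ∀ z ∈ Z, ∀ v ∈ ω, z * (y * v * y⁻¹) * z⁻¹ = y * v * y⁻¹ := by
    intro z hz v hv
    have h1 : ⁅V, Z.map (MulAut.conj y).toMonoidHom⁆ ≤ Subgroup.centralizer (Z : Set G) :=
      Subgroup.commutator_eq_bot_iff_le_centralizer.mp hc2
    have h2 : y * v * y⁻¹ ∈ ⁅V, Z.map (MulAut.conj y).toMonoidHom⁆ := by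
      rw [hω']; exact ⟨v, hv, rfl⟩
    have h3 := (Subgroup.mem_centralizer_iff.mp (h1 h2)) z hz
    rw [h3]; group
  have hd : ∀ v ∈ ω, y * v * y⁻¹ * v⁻¹ ∈ W₂ := by
    intro v hv
    have h1 := Subgroup.commutator_mem_commutator (H₁ := Z₂) (H₂ := V) hyZ₂ (hWV hv)
    rw [Subgroup.commutator_comm, commutatorElement_def, ← hW₂] at h1
    exact h1
  by_cases hcase : ∀ z ∈ Z, z ∈ Subgroup.normalizer (W₂ : Set G)
  · -- Case 1
    have hωW₂ : ω ≤ W₂ := by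
      rw [← hZWW, Subgroup.commutator_le]
      intro v hv z hz
      rw [commutatorElement_def]
      have h1 : z * (y * v * y⁻¹ * v⁻¹) * z⁻¹ ∈ W₂ :=
        (Subgroup.mem_normalizer_iff.mp (hcase z hz) _).mp (hd v hv)
      have h2 : z * (y * v * y⁻¹ * v⁻¹) * z⁻¹ = (y * v * y⁻¹) * (z * v⁻¹ * z⁻¹) := by
        have e : z * (y * v * y⁻¹ * v⁻¹) * z⁻¹
            = (z * (y * v * y⁻¹) * z⁻¹) * (z * v⁻¹ * z⁻¹) := by group
        rw [e, hZω' z hz v hv]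
      rw [h2] at h1
      have h3 : v * z * v⁻¹ * z⁻¹
          = (y * v * y⁻¹ * v⁻¹)⁻¹ * ((y * v * y⁻¹) * (z * v⁻¹ * z⁻¹)) := by group
      rw [h3]
      exact W₂.mul_mem (W₂.inv_mem (hd v hv)) h1
    have hEW₂ : E ≤ Subgroup.normalizer (W₂ : Set G) := by
      refine hgen.trans (sSup_le ?_)
      rintro Z₃ (hZ₃ | hZ₃)
      · intro z₁ hz₁
        obtain ⟨hZ₃sn, hZ₃irr, hZ₃card⟩ := hFX Z₃ hZ₃
        have hz₁E : z₁ ∈ E := hZ₃sn.le hz₁
        have hz₁ω : z₁ ∈ Subgroup.normalizer (ω : Set G) := by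
          by_cases he : ⁅V, Z⁆ = ⁅V, Z₃⁆
          · rw [hω, he]
            exact (irr_facts V E Z₃ hVcomm hVpow hEV hf hH2 hZ₃sn hZ₃irr hZ₃card).1 hz₁
          · obtain ⟨hc, -⟩ := hLAX Z hZ Z₃ hZ₃ he
            rw [← hω] at hc
            have h1 : Z₃ ≤ Subgroup.centralizer (ω : Set G) :=
              Subgroup.le_centralizer_iff.mp
                (Subgroup.commutator_eq_bot_iff_le_centralizer.mp hc)
            exact Subgroup.centralizer_le_normalizer _ (h1 hz₁)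
        have hZ₂' : Z₂.map (MulAut.conj z₁).toMonoidHom ∈ FY := hcY Z₂ hZ₂ z₁ hz₁E
        have hW₂' : ⁅V, Z₂.map (MulAut.conj z₁).toMonoidHom⁆
            = W₂.map (MulAut.conj z₁).toMonoidHom := by
          rw [hW₂]; exact map_conj_commutator V Z₂ z₁ (hEV hz₁E)
        by_cases he2 : ⁅V, Z₂⁆ = ⁅V, Z₂.map (MulAut.conj z₁).toMonoidHom⁆
        · rw [hW₂', ← hW₂] at he2
          exact mem_normalizer_of_map_eq W₂ z₁ he2.symm
        · exfalso
          obtain ⟨-, hi⟩ := hLAY Z₂ hZ₂ _ hZ₂' he2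
          rw [hW₂', ← hW₂] at hi
          have h1 : ω ≤ W₂ ⊓ W₂.map (MulAut.conj z₁).toMonoidHom := by
            refine le_inf hωW₂ ?_
            have h2 : ω.map (MulAut.conj z₁).toMonoidHom = ω := map_conj_eq_self ω z₁ hz₁ω
            rw [← h2]
            exact Subgroup.map_mono hωW₂
          rw [hi] at h1
          exact hZWne (le_bot_iff.mp h1)
      · intro z₁ hz₁
        obtain ⟨hZ₃sn, hZ₃irr, hZ₃card⟩ := hFY Z₃ hZ₃
        by_cases he : ⁅V, Z₂⁆ = ⁅V, Z₃⁆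
        · rw [hW₂, he]
          exact (irr_facts V E Z₃ hVcomm hVpow hEV hf hH2 hZ₃sn hZ₃irr hZ₃card).1 hz₁
        · obtain ⟨hc, -⟩ := hLAY Z₂ hZ₂ Z₃ hZ₃ he
          rw [← hW₂] at hc
          have h1 : Z₃ ≤ Subgroup.centralizer (W₂ : Set G) :=
            Subgroup.le_centralizer_iff.mp
              (Subgroup.commutator_eq_bot_iff_le_centralizer.mp hc)
          exact Subgroup.centralizer_le_normalizer _ (h1 hz₁)
    exact hnot Z hZ Z₂ hZ₂ (by rw [← hW₂]; exact hEW₂) (by rw [← hω, ← hW₂]; exact hωW₂)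
  · -- Case 2
    push Not at hcase
    obtain ⟨z₀, hz₀Z, hz₀N⟩ := hcase
    have hinv : ∀ z ∈ Z, z ∉ Subgroup.normalizer (W₂ : Set G) → ∀ v ∈ ω, z⁻¹ * v * z = v⁻¹ := by
      intro z hz hzN v hv
      have hzE : z ∈ E := hZE hz
      have hZ₂' : Z₂.map (MulAut.conj z).toMonoidHom ∈ FY := hcY Z₂ hZ₂ z hzE
      have hW₂' : ⁅V, Z₂.map (MulAut.conj z).toMonoidHom⁆
          = W₂.map (MulAut.conj z).toMonoidHom := by
        rw [hW₂]; exact map_conj_commutator V Z₂ z (hEV hzE)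
      have he2 : ⁅V, Z₂⁆ ≠ ⁅V, Z₂.map (MulAut.conj z).toMonoidHom⁆ := by
        rw [hW₂', ← hW₂]
        intro h
        exact hzN (mem_normalizer_of_map_eq W₂ z h.symm)
      obtain ⟨hc, -⟩ := hLAY Z₂ hZ₂ _ hZ₂' he2
      rw [← hW₂] at hc
      have hcent : Z₂.map (MulAut.conj z).toMonoidHom ≤ Subgroup.centralizer (W₂ : Set G) :=
        Subgroup.le_centralizer_iff.mp (Subgroup.commutator_eq_bot_iff_le_centralizer.mp hc)
      have hcmem : z * y * z⁻¹ ∈ Z₂.map (MulAut.conj z).toMonoidHom := ⟨y, hyZ₂, rfl⟩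
      have hcd := (Subgroup.mem_centralizer_iff.mp (hcent hcmem)) _ (hd v hv)
      have hu : z⁻¹ * v * z ∈ ω := by
        have := (Subgroup.mem_normalizer_iff.mp (hZW (Z.inv_mem hz)) v).mp hv
        simpa using this
      have hstar : z * (y * y * v * y⁻¹ * y⁻¹) * z⁻¹ * (y * (z⁻¹ * v * z)⁻¹ * y⁻¹)
          = (y * v * y⁻¹) * v⁻¹ := by
        have e1 : (z * y * z⁻¹) * (y * v * y⁻¹ * v⁻¹) * (z * y * z⁻¹)⁻¹
            = y * v * y⁻¹ * v⁻¹ := by
          rw [← hcd]; group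
        have e2 : (z * y * z⁻¹) * (y * v * y⁻¹ * v⁻¹) * (z * y * z⁻¹)⁻¹
            = z * y * (z⁻¹ * (y * v * y⁻¹) * z⁻¹⁻¹) * y⁻¹ * z⁻¹ *
              (z * (y * (z⁻¹ * v * z)⁻¹ * y⁻¹) * z⁻¹) := by group
        rw [e2, hZω' z⁻¹ (Z.inv_mem hz) v hv, hZω' z hz _ (ω.inv_mem hu)] at e1
        rw [← e1]; group
      by_cases hy2 : y * y ∈ Subgroup.normalizer (ω : Set G)
      · have ht : y * y * v * y⁻¹ * y⁻¹ ∈ ω := by
          have h1 := (Subgroup.mem_normalizer_iff.mp hy2 v).mp hv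
          have e : y * y * v * (y * y)⁻¹ = y * y * v * y⁻¹ * y⁻¹ := by group
          rwa [e] at h1
        have hzt : z * (y * y * v * y⁻¹ * y⁻¹) * z⁻¹ ∈ ω :=
          (Subgroup.mem_normalizer_iff.mp (hZW hz) _).mp ht
        have hb : y * (z⁻¹ * v * z)⁻¹ * y⁻¹ ∈ ω.map (MulAut.conj y).toMonoidHom :=
          ⟨_, ω.inv_mem hu, rfl⟩
        have hc' : y * v * y⁻¹ ∈ ω.map (MulAut.conj y).toMonoidHom := ⟨v, hv, rfl⟩
        have hbV : y * (z⁻¹ * v * z)⁻¹ * y⁻¹ ∈ V :=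
          (Subgroup.mem_normalizer_iff.mp (hEV hyE) _).mp (hWV (ω.inv_mem hu))
        have hsw := abel_swap V hVcomm hbV (V.inv_mem (hWV hv)) hstar
        have hmem : (y * v * y⁻¹) * (y * (z⁻¹ * v * z)⁻¹ * y⁻¹)⁻¹
            ∈ ω ⊓ ω.map (MulAut.conj y).toMonoidHom := by
          refine Subgroup.mem_inf.mpr ⟨?_, Subgroup.mul_mem _ hc' (Subgroup.inv_mem _ hb)⟩
          rw [hsw]
          exact ω.mul_mem hzt (ω.inv_mem (ω.inv_mem hv))
        rw [hi1] at hmem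
        have h1 : (y * v * y⁻¹) * (y * (z⁻¹ * v * z)⁻¹ * y⁻¹)⁻¹ = 1 := Subgroup.mem_bot.mp hmem
        have h2 : v * (z⁻¹ * v * z) = 1 := by
          have e : v * (z⁻¹ * v * z)
              = y⁻¹ * ((y * v * y⁻¹) * (y * (z⁻¹ * v * z)⁻¹ * y⁻¹)⁻¹) * y := by group
          rw [e, h1]; group
        exact eq_inv_of_mul_eq_one_right h2
      · -- `ω^(y²) ≠ ω`: then `v = 1`
        have hyyE : y * y ∈ E := E.mul_mem hyE hyE
        have hZ'' : Z.map (MulAut.conj (y * y)).toMonoidHom ∈ FX := hcX Z hZ _ hyyE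
        have hω'' : ⁅V, Z.map (MulAut.conj (y * y)).toMonoidHom⁆
            = ω.map (MulAut.conj (y * y)).toMonoidHom := by
          rw [hω]; exact map_conj_commutator V Z _ (hEV hyyE)
        have hne'' : ⁅V, Z.map (MulAut.conj (y * y)).toMonoidHom⁆ ≠ ⁅V, Z⁆ := by
          rw [hω'', ← hω]
          intro h
          exact hy2 (mem_normalizer_of_map_eq ω _ h)
        obtain ⟨hc3, -⟩ := hLAX _ hZ'' Z hZ hne''
        have hcentZ : ⁅V, Z.map (MulAut.conj (y * y)).toMonoidHom⁆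
            ≤ Subgroup.centralizer (Z : Set G) :=
          Subgroup.commutator_eq_bot_iff_le_centralizer.mp hc3
        have ht : y * y * v * y⁻¹ * y⁻¹ ∈ Subgroup.centralizer (Z : Set G) := by
          apply hcentZ
          rw [hω'']
          refine ⟨v, hv, ?_⟩
          show y * y * v * (y * y)⁻¹ = y * y * v * y⁻¹ * y⁻¹
          group
        have hcentZ' : ⁅V, Z.map (MulAut.conj y).toMonoidHom⁆
            ≤ Subgroup.centralizer (Z : Set G) :=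
          Subgroup.commutator_eq_bot_iff_le_centralizer.mp hc2
        have hb : y * (z⁻¹ * v * z)⁻¹ * y⁻¹ ∈ Subgroup.centralizer (Z : Set G) := by
          apply hcentZ'
          rw [hω']
          exact ⟨_, ω.inv_mem hu, rfl⟩
        have hc' : y * v * y⁻¹ ∈ Subgroup.centralizer (Z : Set G) := by
          apply hcentZ'
          rw [hω']
          exact ⟨v, hv, rfl⟩
        have hzt : z * (y * y * v * y⁻¹ * y⁻¹) * z⁻¹ = y * y * v * y⁻¹ * y⁻¹ := by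
          have h3 := (Subgroup.mem_centralizer_iff.mp ht) z hz
          rw [h3]; group
        rw [hzt] at hstar
        have hvinv : v⁻¹ = (y * v * y⁻¹)⁻¹ * ((y * y * v * y⁻¹ * y⁻¹) *
            (y * (z⁻¹ * v * z)⁻¹ * y⁻¹)) := by
          rw [hstar]; group
        have hvC : v⁻¹ ∈ ω ⊓ Subgroup.centralizer (Z : Set G) := by
          refine Subgroup.mem_inf.mpr ⟨ω.inv_mem hv, ?_⟩
          rw [hvinv]
          exact Subgroup.mul_mem _ (Subgroup.inv_mem _ hc') (Subgroup.mul_mem _ ht hb)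
        rw [hZfix] at hvC
        have hv1 : v = 1 := inv_eq_one.mp (Subgroup.mem_bot.mp hvC)
        rw [hv1]; simp
    have hall : ∀ z ∈ Z, z = 1 ∨ z = z₀ := by
      intro z hz
      by_cases hzN : z ∈ Subgroup.normalizer (W₂ : Set G)
      · left
        have hzz₀ : z * z₀ ∉ Subgroup.normalizer (W₂ : Set G) := by
          intro h
          apply hz₀N
          have e : z₀ = z⁻¹ * (z * z₀) := by group
          rw [e]; exact Subgroup.mul_mem _ (Subgroup.inv_mem _ hzN) h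
        have hzC : z ∈ Z ⊓ Subgroup.centralizer (ω : Set G) := by
          refine Subgroup.mem_inf.mpr ⟨hz, ?_⟩
          rw [Subgroup.mem_centralizer_iff]
          intro v hv
          have hv' : z⁻¹ * v * z ∈ ω := by
            have := (Subgroup.mem_normalizer_iff.mp (hZW (Z.inv_mem hz)) v).mp hv
            simpa using this
          have h1 := hinv (z * z₀) (Z.mul_mem hz hz₀Z) hzz₀ v hv
          have h2 := hinv z₀ hz₀Z hz₀N _ hv'
          have h3 : (z * z₀)⁻¹ * v * (z * z₀) = z₀⁻¹ * (z⁻¹ * v * z) * z₀ := by group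
          rw [h3, h2] at h1
          have h4 : z⁻¹ * v * z = v := inv_injective h1
          calc v * z = z * (z⁻¹ * v * z) := by group
            _ = z * v := by rw [h4]
        rw [hZker] at hzC
        exact Subgroup.mem_bot.mp hzC
      · right
        have hzC : z * z₀⁻¹ ∈ Z ⊓ Subgroup.centralizer (ω : Set G) := by
          refine Subgroup.mem_inf.mpr ⟨Z.mul_mem hz (Z.inv_mem hz₀Z), ?_⟩
          rw [Subgroup.mem_centralizer_iff]
          intro v hv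
          have h1 := hinv z hz hzN v hv
          have h2 := hinv z₀ hz₀Z hz₀N v hv
          have h3 : z⁻¹ * v * z = z₀⁻¹ * v * z₀ := by rw [h1, h2]
          calc v * (z * z₀⁻¹) = z * (z⁻¹ * v * z) * z₀⁻¹ := by group
            _ = z * (z₀⁻¹ * v * z₀) * z₀⁻¹ := by rw [h3]
            _ = z * z₀⁻¹ * v := by group
        rw [hZker] at hzC
        have h5 : z * z₀⁻¹ = 1 := Subgroup.mem_bot.mp hzC
        exact mul_inv_eq_one.mp h5
    have hcard2 : Nat.card Z ≤ 2 := by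
      have hsub : (Z : Set G) ⊆ {1, z₀} := fun z hz => by
        rcases hall z hz with h | h
        · left; exact h
        · right; exact h
      have h1 : Nat.card Z = (Z : Set G).ncard := rfl
      rw [h1]
      have h2 : ({1, z₀} : Set G).ncard ≤ 2 := by
        calc ({1, z₀} : Set G).ncard ≤ ({z₀} : Set G).ncard + 1 := Set.ncard_insert_le 1 {z₀}
          _ = 2 := by rw [Set.ncard_singleton]
      exact (Set.ncard_le_ncard hsub (Set.toFinite _)).trans h2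
    omega

/-- Subnormal subgroups acting irreducibly on incomparable commutator modules commute, by
induction on the order of the ambient group, for conjugation-closed families. -/
theorem subn_irred_key {G : Type*} [Group G] [Finite G] {p : ℕ} (V : Subgroup G)
    (hVcomm : ∀ u ∈ V, ∀ v ∈ V, u * v = v * u) (hVpow : ∀ v ∈ V, v ^ p = 1) :
    ∀ (n : ℕ) (E : Subgroup G) (F : Set (Subgroup G)), Nat.card E ≤ n →
      E ≤ Subgroup.normalizer (V : Set G) → E ⊓ Subgroup.centralizer (V : Set G) = ⊥ →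
      (∀ P : Subgroup G, Sn P E → IsPGroup p P → P = ⊥) →
      (∀ Z ∈ F, Sn Z E ∧ (∀ U : Subgroup G, U ≤ ⁅V, Z⁆ →
        Z ≤ Subgroup.normalizer (U : Set G) → U = ⊥ ∨ U = ⁅V, Z⁆) ∧ 2 < Nat.card Z) →
      (∀ Z ∈ F, ∀ g ∈ E, Z.map (MulAut.conj g).toMonoidHom ∈ F) →
      ∀ X ∈ F, ∀ Y ∈ F, ¬ ⁅V, X⁆ ≤ ⁅V, Y⁆ → ¬ ⁅V, Y⁆ ≤ ⁅V, X⁆ →
        ⁅X, Y⁆ = ⊥ ∧ ⁅⁅V, X⁆, Y⁆ = ⊥ ∧ ⁅⁅V, Y⁆, X⁆ = ⊥ ∧ ⁅V, X⁆ ⊓ ⁅V, Y⁆ = ⊥ := by
  classical
  intro n
  induction n with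
  | zero =>
    intro E F hE
    have := Nat.card_pos (α := E)
    omega
  | succ n ih =>
    intro E F hEn hEV hf hH2 hF hFc X hX Y hY hXY hYX
    by_cases hEn' : Nat.card E ≤ n
    · exact ih E F hEn' hEV hf hH2 hF hFc X hX Y hY hXY hYX
    have hsub : ∀ F' : Set (Subgroup G), F' ⊆ F →
        (∀ Z ∈ F', ∀ g ∈ E, Z.map (MulAut.conj g).toMonoidHom ∈ F') → sSup F' ≠ E →
        ∀ Z₁ ∈ F', ∀ Z₂ ∈ F', ¬ ⁅V, Z₁⁆ ≤ ⁅V, Z₂⁆ → ¬ ⁅V, Z₂⁆ ≤ ⁅V, Z₁⁆ →
          ⁅Z₁, Z₂⁆ = ⊥ ∧ ⁅⁅V, Z₁⁆, Z₂⁆ = ⊥ ∧ ⁅⁅V, Z₂⁆, Z₁⁆ = ⊥ ∧ ⁅V, Z₁⁆ ⊓ ⁅V, Z₂⁆ = ⊥ := by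
      intro F' hF'F hF'c hne
      have hN'E : sSup F' ≤ E := sSup_le (fun Z hZ => (hF Z (hF'F hZ)).1.le)
      have hEN' : E ≤ Subgroup.normalizer ((sSup F' : Subgroup G) : Set G) := by
        intro g hg
        refine mem_normalizer_of_conj' (fun y hy => ?_)
        have h1 : (sSup F').map (MulAut.conj g).toMonoidHom ≤ sSup F' := by
          rw [Subgroup.map_le_iff_le_comap]
          apply sSup_le
          intro Z hZ
          rw [← Subgroup.map_le_iff_le_comap]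
          exact le_sSup (hF'c Z hZ g hg)
        exact h1 ⟨y, hy, rfl⟩
      have hcard : Nat.card ↥(sSup F') ≤ n := by
        have h1 := Subgroup.card_le_of_le hN'E
        by_contra hlt
        have h2 : Nat.card E ≤ Nat.card ↥(sSup F') := by omega
        exact hne (Subgroup.eq_of_le_of_card_ge hN'E h2)
      exact ih (sSup F') F' hcard (hN'E.trans hEV)
        (le_bot_iff.mp ((inf_le_inf_right _ hN'E).trans (le_of_eq hf)))
        (fun P hP hPp => hH2 P (hP.trans_normal hN'E hEN') hPp)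
        (fun Z hZ => ⟨(hF Z (hF'F hZ)).1.of_le (le_sSup hZ) hN'E, (hF Z (hF'F hZ)).2⟩)
        (fun Z hZ g hg => hF'c Z hZ g (hN'E hg))
    have hXE : X ≠ E := by
      rintro rfl
      exact hYX (Subgroup.commutator_mono le_rfl (hF Y hY).1.le)
    have hYE : Y ≠ E := by
      rintro rfl
      exact hXY (Subgroup.commutator_mono le_rfl (hF X hX).1.le)
    obtain ⟨FX, hFXdef⟩ : ∃ FX : Set (Subgroup G),
        FX = {Z | ∃ g ∈ E, Z = X.map (MulAut.conj g).toMonoidHom} := ⟨_, rfl⟩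
    obtain ⟨FY, hFYdef⟩ : ∃ FY : Set (Subgroup G),
        FY = {Z | ∃ g ∈ E, Z = Y.map (MulAut.conj g).toMonoidHom} := ⟨_, rfl⟩
    have hXFX : X ∈ FX := by rw [hFXdef]; exact ⟨1, E.one_mem, (map_conj_one X).symm⟩
    have hYFY : Y ∈ FY := by rw [hFYdef]; exact ⟨1, E.one_mem, (map_conj_one Y).symm⟩
    have hFXF : FX ⊆ F := by
      rw [hFXdef]; rintro Z ⟨g, hg, rfl⟩; exact hFc X hX g hg
    have hFYF : FY ⊆ F := by
      rw [hFYdef]; rintro Z ⟨g, hg, rfl⟩; exact hFc Y hY g hg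
    have hFXc : ∀ Z ∈ FX, ∀ g ∈ E, Z.map (MulAut.conj g).toMonoidHom ∈ FX := by
      rw [hFXdef]; rintro Z ⟨h, hh, rfl⟩ g hg
      exact ⟨g * h, E.mul_mem hg hh, map_conj_mul X g h⟩
    have hFYc : ∀ Z ∈ FY, ∀ g ∈ E, Z.map (MulAut.conj g).toMonoidHom ∈ FY := by
      rw [hFYdef]; rintro Z ⟨h, hh, rfl⟩ g hg
      exact ⟨g * h, E.mul_mem hg hh, map_conj_mul Y g h⟩
    have hWcardX : ∀ Z ∈ FX, Nat.card ↥(⁅V, Z⁆) = Nat.card ↥(⁅V, X⁆) := by
      rw [hFXdef]; rintro Z ⟨g, hg, rfl⟩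
      rw [map_conj_commutator V X g (hEV hg),
        Subgroup.card_map_of_injective (MulAut.conj g).injective]
    have hWcardY : ∀ Z ∈ FY, Nat.card ↥(⁅V, Z⁆) = Nat.card ↥(⁅V, Y⁆) := by
      rw [hFYdef]; rintro Z ⟨g, hg, rfl⟩
      rw [map_conj_commutator V Y g (hEV hg),
        Subgroup.card_map_of_injective (MulAut.conj g).injective]
    have hclassne : ∀ (X' : Subgroup G) (FX' : Set (Subgroup G)), X' ∈ F → X' ≠ E →
        (∀ Z ∈ FX', ∃ g ∈ E, Z = X'.map (MulAut.conj g).toMonoidHom) → sSup FX' ≠ E := by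
      intro X' FX' hX' hX'E hFX' hsup
      obtain ⟨N, hXN, hNE, hEN, hNne⟩ := (hF X' hX').1.exists_normal_proper hX'E
      apply hNne
      apply le_antisymm hNE
      rw [← hsup]
      apply sSup_le
      intro Z hZ
      obtain ⟨g, hg, rfl⟩ := hFX' Z hZ
      calc X'.map (MulAut.conj g).toMonoidHom ≤ N.map (MulAut.conj g).toMonoidHom :=
            Subgroup.map_mono hXN
        _ = N := map_conj_eq_self N g (hEN hg)
    have hNX : sSup FX ≠ E := hclassne X FX hX hXE (by rw [hFXdef]; exact fun Z hZ => hZ)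
    have hNY : sSup FY ≠ E := hclassne Y FY hY hYE (by rw [hFYdef]; exact fun Z hZ => hZ)
    have hLAX : ∀ Z₁ ∈ FX, ∀ Z₂ ∈ FX, ⁅V, Z₁⁆ ≠ ⁅V, Z₂⁆ →
        ⁅⁅V, Z₁⁆, Z₂⁆ = ⊥ ∧ ⁅V, Z₁⁆ ⊓ ⁅V, Z₂⁆ = ⊥ := by
      intro Z₁ hZ₁ Z₂ hZ₂ hne
      have hc : Nat.card ↥(⁅V, Z₁⁆) = Nat.card ↥(⁅V, Z₂⁆) := by
        rw [hWcardX Z₁ hZ₁, hWcardX Z₂ hZ₂]
      obtain ⟨-, h2, -, h4⟩ := hsub FX hFXF hFXc hNX Z₁ hZ₁ Z₂ hZ₂
        (fun hle => hne (Subgroup.eq_of_le_of_card_ge hle (le_of_eq hc.symm)))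
        (fun hle => hne (Subgroup.eq_of_le_of_card_ge hle (le_of_eq hc)).symm)
      exact ⟨h2, h4⟩
    have hLAY : ∀ Z₁ ∈ FY, ∀ Z₂ ∈ FY, ⁅V, Z₁⁆ ≠ ⁅V, Z₂⁆ →
        ⁅⁅V, Z₁⁆, Z₂⁆ = ⊥ ∧ ⁅V, Z₁⁆ ⊓ ⁅V, Z₂⁆ = ⊥ := by
      intro Z₁ hZ₁ Z₂ hZ₂ hne
      have hc : Nat.card ↥(⁅V, Z₁⁆) = Nat.card ↥(⁅V, Z₂⁆) := by
        rw [hWcardY Z₁ hZ₁, hWcardY Z₂ hZ₂]
      obtain ⟨-, h2, -, h4⟩ := hsub FY hFYF hFYc hNY Z₁ hZ₁ Z₂ hZ₂
        (fun hle => hne (Subgroup.eq_of_le_of_card_ge hle (le_of_eq hc.symm)))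
        (fun hle => hne (Subgroup.eq_of_le_of_card_ge hle (le_of_eq hc)).symm)
      exact ⟨h2, h4⟩
    by_cases hgen : sSup (FX ∪ FY) = E
    swap
    · exact hsub (FX ∪ FY) (Set.union_subset hFXF hFYF) (by
        rintro Z (hZ | hZ) g hg
        · exact Or.inl (hFXc Z hZ g hg)
        · exact Or.inr (hFYc Z hZ g hg)) hgen X (Or.inl hXFX) Y (Or.inr hYFY) hXY hYX
    have hFX' := fun Z (hZ : Z ∈ FX) => hF Z (hFXF hZ)
    have hFY' := fun Z (hZ : Z ∈ FY) => hF Z (hFYF hZ)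
    have hnotgen : ∀ (X' Y' : Subgroup G), ¬ ⁅V, X'⁆ ≤ ⁅V, Y'⁆ →
        ∀ g ∈ E, ∀ h ∈ E,
        E ≤ Subgroup.normalizer
          ((⁅V, Y'.map (MulAut.conj h).toMonoidHom⁆ : Subgroup G) : Set G) →
        ¬ ⁅V, X'.map (MulAut.conj g).toMonoidHom⁆ ≤ ⁅V, Y'.map (MulAut.conj h).toMonoidHom⁆ := by
      intro X' Y' hX'Y' g hg h hh hEN hle
      rw [map_conj_commutator V X' g (hEV hg)] at hle
      rw [map_conj_commutator V Y' h (hEV hh)] at hle hEN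
      have h1 : ⁅V, Y'⁆ ≤ (⁅V, Y'⁆).map (MulAut.conj h).toMonoidHom := by
        intro w hw
        exact (Subgroup.mem_normalizer_iff.mp (hEN hh) w).mpr ⟨w, hw, rfl⟩
      have h2 : (⁅V, Y'⁆).map (MulAut.conj h).toMonoidHom = ⁅V, Y'⁆ :=
        (Subgroup.eq_of_le_of_card_ge h1
          (by rw [Subgroup.card_map_of_injective (MulAut.conj h).injective])).symm
      rw [h2] at hle hEN
      apply hX'Y'
      intro w hw
      exact (Subgroup.mem_normalizer_iff.mp (hEN hg) w).mpr (hle ⟨w, hw, rfl⟩)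
    have hnotXY : ∀ Z ∈ FX, ∀ Z₂ ∈ FY,
        E ≤ Subgroup.normalizer ((⁅V, Z₂⁆ : Subgroup G) : Set G) → ¬ ⁅V, Z⁆ ≤ ⁅V, Z₂⁆ := by
      intro Z hZ Z₂ hZ₂
      rw [hFXdef] at hZ; rw [hFYdef] at hZ₂
      obtain ⟨g, hg, rfl⟩ := hZ
      obtain ⟨h, hh, rfl⟩ := hZ₂
      exact hnotgen X Y hXY g hg h hh
    have hnotYX : ∀ Z ∈ FY, ∀ Z₂ ∈ FX,
        E ≤ Subgroup.normalizer ((⁅V, Z₂⁆ : Subgroup G) : Set G) → ¬ ⁅V, Z⁆ ≤ ⁅V, Z₂⁆ := by
      intro Z hZ Z₂ hZ₂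
      rw [hFYdef] at hZ; rw [hFXdef] at hZ₂
      obtain ⟨g, hg, rfl⟩ := hZ
      obtain ⟨h, hh, rfl⟩ := hZ₂
      exact hnotgen Y X hYX g hg h hh
    have hstabX := key_stab V E hVcomm hVpow hEV hf hH2 FX FY hFX' hFY' hFXc hFYc hLAX hLAY
      (le_of_eq hgen.symm) hnotXY
    have hstabY := key_stab V E hVcomm hVpow hEV hf hH2 FY FX hFY' hFX' hFYc hFXc hLAY hLAX
      (by rw [Set.union_comm]; exact le_of_eq hgen.symm) hnotYX
    obtain ⟨hXW, hWXV, hXker, hXWW, hXWne, hXfix⟩ :=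
      irr_facts V E X hVcomm hVpow hEV hf hH2 (hF X hX).1 (hF X hX).2.1 (hF X hX).2.2
    obtain ⟨hYW, hWYV, hYker, hYWW, hYWne, hYfix⟩ :=
      irr_facts V E Y hVcomm hVpow hEV hf hH2 (hF Y hY).1 (hF Y hY).2.1 (hF Y hY).2.2
    have hYWX : Y ≤ Subgroup.normalizer ((⁅V, X⁆ : Subgroup G) : Set G) :=
      hstabX X hXFX Y hYFY
    have hXWY : X ≤ Subgroup.normalizer ((⁅V, Y⁆ : Subgroup G) : Set G) :=
      hstabY Y hYFY X hXFX
    have hinf : ⁅V, X⁆ ⊓ ⁅V, Y⁆ = ⊥ := by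
      rcases (hF X hX).2.1 (⁅V, X⁆ ⊓ ⁅V, Y⁆) inf_le_left
        (fun x hx => inf_mem_normalizer _ _ x (hXW hx) (hXWY hx)) with h | h
      · exact h
      · exact absurd (by rw [← h]; exact inf_le_right) hXY
    have hWXY : ⁅⁅V, X⁆, Y⁆ = ⊥ := by
      apply le_bot_iff.mp
      rw [← hinf]
      exact le_inf (comm_le_left _ Y hYWX) (Subgroup.commutator_mono hWXV le_rfl)
    have hWYX : ⁅⁅V, Y⁆, X⁆ = ⊥ := by
      apply le_bot_iff.mp
      rw [← hinf]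
      exact le_inf (Subgroup.commutator_mono hWYV le_rfl) (comm_le_left _ X hXWY)
    refine ⟨?_, hWXY, hWYX, hinf⟩
    have hEWX : E ≤ Subgroup.normalizer ((⁅V, X⁆ : Subgroup G) : Set G) := by
      rw [← hgen]
      apply sSup_le
      rintro Z (hZ | hZ)
      · by_cases he : ⁅V, X⁆ = ⁅V, Z⁆
        · rw [he]
          exact (irr_facts V E Z hVcomm hVpow hEV hf hH2 (hFX' Z hZ).1 (hFX' Z hZ).2.1
            (hFX' Z hZ).2.2).1
        · obtain ⟨hc, -⟩ := hLAX X hXFX Z hZ he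
          exact (Subgroup.le_centralizer_iff.mp
            (Subgroup.commutator_eq_bot_iff_le_centralizer.mp hc)).trans
            (Subgroup.centralizer_le_normalizer _)
      · exact hstabX X hXFX Z hZ
    have hEWY : E ≤ Subgroup.normalizer ((⁅V, Y⁆ : Subgroup G) : Set G) := by
      rw [← hgen]
      apply sSup_le
      rintro Z (hZ | hZ)
      · exact hstabY Y hYFY Z hZ
      · by_cases he : ⁅V, Y⁆ = ⁅V, Z⁆
        · rw [he]
          exact (irr_facts V E Z hVcomm hVpow hEV hf hH2 (hFY' Z hZ).1 (hFY' Z hZ).2.1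
            (hFY' Z hZ).2.2).1
        · obtain ⟨hc, -⟩ := hLAY Y hYFY Z hZ he
          exact (Subgroup.le_centralizer_iff.mp
            (Subgroup.commutator_eq_bot_iff_le_centralizer.mp hc)).trans
            (Subgroup.centralizer_le_normalizer _)
    have hUV : ⁅V, X⁆ ⊔ ⁅V, Y⁆ ≤ V := sup_le hWXV hWYV
    have hVE : ⁅V, E⁆ ≤ ⁅V, X⁆ ⊔ ⁅V, Y⁆ := by
      rw [← hgen]
      refine comm_sSup_le V _ hUV _ (fun Z hZ => ?_) (fun Z hZ => ?_)
      · rcases hZ with hZ | hZ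
        · exact (hFX' Z hZ).1.le.trans hEV
        · exact (hFY' Z hZ).1.le.trans hEV
      · rcases hZ with hZ | hZ
        · rw [hFXdef] at hZ
          obtain ⟨g, hg, rfl⟩ := hZ
          rw [map_conj_commutator V X g (hEV hg), map_conj_eq_self _ g (hEWX hg)]
          exact le_sup_left
        · rw [hFYdef] at hZ
          obtain ⟨g, hg, rfl⟩ := hZ
          rw [map_conj_commutator V Y g (hEV hg), map_conj_eq_self _ g (hEWY hg)]
          exact le_sup_right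
    have hC : E ⊓ Subgroup.centralizer ((⁅V, X⁆ ⊔ ⁅V, Y⁆ : Subgroup G) : Set G) = ⊥ := by
      apply hH2
      · refine Sn.step _ E E inf_le_left ?_ (Sn.refl E)
        intro g hg
        refine inf_mem_normalizer E _ g (Subgroup.le_normalizer hg) ?_
        refine mem_normalizer_of_conj' (fun c hc => conj_mem_centralizer _ g c ?_ hc)
        refine mem_normalizer_of_conj' (fun u hu => ?_)
        have h1 : (⁅V, X⁆ ⊔ ⁅V, Y⁆).map (MulAut.conj g).toMonoidHom = ⁅V, X⁆ ⊔ ⁅V, Y⁆ := by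
          rw [Subgroup.map_sup, map_conj_eq_self _ g (hEWX hg), map_conj_eq_self _ g (hEWY hg)]
        rw [← h1]; exact ⟨u, hu, rfl⟩
      · apply isPGroup_of_pow_p
        intro g hg
        obtain ⟨hgE, hgC⟩ := Subgroup.mem_inf.mp hg
        rw [Subgroup.mem_centralizer_iff] at hgC
        refine chain_pow_one V _ E hVcomm hVpow hUV hf g hgE (fun w hw => ?_) (fun v hv => ?_)
        · rw [← hgC w hw]; group
        · have h1 := Subgroup.commutator_mem_commutator (H₁ := E) (H₂ := V) hgE hv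
          rw [Subgroup.commutator_comm, commutatorElement_def] at h1
          exact hVE h1
    apply le_bot_iff.mp
    rw [← hC]
    have hYC : Y ≤ Subgroup.centralizer ((⁅V, X⁆ : Subgroup G) : Set G) :=
      Subgroup.le_centralizer_iff.mp (Subgroup.commutator_eq_bot_iff_le_centralizer.mp hWXY)
    have hXC : X ≤ Subgroup.centralizer ((⁅V, Y⁆ : Subgroup G) : Set G) :=
      Subgroup.le_centralizer_iff.mp (Subgroup.commutator_eq_bot_iff_le_centralizer.mp hWYX)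
    have h1 : ⁅X, Y⁆ ≤ Subgroup.centralizer ((⁅V, X⁆ : Subgroup G) : Set G) := by
      rw [Subgroup.commutator_le]
      intro x hx y hy
      rw [commutatorElement_def]
      exact Subgroup.mul_mem _ (conj_mem_centralizer _ x y (hXW hx) (hYC hy))
        (Subgroup.inv_mem _ (hYC hy))
    have h2 : ⁅X, Y⁆ ≤ Subgroup.centralizer ((⁅V, Y⁆ : Subgroup G) : Set G) := by
      rw [Subgroup.commutator_le]
      intro x hx y hy
      rw [commutatorElement_def]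
      have e : x * y * x⁻¹ * y⁻¹ = x * (y * x⁻¹ * y⁻¹) := by group
      rw [e]
      exact Subgroup.mul_mem _ (hXC hx)
        (conj_mem_centralizer _ y x⁻¹ (hYW hy) (Subgroup.inv_mem _ (hXC hx)))
    refine le_inf ((Subgroup.commutator_le).mpr (fun x hx y hy => ?_)) ?_
    · rw [commutatorElement_def]
      have hxE := (hF X hX).1.le hx
      have hyE := (hF Y hY).1.le hy
      exact E.mul_mem (E.mul_mem (E.mul_mem hxE hyE) (E.inv_mem hxE)) (E.inv_mem hyE)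
    · intro c hc
      rw [Subgroup.mem_centralizer_iff]
      intro u hu
      have h3 : ⁅V, X⁆ ⊔ ⁅V, Y⁆ ≤ Subgroup.centralizer ({c} : Set G) :=
        sup_le
          (fun w hw => by
            rw [Subgroup.mem_centralizer_singleton_iff]
            exact (Subgroup.mem_centralizer_iff.mp (h1 hc)) w hw)
          (fun w hw => by
            rw [Subgroup.mem_centralizer_singleton_iff]
            exact (Subgroup.mem_centralizer_iff.mp (h2 hc)) w hw)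
      exact Subgroup.mem_centralizer_singleton_iff.mp (h3 hu)

/-- Irreducibility on the commutator module is invariant under conjugation. -/
theorem irr_conj {G : Type*} [Group G] (V Z : Subgroup G) (g : G)
    (hg : g ∈ Subgroup.normalizer (V : Set G))
    (hirr : ∀ U : Subgroup G, U ≤ ⁅V, Z⁆ → Z ≤ Subgroup.normalizer (U : Set G) →
      U = ⊥ ∨ U = ⁅V, Z⁆) :
    ∀ U : Subgroup G, U ≤ ⁅V, Z.map (MulAut.conj g).toMonoidHom⁆ →
      Z.map (MulAut.conj g).toMonoidHom ≤ Subgroup.normalizer (U : Set G) →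
      U = ⊥ ∨ U = ⁅V, Z.map (MulAut.conj g).toMonoidHom⁆ := by
  intro U hU hZU
  rw [map_conj_commutator V Z g hg] at hU ⊢
  have hback : ∀ S : Subgroup G,
      (S.map (MulAut.conj g).toMonoidHom).map (MulAut.conj g⁻¹).toMonoidHom = S := by
    intro S
    rw [map_conj_mul, inv_mul_cancel, map_conj_one]
  have hforth : ∀ S : Subgroup G,
      (S.map (MulAut.conj g⁻¹).toMonoidHom).map (MulAut.conj g).toMonoidHom = S := by
    intro S
    rw [map_conj_mul, mul_inv_cancel, map_conj_one]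
  have h1 : U.map (MulAut.conj g⁻¹).toMonoidHom ≤ ⁅V, Z⁆ := by
    have h := Subgroup.map_mono (f := (MulAut.conj g⁻¹).toMonoidHom) hU
    rwa [hback] at h
  have h2 : Z ≤ Subgroup.normalizer
      ((U.map (MulAut.conj g⁻¹).toMonoidHom : Subgroup G) : Set G) := by
    have h := Subgroup.map_mono (f := (MulAut.conj g⁻¹).toMonoidHom) hZU
    rw [hback] at h
    exact h.trans (le_of_eq (Subgroup.map_equiv_normalizer_eq U (MulAut.conj g⁻¹)))
  rcases hirr _ h1 h2 with h | h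
  · left
    have h3 := congrArg (Subgroup.map (MulAut.conj g).toMonoidHom) h
    rwa [hforth, Subgroup.map_bot] at h3
  · right
    have h3 := congrArg (Subgroup.map (MulAut.conj g).toMonoidHom) h
    rwa [hforth] at h3

/-- Two subnormal subgroups generating `E`, irreducible on incomparable commutator modules, with
no nontrivial subnormal `p`-subgroups in `E`: they commute and the modules split. -/
theorem subn_pair {G : Type*} [Group G] [Finite G] {p : ℕ} (V E E₁ E₂ : Subgroup G)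
    (hVcomm : ∀ u ∈ V, ∀ v ∈ V, u * v = v * u) (hVpow : ∀ v ∈ V, v ^ p = 1)
    (hEV : E ≤ Subgroup.normalizer (V : Set G))
    (hf : E ⊓ Subgroup.centralizer (V : Set G) = ⊥)
    (hgen : E = E₁ ⊔ E₂) (hs₁ : Sn E₁ E) (hs₂ : Sn E₂ E)
    (hH2 : ∀ P : Subgroup G, Sn P E → IsPGroup p P → P = ⊥)
    (hirr₁ : ∀ U : Subgroup G, U ≤ ⁅V, E₁⁆ → E₁ ≤ Subgroup.normalizer (U : Set G) →
      U = ⊥ ∨ U = ⁅V, E₁⁆)
    (hirr₂ : ∀ U : Subgroup G, U ≤ ⁅V, E₂⁆ → E₂ ≤ Subgroup.normalizer (U : Set G) →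
      U = ⊥ ∨ U = ⁅V, E₂⁆)
    (h12 : ¬ ⁅V, E₁⁆ ≤ ⁅V, E₂⁆) (h21 : ¬ ⁅V, E₂⁆ ≤ ⁅V, E₁⁆)
    (hc₁ : 2 < Nat.card E₁) (hc₂ : 2 < Nat.card E₂) :
    ⁅E₁, E₂⁆ = ⊥ ∧ E₁ ⊓ E₂ = ⊥ ∧ ⁅V, E₁⁆ ⊓ ⁅V, E₂⁆ = ⊥ ∧ ⁅V, E⁆ = ⁅V, E₁⁆ ⊔ ⁅V, E₂⁆ := by
  classical
  have hE₁E := hs₁.le
  have hE₂E := hs₂.le
  obtain ⟨F, hFdef⟩ : ∃ F : Set (Subgroup G),
      F = {Z | ∃ g ∈ E, Z = E₁.map (MulAut.conj g).toMonoidHom ∨
        Z = E₂.map (MulAut.conj g).toMonoidHom} := ⟨_, rfl⟩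
  have hF : ∀ Z ∈ F, Sn Z E ∧ (∀ U : Subgroup G, U ≤ ⁅V, Z⁆ →
      Z ≤ Subgroup.normalizer (U : Set G) → U = ⊥ ∨ U = ⁅V, Z⁆) ∧ 2 < Nat.card Z := by
    rw [hFdef]
    rintro Z ⟨g, hg, rfl | rfl⟩
    · refine ⟨?_, irr_conj V E₁ g (hEV hg) hirr₁, ?_⟩
      · have h := hs₁.map_conj g
        rwa [map_conj_eq_self E g (Subgroup.le_normalizer hg)] at h
      · rw [Subgroup.card_map_of_injective (MulAut.conj g).injective]; exact hc₁
    · refine ⟨?_, irr_conj V E₂ g (hEV hg) hirr₂, ?_⟩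
      · have h := hs₂.map_conj g
        rwa [map_conj_eq_self E g (Subgroup.le_normalizer hg)] at h
      · rw [Subgroup.card_map_of_injective (MulAut.conj g).injective]; exact hc₂
  have hFc : ∀ Z ∈ F, ∀ g ∈ E, Z.map (MulAut.conj g).toMonoidHom ∈ F := by
    rw [hFdef]
    rintro Z ⟨h, hh, rfl | rfl⟩ g hg
    · exact ⟨g * h, E.mul_mem hg hh, Or.inl (map_conj_mul E₁ g h)⟩
    · exact ⟨g * h, E.mul_mem hg hh, Or.inr (map_conj_mul E₂ g h)⟩
  have hE₁F : E₁ ∈ F := by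
    rw [hFdef]; exact ⟨1, E.one_mem, Or.inl (map_conj_one E₁).symm⟩
  have hE₂F : E₂ ∈ F := by
    rw [hFdef]; exact ⟨1, E.one_mem, Or.inr (map_conj_one E₂).symm⟩
  obtain ⟨h1, h2, h3, h4⟩ := subn_irred_key V hVcomm hVpow (Nat.card E) E F le_rfl hEV hf hH2
    hF hFc E₁ hE₁F E₂ hE₂F h12 h21
  have hVE : ⁅V, E⁆ = ⁅V, E₁⁆ ⊔ ⁅V, E₂⁆ := by
    rw [hgen]
    exact le_antisymm
      (commutator_sup_le V E₁ E₂ hVcomm (hE₁E.trans hEV) (hE₂E.trans hEV))
      (sup_le (Subgroup.commutator_mono le_rfl le_sup_left)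
        (Subgroup.commutator_mono le_rfl le_sup_right))
  refine ⟨h1, ?_, h4, hVE⟩
  have hWV : ⁅V, E⁆ ≤ V := comm_le_left V E hEV
  have hE₁C : E₁ ≤ Subgroup.centralizer (E₂ : Set G) :=
    Subgroup.commutator_eq_bot_iff_le_centralizer.mp h1
  have hE₂C : E₂ ≤ Subgroup.centralizer (E₁ : Set G) := Subgroup.le_centralizer_iff.mp hE₁C
  apply hH2
  · refine Sn.step _ E E (inf_le_left.trans hE₁E) ?_ (Sn.refl E)
    rw [hgen]
    refine sup_le ?_ ?_
    · exact (hE₁C.trans (Subgroup.centralizer_le (fun x hx => (Subgroup.mem_inf.mp hx).2))).trans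
        (Subgroup.centralizer_le_normalizer _)
    · exact (hE₂C.trans (Subgroup.centralizer_le (fun x hx => (Subgroup.mem_inf.mp hx).1))).trans
        (Subgroup.centralizer_le_normalizer _)
  · apply isPGroup_of_pow_p
    intro g hg
    obtain ⟨hg1, hg2⟩ := Subgroup.mem_inf.mp hg
    have hgC1 : g ∈ Subgroup.centralizer ((⁅V, E₁⁆ : Subgroup G) : Set G) :=
      (Subgroup.le_centralizer_iff.mp (Subgroup.commutator_eq_bot_iff_le_centralizer.mp h2)) hg2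
    have hgC2 : g ∈ Subgroup.centralizer ((⁅V, E₂⁆ : Subgroup G) : Set G) :=
      (Subgroup.le_centralizer_iff.mp (Subgroup.commutator_eq_bot_iff_le_centralizer.mp h3)) hg1
    refine chain_pow_one V ⁅V, E⁆ E hVcomm hVpow hWV hf g (hE₁E hg1) (fun w hw => ?_)
      (fun v hv => ?_)
    · have h5 : ⁅V, E₁⁆ ⊔ ⁅V, E₂⁆ ≤ Subgroup.centralizer ({g} : Set G) :=
        sup_le
          (fun w hw => by
            rw [Subgroup.mem_centralizer_singleton_iff]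
            exact (Subgroup.mem_centralizer_iff.mp hgC1) w hw)
          (fun w hw => by
            rw [Subgroup.mem_centralizer_singleton_iff]
            exact (Subgroup.mem_centralizer_iff.mp hgC2) w hw)
      rw [hVE] at hw
      have h6 : w * g = g * w := Subgroup.mem_centralizer_singleton_iff.mp (h5 hw)
      rw [← h6]; group
    · have h7 := Subgroup.commutator_mem_commutator (H₁ := E) (H₂ := V) (hE₁E hg1) hv
      rw [Subgroup.commutator_comm, commutatorElement_def] at h7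
      exact h7

end Cfsg.Agent.Helper21
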