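import Mathlib
import Cfsg.Agent.Helper21.SubnIrr

set_option autoImplicit false
set_option linter.style.haveILetI false

namespace Cfsg.Agent.Helper21

/-- Pigeonhole: an element `g` acting on `W ≤ V` with commutators in a smaller group `D` fixes a
nontrivial element of `W`. -/
theorem exists_fixed_of_card_lt {G : Type*} [Group G] [Finite G] (V W D : Subgroup G)
    (hVcomm : ∀ u ∈ V, ∀ v ∈ V, u * v = v * u) (g : G)
    (hg : g ∈ Subgroup.normalizer (V : Set G))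
    (hWV : W ≤ V) (hD : ∀ w ∈ W, g * w * g⁻¹ * w⁻¹ ∈ D) (hcard : Nat.card D < Nat.card W) :
    ∃ u ∈ W, u ≠ 1 ∧ g * u * g⁻¹ = u := by
  have hninj : ¬ Function.Injective
      (fun w : ↥W => (⟨g * w * g⁻¹ * (w : G)⁻¹, hD w w.2⟩ : ↥D)) := by
    intro hinj
    exact absurd (Nat.card_le_card_of_injective _ hinj) (not_le.mpr hcard)
  obtain ⟨w, w', heq, hne⟩ : ∃ w w' : ↥W,
      (⟨g * w * g⁻¹ * (w : G)⁻¹, hD w w.2⟩ : ↥D) = ⟨g * w' * g⁻¹ * (w' : G)⁻¹, hD w' w'.2⟩ ∧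
      w ≠ w' := by
    by_contra hno
    apply hninj
    intro w w' h
    by_contra hne
    exact hno ⟨w, w', h, hne⟩
  have heq' : g * w * g⁻¹ * (w : G)⁻¹ = g * w' * g⁻¹ * (w' : G)⁻¹ := congrArg Subtype.val heq
  refine ⟨w * (w' : G)⁻¹, W.mul_mem w.2 (W.inv_mem w'.2), ?_, ?_⟩
  · intro h
    apply hne
    exact Subtype.ext (mul_inv_eq_one.mp h)
  · have hX' : g * w' * g⁻¹ ∈ V := (Subgroup.mem_normalizer_iff.mp hg _).mp (hWV w'.2)
    have h1 : g * w * g⁻¹ = (g * w' * g⁻¹) * ((w' : G)⁻¹ * w) := by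
      calc g * w * g⁻¹ = (g * w * g⁻¹ * (w : G)⁻¹) * w := by group
        _ = (g * w' * g⁻¹ * (w' : G)⁻¹) * w := by rw [heq']
        _ = (g * w' * g⁻¹) * ((w' : G)⁻¹ * w) := by group
    have hmem : (w' : G)⁻¹ * w ∈ V := V.mul_mem (V.inv_mem (hWV w'.2)) (hWV w.2)
    have c1 := hVcomm _ hX' _ hmem
    have c2 := hVcomm _ (V.inv_mem (hWV w'.2)) _ (hWV w.2)
    calc g * (w * (w' : G)⁻¹) * g⁻¹ = (g * w * g⁻¹) * (g * w' * g⁻¹)⁻¹ := by group
      _ = ((g * w' * g⁻¹) * ((w' : G)⁻¹ * w)) * (g * w' * g⁻¹)⁻¹ := by rw [← h1]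
      _ = (((w' : G)⁻¹ * w) * (g * w' * g⁻¹)) * (g * w' * g⁻¹)⁻¹ := by rw [c1]
      _ = (w' : G)⁻¹ * w := by group
      _ = w * (w' : G)⁻¹ := c2

/-- Conjugating a subgroup of prime order keeps the relevant cardinalities. -/
theorem card_conj_facts {G : Type*} [Group G] (V A : Subgroup G) (g : G)
    (hg : g ∈ Subgroup.normalizer (V : Set G)) :
    Nat.card ↥(A.map (MulAut.conj g).toMonoidHom) = Nat.card A ∧
    Nat.card ↥(⁅V, A.map (MulAut.conj g).toMonoidHom⁆) = Nat.card ↥(⁅V, A⁆) := by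
  constructor
  · rw [Subgroup.card_map_of_injective (MulAut.conj g).injective]
  · rw [map_conj_commutator V A g hg, Subgroup.card_map_of_injective (MulAut.conj g).injective]

/-- Computations in a plane spanned by `e₁, e₂` on which `a`, `b` act as the two elementary
transvections. -/
theorem frame_facts {G : Type*} [Group G] {p : ℕ} [Fact p.Prime] (V : Subgroup G)
    (hVcomm : ∀ u ∈ V, ∀ v ∈ V, u * v = v * u) (hVpow : ∀ v ∈ V, v ^ p = 1)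
    (a b e₁ e₂ : G) (h1V : e₁ ∈ V) (h2V : e₂ ∈ V) (h1 : e₁ ≠ 1) (h2 : e₂ ≠ 1)
    (ha1 : a * e₁ * a⁻¹ = e₁) (ha2 : a * e₂ * a⁻¹ = e₁ * e₂)
    (hb1 : b * e₁ * b⁻¹ = e₁ * e₂) (hb2 : b * e₂ * b⁻¹ = e₂) :
    (∀ m n : ℕ, a * (e₁ ^ m * e₂ ^ n) * a⁻¹ = e₁ ^ (m + n) * e₂ ^ n) ∧
    (∀ m n : ℕ, b * (e₁ ^ m * e₂ ^ n) * b⁻¹ = e₁ ^ m * e₂ ^ (m + n)) ∧
    (∀ m n : ℕ, e₁ ^ m * e₂ ^ n = 1 → e₁ ^ m = 1 ∧ e₂ ^ n = 1) ∧
    (∀ m n : ℕ, a * (e₁ ^ m * e₂ ^ n) * a⁻¹ = e₁ ^ m * e₂ ^ n →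
       b * (e₁ ^ m * e₂ ^ n) * b⁻¹ = e₁ ^ m * e₂ ^ n → e₁ ^ m * e₂ ^ n = 1) ∧
    (∀ m n : ℕ, e₁ ^ m * e₂ ^ n ≠ 1 → ∃ g ∈ Subgroup.closure ({a, b} : Set G), ∃ k : ℕ,
       e₁ ^ m * e₂ ^ n = (g * e₁ * g⁻¹) ^ k) ∧
    (∀ s t : ℕ, a * (e₁ ^ t * e₂ ^ s) * a⁻¹ * (e₁ ^ t * e₂ ^ s)⁻¹ = e₁ ^ s ∧
       b * (e₁ ^ t * e₂ ^ s) * b⁻¹ * (e₁ ^ t * e₂ ^ s)⁻¹ = e₂ ^ t) ∧
    (∀ j : ℕ, a ^ j * e₂ * (a ^ j)⁻¹ = e₁ ^ j * e₂) := by
  have hp := (Fact.out : p.Prime)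
  have hc : Commute e₁ e₂ := hVcomm e₁ h1V e₂ h2V
  have ho1 : orderOf e₁ = p := orderOf_eq_prime (hVpow e₁ h1V) h1
  have ho2 : orderOf e₂ = p := orderOf_eq_prime (hVpow e₂ h2V) h2
  have F1 : ∀ m n : ℕ, a * (e₁ ^ m * e₂ ^ n) * a⁻¹ = e₁ ^ (m + n) * e₂ ^ n := by
    intro m n
    have : a * (e₁ ^ m * e₂ ^ n) * a⁻¹ = (a * e₁ * a⁻¹) ^ m * (a * e₂ * a⁻¹) ^ n := by
      rw [conj_pow, conj_pow]; group
    rw [this, ha1, ha2, hc.mul_pow, pow_add, mul_assoc]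
  have F2 : ∀ m n : ℕ, b * (e₁ ^ m * e₂ ^ n) * b⁻¹ = e₁ ^ m * e₂ ^ (m + n) := by
    intro m n
    have : b * (e₁ ^ m * e₂ ^ n) * b⁻¹ = (b * e₁ * b⁻¹) ^ m * (b * e₂ * b⁻¹) ^ n := by
      rw [conj_pow, conj_pow]; group
    rw [this, hb1, hb2, hc.mul_pow, pow_add, mul_assoc]
  have hdvd1 : ∀ n : ℕ, e₁ ^ n = 1 → e₂ ^ n = 1 := by
    intro n h
    have h5 : orderOf e₂ ∣ n := by rw [ho2, ← ho1]; exact orderOf_dvd_of_pow_eq_one h
    exact orderOf_dvd_iff_pow_eq_one.mp h5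
  have hdvd2 : ∀ n : ℕ, e₂ ^ n = 1 → e₁ ^ n = 1 := by
    intro n h
    have h5 : orderOf e₁ ∣ n := by rw [ho1, ← ho2]; exact orderOf_dvd_of_pow_eq_one h
    exact orderOf_dvd_iff_pow_eq_one.mp h5
  have F4 : ∀ m n : ℕ, a * (e₁ ^ m * e₂ ^ n) * a⁻¹ = e₁ ^ m * e₂ ^ n →
       b * (e₁ ^ m * e₂ ^ n) * b⁻¹ = e₁ ^ m * e₂ ^ n → e₁ ^ m * e₂ ^ n = 1 := by
    intro m n hfa hfb
    rw [F1] at hfa
    rw [F2] at hfb
    have h4 : e₁ ^ n = 1 := by
      have : e₁ ^ (m + n) * e₂ ^ n = e₁ ^ n * (e₁ ^ m * e₂ ^ n) := by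
        rw [add_comm, pow_add, mul_assoc]
      rw [this] at hfa
      exact mul_eq_right.mp hfa
    have h5 : e₂ ^ m = 1 := by
      have : e₁ ^ m * e₂ ^ (m + n) = (e₁ ^ m * e₂ ^ n) * e₂ ^ m := by
        rw [add_comm, pow_add, mul_assoc]
      rw [this] at hfb
      exact mul_eq_left.mp hfb
    rw [hdvd2 m h5, hdvd1 n h4, one_mul]
  have F3 : ∀ m n : ℕ, e₁ ^ m * e₂ ^ n = 1 → e₁ ^ m = 1 ∧ e₂ ^ n = 1 := by
    intro m n h
    have h3 := F1 m n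
    rw [h] at h3
    have h4 : e₁ ^ n = 1 := by
      have : e₁ ^ (m + n) * e₂ ^ n = e₁ ^ n * (e₁ ^ m * e₂ ^ n) := by
        rw [add_comm, pow_add, mul_assoc]
      rw [this, h] at h3
      simpa using h3.symm
    have h6 : e₂ ^ n = 1 := hdvd1 n h4
    refine ⟨?_, h6⟩
    rw [h6, mul_one] at h; exact h
  have F7 : ∀ j : ℕ, a ^ j * e₂ * (a ^ j)⁻¹ = e₁ ^ j * e₂ := by
    intro j
    induction j with
    | zero => simp
    | succ j ih =>
      have e : a ^ (j + 1) * e₂ * (a ^ (j + 1))⁻¹ = a * (a ^ j * e₂ * (a ^ j)⁻¹) * a⁻¹ := by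
        rw [pow_succ']; group
      rw [e, ih]
      have := F1 j 1
      rw [pow_one] at this
      rw [this]
  have F7b : ∀ j : ℕ, b ^ j * e₁ * (b ^ j)⁻¹ = e₁ * e₂ ^ j := by
    intro j
    induction j with
    | zero => simp
    | succ j ih =>
      have e : b ^ (j + 1) * e₁ * (b ^ (j + 1))⁻¹ = b * (b ^ j * e₁ * (b ^ j)⁻¹) * b⁻¹ := by
        rw [pow_succ']; group
      rw [e, ih]
      have := F2 1 j
      rw [pow_one] at this
      rw [this, add_comm]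
  have F7a : ∀ j : ℕ, a ^ j * e₁ * (a ^ j)⁻¹ = e₁ := by
    intro j
    have hca : Commute a e₁ := by
      have : a * e₁ = e₁ * a := by
        calc a * e₁ = (a * e₁ * a⁻¹) * a := by group
          _ = e₁ * a := by rw [ha1]
      exact this
    have := (hca.pow_left j).eq
    rw [this]; group
  refine ⟨F1, F2, F3, F4, ?_, ?_, F7⟩
  · intro m n hne
    by_cases hm : e₁ ^ m = 1
    · -- w = e₂ ^ n
      refine ⟨b * a ^ (p - 1) * b, ?_, n, ?_⟩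
      · have hA : a ∈ Subgroup.closure ({a, b} : Set G) := Subgroup.subset_closure (by simp)
        have hB : b ∈ Subgroup.closure ({a, b} : Set G) := Subgroup.subset_closure (by simp)
        exact Subgroup.mul_mem _ (Subgroup.mul_mem _ hB (Subgroup.pow_mem _ hA _)) hB
      · have e : (b * a ^ (p - 1) * b) * e₁ * (b * a ^ (p - 1) * b)⁻¹
            = b * (a ^ (p - 1) * (b * e₁ * b⁻¹) * (a ^ (p - 1))⁻¹) * b⁻¹ := by group
        have e2 : a ^ (p - 1) * (e₁ * e₂) * (a ^ (p - 1))⁻¹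
            = (a ^ (p - 1) * e₁ * (a ^ (p - 1))⁻¹) * (a ^ (p - 1) * e₂ * (a ^ (p - 1))⁻¹) := by
          group
        have e3 : e₁ * (e₁ ^ (p - 1) * e₂) = e₂ := by
          rw [← mul_assoc, ← pow_succ', Nat.sub_add_cancel hp.one_le, hVpow e₁ h1V, one_mul]
        rw [e, hb1, e2, F7a, F7, e3, hb2, hm, one_mul]
    · have hcop : Nat.Coprime m p := by
        rw [Nat.coprime_comm, hp.coprime_iff_not_dvd]
        intro hd
        apply hm
        rw [← ho1] at hd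
        exact orderOf_dvd_iff_pow_eq_one.mp hd
      obtain ⟨j, -, hj⟩ := Nat.exists_mul_mod_eq_of_coprime n hcop hp.ne_zero
      refine ⟨b ^ j, ?_, m, ?_⟩
      · have hB : b ∈ Subgroup.closure ({a, b} : Set G) := Subgroup.subset_closure (by simp)
        exact Subgroup.pow_mem _ hB _
      · rw [F7b, (hc.pow_right j).mul_pow, ← pow_mul]
        congr 1
        rw [pow_eq_pow_iff_modEq, ho2]
        show n % p = j * m % p
        rw [mul_comm j m, hj]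
  · intro s t
    constructor
    · rw [F1]
      have : e₁ ^ (t + s) * e₂ ^ s = e₁ ^ s * (e₁ ^ t * e₂ ^ s) := by
        rw [add_comm, pow_add, mul_assoc]
      rw [this]; group
    · rw [F2]
      have : e₁ ^ t * e₂ ^ (t + s) = e₂ ^ t * (e₁ ^ t * e₂ ^ s) := by
        rw [pow_add, ← mul_assoc, ← mul_assoc, ((hc.pow_pow t t).eq)]
      rw [this]; group

/-- Facts about the `SL(2,p)` generated by a transvection group `A` and a conjugate. -/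
theorem ff_L_facts {G : Type*} [Group G] [Finite G] {p : ℕ} [Fact p.Prime]
    (V K H A : Subgroup G)
    (hVcomm : ∀ u ∈ V, ∀ v ∈ V, u * v = v * u) (hVpow : ∀ v ∈ V, v ^ p = 1)
    (hHV : H ≤ Subgroup.normalizer (V : Set G))
    (hf : H ⊓ Subgroup.centralizer (V : Set G) = ⊥)
    (hKH : K ≤ H) (hKc : (Nat.card K).Coprime p) (hHK : H ≤ Subgroup.normalizer (K : Set G))
    (hAH : A ≤ H) (hAp : Nat.card A = p) (hVA : Nat.card ↥(⁅V, A⁆) = p)
    (x : G) (hx : x ∈ K) (hxA : x ∉ Subgroup.centralizer (A : Set G)) :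
    (p = 2 ∨ p = 3) ∧
    Nonempty (↥(A ⊔ A.map (MulAut.conj x).toMonoidHom) ≃*
      Matrix.SpecialLinearGroup (Fin 2) (ZMod p)) ∧
    Nat.card ↥(⁅V, A ⊔ A.map (MulAut.conj x).toMonoidHom⁆) = p ^ 2 ∧
    (A ⊔ A.map (MulAut.conj x).toMonoidHom) ⊓ Subgroup.centralizer
      ((⁅V, A ⊔ A.map (MulAut.conj x).toMonoidHom⁆ : Subgroup G) : Set G) = ⊥ ∧
    ⁅V, A ⊔ A.map (MulAut.conj x).toMonoidHom⁆ ⊓ (V ⊓ Subgroup.centralizer
      ((A ⊔ A.map (MulAut.conj x).toMonoidHom : Subgroup G) : Set G)) = ⊥ ∧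
    ⁅V, A ⊔ A.map (MulAut.conj x).toMonoidHom⁆ ⊔ (V ⊓ Subgroup.centralizer
      ((A ⊔ A.map (MulAut.conj x).toMonoidHom : Subgroup G) : Set G)) = V ∧
    (∀ w ∈ ⁅V, A ⊔ A.map (MulAut.conj x).toMonoidHom⁆, w ≠ 1 →
      ∃ g ∈ A ⊔ A.map (MulAut.conj x).toMonoidHom,
        w ∈ ⁅V, A.map (MulAut.conj g).toMonoidHom⁆) ∧
    (∀ h : G, (∀ d ∈ ⁅V, A⁆, h * d * h⁻¹ = d) →
      (∀ w ∈ ⁅V, A ⊔ A.map (MulAut.conj x).toMonoidHom⁆, h * w * h⁻¹ * w⁻¹ ∈ ⁅V, A⁆) →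
      ∃ a₀ ∈ A, ∀ w ∈ ⁅V, A ⊔ A.map (MulAut.conj x).toMonoidHom⁆,
        (a₀⁻¹ * h) * w * (a₀⁻¹ * h)⁻¹ = w) := by
  classical
  have hp := (Fact.out : p.Prime)
  obtain ⟨hp23, hcardW, hLC, a, b', haA, haord, hAz, hb'B, e₁, e₂, he₁, he₁1, he₂, he₂1,
    ha1, ha2, hb1, hb2, e, -, -⟩ :=
    sl2_of_conj_pair_strong V K H A hVcomm hVpow hHV hf hKH hKc hHK hAH hAp hVA x hx hxA
  have hiso : Nonempty (↥(A ⊔ A.map (MulAut.conj x).toMonoidHom) ≃*
      Matrix.SpecialLinearGroup (Fin 2) (ZMod p)) := ⟨e⟩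
  clear e
  have hxV : x ∈ Subgroup.normalizer (V : Set G) := hHV (hKH hx)
  have hcardVB := (card_conj_facts V A x hxV).2
  have hcardB := (card_conj_facts V A x hxV).1
  obtain ⟨B, hBdef⟩ : ∃ B : Subgroup G, B = A.map (MulAut.conj x).toMonoidHom := ⟨_, rfl⟩
  rw [← hBdef] at hcardW hLC hb'B he₂ hiso hcardVB hcardB ⊢
  obtain ⟨L, hLdef⟩ : ∃ L : Subgroup G, L = A ⊔ B := ⟨_, rfl⟩
  rw [← hLdef] at hcardW hLC hiso ⊢
  obtain ⟨W, hWdef⟩ : ∃ W : Subgroup G, W = ⁅V, L⁆ := ⟨_, rfl⟩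
  rw [← hWdef] at hcardW hLC ⊢
  have hAV : A ≤ Subgroup.normalizer (V : Set G) := hAH.trans hHV
  have hBH : B ≤ H := by
    rw [hBdef]
    rintro _ ⟨y, hy, rfl⟩
    exact H.mul_mem (H.mul_mem (hKH hx) (hAH hy)) (H.inv_mem (hKH hx))
  have hBV : B ≤ Subgroup.normalizer (V : Set G) := hBH.trans hHV
  have hLH : L ≤ H := by rw [hLdef]; exact sup_le hAH hBH
  have hLV : L ≤ Subgroup.normalizer (V : Set G) := hLH.trans hHV
  have hWV : W ≤ V := by rw [hWdef]; exact comm_le_left V L hLV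
  have hVAz : ⁅V, A⁆ = Subgroup.zpowers e₁ := (zpowers_eq_of_card_prime _ hVA e₁ he₁ he₁1).1
  have hVBz : ⁅V, B⁆ = Subgroup.zpowers e₂ :=
    (zpowers_eq_of_card_prime _ (hcardVB.trans hVA) e₂ he₂ he₂1).1
  have he₁V : e₁ ∈ V := comm_le_left V A hAV he₁
  have he₂V : e₂ ∈ V := comm_le_left V B hBV he₂
  obtain ⟨F1, F2, F3, F4, F5, F6, F7⟩ :=
    frame_facts V hVcomm hVpow a b' e₁ e₂ he₁V he₂V he₁1 he₂1 ha1 ha2 hb1 hb2
  have hb'1 : b' ≠ 1 := by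
    rintro rfl
    apply he₂1
    have : e₁ = e₁ * e₂ := by simpa using hb1
    exact (mul_eq_left.mp this.symm)
  have hBz : B = Subgroup.zpowers b' :=
    (zpowers_eq_of_card_prime B (hcardB.trans hAp) b' hb'B hb'1).1
  have haL : a ∈ L := by rw [hLdef]; exact (le_sup_left : A ≤ A ⊔ B) haA
  have hbL : b' ∈ L := by rw [hLdef]; exact (le_sup_right : B ≤ A ⊔ B) hb'B
  have hLcl : ∀ S : Subgroup G, a ∈ S → b' ∈ S → L ≤ S := by
    intro S h1 h2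
    rw [hLdef, hAz, hBz]
    exact sup_le ((Subgroup.zpowers_le).mpr h1) ((Subgroup.zpowers_le).mpr h2)
  have hclL : Subgroup.closure ({a, b'} : Set G) ≤ L := by
    rw [Subgroup.closure_le]
    rintro y (rfl | rfl)
    · exact haL
    · exact hbL
  have hnat : ∀ (z y : G), y ∈ Subgroup.zpowers z → ∃ n : ℕ, y = z ^ n := by
    intro z y hy
    obtain ⟨n, hn⟩ := (Submonoid.mem_powers_iff y z).mp (mem_powers_iff_mem_zpowers.mpr hy)
    exact ⟨n, hn.symm⟩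
  have hWrep : ∀ w ∈ W, ∃ m n : ℕ, w = e₁ ^ m * e₂ ^ n := by
    intro w hw
    have hWle : W ≤ Subgroup.zpowers e₁ ⊔ Subgroup.zpowers e₂ := by
      rw [hWdef, hLdef, ← hVAz, ← hVBz]
      exact commutator_sup_le V A B hVcomm hAV hBV
    have hnorm : Subgroup.zpowers e₁ ≤
        Subgroup.normalizer ((Subgroup.zpowers e₂ : Subgroup G) : Set G) := by
      refine le_trans ?_ (Subgroup.centralizer_le_normalizer _)
      intro y hy
      rw [Subgroup.mem_centralizer_iff]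
      intro z hz
      have hyV : y ∈ V := by rw [← hVAz] at hy; exact comm_le_left V A hAV hy
      have hzV : z ∈ V := by rw [← hVBz] at hz; exact comm_le_left V B hBV hz
      exact hVcomm z hzV y hyV
    obtain ⟨y, hy, z, hz, hwyz⟩ := mem_sup_of_le_normalizer _ _ hnorm w (hWle hw)
    obtain ⟨m, rfl⟩ := hnat e₁ y hy
    obtain ⟨n, rfl⟩ := hnat e₂ z hz
    refine ⟨m, n, ?_⟩
    rw [hwyz]
    exact hVcomm _ (V.pow_mem he₂V n) _ (V.pow_mem he₁V m)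
  have hcomm_mem : ∀ (Z : Subgroup G) (z v : G), z ∈ Z → v ∈ V → z * v * z⁻¹ * v⁻¹ ∈ ⁅V, Z⁆ := by
    intro Z z v hz hv
    have h1 := Subgroup.commutator_mem_commutator (H₁ := Z) (H₂ := V) hz hv
    rw [commutatorElement_def, Subgroup.commutator_comm] at h1
    exact h1
  refine ⟨hp23, hiso, hcardW, hLC, ?_, ?_, ?_, ?_⟩
  · rw [eq_bot_iff]
    intro w hw
    obtain ⟨hwW, hwVC⟩ := Subgroup.mem_inf.mp hw
    obtain ⟨-, hwC⟩ := Subgroup.mem_inf.mp hwVC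
    rw [Subgroup.mem_bot]
    obtain ⟨m, n, rfl⟩ := hWrep w hwW
    rw [Subgroup.mem_centralizer_iff] at hwC
    apply F4 m n
    · have := hwC a haL
      calc a * (e₁ ^ m * e₂ ^ n) * a⁻¹ = (e₁ ^ m * e₂ ^ n) * a * a⁻¹ := by rw [this]
        _ = e₁ ^ m * e₂ ^ n := by group
    · have := hwC b' hbL
      calc b' * (e₁ ^ m * e₂ ^ n) * b'⁻¹ = (e₁ ^ m * e₂ ^ n) * b' * b'⁻¹ := by rw [this]
        _ = e₁ ^ m * e₂ ^ n := by group
  · apply le_antisymm (sup_le hWV inf_le_left)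
    intro v hv
    have h1 : a * v * a⁻¹ * v⁻¹ ∈ Subgroup.zpowers e₁ := hVAz ▸ hcomm_mem A a v haA hv
    have h2 : b' * v * b'⁻¹ * v⁻¹ ∈ Subgroup.zpowers e₂ := hVBz ▸ hcomm_mem B b' v hb'B hv
    obtain ⟨s, hs⟩ := hnat _ _ h1
    obtain ⟨t, ht⟩ := hnat _ _ h2
    obtain ⟨h3, h4⟩ := F6 s t
    have hwW : e₁ ^ t * e₂ ^ s ∈ W := by
      rw [hWdef]
      refine Subgroup.mul_mem _ (Subgroup.pow_mem _ ?_ _) (Subgroup.pow_mem _ ?_ _)
      · exact Subgroup.commutator_mono le_rfl (by rw [hLdef]; exact le_sup_left) he₁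
      · exact Subgroup.commutator_mono le_rfl (by rw [hLdef]; exact le_sup_right) he₂
    have hcV : (e₁ ^ t * e₂ ^ s)⁻¹ * v ∈ V := V.mul_mem (V.inv_mem (hWV hwW)) hv
    have hcC : (e₁ ^ t * e₂ ^ s)⁻¹ * v ∈ Subgroup.centralizer (L : Set G) := by
      have hS := hLcl (Subgroup.centralizer ({(e₁ ^ t * e₂ ^ s)⁻¹ * v} : Set G)) ?_ ?_
      · rw [Subgroup.mem_centralizer_iff]
        intro y hy
        have := hS hy
        rw [Subgroup.mem_centralizer_iff] at this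
        exact (this _ rfl).symm
      · rw [Subgroup.mem_centralizer_iff]
        rintro _ rfl
        have e1 : a * (e₁ ^ t * e₂ ^ s) * a⁻¹ = e₁ ^ s * (e₁ ^ t * e₂ ^ s) := by
          rw [← h3]; group
        have e2 : a * v * a⁻¹ = e₁ ^ s * v := by rw [← hs]; group
        have e3 : a * ((e₁ ^ t * e₂ ^ s)⁻¹ * v) * a⁻¹ = (e₁ ^ t * e₂ ^ s)⁻¹ * v := by
          calc a * ((e₁ ^ t * e₂ ^ s)⁻¹ * v) * a⁻¹
              = (a * (e₁ ^ t * e₂ ^ s) * a⁻¹)⁻¹ * (a * v * a⁻¹) := by group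
            _ = (e₁ ^ t * e₂ ^ s)⁻¹ * v := by rw [e1, e2]; group
        calc (e₁ ^ t * e₂ ^ s)⁻¹ * v * a = (a * ((e₁ ^ t * e₂ ^ s)⁻¹ * v) * a⁻¹) * a := by
              rw [e3]
          _ = a * ((e₁ ^ t * e₂ ^ s)⁻¹ * v) := by group
      · rw [Subgroup.mem_centralizer_iff]
        rintro _ rfl
        have e1 : b' * (e₁ ^ t * e₂ ^ s) * b'⁻¹ = e₂ ^ t * (e₁ ^ t * e₂ ^ s) := by
          rw [← h4]; group
        have e2 : b' * v * b'⁻¹ = e₂ ^ t * v := by rw [← ht]; group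
        have e3 : b' * ((e₁ ^ t * e₂ ^ s)⁻¹ * v) * b'⁻¹ = (e₁ ^ t * e₂ ^ s)⁻¹ * v := by
          calc b' * ((e₁ ^ t * e₂ ^ s)⁻¹ * v) * b'⁻¹
              = (b' * (e₁ ^ t * e₂ ^ s) * b'⁻¹)⁻¹ * (b' * v * b'⁻¹) := by group
            _ = (e₁ ^ t * e₂ ^ s)⁻¹ * v := by rw [e1, e2]; group
        calc (e₁ ^ t * e₂ ^ s)⁻¹ * v * b' = (b' * ((e₁ ^ t * e₂ ^ s)⁻¹ * v) * b'⁻¹) * b' := by
              rw [e3]
          _ = b' * ((e₁ ^ t * e₂ ^ s)⁻¹ * v) := by group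
    have hv' : v = (e₁ ^ t * e₂ ^ s) * ((e₁ ^ t * e₂ ^ s)⁻¹ * v) := by group
    rw [hv']
    exact Subgroup.mul_mem_sup hwW (Subgroup.mem_inf.mpr ⟨hcV, hcC⟩)
  · intro w hwW hw1
    obtain ⟨m, n, rfl⟩ := hWrep w hwW
    obtain ⟨g, hg, k, hk⟩ := F5 m n hw1
    have hgL : g ∈ L := hclL hg
    refine ⟨g, hgL, ?_⟩
    rw [map_conj_commutator V A g (hLV hgL)]
    refine ⟨e₁ ^ k, Subgroup.pow_mem _ he₁ k, ?_⟩
    rw [hk, conj_pow]
    rfl
  · intro h hd hw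
    have he₂W : e₂ ∈ W := by
      rw [hWdef]
      exact Subgroup.commutator_mono le_rfl (by rw [hLdef]; exact le_sup_right) he₂
    have h1 : h * e₂ * h⁻¹ * e₂⁻¹ ∈ Subgroup.zpowers e₁ := hVAz ▸ hw e₂ he₂W
    obtain ⟨s, hs⟩ := hnat _ _ h1
    refine ⟨a ^ s, Subgroup.pow_mem _ haA s, ?_⟩
    have hca : Commute a e₁ := by
      have : a * e₁ = e₁ * a := by
        calc a * e₁ = (a * e₁ * a⁻¹) * a := by group
          _ = e₁ * a := by rw [ha1]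
      exact this
    have g1 : ((a ^ s)⁻¹ * h) * e₁ * ((a ^ s)⁻¹ * h)⁻¹ = e₁ := by
      have e1 : ((a ^ s)⁻¹ * h) * e₁ * ((a ^ s)⁻¹ * h)⁻¹ = (a ^ s)⁻¹ * (h * e₁ * h⁻¹) * a ^ s := by
        group
      rw [e1, hd e₁ he₁, mul_assoc, ← (hca.pow_left s).eq]; group
    have g2 : ((a ^ s)⁻¹ * h) * e₂ * ((a ^ s)⁻¹ * h)⁻¹ = e₂ := by
      have e1 : ((a ^ s)⁻¹ * h) * e₂ * ((a ^ s)⁻¹ * h)⁻¹
          = (a ^ s)⁻¹ * ((h * e₂ * h⁻¹ * e₂⁻¹) * e₂) * a ^ s := by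
        group
      rw [e1, hs, ← F7 s]; group
    intro w hwW
    obtain ⟨m, n, rfl⟩ := hWrep w hwW
    have e3 : ((a ^ s)⁻¹ * h) * (e₁ ^ m * e₂ ^ n) * ((a ^ s)⁻¹ * h)⁻¹
        = (((a ^ s)⁻¹ * h) * e₁ * ((a ^ s)⁻¹ * h)⁻¹) ^ m
          * (((a ^ s)⁻¹ * h) * e₂ * ((a ^ s)⁻¹ * h)⁻¹) ^ n := by
      rw [conj_pow, conj_pow]; group
    rw [e3, g1, g2]

theorem conj_comm_mem {G : Type*} [Group G] (V Z : Subgroup G) (z v : G) (hz : z ∈ Z)
    (hv : v ∈ V) : z * v * z⁻¹ * v⁻¹ ∈ ⁅V, Z⁆ := by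
  have h1 := Subgroup.commutator_mem_commutator (H₁ := Z) (H₂ := V) hz hv
  rw [commutatorElement_def, Subgroup.commutator_comm] at h1
  exact h1

theorem map_conj_le_of_mem {G : Type*} [Group G] (A L : Subgroup G) (g : G) (hg : g ∈ L)
    (hAL : A ≤ L) : A.map (MulAut.conj g).toMonoidHom ≤ L := by
  rintro _ ⟨y, hy, rfl⟩
  exact L.mul_mem (L.mul_mem hg (hAL hy)) (L.inv_mem hg)

/-- Every `K`-conjugate of `A` lies in `L = ⟨A, A^x⟩`. -/
theorem ff_T2 {G : Type*} [Group G] [Finite G] {p : ℕ} [Fact p.Prime]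
    (V K H A : Subgroup G)
    (hVcomm : ∀ u ∈ V, ∀ v ∈ V, u * v = v * u) (hVpow : ∀ v ∈ V, v ^ p = 1)
    (hHV : H ≤ Subgroup.normalizer (V : Set G))
    (hf : H ⊓ Subgroup.centralizer (V : Set G) = ⊥)
    (hKH : K ≤ H) (hKc : (Nat.card K).Coprime p) (hHK : H ≤ Subgroup.normalizer (K : Set G))
    (hAH : A ≤ H) (hAp : Nat.card A = p) (hVA : Nat.card ↥(⁅V, A⁆) = p)
    (x : G) (hx : x ∈ K) (hxA : x ∉ Subgroup.centralizer (A : Set G)) :
    ∀ k ∈ K, A.map (MulAut.conj k).toMonoidHom ≤ A ⊔ A.map (MulAut.conj x).toMonoidHom := by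
  classical
  have hp := (Fact.out : p.Prime)
  obtain ⟨-, -, hcardW, hLC, -, -, hT1, -⟩ :=
    ff_L_facts V K H A hVcomm hVpow hHV hf hKH hKc hHK hAH hAp hVA x hx hxA
  have hLAK : A ⊔ A.map (MulAut.conj x).toMonoidHom ≤ A ⊔ K :=
    sup_le le_sup_left (map_conj_le_of_mem A (A ⊔ K) x ((le_sup_right : K ≤ A ⊔ K) hx) le_sup_left)
  have hLH : A ⊔ A.map (MulAut.conj x).toMonoidHom ≤ H :=
    sup_le hAH (map_conj_le_of_mem A H x (hKH hx) hAH)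
  obtain ⟨L, hLdef⟩ : ∃ L : Subgroup G, L = A ⊔ A.map (MulAut.conj x).toMonoidHom := ⟨_, rfl⟩
  rw [← hLdef] at hcardW hLC hT1 hLAK hLH ⊢
  have hAL : A ≤ L := by rw [hLdef]; exact le_sup_left
  intro k hk
  have hkV : k ∈ Subgroup.normalizer (V : Set G) := hHV (hKH hk)
  obtain ⟨hcard3, hcardV3⟩ := card_conj_facts V A k hkV
  have hA₃H : A.map (MulAut.conj k).toMonoidHom ≤ H := map_conj_le_of_mem A H k (hKH hk) hAH
  obtain ⟨A₃, hA₃def⟩ : ∃ A₃ : Subgroup G, A₃ = A.map (MulAut.conj k).toMonoidHom := ⟨_, rfl⟩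
  rw [← hA₃def] at hcard3 hcardV3 hA₃H ⊢
  obtain ⟨a₃, ha₃, ha₃1, ha₃ord, hA₃z⟩ := exists_gen_of_card_prime A₃ (hcard3.trans hAp)
  have ha₃V : a₃ ∈ Subgroup.normalizer (V : Set G) := hHV (hA₃H ha₃)
  have hWV : ⁅V, L⁆ ≤ V := comm_le_left V L (hLH.trans hHV)
  obtain ⟨u, huW, hu1, hufix⟩ := exists_fixed_of_card_lt V ⁅V, L⁆ ⁅V, A₃⁆ hVcomm a₃ ha₃V hWV
    (fun w hw => conj_comm_mem V A₃ a₃ w ha₃ (hWV hw))
    (by rw [hcardV3, hVA, hcardW]; nlinarith [hp.two_le])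
  obtain ⟨g, hgL, hug⟩ := hT1 u huW hu1
  obtain ⟨a', ha', k', hk', hgk⟩ := mem_sup_of_le_normalizer A K (hAH.trans hHK) g (hLAK hgL)
  have hAg : A.map (MulAut.conj g).toMonoidHom = A.map (MulAut.conj k').toMonoidHom := by
    rw [hgk, ← map_conj_mul, map_conj_eq_self A a' (Subgroup.le_normalizer ha')]
  have hk'V : k' ∈ Subgroup.normalizer (V : Set G) := hHV (hKH hk')
  obtain ⟨hcard4, hcardV4⟩ := card_conj_facts V A k' hk'V
  have hA₄L : A.map (MulAut.conj k').toMonoidHom ≤ L := by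
    rw [← hAg]; exact map_conj_le_of_mem A L g hgL hAL
  have hA₃4 : A₃ = (A.map (MulAut.conj k').toMonoidHom).map
      (MulAut.conj (k * k'⁻¹)).toMonoidHom := by
    rw [hA₃def, map_conj_mul]
    congr 3
    group
  rw [hAg] at hug
  obtain ⟨A₄, hA₄def⟩ : ∃ A₄ : Subgroup G, A₄ = A.map (MulAut.conj k').toMonoidHom := ⟨_, rfl⟩
  rw [← hA₄def] at hcard4 hcardV4 hA₄L hA₃4 hug
  have hV4z : ⁅V, A₄⁆ = Subgroup.zpowers u :=
    (zpowers_eq_of_card_prime _ (hcardV4.trans hVA) u hug hu1).1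
  have hA₄H : A₄ ≤ H := hA₄L.trans hLH
  by_cases hx' : k * k'⁻¹ ∈ Subgroup.centralizer (A₄ : Set G)
  · have h34 : A₃ = A₄ := by
      rw [hA₃4]
      ext y
      rw [Subgroup.mem_centralizer_iff] at hx'
      constructor
      · rintro ⟨z, hz, rfl⟩
        have h1 := hx' z hz
        have h2 : (MulAut.conj (k * k'⁻¹)).toMonoidHom z = z := by
          show (k * k'⁻¹) * z * (k * k'⁻¹)⁻¹ = z
          rw [← h1]; group
        rw [h2]; exact hz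
      · intro hy
        refine ⟨y, hy, ?_⟩
        have h1 := hx' y hy
        show (k * k'⁻¹) * y * (k * k'⁻¹)⁻¹ = y
        rw [← h1]; group
    rw [h34]; exact hA₄L
  · exfalso
    obtain ⟨-, -, hLC', -⟩ := sl2_of_conj_pair V K H A₄ hVcomm hVpow hHV hf hKH hKc hHK hA₄H
      (hcard4.trans hAp) (hcardV4.trans hVA) (k * k'⁻¹) (K.mul_mem hk (K.inv_mem hk')) hx'
    rw [← hA₃4] at hLC'
    apply ha₃1
    have ha₃p : a₃ ^ p = 1 := by rw [← ha₃ord]; exact pow_orderOf_eq_one a₃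
    have hmem : a₃ ∈ (A₄ ⊔ A₃) ⊓ Subgroup.centralizer ((⁅V, A₄ ⊔ A₃⁆ : Subgroup G) : Set G) := by
      refine Subgroup.mem_inf.mpr ⟨(le_sup_right : A₃ ≤ A₄ ⊔ A₃) ha₃, ?_⟩
      rw [Subgroup.mem_centralizer_iff]
      intro w hw
      have hw' := commutator_sup_le V A₄ A₃ hVcomm (hA₄H.trans hHV) (hA₃H.trans hHV) hw
      have hS : ⁅V, A₄⁆ ⊔ ⁅V, A₃⁆ ≤ Subgroup.centralizer ({a₃} : Set G) := by
        apply sup_le
        · rw [hV4z, Subgroup.zpowers_le, Subgroup.mem_centralizer_iff]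
          intro y hy
          rw [Set.mem_singleton_iff.mp hy]
          calc a₃ * u = (a₃ * u * a₃⁻¹) * a₃ := by group
            _ = u * a₃ := by rw [hufix]
        · intro w hw
          rw [Subgroup.mem_centralizer_iff]
          intro y hy
          rw [Set.mem_singleton_iff.mp hy]
          have hn := comm_normalizer V A₃ a₃ ha₃V (Subgroup.le_normalizer ha₃)
          have h1 := cent_of_card_prime ⁅V, A₃⁆ (hcardV3.trans hVA) a₃
            (fun w hw => (Subgroup.mem_normalizer_iff.mp hn w).mp hw) ha₃p w hw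
          calc a₃ * w = (a₃ * w * a₃⁻¹) * a₃ := by group
            _ = w * a₃ := by rw [h1]
      have := hS hw'
      rw [Subgroup.mem_centralizer_iff] at this
      exact (this a₃ rfl).symm
    rw [hLC'] at hmem
    exact Subgroup.mem_bot.mp hmem

/-- `[K, A] A = ⟨A, A^x⟩`. -/
theorem ff_EL {G : Type*} [Group G] [Finite G] {p : ℕ} [Fact p.Prime]
    (V K H A : Subgroup G)
    (hVcomm : ∀ u ∈ V, ∀ v ∈ V, u * v = v * u) (hVpow : ∀ v ∈ V, v ^ p = 1)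
    (hHV : H ≤ Subgroup.normalizer (V : Set G))
    (hf : H ⊓ Subgroup.centralizer (V : Set G) = ⊥)
    (hKH : K ≤ H) (hKc : (Nat.card K).Coprime p) (hHK : H ≤ Subgroup.normalizer (K : Set G))
    (hAH : A ≤ H) (hAp : Nat.card A = p) (hVA : Nat.card ↥(⁅V, A⁆) = p)
    (x : G) (hx : x ∈ K) (hxA : x ∉ Subgroup.centralizer (A : Set G)) :
    ⁅K, A⁆ ⊔ A = A ⊔ A.map (MulAut.conj x).toMonoidHom := by
  have hT2 := ff_T2 V K H A hVcomm hVpow hHV hf hKH hKc hHK hAH hAp hVA x hx hxA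
  apply le_antisymm
  · refine sup_le ?_ le_sup_left
    rw [Subgroup.commutator_le]
    intro k hk a ha
    rw [commutatorElement_def]
    have h1 : k * a * k⁻¹ ∈ A ⊔ A.map (MulAut.conj x).toMonoidHom := hT2 k hk ⟨a, ha, rfl⟩
    exact Subgroup.mul_mem _ h1 (Subgroup.inv_mem _ ((le_sup_left : A ≤ _) ha))
  · refine sup_le le_sup_right ?_
    rintro _ ⟨y, hy, rfl⟩
    have h1 : x * y * x⁻¹ * y⁻¹ ∈ ⁅K, A⁆ := by
      have := Subgroup.commutator_mem_commutator (H₁ := K) (H₂ := A) hx hy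
      rw [commutatorElement_def] at this
      exact this
    have h2 : (MulAut.conj x).toMonoidHom y = (x * y * x⁻¹ * y⁻¹) * y := by
      show x * y * x⁻¹ = _
      group
    rw [h2]
    exact Subgroup.mul_mem _ ((le_sup_left : ⁅K, A⁆ ≤ _) h1) ((le_sup_right : A ≤ ⁅K, A⁆ ⊔ A) hy)

theorem pow_card_eq_one_of_mem {G : Type*} [Group G] {p : ℕ} (A : Subgroup G)
    (hAp : Nat.card A = p) (y : G) (hy : y ∈ A) : y ^ p = 1 := by
  have h1 : (⟨y, hy⟩ : ↥A) ^ Nat.card A = 1 := pow_card_eq_one'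
  rw [hAp] at h1
  exact congrArg Subtype.val h1

/-- `K` normalizes `L`, and `H` normalizes `[V, L]`. -/
theorem ff_norm {G : Type*} [Group G] [Finite G] {p : ℕ} [Fact p.Prime]
    (V K H A : Subgroup G)
    (hVcomm : ∀ u ∈ V, ∀ v ∈ V, u * v = v * u) (hVpow : ∀ v ∈ V, v ^ p = 1)
    (hHV : H ≤ Subgroup.normalizer (V : Set G))
    (hf : H ⊓ Subgroup.centralizer (V : Set G) = ⊥)
    (hKH : K ≤ H) (hKc : (Nat.card K).Coprime p) (hHK : H ≤ Subgroup.normalizer (K : Set G))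
    (hgenH : ∀ S : Subgroup G, (∀ B : Subgroup G, B ≤ H → Nat.card B = p →
      Nat.card ↥(⁅V, B⁆) = p → B ≤ S) → H ≤ S)
    (hAH : A ≤ H) (hAp : Nat.card A = p) (hVA : Nat.card ↥(⁅V, A⁆) = p)
    (x : G) (hx : x ∈ K) (hxA : x ∉ Subgroup.centralizer (A : Set G)) :
    K ≤ Subgroup.normalizer ((A ⊔ A.map (MulAut.conj x).toMonoidHom : Subgroup G) : Set G) ∧
    H ≤ Subgroup.normalizer
      ((⁅V, A ⊔ A.map (MulAut.conj x).toMonoidHom⁆ : Subgroup G) : Set G) := by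
  classical
  have hp := (Fact.out : p.Prime)
  have hT2 := ff_T2 V K H A hVcomm hVpow hHV hf hKH hKc hHK hAH hAp hVA x hx hxA
  obtain ⟨-, -, hcardW, hLC, hWC, -, hT1, -⟩ :=
    ff_L_facts V K H A hVcomm hVpow hHV hf hKH hKc hHK hAH hAp hVA x hx hxA
  have hLAK : A ⊔ A.map (MulAut.conj x).toMonoidHom ≤ A ⊔ K :=
    sup_le le_sup_left (map_conj_le_of_mem A (A ⊔ K) x ((le_sup_right : K ≤ A ⊔ K) hx) le_sup_left)
  have hLH : A ⊔ A.map (MulAut.conj x).toMonoidHom ≤ H :=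
    sup_le hAH (map_conj_le_of_mem A H x (hKH hx) hAH)
  have hxV : x ∈ Subgroup.normalizer (V : Set G) := hHV (hKH hx)
  have hcardB := (card_conj_facts V A x hxV).1
  have hKL : K ≤ Subgroup.normalizer
      ((A ⊔ A.map (MulAut.conj x).toMonoidHom : Subgroup G) : Set G) := by
    intro k hk
    apply mem_normalizer_of_conj'
    intro y hy
    have h1 : (A ⊔ A.map (MulAut.conj x).toMonoidHom).map (MulAut.conj k).toMonoidHom
        ≤ A ⊔ A.map (MulAut.conj x).toMonoidHom := by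
      rw [Subgroup.map_sup, map_conj_mul]
      exact sup_le (hT2 k hk) (hT2 (k * x) (K.mul_mem hk hx))
    exact h1 ⟨y, hy, rfl⟩
  obtain ⟨B, hBdef⟩ : ∃ B : Subgroup G, B = A.map (MulAut.conj x).toMonoidHom := ⟨_, rfl⟩
  rw [← hBdef] at hcardW hLC hWC hT1 hLAK hLH hKL hcardB ⊢
  obtain ⟨L, hLdef⟩ : ∃ L : Subgroup G, L = A ⊔ B := ⟨_, rfl⟩
  rw [← hLdef] at hcardW hLC hWC hT1 hLAK hLH hKL ⊢
  have hLV : L ≤ Subgroup.normalizer (V : Set G) := hLH.trans hHV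
  have hKW : K ≤ Subgroup.normalizer ((⁅V, L⁆ : Subgroup G) : Set G) := fun k hk =>
    comm_normalizer V L k (hHV (hKH hk)) (hKL hk)
  obtain ⟨W, hWdef⟩ : ∃ W : Subgroup G, W = ⁅V, L⁆ := ⟨_, rfl⟩
  rw [← hWdef] at hcardW hLC hWC hT1 hKW ⊢
  have hWV : W ≤ V := by rw [hWdef]; exact comm_le_left V L hLV
  refine ⟨hKL, ?_⟩
  -- T3
  have hT3 : ∀ U : Subgroup G, U ≤ W → Nat.card U = p →
      ¬ (K ≤ Subgroup.normalizer (U : Set G)) := by
    intro U hUW hUp hKU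
    obtain ⟨u, huU, hu1, -, hUz⟩ := exists_gen_of_card_prime U hUp
    obtain ⟨g, hgL, hug⟩ := hT1 u (hUW huU) hu1
    obtain ⟨a', ha', k', hk', hgk⟩ := mem_sup_of_le_normalizer A K (hAH.trans hHK) g (hLAK hgL)
    have hAg : A.map (MulAut.conj g).toMonoidHom = A.map (MulAut.conj k').toMonoidHom := by
      rw [hgk, ← map_conj_mul, map_conj_eq_self A a' (Subgroup.le_normalizer ha')]
    rw [hAg] at hug
    have hk'V : k' ∈ Subgroup.normalizer (V : Set G) := hHV (hKH hk')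
    obtain ⟨hcard4, hcardV4⟩ := card_conj_facts V A k' hk'V
    have hA₄H : A.map (MulAut.conj k').toMonoidHom ≤ H := map_conj_le_of_mem A H k' (hKH hk') hAH
    obtain ⟨A₄, hA₄def⟩ : ∃ A₄ : Subgroup G, A₄ = A.map (MulAut.conj k').toMonoidHom := ⟨_, rfl⟩
    rw [← hA₄def] at hcard4 hcardV4 hug hA₄H
    have hV4z : ⁅V, A₄⁆ = U := by
      rw [hUz]; exact (zpowers_eq_of_card_prime _ (hcardV4.trans hVA) u hug hu1).1
    have hA₄U : A₄ ≤ Subgroup.normalizer (U : Set G) := by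
      intro y hy
      rw [← hV4z]
      exact comm_normalizer V A₄ y (hHV (hA₄H hy)) (Subgroup.le_normalizer hy)
    have hAU : A ≤ Subgroup.normalizer (U : Set G) := by
      intro y hy
      have h1 : k' * y * k'⁻¹ ∈ Subgroup.normalizer (U : Set G) := by
        apply hA₄U; rw [hA₄def]; exact ⟨y, hy, rfl⟩
      have h2 : y = k'⁻¹ * (k' * y * k'⁻¹) * k' := by group
      rw [h2]
      exact Subgroup.mul_mem _ (Subgroup.mul_mem _ (Subgroup.inv_mem _ (hKU hk')) h1) (hKU hk')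
    have hLU : L ≤ Subgroup.normalizer (U : Set G) := hLAK.trans (sup_le hAU hKU)
    have hcent : ∀ Z : Subgroup G, Z ≤ L → Nat.card Z = p →
        Z ≤ Subgroup.centralizer (U : Set G) := by
      intro Z hZL hZp y hy
      rw [Subgroup.mem_centralizer_iff]
      intro w hw
      have h1 := cent_of_card_prime U hUp y
        (fun w hw => (Subgroup.mem_normalizer_iff.mp (hLU (hZL hy)) w).mp hw)
        (pow_card_eq_one_of_mem Z hZp y hy) w hw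
      calc w * y = (y * w * y⁻¹) * y := by rw [h1]
        _ = y * w := by group
    have hLcU : L ≤ Subgroup.centralizer (U : Set G) := by
      rw [hLdef]
      exact sup_le (hcent A (by rw [hLdef]; exact le_sup_left) hAp)
        (hcent B (by rw [hLdef]; exact le_sup_right) (hcardB.trans hAp))
    have humem : u ∈ W ⊓ (V ⊓ Subgroup.centralizer (L : Set G)) := by
      refine Subgroup.mem_inf.mpr ⟨hUW huU, Subgroup.mem_inf.mpr ⟨hWV (hUW huU), ?_⟩⟩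
      rw [Subgroup.mem_centralizer_iff]
      intro y hy
      have := hLcU hy
      rw [Subgroup.mem_centralizer_iff] at this
      exact (this u huU).symm
    rw [hWC] at humem
    exact hu1 (Subgroup.mem_bot.mp humem)
  apply hgenH
  intro B' hB'H hB'p hVB'p
  obtain ⟨b₀, hb₀, hb₀1, -, hB'z⟩ := exists_gen_of_card_prime B' hB'p
  rw [hB'z, Subgroup.zpowers_le]
  have hb₀H : b₀ ∈ H := hB'H hb₀
  have hb₀V : b₀ ∈ Subgroup.normalizer (V : Set G) := hHV hb₀H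
  obtain ⟨u, huW, hu1, hufix⟩ := exists_fixed_of_card_lt V W ⁅V, B'⁆ hVcomm b₀ hb₀V hWV
    (fun w hw => conj_comm_mem V B' b₀ w hb₀ (hWV hw))
    (by rw [hVB'p, hcardW]; nlinarith [hp.two_le])
  have hcardW' : Nat.card ↥(W.map (MulAut.conj b₀).toMonoidHom) = Nat.card W :=
    Subgroup.card_map_of_injective (MulAut.conj b₀).injective
  have hKW' : K ≤ Subgroup.normalizer ((W.map (MulAut.conj b₀).toMonoidHom : Subgroup G) : Set G) := by
    intro k hk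
    apply mem_normalizer_of_conj'
    rintro _ ⟨w, hw, rfl⟩
    have hk' : b₀⁻¹ * k * b₀ ∈ K := by
      have := (Subgroup.mem_normalizer_iff.mp (Subgroup.inv_mem _ (hHK hb₀H)) k).mp hk
      simpa using this
    have h1 : (b₀⁻¹ * k * b₀) * w * (b₀⁻¹ * k * b₀)⁻¹ ∈ W :=
      (Subgroup.mem_normalizer_iff.mp (hKW hk') w).mp hw
    refine ⟨(b₀⁻¹ * k * b₀) * w * (b₀⁻¹ * k * b₀)⁻¹, h1, ?_⟩
    show b₀ * ((b₀⁻¹ * k * b₀) * w * (b₀⁻¹ * k * b₀)⁻¹) * b₀⁻¹ = k * (b₀ * w * b₀⁻¹) * k⁻¹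
    group
  have huU : u ∈ W ⊓ W.map (MulAut.conj b₀).toMonoidHom :=
    Subgroup.mem_inf.mpr ⟨huW, ⟨u, huW, hufix⟩⟩
  have hKU : K ≤ Subgroup.normalizer
      ((W ⊓ W.map (MulAut.conj b₀).toMonoidHom : Subgroup G) : Set G) := fun k hk =>
    inf_mem_normalizer _ _ k (hKW hk) (hKW' hk)
  have hdvd : Nat.card ↥(W ⊓ W.map (MulAut.conj b₀).toMonoidHom) ∣ p ^ 2 := by
    rw [← hcardW]; exact Subgroup.card_dvd_of_le inf_le_left
  obtain ⟨i, hi, hci⟩ := (Nat.dvd_prime_pow hp).mp hdvd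
  have hWW' : W ≤ W.map (MulAut.conj b₀).toMonoidHom := by
    interval_cases i
    · exfalso
      rw [pow_zero] at hci
      have hbot := Subgroup.card_eq_one.mp hci
      rw [hbot] at huU
      exact hu1 (Subgroup.mem_bot.mp huU)
    · exfalso
      rw [pow_one] at hci
      exact hT3 (W ⊓ W.map (MulAut.conj b₀).toMonoidHom) inf_le_left hci hKU
    · have h1 : W ⊓ W.map (MulAut.conj b₀).toMonoidHom = W :=
        Subgroup.eq_of_le_of_card_ge inf_le_left (by rw [hci, hcardW])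
      intro w hw
      have hw' : w ∈ W ⊓ W.map (MulAut.conj b₀).toMonoidHom := by rw [h1]; exact hw
      exact (Subgroup.mem_inf.mp hw').2
  have hEq : W.map (MulAut.conj b₀).toMonoidHom = W :=
    (Subgroup.eq_of_le_of_card_ge hWW' (le_of_eq hcardW')).symm
  exact mem_normalizer_of_map_eq W b₀ hEq

end Cfsg.Agent.Helper21
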