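import Mathlib
import Cfsg.Agent.Helper21.FFStruct

set_option autoImplicit false
set_option linter.style.haveILetI false

namespace Cfsg.Agent.Helper21

/-- A transvection group `B'` with centre inside `W = [V, L]` lies in `L · C_H(W)`; explicit
form. -/
theorem ff_T7a {G : Type*} [Group G] [Finite G] {p : ℕ} [Fact p.Prime]
    (V K H A : Subgroup G)
    (hVcomm : ∀ u ∈ V, ∀ v ∈ V, u * v = v * u) (hVpow : ∀ v ∈ V, v ^ p = 1)
    (hHV : H ≤ Subgroup.normalizer (V : Set G))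
    (hf : H ⊓ Subgroup.centralizer (V : Set G) = ⊥)
    (hKH : K ≤ H) (hKc : (Nat.card K).Coprime p) (hHK : H ≤ Subgroup.normalizer (K : Set G))
    (hAH : A ≤ H) (hAp : Nat.card A = p) (hVA : Nat.card ↥(⁅V, A⁆) = p)
    (x : G) (hx : x ∈ K) (hxA : x ∉ Subgroup.centralizer (A : Set G))
    (B' : Subgroup G) (hB'H : B' ≤ H) (hB'p : Nat.card B' = p)
    (hVB'p : Nat.card ↥(⁅V, B'⁆) = p)
    (hle : ⁅V, B'⁆ ≤ ⁅V, A ⊔ A.map (MulAut.conj x).toMonoidHom⁆) :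
    ∃ b₀ g a₀ f₀ : G, B' = Subgroup.zpowers b₀ ∧ g ∈ A ⊔ A.map (MulAut.conj x).toMonoidHom ∧
      a₀ ∈ A ∧ f₀ ∈ H ⊓ Subgroup.centralizer
        ((⁅V, A ⊔ A.map (MulAut.conj x).toMonoidHom⁆ : Subgroup G) : Set G) ∧
      b₀ = g * a₀ * f₀ * g⁻¹ := by
  classical
  have hp := (Fact.out : p.Prime)
  obtain ⟨-, -, hcardW, hLC, hWC, -, hT1, hT7⟩ :=
    ff_L_facts V K H A hVcomm hVpow hHV hf hKH hKc hHK hAH hAp hVA x hx hxA
  have hLH : A ⊔ A.map (MulAut.conj x).toMonoidHom ≤ H :=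
    sup_le hAH (map_conj_le_of_mem A H x (hKH hx) hAH)
  obtain ⟨L, hLdef⟩ : ∃ L : Subgroup G, L = A ⊔ A.map (MulAut.conj x).toMonoidHom := ⟨_, rfl⟩
  rw [← hLdef] at hcardW hLC hWC hT1 hT7 hLH hle ⊢
  have hLV : L ≤ Subgroup.normalizer (V : Set G) := hLH.trans hHV
  have hWV : ⁅V, L⁆ ≤ V := comm_le_left V L hLV
  obtain ⟨W, hWdef⟩ : ∃ W : Subgroup G, W = ⁅V, L⁆ := ⟨_, rfl⟩
  rw [← hWdef] at hcardW hLC hWC hT1 hT7 hle hWV ⊢
  obtain ⟨b₀, hb₀, hb₀1, hb₀ord, hB'z⟩ := exists_gen_of_card_prime B' hB'p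
  obtain ⟨d₀, hd₀, hd₀1, -, hD'z⟩ := exists_gen_of_card_prime ⁅V, B'⁆ hVB'p
  obtain ⟨g, hgL, hdg⟩ := hT1 d₀ (hle hd₀) hd₀1
  have hgV : g ∈ Subgroup.normalizer (V : Set G) := hLV hgL
  have hD5 : ⁅V, A.map (MulAut.conj g).toMonoidHom⁆ = ⁅V, B'⁆ := by
    rw [hD'z]
    exact (zpowers_eq_of_card_prime _ ((card_conj_facts V A g hgV).2.trans hVA) d₀ hdg hd₀1).1
  rw [map_conj_commutator V A g hgV] at hD5
  have hb₀H := hB'H hb₀
  have hb₀V := hHV hb₀H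
  have hb₀p : b₀ ^ p = 1 := by rw [← hb₀ord]; exact pow_orderOf_eq_one b₀
  have hb₀n := comm_normalizer V B' b₀ hb₀V (Subgroup.le_normalizer hb₀)
  have hb₀c := cent_of_card_prime ⁅V, B'⁆ hVB'p b₀
    (fun w hw => (Subgroup.mem_normalizer_iff.mp hb₀n w).mp hw) hb₀p
  have hi : ∀ d ∈ ⁅V, A⁆, (g⁻¹ * b₀ * g) * d * (g⁻¹ * b₀ * g)⁻¹ = d := by
    intro d hd
    have h1 : g * d * g⁻¹ ∈ ⁅V, B'⁆ := by rw [← hD5]; exact ⟨d, hd, rfl⟩
    have h2 := hb₀c _ h1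
    calc (g⁻¹ * b₀ * g) * d * (g⁻¹ * b₀ * g)⁻¹
        = g⁻¹ * (b₀ * (g * d * g⁻¹) * b₀⁻¹) * g := by group
      _ = d := by rw [h2]; group
  have hii : ∀ w ∈ W, (g⁻¹ * b₀ * g) * w * (g⁻¹ * b₀ * g)⁻¹ * w⁻¹ ∈ ⁅V, A⁆ := by
    intro w hw
    have hwV : g * w * g⁻¹ ∈ V := (Subgroup.mem_normalizer_iff.mp hgV w).mp (hWV hw)
    have h1 : b₀ * (g * w * g⁻¹) * b₀⁻¹ * (g * w * g⁻¹)⁻¹ ∈ ⁅V, B'⁆ :=
      conj_comm_mem V B' b₀ _ hb₀ hwV
    rw [← hD5] at h1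
    obtain ⟨d, hd, hde⟩ := h1
    have hde' : g * d * g⁻¹ = b₀ * (g * w * g⁻¹) * b₀⁻¹ * (g * w * g⁻¹)⁻¹ := hde
    have h3 : (g⁻¹ * b₀ * g) * w * (g⁻¹ * b₀ * g)⁻¹ * w⁻¹ = d := by
      calc (g⁻¹ * b₀ * g) * w * (g⁻¹ * b₀ * g)⁻¹ * w⁻¹
          = g⁻¹ * (b₀ * (g * w * g⁻¹) * b₀⁻¹ * (g * w * g⁻¹)⁻¹) * g := by group
        _ = g⁻¹ * (g * d * g⁻¹) * g := by rw [hde']
        _ = d := by group
    rw [h3]; exact hd
  obtain ⟨a₀, ha₀, hfix⟩ := hT7 (g⁻¹ * b₀ * g) hi hii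
  refine ⟨b₀, g, a₀, a₀⁻¹ * (g⁻¹ * b₀ * g), hB'z, hgL, ha₀, ?_, by group⟩
  refine Subgroup.mem_inf.mpr ⟨?_, ?_⟩
  · exact H.mul_mem (H.inv_mem (hAH ha₀))
      (H.mul_mem (H.mul_mem (H.inv_mem (hLH hgL)) hb₀H) (hLH hgL))
  · rw [Subgroup.mem_centralizer_iff]
    intro w hw
    have := hfix w hw
    calc w * (a₀⁻¹ * (g⁻¹ * b₀ * g))
        = ((a₀⁻¹ * (g⁻¹ * b₀ * g)) * w * (a₀⁻¹ * (g⁻¹ * b₀ * g))⁻¹) * (a₀⁻¹ * (g⁻¹ * b₀ * g)) := by
          rw [this]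
      _ = (a₀⁻¹ * (g⁻¹ * b₀ * g)) * w := by group

/-- Main structure statement, in terms of `L = ⟨A, A^x⟩`. -/
theorem ff_struct_x {G : Type*} [Group G] [Finite G] {p : ℕ} [Fact p.Prime]
    (V K H A : Subgroup G)
    (hVcomm : ∀ u ∈ V, ∀ v ∈ V, u * v = v * u) (hVpow : ∀ v ∈ V, v ^ p = 1)
    (hHV : H ≤ Subgroup.normalizer (V : Set G))
    (hf : H ⊓ Subgroup.centralizer (V : Set G) = ⊥)
    (hKH : K ≤ H) (hKc : (Nat.card K).Coprime p) (hHK : H ≤ Subgroup.normalizer (K : Set G))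
    (hKf : ∀ P : Subgroup G, P ≤ H → IsPGroup p P →
      P ⊓ Subgroup.centralizer (K : Set G) = ⊥)
    (hgenH : ∀ S : Subgroup G, (∀ B : Subgroup G, B ≤ H → Nat.card B = p →
      Nat.card ↥(⁅V, B⁆) = p → B ≤ S) → H ≤ S)
    (hAH : A ≤ H) (hAp : Nat.card A = p) (hVA : Nat.card ↥(⁅V, A⁆) = p)
    (x : G) (hx : x ∈ K) (hxA : x ∉ Subgroup.centralizer (A : Set G)) :
    ⁅A ⊔ A.map (MulAut.conj x).toMonoidHom, H ⊓ Subgroup.centralizer
      ((⁅V, A ⊔ A.map (MulAut.conj x).toMonoidHom⁆ : Subgroup G) : Set G)⁆ = ⊥ ∧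
    (A ⊔ A.map (MulAut.conj x).toMonoidHom) ⊓ (H ⊓ Subgroup.centralizer
      ((⁅V, A ⊔ A.map (MulAut.conj x).toMonoidHom⁆ : Subgroup G) : Set G)) = ⊥ ∧
    (A ⊔ A.map (MulAut.conj x).toMonoidHom) ⊔ (H ⊓ Subgroup.centralizer
      ((⁅V, A ⊔ A.map (MulAut.conj x).toMonoidHom⁆ : Subgroup G) : Set G)) = H ∧
    ⁅V, H ⊓ Subgroup.centralizer
      ((⁅V, A ⊔ A.map (MulAut.conj x).toMonoidHom⁆ : Subgroup G) : Set G)⁆ ≤
      V ⊓ Subgroup.centralizer ((A ⊔ A.map (MulAut.conj x).toMonoidHom : Subgroup G) : Set G) ∧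
    H ≤ Subgroup.normalizer ((A ⊔ A.map (MulAut.conj x).toMonoidHom : Subgroup G) : Set G) ∧
    (∀ B' : Subgroup G, B' ≤ H → Nat.card B' = p → Nat.card ↥(⁅V, B'⁆) = p →
      B' ≤ A ⊔ A.map (MulAut.conj x).toMonoidHom ∨ B' ≤ H ⊓ Subgroup.centralizer
        ((⁅V, A ⊔ A.map (MulAut.conj x).toMonoidHom⁆ : Subgroup G) : Set G)) := by
  classical
  have hp := (Fact.out : p.Prime)
  obtain ⟨-, -, hcardW, hLC, hWC, hWVsup, hT1, -⟩ :=
    ff_L_facts V K H A hVcomm hVpow hHV hf hKH hKc hHK hAH hAp hVA x hx hxA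
  obtain ⟨hKL, hHW⟩ := ff_norm V K H A hVcomm hVpow hHV hf hKH hKc hHK hgenH hAH hAp hVA x hx hxA
  have hT7a := ff_T7a V K H A hVcomm hVpow hHV hf hKH hKc hHK hAH hAp hVA x hx hxA
  have hLH : A ⊔ A.map (MulAut.conj x).toMonoidHom ≤ H :=
    sup_le hAH (map_conj_le_of_mem A H x (hKH hx) hAH)
  have hBL : A.map (MulAut.conj x).toMonoidHom ≤ A ⊔ A.map (MulAut.conj x).toMonoidHom :=
    le_sup_right
  obtain ⟨L, hLdef⟩ : ∃ L : Subgroup G, L = A ⊔ A.map (MulAut.conj x).toMonoidHom := ⟨_, rfl⟩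
  rw [← hLdef] at hcardW hLC hWC hWVsup hT1 hKL hHW hT7a hLH hBL ⊢
  have hAL : A ≤ L := by rw [hLdef]; exact le_sup_left
  have hLV : L ≤ Subgroup.normalizer (V : Set G) := hLH.trans hHV
  have hWV : ⁅V, L⁆ ≤ V := comm_le_left V L hLV
  have hVAW : ⁅V, A⁆ ≤ ⁅V, L⁆ := Subgroup.commutator_mono le_rfl hAL
  obtain ⟨W, hWdef⟩ : ∃ W : Subgroup G, W = ⁅V, L⁆ := ⟨_, rfl⟩
  rw [← hWdef] at hcardW hLC hWC hWVsup hT1 hHW hT7a hWV hVAW ⊢
  have hFH : H ⊓ Subgroup.centralizer (W : Set G) ≤ H := inf_le_left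
  have hFC : H ⊓ Subgroup.centralizer (W : Set G) ≤ Subgroup.centralizer (W : Set G) :=
    inf_le_right
  have hFn : H ≤ Subgroup.normalizer
      ((H ⊓ Subgroup.centralizer (W : Set G) : Subgroup G) : Set G) := by
    intro h hh
    refine inf_mem_normalizer H _ h (Subgroup.le_normalizer hh) ?_
    apply mem_normalizer_of_conj'
    intro c hc
    exact conj_mem_centralizer W h c (hHW hh) hc
  obtain ⟨F, hFdef⟩ : ∃ F : Subgroup G, F = H ⊓ Subgroup.centralizer (W : Set G) := ⟨_, rfl⟩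
  rw [← hFdef] at hT7a hFH hFC hFn ⊢
  -- normal p-subgroups of H are trivial
  have hT6 : ∀ P : Subgroup G, P ≤ H → IsPGroup p P →
      H ≤ Subgroup.normalizer (P : Set G) → P = ⊥ := by
    intro P hPH hP hHP
    have hPC : P ≤ Subgroup.centralizer (K : Set G) := by
      intro y hy
      rw [Subgroup.mem_centralizer_iff]
      intro k hk
      have h1 : y * k * y⁻¹ * k⁻¹ ∈ P := by
        have : k * y⁻¹ * k⁻¹ ∈ P :=
          (Subgroup.mem_normalizer_iff.mp (hHP (hKH hk)) y⁻¹).mp (P.inv_mem hy)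
        have e : y * k * y⁻¹ * k⁻¹ = y * (k * y⁻¹ * k⁻¹) := by group
        rw [e]; exact P.mul_mem hy this
      have h2 : y * k * y⁻¹ * k⁻¹ ∈ K := by
        have : y * k * y⁻¹ ∈ K := (Subgroup.mem_normalizer_iff.mp (hHK (hPH hy)) k).mp hk
        exact K.mul_mem this (K.inv_mem hk)
      obtain ⟨j, hj⟩ := hP ⟨_, h1⟩
      have hj' : (y * k * y⁻¹ * k⁻¹) ^ p ^ j = 1 := by
        have := congrArg Subtype.val hj
        simpa using this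
      have hd1 : orderOf (y * k * y⁻¹ * k⁻¹) ∣ p ^ j := orderOf_dvd_of_pow_eq_one hj'
      have hd2 : orderOf (y * k * y⁻¹ * k⁻¹) ∣ Nat.card K := by
        have := orderOf_dvd_natCard (⟨_, h2⟩ : ↥K)
        rwa [Subgroup.orderOf_mk] at this
      have hcop : Nat.Coprime (orderOf (y * k * y⁻¹ * k⁻¹)) (p ^ j) :=
        Nat.Coprime.coprime_dvd_left hd2 (Nat.Coprime.pow_right j hKc)
      have h1' : orderOf (y * k * y⁻¹ * k⁻¹) = 1 := Nat.Coprime.eq_one_of_dvd hcop hd1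
      have h3 : y * k * y⁻¹ * k⁻¹ = 1 := orderOf_eq_one_iff.mp h1'
      calc k * y = (y * k * y⁻¹ * k⁻¹)⁻¹ * (y * k) := by group
        _ = y * k := by rw [h3]; group
    have := hKf P hPH hP
    rw [inf_eq_left.mpr hPC] at this
    exact this
  -- the normal closure of A in H
  obtain ⟨S, hSdef⟩ : ∃ S : Set (Subgroup G),
      S = {Z | ∃ h ∈ H, Z = A.map (MulAut.conj h).toMonoidHom} := ⟨_, rfl⟩
  have hSmem : ∀ h ∈ H, A.map (MulAut.conj h).toMonoidHom ∈ S := by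
    intro h hh; rw [hSdef]; exact ⟨h, hh, rfl⟩
  have hSH : ∀ Z ∈ S, Z ≤ H := by
    intro Z hZ; rw [hSdef] at hZ; obtain ⟨h, hh, rfl⟩ := hZ
    exact map_conj_le_of_mem A H h hh hAH
  have hScomm : ∀ Z ∈ S, ⁅V, Z⁆ ≤ W := by
    intro Z hZ; rw [hSdef] at hZ; obtain ⟨h, hh, rfl⟩ := hZ
    rw [map_conj_commutator V A h (hHV hh)]
    rintro _ ⟨d, hd, rfl⟩
    exact (Subgroup.mem_normalizer_iff.mp (hHW hh) d).mp (hVAW hd)
  have hNH : sSup S ≤ H := sSup_le hSH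
  have hLN : L ≤ sSup S := by
    rw [hLdef]
    apply sup_le
    · have := hSmem 1 H.one_mem; rw [map_conj_one] at this; exact le_sSup this
    · exact le_sSup (hSmem x (hKH hx))
  have hNLF : sSup S ≤ L ⊔ F := by
    apply sSup_le
    intro Z hZ
    have hZW := hScomm Z hZ
    have hZH := hSH Z hZ
    rw [hSdef] at hZ; obtain ⟨h, hh, rfl⟩ := hZ
    obtain ⟨c1, c2⟩ := card_conj_facts V A h (hHV hh)
    obtain ⟨b₀, g, a₀, f₀, hz, hg, ha₀, hf₀, hb⟩ :=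
      hT7a _ hZH (c1.trans hAp) (c2.trans hVA) hZW
    rw [hz, Subgroup.zpowers_le, hb]
    have hgLF : g ∈ L ⊔ F := (le_sup_left : L ≤ L ⊔ F) hg
    exact Subgroup.mul_mem _ (Subgroup.mul_mem _ (Subgroup.mul_mem _ hgLF
      ((le_sup_left : L ≤ L ⊔ F) (hAL ha₀))) ((le_sup_right : F ≤ L ⊔ F) hf₀))
      (Subgroup.inv_mem _ hgLF)
  have hHN : H ≤ Subgroup.normalizer ((sSup S : Subgroup G) : Set G) := by
    intro h hh
    apply mem_normalizer_of_conj'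
    have h1 : sSup S ≤ (sSup S).comap (MulAut.conj h).toMonoidHom := by
      apply sSup_le
      intro Z hZ
      rw [← Subgroup.map_le_iff_le_comap]
      rw [hSdef] at hZ; obtain ⟨h', hh', rfl⟩ := hZ
      rw [map_conj_mul]
      exact le_sSup (hSmem (h * h') (H.mul_mem hh hh'))
    intro y hy
    exact h1 hy
  have hcommN : ⁅V, sSup S⁆ ≤ W :=
    comm_sSup_le V W hWV S (fun Z hZ => (hSH Z hZ).trans hHV) hScomm
  have hNF : sSup S ⊓ F = ⊥ := by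
    apply hT6 _ (inf_le_left.trans hNH)
    · apply isPGroup_of_pow_p
      intro g hg
      obtain ⟨hgN, hgF⟩ := Subgroup.mem_inf.mp hg
      have hgC := hFC hgF
      rw [Subgroup.mem_centralizer_iff] at hgC
      refine chain_pow_one V W H hVcomm hVpow hWV hf g (hNH hgN) ?_ ?_
      · intro w hw
        rw [← hgC w hw]; group
      · intro v hv
        exact hcommN (conj_comm_mem V (sSup S) g v hgN hv)
    · intro h hh
      exact inf_mem_normalizer _ _ h (hHN hh) (hFn hh)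
  have hNL : sSup S = L := by
    apply le_antisymm _ hLN
    intro n hn
    obtain ⟨l, hl, f, hf', hnlf⟩ := mem_sup_of_le_normalizer L F (hLH.trans hFn) n (hNLF hn)
    have hfN : f ∈ sSup S ⊓ F := by
      refine Subgroup.mem_inf.mpr ⟨?_, hf'⟩
      have : f = n * l⁻¹ := by rw [hnlf]; group
      rw [this]
      exact Subgroup.mul_mem _ hn (Subgroup.inv_mem _ (hLN hl))
    rw [hNF, Subgroup.mem_bot] at hfN
    rw [hnlf, hfN, one_mul]; exact hl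
  have hHL : H ≤ Subgroup.normalizer (L : Set G) := by rw [← hNL]; exact hHN
  have h7 : L ⊓ F = ⊥ := by
    rw [eq_bot_iff, ← hLC]
    exact inf_le_inf_left L hFC
  have h6 : ⁅L, F⁆ = ⊥ := by
    rw [eq_bot_iff, ← h7, Subgroup.commutator_le]
    intro l hl f hf'
    rw [commutatorElement_def]
    refine Subgroup.mem_inf.mpr ⟨?_, ?_⟩
    · have : f * l⁻¹ * f⁻¹ ∈ L :=
        (Subgroup.mem_normalizer_iff.mp (hHL (hFH hf')) l⁻¹).mp (L.inv_mem hl)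
      have e : l * f * l⁻¹ * f⁻¹ = l * (f * l⁻¹ * f⁻¹) := by group
      rw [e]; exact L.mul_mem hl this
    · have : l * f * l⁻¹ ∈ F := (Subgroup.mem_normalizer_iff.mp (hFn (hLH hl)) f).mp hf'
      exact F.mul_mem this (F.inv_mem hf')
  have hLFcomm : ∀ l ∈ L, ∀ f ∈ F, l * f = f * l := by
    intro l hl f hf'
    have h1 : l * f * l⁻¹ * f⁻¹ ∈ ⁅L, F⁆ := by
      have := Subgroup.commutator_mem_commutator (H₁ := L) (H₂ := F) hl hf'
      rwa [commutatorElement_def] at this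
    rw [h6, Subgroup.mem_bot] at h1
    calc l * f = (l * f * l⁻¹ * f⁻¹) * (f * l) := by group
      _ = f * l := by rw [h1, one_mul]
  have hVdec : ∀ v ∈ V, ∃ w ∈ W, ∃ c ∈ V ⊓ Subgroup.centralizer (L : Set G), v = c * w := by
    intro v hv
    have hnorm : W ≤ Subgroup.normalizer
        ((V ⊓ Subgroup.centralizer (L : Set G) : Subgroup G) : Set G) := by
      refine le_trans ?_ (Subgroup.centralizer_le_normalizer _)
      intro w hw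
      rw [Subgroup.mem_centralizer_iff]
      intro c hc
      exact hVcomm c (Subgroup.mem_inf.mp hc).1 w (hWV hw)
    have hv' : v ∈ W ⊔ (V ⊓ Subgroup.centralizer (L : Set G)) := by rw [hWVsup]; exact hv
    exact mem_sup_of_le_normalizer W _ hnorm v hv'
  have h9 : ⁅V, F⁆ ≤ V ⊓ Subgroup.centralizer (L : Set G) := by
    rw [Subgroup.commutator_le]
    intro v hv f hf'
    rw [commutatorElement_def]
    obtain ⟨w, hw, c, hc, hvcw⟩ := hVdec v hv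
    have hfw : w * f = f * w := (Subgroup.mem_centralizer_iff.mp (hFC hf')) w hw
    have e : v * f * v⁻¹ * f⁻¹ = c * (f * c⁻¹ * f⁻¹) := by
      rw [hvcw]
      calc c * w * f * (c * w)⁻¹ * f⁻¹ = c * (w * f) * w⁻¹ * c⁻¹ * f⁻¹ := by group
        _ = c * (f * w) * w⁻¹ * c⁻¹ * f⁻¹ := by rw [hfw]
        _ = c * (f * c⁻¹ * f⁻¹) := by group
    rw [e]
    obtain ⟨hcV, hcC⟩ := Subgroup.mem_inf.mp hc
    refine Subgroup.mem_inf.mpr ⟨?_, ?_⟩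
    · exact V.mul_mem hcV
        ((Subgroup.mem_normalizer_iff.mp (hHV (hFH hf')) c⁻¹).mp (V.inv_mem hcV))
    · exact Subgroup.mul_mem _ hcC
        (conj_mem_centralizer L f c⁻¹ (hHL (hFH hf')) (Subgroup.inv_mem _ hcC))
  have h12 : ∀ B' : Subgroup G, B' ≤ H → Nat.card B' = p → Nat.card ↥(⁅V, B'⁆) = p →
      B' ≤ L ∨ B' ≤ F := by
    intro B' hB'H hB'p hVB'p
    by_cases hle : ⁅V, B'⁆ ≤ W
    · left
      obtain ⟨b₀, g, a₀, f₀, hz, hg, ha₀, hf₀, hb⟩ := hT7a B' hB'H hB'p hVB'p hle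
      have hb₀B : b₀ ∈ B' := by rw [hz]; exact Subgroup.mem_zpowers b₀
      have hgf' : g⁻¹ * f₀ = f₀ * g⁻¹ := hLFcomm g⁻¹ (L.inv_mem hg) f₀ hf₀
      have hlL : g * a₀ * g⁻¹ ∈ L := L.mul_mem (L.mul_mem hg (hAL ha₀)) (L.inv_mem hg)
      have hb' : b₀ = (g * a₀ * g⁻¹) * f₀ := by
        rw [hb, mul_assoc (g * a₀) g⁻¹ f₀, hgf', ← mul_assoc]
      have hf₀1 : f₀ = 1 := by
        have hmem : f₀ ∈ H ⊓ Subgroup.centralizer (V : Set G) := by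
          refine Subgroup.mem_inf.mpr ⟨hFH hf₀, ?_⟩
          rw [Subgroup.mem_centralizer_iff]
          intro v hv
          obtain ⟨w, hw, c, hc, hvcw⟩ := hVdec v hv
          have hfw : w * f₀ = f₀ * w := (Subgroup.mem_centralizer_iff.mp (hFC hf₀)) w hw
          obtain ⟨hcV, hcC⟩ := Subgroup.mem_inf.mp hc
          have hz1 : f₀ * c * f₀⁻¹ * c⁻¹ ∈ V ⊓ Subgroup.centralizer (L : Set G) :=
            h9 (conj_comm_mem V F f₀ c hf₀ hcV)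
          have hzc : f₀ * c * f₀⁻¹ ∈ Subgroup.centralizer (L : Set G) := by
            have e : f₀ * c * f₀⁻¹ = (f₀ * c * f₀⁻¹ * c⁻¹) * c := by group
            rw [e]; exact Subgroup.mul_mem _ (Subgroup.mem_inf.mp hz1).2 hcC
          have hz2 : f₀ * c * f₀⁻¹ * c⁻¹ ∈ W := by
            have h1 : b₀ * c * b₀⁻¹ * c⁻¹ ∈ ⁅V, B'⁆ := conj_comm_mem V B' b₀ c hb₀B hcV
            have h2 : b₀ * c * b₀⁻¹ * c⁻¹ = f₀ * c * f₀⁻¹ * c⁻¹ := by
              have h3 := (Subgroup.mem_centralizer_iff.mp hzc) (g * a₀ * g⁻¹) hlL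
              rw [hb']
              calc (g * a₀ * g⁻¹ * f₀) * c * (g * a₀ * g⁻¹ * f₀)⁻¹ * c⁻¹
                  = ((g * a₀ * g⁻¹) * (f₀ * c * f₀⁻¹)) * (g * a₀ * g⁻¹)⁻¹ * c⁻¹ := by group
                _ = ((f₀ * c * f₀⁻¹) * (g * a₀ * g⁻¹)) * (g * a₀ * g⁻¹)⁻¹ * c⁻¹ := by rw [h3]
                _ = f₀ * c * f₀⁻¹ * c⁻¹ := by group
            rw [← h2]; exact hle h1
          have hz0 : f₀ * c * f₀⁻¹ * c⁻¹ = 1 := by
            have : f₀ * c * f₀⁻¹ * c⁻¹ ∈ W ⊓ (V ⊓ Subgroup.centralizer (L : Set G)) :=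
              Subgroup.mem_inf.mpr ⟨hz2, hz1⟩
            rw [hWC] at this; exact Subgroup.mem_bot.mp this
          have hfc : c * f₀ = f₀ * c := by
            calc c * f₀ = (f₀ * c * f₀⁻¹ * c⁻¹)⁻¹ * (f₀ * c) := by group
              _ = f₀ * c := by rw [hz0]; group
          rw [hvcw, mul_assoc, hfw, ← mul_assoc, hfc, mul_assoc]
        rw [hf] at hmem; exact Subgroup.mem_bot.mp hmem
      rw [hz, Subgroup.zpowers_le, hb', hf₀1, mul_one]; exact hlL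
    · right
      have hinf : ⁅V, B'⁆ ⊓ W = ⊥ := by
        by_contra hne
        obtain ⟨d, hd, hd1⟩ : ∃ d ∈ ⁅V, B'⁆ ⊓ W, d ≠ 1 := by
          by_contra hno
          apply hne
          rw [Subgroup.eq_bot_iff_forall]
          intro d hd
          by_contra h
          exact hno ⟨d, hd, h⟩
        obtain ⟨hd1', hd2⟩ := Subgroup.mem_inf.mp hd
        apply hle
        rw [(zpowers_eq_of_card_prime _ hVB'p d hd1' hd1).1, Subgroup.zpowers_le]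
        exact hd2
      intro b hb
      rw [hFdef]
      refine Subgroup.mem_inf.mpr ⟨hB'H hb, ?_⟩
      rw [Subgroup.mem_centralizer_iff]
      intro w hw
      have h1 : b * w * b⁻¹ * w⁻¹ ∈ ⁅V, B'⁆ ⊓ W := by
        refine Subgroup.mem_inf.mpr ⟨conj_comm_mem V B' b w hb (hWV hw), ?_⟩
        exact W.mul_mem ((Subgroup.mem_normalizer_iff.mp (hHW (hB'H hb)) w).mp hw) (W.inv_mem hw)
      rw [hinf, Subgroup.mem_bot] at h1
      calc w * b = (b * w * b⁻¹ * w⁻¹)⁻¹ * (b * w) := by group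
        _ = b * w := by rw [h1]; group
  have h8 : L ⊔ F = H := by
    apply le_antisymm (sup_le hLH hFH)
    apply hgenH
    intro B' h1 h2 h3
    rcases h12 B' h1 h2 h3 with h | h
    · exact h.trans le_sup_left
    · exact h.trans le_sup_right
  exact ⟨h6, h7, h8, h9, hHL, h12⟩

/-- Structure of `[K, A] A` for a transvection group `A` of order `p`: it is a direct factor of
`H` isomorphic to `SL(2, p)`. -/
theorem ff_struct_single {G : Type*} [Group G] [Finite G] {p : ℕ} [Fact p.Prime]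
    (V K H A : Subgroup G)
    (hVcomm : ∀ u ∈ V, ∀ v ∈ V, u * v = v * u) (hVpow : ∀ v ∈ V, v ^ p = 1)
    (hHV : H ≤ Subgroup.normalizer (V : Set G))
    (hf : H ⊓ Subgroup.centralizer (V : Set G) = ⊥)
    (hKH : K ≤ H) (hKc : (Nat.card K).Coprime p) (hHK : H ≤ Subgroup.normalizer (K : Set G))
    (hKf : ∀ P : Subgroup G, P ≤ H → IsPGroup p P →
      P ⊓ Subgroup.centralizer (K : Set G) = ⊥)
    (hgenH : ∀ S : Subgroup G, (∀ B : Subgroup G, B ≤ H → Nat.card B = p →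
      Nat.card ↥(⁅V, B⁆) = p → B ≤ S) → H ≤ S)
    (hAH : A ≤ H) (hAp : Nat.card A = p) (hVA : Nat.card ↥(⁅V, A⁆) = p) :
    (p = 2 ∨ p = 3) ∧
    Nonempty (↥(⁅K, A⁆ ⊔ A) ≃* Matrix.SpecialLinearGroup (Fin 2) (ZMod p)) ∧
    Nat.card ↥(⁅V, ⁅K, A⁆ ⊔ A⁆) = p ^ 2 ∧
    ⁅V, ⁅K, A⁆ ⊔ A⁆ ⊓ (V ⊓ Subgroup.centralizer ((⁅K, A⁆ ⊔ A : Subgroup G) : Set G)) = ⊥ ∧
    ⁅V, ⁅K, A⁆ ⊔ A⁆ ⊔ (V ⊓ Subgroup.centralizer ((⁅K, A⁆ ⊔ A : Subgroup G) : Set G)) = V ∧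
    ⁅⁅K, A⁆ ⊔ A, H ⊓ Subgroup.centralizer ((⁅V, ⁅K, A⁆ ⊔ A⁆ : Subgroup G) : Set G)⁆ = ⊥ ∧
    (⁅K, A⁆ ⊔ A) ⊓ (H ⊓ Subgroup.centralizer ((⁅V, ⁅K, A⁆ ⊔ A⁆ : Subgroup G) : Set G)) = ⊥ ∧
    (⁅K, A⁆ ⊔ A) ⊔ (H ⊓ Subgroup.centralizer ((⁅V, ⁅K, A⁆ ⊔ A⁆ : Subgroup G) : Set G)) = H ∧
    ⁅V, H ⊓ Subgroup.centralizer ((⁅V, ⁅K, A⁆ ⊔ A⁆ : Subgroup G) : Set G)⁆ ≤
      V ⊓ Subgroup.centralizer ((⁅K, A⁆ ⊔ A : Subgroup G) : Set G) ∧
    H ≤ Subgroup.normalizer ((⁅K, A⁆ ⊔ A : Subgroup G) : Set G) ∧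
    (∀ B' : Subgroup G, B' ≤ H → Nat.card B' = p → Nat.card ↥(⁅V, B'⁆) = p →
      B' ≤ ⁅K, A⁆ ⊔ A ∨
      B' ≤ H ⊓ Subgroup.centralizer ((⁅V, ⁅K, A⁆ ⊔ A⁆ : Subgroup G) : Set G)) := by
  have hp := (Fact.out : p.Prime)
  have hAP : IsPGroup p A := IsPGroup.of_card (n := 1) (by rw [hAp, pow_one])
  have hAK := hKf A hAH hAP
  obtain ⟨x, hx, hxA⟩ : ∃ x ∈ K, x ∉ Subgroup.centralizer (A : Set G) := by
    by_contra hno
    push_neg at hno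
    have hAC : A ≤ Subgroup.centralizer (K : Set G) := by
      intro a ha
      rw [Subgroup.mem_centralizer_iff]
      intro k hk
      have := hno k hk
      rw [Subgroup.mem_centralizer_iff] at this
      exact (this a ha).symm
    rw [inf_eq_left.mpr hAC] at hAK
    rw [hAK, Subgroup.card_bot] at hAp
    exact hp.one_lt.ne hAp
  have hEL := ff_EL V K H A hVcomm hVpow hHV hf hKH hKc hHK hAH hAp hVA x hx hxA
  obtain ⟨c1, c2, c3, -, c4, c5, -, -⟩ :=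
    ff_L_facts V K H A hVcomm hVpow hHV hf hKH hKc hHK hAH hAp hVA x hx hxA
  obtain ⟨c6, c7, c8, c9, c10, c12⟩ :=
    ff_struct_x V K H A hVcomm hVpow hHV hf hKH hKc hHK hKf hgenH hAH hAp hVA x hx hxA
  rw [hEL]
  exact ⟨c1, c2, c3, c4, c5, c6, c7, c8, c9, c10, c12⟩

end Cfsg.Agent.Helper21
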