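import Mathlib
import Cfsg.Agent.Helper21.FFStruct2
import Cfsg.Agent.Helper21.Offender
import Cfsg.Agent.S0184

set_option autoImplicit false
set_option linter.style.haveILetI false

namespace Cfsg.Agent.Helper21

/-- A `p`-element normalizing a nontrivial `p`-subgroup `R` fixes a nontrivial element of `R`. -/
theorem pelem_fixed {G : Type*} [Group G] [Finite G] {p : ℕ} [Fact p.Prime] (R : Subgroup G)
    (a : G) (hR : IsPGroup p R) (ha : IsPGroup p (Subgroup.zpowers a))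
    (haR : ∀ r ∈ R, a * r * a⁻¹ ∈ R) (hR1 : R ≠ ⊥) :
    ∃ r ∈ R, r ≠ 1 ∧ a * r * a⁻¹ = r := by
  have haN : a ∈ Subgroup.normalizer (R : Set G) := mem_normalizer_of_conj' haR
  obtain ⟨P, hPdef⟩ : ∃ P : Subgroup G, P = Subgroup.zpowers a ⊔ R := ⟨_, rfl⟩
  have hzn : Subgroup.zpowers a ≤ Subgroup.normalizer (R : Set G) := by
    rw [Subgroup.zpowers_le]; exact haN
  have hP : IsPGroup p ↥P := by
    rw [hPdef]; exact IsPGroup.to_sup_of_normal_right' ha hR hzn
  have hRP : R ≤ P := by rw [hPdef]; exact le_sup_right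
  have haP : a ∈ P := by rw [hPdef]; exact le_sup_left (a := Subgroup.zpowers a) (Subgroup.mem_zpowers a)
  have hPn : P ≤ Subgroup.normalizer (R : Set G) := by
    rw [hPdef]; exact sup_le hzn Subgroup.le_normalizer
  haveI : (R.subgroupOf P).Normal := (Subgroup.normal_subgroupOf_iff_le_normalizer hRP).mpr hPn
  have hne : R.subgroupOf P ≠ ⊥ := by
    intro h
    apply hR1
    rw [Subgroup.subgroupOf_eq_bot] at h
    exact h.eq_bot_of_le hRP
  obtain ⟨b, hbN, hb1, hbZ⟩ :=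
    Cfsg.Agent.S0184.normal_inf_center_ne_bot p hP (R.subgroupOf P) hne
  refine ⟨(b : G), Subgroup.mem_subgroupOf.mp hbN, ?_, ?_⟩
  · intro h; exact hb1 (Subtype.ext h)
  · have h1 := Subgroup.mem_center_iff.mp hbZ ⟨a, haP⟩
    have h2 : a * (b : G) = (b : G) * a := congrArg Subtype.val h1
    calc a * (b : G) * a⁻¹ = ((b : G) * a) * a⁻¹ := by rw [h2]
      _ = b := by group

/-- One step of the offender bound for an abelian (not necessarily elementary abelian)
`p`-group `A`: a subgroup `B` of index at most `p` whose fixed points on `V` are strictly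
larger. -/
theorem ab_offender_step {G : Type*} [Group G] [Finite G] {p : ℕ} [Fact p.Prime]
    (V K : Subgroup G)
    (hVcomm : ∀ u ∈ V, ∀ v ∈ V, u * v = v * u) (hVpow : ∀ v ∈ V, v ^ p = 1)
    (hK : (Nat.card K).Coprime p)
    (hKV : K ≤ Subgroup.normalizer (V : Set G))
    (hKf : K ⊓ Subgroup.centralizer (V : Set G) = ⊥) (A : Subgroup G)
    (hAcomm : ∀ a ∈ A, ∀ b ∈ A, a * b = b * a) (hAp : IsPGroup p A)
    (hAK : A ≤ Subgroup.normalizer (K : Set G)) (hAV : A ≤ Subgroup.normalizer (V : Set G))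
    (hAf : A ⊓ Subgroup.centralizer (K : Set G) = ⊥) (hA1 : A ≠ ⊥) :
    ∃ B : Subgroup G, B ≤ A ∧ Nat.card A ≤ p * Nat.card B ∧
      p * Nat.card ↥(V ⊓ Subgroup.centralizer (A : Set G)) ≤
        Nat.card ↥(V ⊓ Subgroup.centralizer (B : Set G)) := by
  classical
  have hp := (Fact.out : p.Prime)
  have hVp : IsPGroup p V := isPGroup_of_pow_p V hVpow
  have hAab : IsMulCommutative A := ⟨⟨fun a b => Subtype.ext (hAcomm a a.2 b b.2)⟩⟩
  have hcop : (Nat.card A).Coprime (Nat.card K) := by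
    obtain ⟨k, hk⟩ := IsPGroup.iff_card.mp hAp
    rw [hk]; exact Nat.Coprime.pow_left k hK.symm
  obtain ⟨a₀, ha₀, ha₀1⟩ : ∃ a₀ ∈ A, a₀ ≠ 1 := by
    by_contra hno
    apply hA1
    rw [Subgroup.eq_bot_iff_forall]
    intro a ha
    by_contra h1
    exact hno ⟨a, ha, h1⟩
  have hgen := (Cfsg.Agent.S3734.result A K hAab hAK hcop).1
  have hexB : ∃ B : Subgroup G, (B ≤ A ∧ ∃ a ∈ A, B ⊔ Subgroup.zpowers a = A) ∧
      ¬ (K ⊓ Subgroup.centralizer (B : Set G) ≤ Subgroup.centralizer ({a₀} : Set G)) := by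
    by_contra hno
    have hall : ∀ B : Subgroup G, (B ≤ A ∧ ∃ a ∈ A, B ⊔ Subgroup.zpowers a = A) →
        K ⊓ Subgroup.centralizer (B : Set G) ≤ Subgroup.centralizer ({a₀} : Set G) := by
      intro B hB
      by_contra h1
      exact hno ⟨B, hB, h1⟩
    have h1 : K ≤ Subgroup.centralizer ({a₀} : Set G) :=
      le_trans (le_of_eq hgen.symm) (iSup₂_le (fun B hB => hall B hB))
    have h2 : a₀ ∈ A ⊓ Subgroup.centralizer (K : Set G) := by
      refine Subgroup.mem_inf.mpr ⟨ha₀, ?_⟩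
      rw [Subgroup.mem_centralizer_iff]
      intro k hk
      have h3 := h1 hk
      rw [Subgroup.mem_centralizer_singleton_iff] at h3
      exact h3
    rw [hAf, Subgroup.mem_bot] at h2
    exact ha₀1 h2
  obtain ⟨B, ⟨hBA, a, haA, hBa⟩, hnc⟩ := hexB
  have hexk : ∃ k₀ ∈ K ⊓ Subgroup.centralizer (B : Set G), a * k₀ * a⁻¹ ≠ k₀ := by
    by_contra hno
    have hall : ∀ k₀ ∈ K ⊓ Subgroup.centralizer (B : Set G), a * k₀ * a⁻¹ = k₀ := by
      intro k₀ hk₀
      by_contra h1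
      exact hno ⟨k₀, hk₀, h1⟩
    apply hnc
    intro k hk
    rw [Subgroup.mem_centralizer_singleton_iff]
    have hk' := hk
    rw [Subgroup.mem_inf, Subgroup.mem_centralizer_iff] at hk'
    have ha₀' : a₀ ∈ B ⊔ Subgroup.zpowers a := by rw [hBa]; exact ha₀
    obtain ⟨b, hb, m, hm, rfl⟩ := Cfsg.Agent.S3735.mem_sup_comm A hAab hBA
      (by rw [Subgroup.zpowers_le]; exact haA) ha₀'
    have h1 : a ∈ Subgroup.centralizer ({k} : Set G) := by
      rw [Subgroup.mem_centralizer_singleton_iff]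
      have := hall k hk
      calc a * k = (a * k * a⁻¹) * a := by group
        _ = k * a := by rw [this]
    have h2 : m ∈ Subgroup.centralizer ({k} : Set G) :=
      (Subgroup.zpowers_le.mpr h1) hm
    rw [Subgroup.mem_centralizer_singleton_iff] at h2
    have h3 : b * k = k * b := (hk'.2 b hb)
    calc k * (b * m) = (k * b) * m := by group
      _ = (b * k) * m := by rw [h3]
      _ = b * (k * m) := by group
      _ = b * (m * k) := by rw [h2]
      _ = b * m * k := by group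
  obtain ⟨k₀, hk₀, hk₀a⟩ := hexk
  have hk₀K := (Subgroup.mem_inf.mp hk₀).1
  have hk₀B := Subgroup.mem_centralizer_iff.mp (Subgroup.mem_inf.mp hk₀).2
  have haB : a ∉ B := by
    intro haB
    apply hk₀a
    have h1 := hk₀B a haB
    calc a * k₀ * a⁻¹ = (a * k₀) * a⁻¹ := rfl
      _ = (k₀ * a) * a⁻¹ := by rw [h1]
      _ = k₀ := by group
  have hainvB' : ∀ b ∈ B, b * a⁻¹ = a⁻¹ * b := by
    intro b hb
    have h1 := hAcomm a haA b (hBA hb)
    calc b * a⁻¹ = a⁻¹ * (a * b) * a⁻¹ := by group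
      _ = a⁻¹ * b := by rw [h1]; group
  have hexu : ∃ u ∈ V ⊓ Subgroup.centralizer (B : Set G), a * u ≠ u * a := by
    by_contra hno
    have haV : ∀ v ∈ V ⊓ Subgroup.centralizer (B : Set G), a * v = v * a := by
      intro v hv
      by_contra h
      exact hno ⟨v, hv, h⟩
    exfalso
    have hfalse : False := by
      have hk₀V : ∀ v ∈ V ⊓ Subgroup.centralizer (B : Set G),
          k₀ * v * k₀⁻¹ ∈ V ⊓ Subgroup.centralizer (B : Set G) := by
        intro v hv
        obtain ⟨hvV, hvB⟩ := Subgroup.mem_inf.mp hv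
        rw [Subgroup.mem_centralizer_iff] at hvB
        refine Subgroup.mem_inf.mpr
          ⟨(Subgroup.mem_normalizer_iff.mp (hKV hk₀K) v).mp hvV, ?_⟩
        rw [Subgroup.mem_centralizer_iff]
        intro b hb
        have h1 := hk₀B b hb
        have h2 := hvB b hb
        have h3 : b * k₀⁻¹ = k₀⁻¹ * b := by
          calc b * k₀⁻¹ = k₀⁻¹ * (k₀ * b) * k₀⁻¹ := by group
            _ = k₀⁻¹ * b := by rw [← h1]; group
        calc b * (k₀ * v * k₀⁻¹) = (b * k₀) * v * k₀⁻¹ := by group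
          _ = k₀ * (b * v) * k₀⁻¹ := by rw [h1]; group
          _ = k₀ * v * (b * k₀⁻¹) := by rw [h2]; group
          _ = k₀ * v * k₀⁻¹ * b := by rw [h3]; group
      obtain ⟨y, hydef⟩ : ∃ y, y = k₀⁻¹ * (a * k₀ * a⁻¹) := ⟨_, rfl⟩
      have hak₀K : a * k₀ * a⁻¹ ∈ K := (Subgroup.mem_normalizer_iff.mp (hAK haA) k₀).mp hk₀K
      have hyK : y ∈ K := by rw [hydef]; exact K.mul_mem (K.inv_mem hk₀K) hak₀K
      have hy1 : y ≠ 1 := by
        intro h
        rw [hydef] at h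
        exact hk₀a (inv_mul_eq_one.mp h).symm
      have hainvB : ∀ b ∈ B, b * a⁻¹ = a⁻¹ * b := by
        intro b hb
        have h1 := hAcomm a haA b (hBA hb)
        calc b * a⁻¹ = a⁻¹ * (a * b) * a⁻¹ := by group
          _ = a⁻¹ * b := by rw [h1]; group
      have hyB : ∀ b ∈ B, y * b = b * y := by
        intro b hb
        have h1 := hk₀B b hb
        have h2 := hAcomm a haA b (hBA hb)
        have h3 := hainvB b hb
        have h4 : b * k₀⁻¹ = k₀⁻¹ * b := by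
          calc b * k₀⁻¹ = k₀⁻¹ * (k₀ * b) * k₀⁻¹ := by group
            _ = k₀⁻¹ * b := by rw [← h1]; group
        rw [hydef]
        calc k₀⁻¹ * (a * k₀ * a⁻¹) * b = k₀⁻¹ * a * k₀ * (a⁻¹ * b) := by group
          _ = k₀⁻¹ * a * (k₀ * b) * a⁻¹ := by rw [← h3]; group
          _ = k₀⁻¹ * (a * b) * k₀ * a⁻¹ := by rw [← h1]; group
          _ = (k₀⁻¹ * b) * a * k₀ * a⁻¹ := by rw [h2]; group
          _ = b * (k₀⁻¹ * (a * k₀ * a⁻¹)) := by rw [← h4]; group
      have hyV : ∀ v ∈ V ⊓ Subgroup.centralizer (B : Set G), y * v = v * y := by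
        intro v hv
        have h1 := haV v hv
        have h2 := haV _ (hk₀V v hv)
        have h3 : a⁻¹ * v = v * a⁻¹ := by
          calc a⁻¹ * v = a⁻¹ * (v * a) * a⁻¹ := by group
            _ = v * a⁻¹ := by rw [← h1]; group
        rw [hydef]
        calc k₀⁻¹ * (a * k₀ * a⁻¹) * v = k₀⁻¹ * a * k₀ * (a⁻¹ * v) := by group
          _ = k₀⁻¹ * (a * (k₀ * v * k₀⁻¹)) * k₀ * a⁻¹ := by rw [h3]; group
          _ = k₀⁻¹ * ((k₀ * v * k₀⁻¹) * a) * k₀ * a⁻¹ := by rw [h2]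
          _ = v * (k₀⁻¹ * (a * k₀ * a⁻¹)) := by group
      have hBp : IsPGroup p B := hAp.to_le hBA
      have hyord : (orderOf y).Coprime p := by
        have h1 : orderOf (⟨y, hyK⟩ : ↥K) ∣ Nat.card K := orderOf_dvd_natCard _
        rw [Subgroup.orderOf_mk] at h1
        exact Nat.Coprime.coprime_dvd_left h1 hK
      have h1 := Cfsg.Agent.Helper18.thompson_AxB (p := p) V B hVp hBp (hBA.trans hAV) y
        (fun u hu => (Subgroup.mem_normalizer_iff.mp (hKV hyK) u).mp hu) hyord hyB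
        (fun u hu hub => hyV u (Subgroup.mem_inf.mpr ⟨hu, by
          rw [Subgroup.mem_centralizer_iff]
          intro b hb
          exact (hub b hb).symm⟩))
      have h2 : y ∈ K ⊓ Subgroup.centralizer (V : Set G) := by
        refine Subgroup.mem_inf.mpr ⟨hyK, ?_⟩
        rw [Subgroup.mem_centralizer_iff]
        intro v hv
        exact (h1 v hv).symm
      rw [hKf, Subgroup.mem_bot] at h2
      exact hy1 h2

    exact hfalse
  obtain ⟨u₀, hu₀, hu₀a⟩ := hexu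
  obtain ⟨U, hUdef⟩ : ∃ U : Subgroup G, U = V ⊓ Subgroup.centralizer (B : Set G) := ⟨_, rfl⟩
  have hUV : U ≤ V := by rw [hUdef]; exact inf_le_left
  have haU : ∀ u ∈ U, a * u * a⁻¹ ∈ U := by
    intro u hu
    rw [hUdef] at hu ⊢
    obtain ⟨huV, huB⟩ := Subgroup.mem_inf.mp hu
    rw [Subgroup.mem_centralizer_iff] at huB
    refine Subgroup.mem_inf.mpr ⟨(Subgroup.mem_normalizer_iff.mp (hAV haA) u).mp huV, ?_⟩
    rw [Subgroup.mem_centralizer_iff]
    intro b hb
    have h1 := hAcomm a haA b (hBA hb)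
    have h2 := huB b hb
    have h3 := hainvB' b hb
    calc b * (a * u * a⁻¹) = (b * a) * u * a⁻¹ := by group
      _ = a * (b * u) * a⁻¹ := by rw [← h1]; group
      _ = a * u * (b * a⁻¹) := by rw [h2]; group
      _ = a * u * a⁻¹ * b := by rw [h3]; group
  obtain ⟨κ, hκ⟩ : ∃ κ : ↥U →* G, ∀ u : ↥U, κ u = a * (u : G) * a⁻¹ * (u : G)⁻¹ :=
    ⟨MonoidHom.mk' (fun u => a * (u : G) * a⁻¹ * (u : G)⁻¹) (by
      rintro ⟨u, hu⟩ ⟨v, hv⟩
      show a * (u * v) * a⁻¹ * (u * v)⁻¹ = a * u * a⁻¹ * u⁻¹ * (a * v * a⁻¹ * v⁻¹)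
      have e1 := hVcomm _ (V.inv_mem (hUV hu)) _ (hUV (haU v hv))
      have e2 := hVcomm _ (V.inv_mem (hUV hu)) _ (V.inv_mem (hUV hv))
      calc a * (u * v) * a⁻¹ * (u * v)⁻¹
          = a * u * a⁻¹ * ((a * v * a⁻¹) * (v⁻¹ * u⁻¹)) := by group
        _ = a * u * a⁻¹ * ((a * v * a⁻¹) * (u⁻¹ * v⁻¹)) := by rw [e2]
        _ = a * u * a⁻¹ * (((a * v * a⁻¹) * u⁻¹) * v⁻¹) := by group
        _ = a * u * a⁻¹ * ((u⁻¹ * (a * v * a⁻¹)) * v⁻¹) := by rw [e1]
        _ = a * u * a⁻¹ * u⁻¹ * (a * v * a⁻¹ * v⁻¹) := by group), fun _ => rfl⟩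
  have hRU : κ.range ≤ U := by
    rintro _ ⟨u, rfl⟩
    rw [hκ]
    exact U.mul_mem (haU u u.2) (U.inv_mem u.2)
  have hRp : IsPGroup p κ.range := hVp.to_le (hRU.trans hUV)
  have haR : ∀ r ∈ κ.range, a * r * a⁻¹ ∈ κ.range := by
    rintro _ ⟨u, rfl⟩
    refine ⟨⟨a * u * a⁻¹, haU u u.2⟩, ?_⟩
    rw [hκ, hκ]
    show a * (a * ↑u * a⁻¹) * a⁻¹ * (a * ↑u * a⁻¹)⁻¹ = a * (a * ↑u * a⁻¹ * (↑u)⁻¹) * a⁻¹
    group
  have hR1 : κ.range ≠ ⊥ := by
    intro h
    have h1 : κ ⟨u₀, by rw [hUdef]; exact hu₀⟩ ∈ κ.range := ⟨_, rfl⟩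
    rw [h, Subgroup.mem_bot, hκ] at h1
    apply hu₀a
    have h2 : a * u₀ * a⁻¹ * u₀⁻¹ = 1 := h1
    calc a * u₀ = (a * u₀ * a⁻¹ * u₀⁻¹) * (u₀ * a) := by group
      _ = u₀ * a := by rw [h2, one_mul]
  have hza : IsPGroup p (Subgroup.zpowers a) :=
    hAp.to_le (by rw [Subgroup.zpowers_le]; exact haA)
  obtain ⟨c, hcR, hc1, hca⟩ := pelem_fixed κ.range a hRp hza haR hR1
  obtain ⟨w, hw⟩ := hcR
  have hwc : a * (w : G) * a⁻¹ = c * (w : G) := by
    rw [← hw, hκ]; group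
  have hcV : c ∈ V := hUV (hRU ⟨w, hw⟩)
  have hcp : c ^ p = 1 := hVpow c hcV
  have hpow : ∀ j : ℕ, a ^ j * (w : G) * (a ^ j)⁻¹ = c ^ j * (w : G) := by
    intro j
    induction j with
    | zero => simp
    | succ j ih =>
      have h1 : a ^ (j + 1) * (w : G) * (a ^ (j + 1))⁻¹
          = a * (a ^ j * (w : G) * (a ^ j)⁻¹) * a⁻¹ := by
        rw [pow_succ']; group
      have h2 : a * c ^ j * a⁻¹ = c ^ j := by
        rw [← conj_pow, hca]
      rw [h1, ih]
      calc a * (c ^ j * (w : G)) * a⁻¹ = (a * c ^ j * a⁻¹) * (a * (w : G) * a⁻¹) := by group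
        _ = c ^ j * (c * (w : G)) := by rw [h2, hwc]
        _ = c ^ (j + 1) * (w : G) := by rw [pow_succ]; group
  have hwp : a ^ p * (w : G) * (a ^ p)⁻¹ = (w : G) := by
    rw [hpow p, hcp, one_mul]
  have hwU : (w : G) ∈ V ⊓ Subgroup.centralizer (B : Set G) := by
    have h0 : (w : G) ∈ U := w.2
    have hle : U ≤ V ⊓ Subgroup.centralizer (B : Set G) := le_of_eq hUdef
    exact hle h0
  obtain ⟨B₁, hB₁def⟩ : ∃ B₁ : Subgroup G, B₁ = B ⊔ Subgroup.zpowers (a ^ p) := ⟨_, rfl⟩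
  have hapA : a ^ p ∈ A := A.pow_mem haA p
  have hB₁A : B₁ ≤ A := by
    rw [hB₁def]
    exact sup_le hBA (by rw [Subgroup.zpowers_le]; exact hapA)
  have hwB₁ : (w : G) ∈ V ⊓ Subgroup.centralizer (B₁ : Set G) := by
    refine Subgroup.mem_inf.mpr ⟨(Subgroup.mem_inf.mp hwU).1, ?_⟩
    have h1 : B ≤ Subgroup.centralizer ({(w : G)} : Set G) := by
      intro b hb
      rw [Subgroup.mem_centralizer_singleton_iff]
      exact (Subgroup.mem_centralizer_iff.mp (Subgroup.mem_inf.mp hwU).2 b hb)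
    have h2 : Subgroup.zpowers (a ^ p) ≤ Subgroup.centralizer ({(w : G)} : Set G) := by
      rw [Subgroup.zpowers_le, Subgroup.mem_centralizer_singleton_iff]
      calc a ^ p * (w : G) = (a ^ p * (w : G) * (a ^ p)⁻¹) * a ^ p := by group
        _ = (w : G) * a ^ p := by rw [hwp]
    have h3 : B₁ ≤ Subgroup.centralizer ({(w : G)} : Set G) := by
      rw [hB₁def]; exact sup_le h1 h2
    rw [Subgroup.mem_centralizer_iff]
    intro g hg
    have h4 := h3 hg
    rw [Subgroup.mem_centralizer_singleton_iff] at h4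
    exact h4
  have hwA : (w : G) ∉ V ⊓ Subgroup.centralizer (A : Set G) := by
    intro h
    have h1 := Subgroup.mem_centralizer_iff.mp (Subgroup.mem_inf.mp h).2 a haA
    apply hc1
    have h2 : a * (w : G) * a⁻¹ = (w : G) := by
      rw [h1]; group
    rw [h2] at hwc
    exact (mul_eq_right.mp hwc.symm)
  refine ⟨B₁, hB₁A, ?_, ?_⟩
  · -- `|A| ≤ p |B₁|`
    obtain ⟨f, hf⟩ : ∃ f : ↥B₁ × Fin p → G, ∀ q, f q = (q.1 : G) * a ^ (q.2 : ℕ) :=
      ⟨_, fun _ => rfl⟩
    have hfA : ∀ q, f q ∈ A := by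
      intro q; rw [hf]; exact A.mul_mem (hB₁A q.1.2) (A.pow_mem haA _)
    have hsurj : Function.Surjective (fun q => (⟨f q, hfA q⟩ : ↥A)) := by
      rintro ⟨x, hx⟩
      have hx' : x ∈ B ⊔ Subgroup.zpowers a := by rw [hBa]; exact hx
      obtain ⟨b, hb, m, hm, rfl⟩ := Cfsg.Agent.S3735.mem_sup_comm A hAab hBA
        (by rw [Subgroup.zpowers_le]; exact haA) hx'
      obtain ⟨j, rfl⟩ := Subgroup.mem_zpowers_iff.mp hm
      have hp0 : (p : ℤ) ≠ 0 := by exact_mod_cast hp.ne_zero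
      have h4 : 0 ≤ j % (p : ℤ) := Int.emod_nonneg j hp0
      have h5 : j % (p : ℤ) < p := Int.emod_lt_of_pos j (by exact_mod_cast hp.pos)
      obtain ⟨n, hn⟩ := Int.eq_ofNat_of_zero_le h4
      have hnp : n < p := by
        rw [hn] at h5; exact_mod_cast h5
      have hsplit : a ^ j = (a ^ p) ^ (j / (p : ℤ)) * a ^ n := by
        have h6 : j = (p : ℤ) * (j / (p : ℤ)) + (n : ℤ) := by
          rw [← hn]; exact (Int.mul_ediv_add_emod j p).symm
        conv_lhs => rw [h6]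
        rw [zpow_add, zpow_mul, zpow_natCast, zpow_natCast]
      have hmem : b * (a ^ p) ^ (j / (p : ℤ)) ∈ B₁ := by
        rw [hB₁def]
        exact Subgroup.mul_mem _ (Subgroup.mem_sup_left hb)
          (Subgroup.mem_sup_right (Subgroup.zpow_mem _ (Subgroup.mem_zpowers _) _))
      refine ⟨(⟨b * (a ^ p) ^ (j / (p : ℤ)), hmem⟩, ⟨n, hnp⟩), Subtype.ext ?_⟩
      show f (⟨b * (a ^ p) ^ (j / (p : ℤ)), hmem⟩, ⟨n, hnp⟩) = b * a ^ j
      rw [hf, hsplit]
      show b * (a ^ p) ^ (j / (p : ℤ)) * a ^ n = b * ((a ^ p) ^ (j / (p : ℤ)) * a ^ n)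
      group
    have h1 := Nat.card_le_card_of_surjective _ hsurj
    rw [Nat.card_prod, Nat.card_fin] at h1
    rw [mul_comm]; exact h1
  · -- fixed points grow
    have hle : V ⊓ Subgroup.centralizer (A : Set G) ≤ V ⊓ Subgroup.centralizer (B₁ : Set G) :=
      inf_le_inf_left _ (Subgroup.centralizer_le hB₁A)
    have hne : ¬ (V ⊓ Subgroup.centralizer (B₁ : Set G) ≤ V ⊓ Subgroup.centralizer (A : Set G)) :=
      fun hcon => hwA (hcon hwB₁)
    have hidx1 : (V ⊓ Subgroup.centralizer (A : Set G)).relIndex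
        (V ⊓ Subgroup.centralizer (B₁ : Set G)) ≠ 1 := by
      rw [Ne, Subgroup.relIndex_eq_one]; exact hne
    have hmul := Subgroup.relIndex_mul_relIndex ⊥ _ _ bot_le hle
    rw [Subgroup.relIndex_bot_left, Subgroup.relIndex_bot_left] at hmul
    have hVBp : IsPGroup p ↥(V ⊓ Subgroup.centralizer (B₁ : Set G)) := hVp.to_le inf_le_left
    obtain ⟨m, hm⟩ := IsPGroup.iff_card.mp hVBp
    have hdvd : (V ⊓ Subgroup.centralizer (A : Set G)).relIndex
        (V ⊓ Subgroup.centralizer (B₁ : Set G)) ∣ p ^ m := by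
      rw [← hm]; exact Subgroup.relIndex_dvd_card _ _
    obtain ⟨j, -, hj⟩ := (Nat.dvd_prime_pow hp).mp hdvd
    have hj0 : j ≠ 0 := by
      rintro rfl
      rw [pow_zero] at hj
      exact hidx1 hj
    have hpj : p ≤ p ^ j := Nat.le_self_pow hj0 p
    rw [hj] at hmul
    calc p * Nat.card ↥(V ⊓ Subgroup.centralizer (A : Set G))
        = Nat.card ↥(V ⊓ Subgroup.centralizer (A : Set G)) * p := mul_comm _ _
      _ ≤ Nat.card ↥(V ⊓ Subgroup.centralizer (A : Set G)) * p ^ j := Nat.mul_le_mul_left _ hpj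
      _ = _ := hmul

/-- The commutator homomorphism `u ↦ [a, u]` on a subgroup `U` of an abelian group `V`
normalized by `a`. -/
theorem comm_hom_exists {G : Type*} [Group G] [Finite G] (V U : Subgroup G)
    (hVcomm : ∀ u ∈ V, ∀ v ∈ V, u * v = v * u) (a : G)
    (haV : ∀ v ∈ V, a * v * a⁻¹ ∈ V) (hUV : U ≤ V) :
    ∃ κ : ↥U →* G, (∀ u : ↥U, κ u = a * (u : G) * a⁻¹ * (u : G)⁻¹) ∧
      κ.range ≤ ⁅V, Subgroup.zpowers a⁆ ∧ κ.range ≤ V ∧
      Nat.card U = Nat.card ↥(U ⊓ Subgroup.centralizer (Subgroup.zpowers a : Set G)) *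
        Nat.card κ.range := by
  obtain ⟨κ, hκ⟩ : ∃ κ : ↥U →* G, ∀ u : ↥U, κ u = a * (u : G) * a⁻¹ * (u : G)⁻¹ :=
    ⟨MonoidHom.mk' (fun u => a * (u : G) * a⁻¹ * (u : G)⁻¹) (by
      rintro ⟨u, hu⟩ ⟨v, hv⟩
      show a * (u * v) * a⁻¹ * (u * v)⁻¹ = a * u * a⁻¹ * u⁻¹ * (a * v * a⁻¹ * v⁻¹)
      have e1 := hVcomm _ (V.inv_mem (hUV hu)) _ (haV v (hUV hv))
      have e2 := hVcomm _ (V.inv_mem (hUV hu)) _ (V.inv_mem (hUV hv))
      calc a * (u * v) * a⁻¹ * (u * v)⁻¹
          = a * u * a⁻¹ * ((a * v * a⁻¹) * (v⁻¹ * u⁻¹)) := by group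
        _ = a * u * a⁻¹ * ((a * v * a⁻¹) * (u⁻¹ * v⁻¹)) := by rw [e2]
        _ = a * u * a⁻¹ * (((a * v * a⁻¹) * u⁻¹) * v⁻¹) := by group
        _ = a * u * a⁻¹ * ((u⁻¹ * (a * v * a⁻¹)) * v⁻¹) := by rw [e1]
        _ = a * u * a⁻¹ * u⁻¹ * (a * v * a⁻¹ * v⁻¹) := by group), fun _ => rfl⟩
  refine ⟨κ, hκ, ?_, ?_, ?_⟩
  · rintro _ ⟨u, rfl⟩
    rw [hκ]
    have h1 := Subgroup.commutator_mem_commutator (Subgroup.mem_zpowers a) (hUV u.2)
    rw [commutatorElement_def] at h1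
    rw [Subgroup.commutator_comm]
    exact h1
  · rintro _ ⟨u, rfl⟩
    rw [hκ]
    exact V.mul_mem (haV u (hUV u.2)) (V.inv_mem (hUV u.2))
  · have hker : κ.ker = (Subgroup.centralizer (Subgroup.zpowers a : Set G)).subgroupOf U := by
      ext u
      rw [MonoidHom.mem_ker, hκ, Subgroup.mem_subgroupOf, Subgroup.mem_centralizer_iff]
      constructor
      · intro h g hg
        have h1 : a * (u : G) = (u : G) * a := by
          calc a * (u : G) = (a * (u : G) * a⁻¹ * (u : G)⁻¹) * ((u : G) * a) := by group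
            _ = (u : G) * a := by rw [h, one_mul]
        have h2 : a ∈ Subgroup.centralizer ({(u : G)} : Set G) := by
          rw [Subgroup.mem_centralizer_singleton_iff]; exact h1
        have h3 : g ∈ Subgroup.centralizer ({(u : G)} : Set G) :=
          (Subgroup.zpowers_le.mpr h2) hg
        rw [Subgroup.mem_centralizer_singleton_iff] at h3
        exact h3
      · intro h
        have h1 := h a (Subgroup.mem_zpowers a)
        calc a * (u : G) * a⁻¹ * (u : G)⁻¹ = (a * (u : G)) * a⁻¹ * (u : G)⁻¹ := by group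
          _ = 1 := by rw [h1]; group
    have h1 := Subgroup.card_mul_index κ.ker
    rw [Subgroup.index_ker] at h1
    have h2 : Nat.card κ.ker
        = Nat.card ↥(U ⊓ Subgroup.centralizer (Subgroup.zpowers a : Set G)) := by
      rw [hker, ← Subgroup.inf_subgroupOf_left (Subgroup.centralizer (Subgroup.zpowers a : Set G)) U]
      exact Nat.card_congr (Subgroup.subgroupOfEquivOfLe inf_le_left).toEquiv
    rw [← h2, h1]

/-- For `U = V` the range of the commutator homomorphism is `[V, ⟨a⟩]`. -/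
theorem comm_eq_range {G : Type*} [Group G] [Finite G] (V : Subgroup G) (a : G)
    (haV : ∀ v ∈ V, a * v * a⁻¹ ∈ V) (κ : ↥V →* G)
    (hκ : ∀ u : ↥V, κ u = a * (u : G) * a⁻¹ * (u : G)⁻¹) :
    ⁅V, Subgroup.zpowers a⁆ ≤ κ.range := by
  have hκconj : ∀ w ∈ κ.range, a * w * a⁻¹ ∈ κ.range := by
    rintro _ ⟨v, rfl⟩
    refine ⟨⟨a * v * a⁻¹, haV v v.2⟩, ?_⟩
    rw [hκ, hκ]
    show a * (a * ↑v * a⁻¹) * a⁻¹ * (a * ↑v * a⁻¹)⁻¹ = a * (a * ↑v * a⁻¹ * (↑v)⁻¹) * a⁻¹
    group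
  rw [Subgroup.commutator_comm, Subgroup.commutator_le]
  intro g hg v hv
  rw [← mem_powers_iff_mem_zpowers] at hg
  obtain ⟨n, rfl⟩ := hg
  rw [commutatorElement_def]
  induction n with
  | zero => simpa using κ.range.one_mem
  | succ n ih =>
    have h1 : κ ⟨v, hv⟩ ∈ κ.range := ⟨_, rfl⟩
    rw [hκ] at h1
    have h2 := κ.range.mul_mem (hκconj _ ih) h1
    have h3 : a ^ (n + 1) * v * (a ^ (n + 1))⁻¹ * v⁻¹
        = a * (a ^ n * v * (a ^ n)⁻¹ * v⁻¹) * a⁻¹ * (a * v * a⁻¹ * v⁻¹) := by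
      rw [pow_succ']; group
    rw [h3]; exact h2

/-- A `p`-element normalizing a group of order `p` centralizes it. -/
theorem pelem_cent_prime {G : Type*} [Group G] [Finite G] {p : ℕ} [Fact p.Prime]
    (D : Subgroup G) (hDcard : Nat.card D = p) (h : G)
    (hh : IsPGroup p (Subgroup.zpowers h)) (hhD : ∀ d ∈ D, h * d * h⁻¹ ∈ D) :
    ∀ d ∈ D, h * d * h⁻¹ = d := by
  have hp := (Fact.out : p.Prime)
  have hDp : IsPGroup p D := IsPGroup.of_card (n := 1) (by rw [hDcard, pow_one])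
  have hD1 : D ≠ ⊥ := by
    intro hbot
    rw [hbot, Subgroup.card_bot] at hDcard
    exact hp.one_lt.ne hDcard
  obtain ⟨r, hrD, hr1, hrh⟩ := pelem_fixed D h hDp hh hhD hD1
  have hz := (zpowers_eq_of_card_prime D hDcard r hrD hr1).1
  intro d hd
  rw [hz] at hd
  have h1 : r ∈ Subgroup.centralizer ({h} : Set G) := by
    rw [Subgroup.mem_centralizer_singleton_iff]
    calc r * h = (h * r * h⁻¹) * h := by rw [hrh]
      _ = h * r := by group
  have h2 := (Subgroup.zpowers_le.mpr h1) hd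
  rw [Subgroup.mem_centralizer_singleton_iff] at h2
  calc h * d * h⁻¹ = (h * d) * h⁻¹ := rfl
    _ = (d * h) * h⁻¹ := by rw [h2]
    _ = d := by group

/-- A `p`-element `h` acting on `W` of order `p²` and centralizing `D ≤ W` of order `p` has
`[W, h] ≤ D`. -/
theorem pelem_comm_small {G : Type*} [Group G] [Finite G] {p : ℕ} [Fact p.Prime]
    (V W D : Subgroup G) (hVcomm : ∀ u ∈ V, ∀ v ∈ V, u * v = v * u) (hWV : W ≤ V)
    (hWcard : Nat.card W = p ^ 2) (hDW : D ≤ W) (hDcard : Nat.card D = p)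
    (h : G) (hh : IsPGroup p (Subgroup.zpowers h)) (hhW : ∀ w ∈ W, h * w * h⁻¹ ∈ W)
    (hhD : ∀ d ∈ D, h * d * h⁻¹ = d) : ∀ w ∈ W, h * w * h⁻¹ * w⁻¹ ∈ D := by
  have hp := (Fact.out : p.Prime)
  have hWcomm : ∀ u ∈ W, ∀ v ∈ W, u * v = v * u :=
    fun u hu v hv => hVcomm u (hWV hu) v (hWV hv)
  obtain ⟨κ, hκ, -, hκW, hcard⟩ := comm_hom_exists W W hWcomm h hhW le_rfl
  have hcomm_of : ∀ d : G, h * d * h⁻¹ = d →
      d ∈ Subgroup.centralizer (Subgroup.zpowers h : Set G) := by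
    intro d hd
    have h1 : h ∈ Subgroup.centralizer ({d} : Set G) := by
      rw [Subgroup.mem_centralizer_singleton_iff]
      calc h * d = (h * d * h⁻¹) * h := by group
        _ = d * h := by rw [hd]
    rw [Subgroup.mem_centralizer_iff]
    intro g hg
    have h2 := (Subgroup.zpowers_le.mpr h1) hg
    rw [Subgroup.mem_centralizer_singleton_iff] at h2
    exact h2
  have hDF : D ≤ W ⊓ Subgroup.centralizer (Subgroup.zpowers h : Set G) := by
    intro d hd
    exact Subgroup.mem_inf.mpr ⟨hDW hd, hcomm_of d (hhD d hd)⟩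
  have hFdvd : Nat.card ↥(W ⊓ Subgroup.centralizer (Subgroup.zpowers h : Set G)) ∣ p ^ 2 := by
    rw [← hWcard]; exact Subgroup.card_dvd_of_le inf_le_left
  obtain ⟨j, hj2, hj⟩ := (Nat.dvd_prime_pow hp).mp hFdvd
  have hDle : p ≤ Nat.card ↥(W ⊓ Subgroup.centralizer (Subgroup.zpowers h : Set G)) := by
    rw [← hDcard]; exact Subgroup.card_le_of_le hDF
  intro w hw
  have hκw : κ ⟨w, hw⟩ = h * w * h⁻¹ * w⁻¹ := hκ _
  rw [← hκw]
  have hmem : κ ⟨w, hw⟩ ∈ κ.range := ⟨_, rfl⟩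
  have hj1 : j = 1 ∨ j = 2 := by
    rcases Nat.lt_or_ge j 1 with h0 | h0
    · exfalso
      have hj0 : j = 0 := by omega
      rw [hj0, pow_zero] at hj
      rw [hj] at hDle
      exact absurd hDle (not_le.mpr hp.one_lt)
    · omega
  rcases hj1 with rfl | rfl
  · rw [pow_one] at hj
    have hFD : D = W ⊓ Subgroup.centralizer (Subgroup.zpowers h : Set G) :=
      Subgroup.eq_of_le_of_card_ge hDF (by rw [hj, hDcard])
    have hRcard : Nat.card κ.range = p := by
      rw [hWcard, hj] at hcard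
      have h1 : p * p = p * Nat.card κ.range := by rw [← hcard]; ring
      exact (Nat.eq_of_mul_eq_mul_left hp.pos h1).symm
    have hRp : IsPGroup p κ.range := IsPGroup.of_card (n := 1) (by rw [hRcard, pow_one])
    have hR1 : κ.range ≠ ⊥ := by
      intro hbot
      rw [hbot, Subgroup.card_bot] at hRcard
      exact hp.one_lt.ne hRcard
    have hhR : ∀ r ∈ κ.range, h * r * h⁻¹ ∈ κ.range := by
      rintro _ ⟨u, rfl⟩
      refine ⟨⟨h * u * h⁻¹, hhW u u.2⟩, ?_⟩
      rw [hκ, hκ]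
      show h * (h * ↑u * h⁻¹) * h⁻¹ * (h * ↑u * h⁻¹)⁻¹ = h * (h * ↑u * h⁻¹ * (↑u)⁻¹) * h⁻¹
      group
    obtain ⟨r, hrR, hr1, hrh⟩ := pelem_fixed κ.range h hRp hh hhR hR1
    have hrD : r ∈ D := by
      rw [hFD]
      exact Subgroup.mem_inf.mpr ⟨hκW hrR, hcomm_of r hrh⟩
    have hz := (zpowers_eq_of_card_prime κ.range hRcard r hrR hr1).1
    have hRD : κ.range ≤ D := by
      rw [hz, Subgroup.zpowers_le]; exact hrD
    exact hRD hmem
  · have hRcard : Nat.card κ.range = 1 := by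
      rw [hWcard, hj] at hcard
      have h1 : p ^ 2 * 1 = p ^ 2 * Nat.card κ.range := by rw [← hcard, mul_one]
      exact (Nat.eq_of_mul_eq_mul_left (pow_pos hp.pos 2) h1).symm
    have hbot : κ.range = ⊥ := Subgroup.card_eq_one.mp hRcard
    rw [hbot, Subgroup.mem_bot] at hmem
    rw [hmem]; exact D.one_mem

/-- The order of a product of two subgroups of an abelian group meeting trivially. -/
theorem card_sup_comm_disjoint {G : Type*} [Group G] [Finite G] (A B C : Subgroup G)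
    (hAcomm : ∀ a ∈ A, ∀ b ∈ A, a * b = b * a) (hBA : B ≤ A) (hCA : C ≤ A)
    (hBC : B ⊓ C = ⊥) : Nat.card ↥(B ⊔ C) = Nat.card B * Nat.card C := by
  have hAab : IsMulCommutative A := ⟨⟨fun a b => Subtype.ext (hAcomm a a.2 b b.2)⟩⟩
  have hmem : ∀ q : ↥B × ↥C, (q.1 : G) * (q.2 : G) ∈ B ⊔ C := fun q =>
    Subgroup.mul_mem _ (Subgroup.mem_sup_left q.1.2) (Subgroup.mem_sup_right q.2.2)
  have hbij : Function.Bijective
      (fun q : ↥B × ↥C => (⟨(q.1 : G) * (q.2 : G), hmem q⟩ : ↥(B ⊔ C))) := by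
    constructor
    · rintro ⟨⟨b, hb⟩, ⟨c, hc⟩⟩ ⟨⟨b', hb'⟩, ⟨c', hc'⟩⟩ h
      have h1 : b * c = b' * c' := congrArg Subtype.val h
      have h2 : b'⁻¹ * b = c' * c⁻¹ := by
        calc b'⁻¹ * b = b'⁻¹ * (b * c) * c⁻¹ := by group
          _ = c' * c⁻¹ := by rw [h1]; group
      have h3 : b'⁻¹ * b ∈ B ⊓ C :=
        Subgroup.mem_inf.mpr ⟨B.mul_mem (B.inv_mem hb') hb,
          by rw [h2]; exact C.mul_mem hc' (C.inv_mem hc)⟩
      rw [hBC, Subgroup.mem_bot] at h3
      have h4 : b = b' := by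
        calc b = b' * (b'⁻¹ * b) := by group
          _ = b' := by rw [h3, mul_one]
      subst h4
      have h5 : c = c' := mul_left_cancel h1
      subst h5
      rfl
    · rintro ⟨x, hx⟩
      obtain ⟨b, hb, c, hc, rfl⟩ := Cfsg.Agent.S3735.mem_sup_comm A hAab hBA hCA hx
      exact ⟨(⟨b, hb⟩, ⟨c, hc⟩), rfl⟩
  rw [← Nat.card_prod]
  exact (Nat.card_congr (Equiv.ofBijective _ hbij)).symm

theorem centralizer_sup_inf {G : Type*} [Group G] (B C : Subgroup G) :
    Subgroup.centralizer ((B ⊔ C : Subgroup G) : Set G)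
      = Subgroup.centralizer (B : Set G) ⊓ Subgroup.centralizer (C : Set G) := by
  apply le_antisymm
  · exact le_inf (Subgroup.centralizer_le (le_sup_left : B ≤ B ⊔ C))
      (Subgroup.centralizer_le (le_sup_right : C ≤ B ⊔ C))
  · intro x hx
    obtain ⟨hxB, hxC⟩ := Subgroup.mem_inf.mp hx
    rw [Subgroup.mem_centralizer_iff] at hxB hxC ⊢
    have h1 : B ≤ Subgroup.centralizer ({x} : Set G) := by
      intro b hb
      rw [Subgroup.mem_centralizer_singleton_iff]; exact hxB b hb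
    have h2 : C ≤ Subgroup.centralizer ({x} : Set G) := by
      intro c hc
      rw [Subgroup.mem_centralizer_singleton_iff]; exact hxC c hc
    intro g hg
    have h3 := (sup_le h1 h2) hg
    rw [Subgroup.mem_centralizer_singleton_iff] at h3
    exact h3

/-- For a best abelian `p`-group: a subgroup of index `p` with the same product. -/
theorem ab_best_step {G : Type*} [Group G] [Finite G] {p : ℕ} [Fact p.Prime]
    (V K : Subgroup G)
    (hVcomm : ∀ u ∈ V, ∀ v ∈ V, u * v = v * u) (hVpow : ∀ v ∈ V, v ^ p = 1)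
    (hK : (Nat.card K).Coprime p)
    (hKV : K ≤ Subgroup.normalizer (V : Set G))
    (hKf : K ⊓ Subgroup.centralizer (V : Set G) = ⊥) (A : Subgroup G)
    (hAcomm : ∀ a ∈ A, ∀ b ∈ A, a * b = b * a) (hAp : IsPGroup p A)
    (hAK : A ≤ Subgroup.normalizer (K : Set G)) (hAV : A ≤ Subgroup.normalizer (V : Set G))
    (hAf : A ⊓ Subgroup.centralizer (K : Set G) = ⊥) (hA1 : A ≠ ⊥)
    (hbest : ∀ B : Subgroup G, B ≤ A →
      Nat.card B * Nat.card ↥(V ⊓ Subgroup.centralizer (B : Set G)) ≤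
        Nat.card A * Nat.card ↥(V ⊓ Subgroup.centralizer (A : Set G))) :
    ∃ B : Subgroup G, B ≤ A ∧ Nat.card A = p * Nat.card B ∧
      Nat.card ↥(V ⊓ Subgroup.centralizer (B : Set G)) =
        p * Nat.card ↥(V ⊓ Subgroup.centralizer (A : Set G)) := by
  obtain ⟨B, hBA, h1, h2⟩ :=
    ab_offender_step V K hVcomm hVpow hK hKV hKf A hAcomm hAp hAK hAV hAf hA1
  have h3 := hbest B hBA
  have hc : 0 < Nat.card ↥(V ⊓ Subgroup.centralizer (A : Set G)) := Nat.card_pos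
  have hy : 0 < Nat.card B := Nat.card_pos
  have e2 : Nat.card A * Nat.card ↥(V ⊓ Subgroup.centralizer (A : Set G))
      ≤ (p * Nat.card B) * Nat.card ↥(V ⊓ Subgroup.centralizer (A : Set G)) :=
    Nat.mul_le_mul_right _ h1
  have e3 : Nat.card B * (p * Nat.card ↥(V ⊓ Subgroup.centralizer (A : Set G)))
      ≤ Nat.card B * Nat.card ↥(V ⊓ Subgroup.centralizer (B : Set G)) :=
    Nat.mul_le_mul_left _ h2
  have e4 : (p * Nat.card B) * Nat.card ↥(V ⊓ Subgroup.centralizer (A : Set G))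
      = Nat.card B * (p * Nat.card ↥(V ⊓ Subgroup.centralizer (A : Set G))) := by ring
  refine ⟨B, hBA, ?_, ?_⟩
  · have e5 : Nat.card A * Nat.card ↥(V ⊓ Subgroup.centralizer (A : Set G))
        = (p * Nat.card B) * Nat.card ↥(V ⊓ Subgroup.centralizer (A : Set G)) := by omega
    exact Nat.eq_of_mul_eq_mul_right hc e5
  · have e5 : Nat.card B * Nat.card ↥(V ⊓ Subgroup.centralizer (B : Set G))
        = Nat.card B * (p * Nat.card ↥(V ⊓ Subgroup.centralizer (A : Set G))) := by omega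
    exact Nat.eq_of_mul_eq_mul_left hy e5

/-- A nontrivial best abelian `p`-group contains a subgroup of order `p` whose fixed points have
index `p` in `V`. -/
theorem ab_best_transv {G : Type*} [Group G] [Finite G] {p : ℕ} [Fact p.Prime]
    (V K : Subgroup G)
    (hVcomm : ∀ u ∈ V, ∀ v ∈ V, u * v = v * u) (hVpow : ∀ v ∈ V, v ^ p = 1)
    (hK : (Nat.card K).Coprime p)
    (hKV : K ≤ Subgroup.normalizer (V : Set G))
    (hKf : K ⊓ Subgroup.centralizer (V : Set G) = ⊥) :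
    ∀ (n : ℕ) (A : Subgroup G), Nat.card A ≤ n →
      (∀ a ∈ A, ∀ b ∈ A, a * b = b * a) → IsPGroup p A →
      A ≤ Subgroup.normalizer (K : Set G) → A ≤ Subgroup.normalizer (V : Set G) →
      A ⊓ Subgroup.centralizer (K : Set G) = ⊥ → A ≠ ⊥ →
      (∀ B : Subgroup G, B ≤ A →
        Nat.card B * Nat.card ↥(V ⊓ Subgroup.centralizer (B : Set G)) ≤
          Nat.card A * Nat.card ↥(V ⊓ Subgroup.centralizer (A : Set G))) →
      ∃ B : Subgroup G, B ≤ A ∧ Nat.card B = p ∧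
        p * Nat.card ↥(V ⊓ Subgroup.centralizer (B : Set G)) = Nat.card V := by
  have hp := (Fact.out : p.Prime)
  intro n
  induction n with
  | zero =>
    intro A hA
    have := Nat.card_pos (α := A)
    omega
  | succ n ih =>
    intro A hAn hAcomm hAp hAK hAV hAf hA1 hbest
    obtain ⟨B, hBA, hc1, hc2⟩ :=
      ab_best_step V K hVcomm hVpow hK hKV hKf A hAcomm hAp hAK hAV hAf hA1 hbest
    by_cases hB1 : B = ⊥
    · subst hB1
      rw [Subgroup.card_bot, mul_one] at hc1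
      rw [inf_centralizer_bot] at hc2
      exact ⟨A, le_rfl, hc1, hc2.symm⟩
    · have hBpos : 0 < Nat.card B := Nat.card_pos
      have hBlt : Nat.card B < Nat.card A := by
        rw [hc1]
        have := hp.two_le
        nlinarith
      have hbestB : ∀ B' : Subgroup G, B' ≤ B →
          Nat.card B' * Nat.card ↥(V ⊓ Subgroup.centralizer (B' : Set G)) ≤
            Nat.card B * Nat.card ↥(V ⊓ Subgroup.centralizer (B : Set G)) := by
        intro B' hB'
        have h1 := hbest B' (hB'.trans hBA)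
        have h2 : Nat.card A * Nat.card ↥(V ⊓ Subgroup.centralizer (A : Set G))
            = Nat.card B * Nat.card ↥(V ⊓ Subgroup.centralizer (B : Set G)) := by
          rw [hc1, hc2]; ring
        rw [← h2]; exact h1
      obtain ⟨B₁, hB₁B, h3, h4⟩ := ih B (by omega)
        (fun x hx y hy => hAcomm x (hBA hx) y (hBA hy)) (hAp.to_le hBA)
        (hBA.trans hAK) (hBA.trans hAV)
        (le_bot_iff.mp ((inf_le_inf_right _ hBA).trans (le_of_eq hAf))) hB1 hbestB
      exact ⟨B₁, hB₁B.trans hBA, h3, h4⟩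

/-- In the failure-of-factorization setting (`K`-form), an abelian `p`-subgroup `A ≤ H` whose
product `|B| |C_V(B)|` is maximal among its subgroups has exponent `p`. -/
theorem ab_best_elem_K {G : Type*} [Group G] [Finite G] {p : ℕ} [Fact p.Prime]
    (V K H : Subgroup G)
    (hVcomm : ∀ u ∈ V, ∀ v ∈ V, u * v = v * u) (hVpow : ∀ v ∈ V, v ^ p = 1)
    (hHV : H ≤ Subgroup.normalizer (V : Set G))
    (hf : H ⊓ Subgroup.centralizer (V : Set G) = ⊥)
    (hKH : K ≤ H) (hKc : (Nat.card K).Coprime p) (hHK : H ≤ Subgroup.normalizer (K : Set G))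
    (hKf : ∀ P : Subgroup G, P ≤ H → IsPGroup p P →
      P ⊓ Subgroup.centralizer (K : Set G) = ⊥) :
    ∀ (n : ℕ) (A : Subgroup G), Nat.card A ≤ n → A ≤ H → IsPGroup p A →
      (∀ a ∈ A, ∀ b ∈ A, a * b = b * a) →
      (∀ B : Subgroup G, B ≤ A →
        Nat.card B * Nat.card ↥(V ⊓ Subgroup.centralizer (B : Set G)) ≤
          Nat.card A * Nat.card ↥(V ⊓ Subgroup.centralizer (A : Set G))) →
      ∀ a ∈ A, a ^ p = 1 := by
  have hp := (Fact.out : p.Prime)
  have hKV : K ≤ Subgroup.normalizer (V : Set G) := hKH.trans hHV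
  have hKfV : K ⊓ Subgroup.centralizer (V : Set G) = ⊥ :=
    le_bot_iff.mp ((inf_le_inf_right _ hKH).trans (le_of_eq hf))
  intro n
  induction n with
  | zero =>
    intro A hA
    have := Nat.card_pos (α := A)
    omega
  | succ n ih =>
    intro A hAn hAH hAp hAcomm hbest
    by_cases hA1 : A = ⊥
    · intro a ha
      rw [hA1, Subgroup.mem_bot] at ha
      rw [ha, one_pow]
    have hAK := hAH.trans hHK
    have hAV := hAH.trans hHV
    have hAf := hKf A hAH hAp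
    obtain ⟨B₁, hB₁A, hB₁p, hB₁prod⟩ := ab_best_transv V K hVcomm hVpow hKc hKV hKfV
      (Nat.card A) A le_rfl hAcomm hAp hAK hAV hAf hA1 hbest
    obtain ⟨b, hbB, hb1, hbord, hB₁z⟩ := exists_gen_of_card_prime B₁ hB₁p
    have hbA : b ∈ A := hB₁A hbB
    have hbV : ∀ v ∈ V, b * v * b⁻¹ ∈ V := fun v hv =>
      (Subgroup.mem_normalizer_iff.mp (hAV hbA) v).mp hv
    obtain ⟨κ, hκ, hκle, -, hκcard⟩ := comm_hom_exists V V hVcomm b hbV le_rfl
    have hκeq : ⁅V, Subgroup.zpowers b⁆ = κ.range :=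
      le_antisymm (comm_eq_range V b hbV κ hκ) hκle
    have hVB₁ : Nat.card ↥(⁅V, B₁⁆) = p := by
      have hprod' : p * Nat.card ↥(V ⊓ Subgroup.centralizer (Subgroup.zpowers b : Set G))
          = Nat.card V := by
        rw [← hB₁z]; exact hB₁prod
      have h1 : Nat.card ↥(V ⊓ Subgroup.centralizer (Subgroup.zpowers b : Set G)) *
          Nat.card κ.range
          = Nat.card ↥(V ⊓ Subgroup.centralizer (Subgroup.zpowers b : Set G)) * p := by
        rw [← hκcard, ← hprod', mul_comm]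
      have h2 : Nat.card κ.range = p := Nat.eq_of_mul_eq_mul_left Nat.card_pos h1
      rw [hB₁z, hκeq]; exact h2
    have hB₁H : B₁ ≤ H := hB₁A.trans hAH
    have hB₁pg : IsPGroup p B₁ := hAp.to_le hB₁A
    obtain ⟨x, hxK, hxB₁⟩ : ∃ x ∈ K, x ∉ Subgroup.centralizer (B₁ : Set G) := by
      by_contra hno
      have hall : K ≤ Subgroup.centralizer (B₁ : Set G) := by
        intro x hx
        by_contra h
        exact hno ⟨x, hx, h⟩
      have h1 : B₁ ≤ Subgroup.centralizer (K : Set G) := Subgroup.le_centralizer_iff.mp hall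
      have h2 : b ∈ B₁ ⊓ Subgroup.centralizer (K : Set G) :=
        Subgroup.mem_inf.mpr ⟨hbB, h1 hbB⟩
      rw [hKf B₁ hB₁H hB₁pg, Subgroup.mem_bot] at h2
      exact hb1 h2
    obtain ⟨-, -, f3, f4, -, -, -, f8⟩ := ff_L_facts V K H B₁ hVcomm hVpow hHV hf hKH hKc hHK
      hB₁H hB₁p hVB₁ x hxK hxB₁
    have hEL := ff_EL V K H B₁ hVcomm hVpow hHV hf hKH hKc hHK hB₁H hB₁p hVB₁ x hxK hxB₁
    obtain ⟨L, hLdef⟩ : ∃ L : Subgroup G, L = B₁ ⊔ B₁.map (MulAut.conj x).toMonoidHom :=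
      ⟨_, rfl⟩
    rw [← hLdef] at f3 f4 f8 hEL
    obtain ⟨W, hWdef⟩ : ∃ W : Subgroup G, W = ⁅V, L⁆ := ⟨_, rfl⟩
    rw [← hWdef] at f3 f4 f8
    obtain ⟨D, hDdef⟩ : ∃ D : Subgroup G, D = ⁅V, B₁⁆ := ⟨_, rfl⟩
    rw [← hDdef] at f8
    have hB₁L : B₁ ≤ L := by rw [hLdef]; exact le_sup_left
    have hLH : L ≤ H := by
      rw [hLdef]
      refine sup_le hB₁H ?_
      rintro _ ⟨y, hy, rfl⟩
      show x * y * x⁻¹ ∈ H
      exact H.mul_mem (H.mul_mem (hKH hxK) (hB₁H hy)) (H.inv_mem (hKH hxK))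
    have hLV : L ≤ Subgroup.normalizer (V : Set G) := hLH.trans hHV
    have hWV : W ≤ V := by rw [hWdef]; exact comm_le_left V L hLV
    have hDW : D ≤ W := by rw [hDdef, hWdef]; exact Subgroup.commutator_mono le_rfl hB₁L
    have hDcard : Nat.card D = p := by rw [hDdef]; exact hVB₁
    have hAB₁ : ∀ h ∈ A, h ∈ Subgroup.normalizer (B₁ : Set G) := by
      intro h hh
      apply mem_normalizer_of_conj'
      intro y hy
      have h1 := hAcomm h hh y (hB₁A hy)
      have h2 : h * y * h⁻¹ = y := by rw [h1]; group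
      rw [h2]; exact hy
    have hAL : ∀ h ∈ A, h ∈ Subgroup.normalizer (L : Set G) := by
      intro h hh
      have h1 : h ∈ Subgroup.normalizer ((⁅K, B₁⁆ : Subgroup G) : Set G) :=
        comm_normalizer K B₁ h (hAK hh) (hAB₁ h hh)
      have h2 : (⁅K, B₁⁆ ⊔ B₁).map (MulAut.conj h).toMonoidHom = ⁅K, B₁⁆ ⊔ B₁ := by
        rw [Subgroup.map_sup, map_conj_eq_self _ h h1, map_conj_eq_self _ h (hAB₁ h hh)]
      rw [← hEL]
      apply mem_normalizer_of_conj'
      intro y hy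
      rw [← h2]
      exact ⟨y, hy, rfl⟩
    have hAW : ∀ h ∈ A, h ∈ Subgroup.normalizer (W : Set G) := by
      intro h hh
      rw [hWdef]
      exact comm_normalizer V L h (hAV hh) (hAL h hh)
    have hAD : ∀ h ∈ A, h ∈ Subgroup.normalizer (D : Set G) := by
      intro h hh
      rw [hDdef]
      exact comm_normalizer V B₁ h (hAV hh) (hAB₁ h hh)
    have hApe : ∀ h ∈ A, IsPGroup p (Subgroup.zpowers h) := fun h hh =>
      hAp.to_le (by rw [Subgroup.zpowers_le]; exact hh)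
    have hdec : ∀ h ∈ A, ∃ a₀ ∈ B₁, ∀ w ∈ W, (a₀⁻¹ * h) * w * (a₀⁻¹ * h)⁻¹ = w := by
      intro h hh
      have hhW : ∀ w ∈ W, h * w * h⁻¹ ∈ W := fun w hw =>
        (Subgroup.mem_normalizer_iff.mp (hAW h hh) w).mp hw
      have hhD' : ∀ d ∈ D, h * d * h⁻¹ ∈ D := fun d hd =>
        (Subgroup.mem_normalizer_iff.mp (hAD h hh) d).mp hd
      have hhD : ∀ d ∈ D, h * d * h⁻¹ = d := pelem_cent_prime D hDcard h (hApe h hh) hhD'
      have hb' := pelem_comm_small V W D hVcomm hWV f3 hDW hDcard h (hApe h hh) hhW hhD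
      exact f8 h hhD hb'
    obtain ⟨A₁, hA₁def⟩ : ∃ A₁ : Subgroup G, A₁ = A ⊓ Subgroup.centralizer (W : Set G) :=
      ⟨_, rfl⟩
    have hA₁A : A₁ ≤ A := by rw [hA₁def]; exact inf_le_left
    have hA₁W : A₁ ≤ Subgroup.centralizer (W : Set G) := by rw [hA₁def]; exact inf_le_right
    have hB₁A₁ : B₁ ⊓ A₁ = ⊥ := by
      apply le_bot_iff.mp
      calc B₁ ⊓ A₁ ≤ L ⊓ Subgroup.centralizer (W : Set G) := inf_le_inf hB₁L hA₁W
        _ = ⊥ := f4
    have hmemA₁ : ∀ h ∈ A, ∀ a₀ ∈ B₁,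
        (∀ w ∈ W, (a₀⁻¹ * h) * w * (a₀⁻¹ * h)⁻¹ = w) → a₀⁻¹ * h ∈ A₁ := by
      intro h hh a₀ ha₀ hw
      rw [hA₁def]
      refine Subgroup.mem_inf.mpr ⟨A.mul_mem (A.inv_mem (hB₁A ha₀)) hh, ?_⟩
      rw [Subgroup.mem_centralizer_iff]
      intro w hwW
      have h1 := hw w hwW
      calc w * (a₀⁻¹ * h) = ((a₀⁻¹ * h) * w * (a₀⁻¹ * h)⁻¹) * (a₀⁻¹ * h) := by rw [h1]
        _ = (a₀⁻¹ * h) * w := by group
    have hsupA : B₁ ⊔ A₁ = A := by
      apply le_antisymm (sup_le hB₁A hA₁A)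
      intro h hh
      obtain ⟨a₀, ha₀, hw⟩ := hdec h hh
      have h1 := hmemA₁ h hh a₀ ha₀ hw
      have h2 : h = a₀ * (a₀⁻¹ * h) := by group
      rw [h2]
      exact Subgroup.mul_mem _ (Subgroup.mem_sup_left ha₀) (Subgroup.mem_sup_right h1)
    have hprod : ∀ B' : Subgroup G, B' ≤ A₁ →
        Nat.card ↥(B₁ ⊔ B') *
            Nat.card ↥(V ⊓ Subgroup.centralizer ((B₁ ⊔ B' : Subgroup G) : Set G))
          = Nat.card B' * Nat.card ↥(V ⊓ Subgroup.centralizer (B' : Set G)) := by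
      intro B' hB'
      have hdisj : B₁ ⊓ B' = ⊥ :=
        le_bot_iff.mp ((inf_le_inf_left _ hB').trans (le_of_eq hB₁A₁))
      have hc1 := card_sup_comm_disjoint A B₁ B' hAcomm hB₁A (hB'.trans hA₁A) hdisj
      obtain ⟨κU, hκU, hκUle, -, hκUcard⟩ := comm_hom_exists V
        (V ⊓ Subgroup.centralizer (B' : Set G)) hVcomm b hbV inf_le_left
      have hWU : W ≤ V ⊓ Subgroup.centralizer (B' : Set G) :=
        le_inf hWV (Subgroup.le_centralizer_iff.mp (hB'.trans hA₁W))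
      obtain ⟨w, hwW, hwb⟩ : ∃ w ∈ W, b * w * b⁻¹ * w⁻¹ ≠ 1 := by
        by_contra hno
        have hall : ∀ w ∈ W, b * w * b⁻¹ * w⁻¹ = 1 := by
          intro w hw
          by_contra h
          exact hno ⟨w, hw, h⟩
        have h1 : b ∈ L ⊓ Subgroup.centralizer (W : Set G) := by
          refine Subgroup.mem_inf.mpr ⟨hB₁L hbB, ?_⟩
          rw [Subgroup.mem_centralizer_iff]
          intro w hw
          have h2 := hall w hw
          calc w * b = (b * w * b⁻¹ * w⁻¹)⁻¹ * (b * w) := by group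
            _ = b * w := by rw [h2]; group
        rw [f4, Subgroup.mem_bot] at h1
        exact hb1 h1
      have hRcard : Nat.card κU.range = p := by
        have h1 : κU.range ≤ D := by rw [hDdef, hB₁z]; exact hκUle
        have h2 : Nat.card κU.range ∣ p := by
          rw [← hDcard]; exact Subgroup.card_dvd_of_le h1
        rcases (Nat.dvd_prime hp).mp h2 with h3 | h3
        · exfalso
          have h4 : κU.range = ⊥ := Subgroup.card_eq_one.mp h3
          have h5 : κU ⟨w, hWU hwW⟩ ∈ κU.range := ⟨_, rfl⟩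
          rw [h4, Subgroup.mem_bot, hκU] at h5
          exact hwb h5
        · exact h3
      have hcent : V ⊓ Subgroup.centralizer (B' : Set G) ⊓
          Subgroup.centralizer (Subgroup.zpowers b : Set G)
          = V ⊓ Subgroup.centralizer ((B₁ ⊔ B' : Subgroup G) : Set G) := by
        rw [centralizer_sup_inf, ← hB₁z, inf_assoc,
          inf_comm (Subgroup.centralizer (B' : Set G))]
      rw [hcent, hRcard] at hκUcard
      rw [hc1, hB₁p, hκUcard]; ring
    have hbest₁ : ∀ B' : Subgroup G, B' ≤ A₁ →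
        Nat.card B' * Nat.card ↥(V ⊓ Subgroup.centralizer (B' : Set G)) ≤
          Nat.card A₁ * Nat.card ↥(V ⊓ Subgroup.centralizer (A₁ : Set G)) := by
      intro B' hB'
      have h1 := hbest (B₁ ⊔ B') (sup_le hB₁A (hB'.trans hA₁A))
      rw [hprod B' hB'] at h1
      have h2 := hprod A₁ le_rfl
      rw [hsupA] at h2
      rw [← h2]; exact h1
    have hA₁lt : Nat.card A₁ < Nat.card A := by
      have h1 := card_sup_comm_disjoint A B₁ A₁ hAcomm hB₁A hA₁A hB₁A₁
      rw [hsupA, hB₁p] at h1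
      have h2 := hp.two_le
      have hpos : 0 < Nat.card A₁ := Nat.card_pos
      rw [h1]; nlinarith
    have hA₁pow := ih A₁ (by omega) (hA₁A.trans hAH) (hAp.to_le hA₁A)
      (fun x hx y hy => hAcomm x (hA₁A hx) y (hA₁A hy)) hbest₁
    intro h hh
    obtain ⟨a₀, ha₀, hw⟩ := hdec h hh
    have h1 := hmemA₁ h hh a₀ ha₀ hw
    have h2 : a₀ ^ p = 1 := pow_card_eq_one_of_mem B₁ hB₁p a₀ ha₀
    have h3 := hA₁pow _ h1
    have h4 : h = a₀ * (a₀⁻¹ * h) := by group
    have hcomm : Commute a₀ (a₀⁻¹ * h) := hAcomm a₀ (hB₁A ha₀) _ (hA₁A h1)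
    rw [h4, hcomm.mul_pow, h2, h3, one_mul]

/-- In the failure-of-factorization setting, an abelian `p`-subgroup `A ≤ H` whose product
`|B| |C_V(B)|` is maximal among its subgroups is elementary abelian, hence a best offender in
the sense of the Prelude. -/
theorem ab_best_elem {G : Type*} [Group G] [Finite G] {p : ℕ} [Fact p.Prime] (V H : Subgroup G)
    (hV : Cfsg.IsElementaryAbelian p V) (hHV : H ≤ Subgroup.normalizer (V : Set G))
    (hf : H ⊓ Subgroup.centralizer (V : Set G) = ⊥)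
    (hS1 : Subgroup.centralizer (Cfsg.pPrimeCore p ↥H : Set ↥H) ≤ Cfsg.pPrimeCore p ↥H)
    (A : Subgroup G) (hAH : A ≤ H) (hAp : IsPGroup p A)
    (hAcomm : ∀ a ∈ A, ∀ b ∈ A, a * b = b * a)
    (hbest : ∀ B : Subgroup G, B ≤ A →
      Nat.card B * Nat.card ↥(V ⊓ Subgroup.centralizer (B : Set G)) ≤
        Nat.card A * Nat.card ↥(V ⊓ Subgroup.centralizer (A : Set G))) :
    (∀ a ∈ A, a ^ p = 1) ∧ Cfsg.IsBestOffenderOn p V A := by
  obtain ⟨K, hKH, hKc, hHK, -, hKA⟩ := ppc_setup V H hf hS1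
  have hVcomm : ∀ u ∈ V, ∀ v ∈ V, u * v = v * u := by
    intro u hu v hv
    exact congrArg Subtype.val (hV.1.is_comm.comm ⟨u, hu⟩ ⟨v, hv⟩)
  have hpow := ab_best_elem_K V K H hVcomm hV.2 hHV hf hKH hKc hHK hKA (Nat.card A) A le_rfl
    hAH hAp hAcomm hbest
  refine ⟨hpow, hbest, ?_, ?_⟩
  · rw [Subgroup.commutator_le]
    intro a ha b hb
    rw [commutatorElement_def]
    have h1 : a * b * a⁻¹ * b⁻¹ = 1 := by rw [hAcomm a ha b hb]; group
    rw [h1]; exact Subgroup.one_mem _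
  · intro a ha
    rw [hpow a ha]; exact Subgroup.one_mem _

end Cfsg.Agent.Helper21
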