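import Mathlib
import Cfsg.Agent.Helper14.AutAlt

set_option autoImplicit false

namespace Cfsg.Agent.Helper21

open Equiv Equiv.Perm

/-- An `r`-subgroup of the symmetric group on fewer than `r²` points is abelian. -/
theorem perm_rgroup_comm {α : Type*} [Fintype α] [DecidableEq α] {r : ℕ} [hr : Fact r.Prime]
    (hα : Fintype.card α < r ^ 2) (R : Subgroup (Equiv.Perm α)) (hR : IsPGroup r R) :
    ∀ x ∈ R, ∀ y ∈ R, x * y = y * x := by
  intro x hx y hy
  ext a
  have hidx : (MulAction.stabilizer R a).index ∣ r := by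
    obtain ⟨k, hk⟩ := hR.index (MulAction.stabilizer R a)
    have hle : (MulAction.stabilizer R a).index ≤ Fintype.card α := by
      rw [MulAction.index_stabilizer]
      calc (MulAction.orbit R a).ncard ≤ (Set.univ : Set α).ncard :=
            Set.ncard_le_ncard (Set.subset_univ _)
        _ = Fintype.card α := by rw [Set.ncard_univ, Nat.card_eq_fintype_card]
    rw [hk] at hle ⊢
    have hk1 : k < 2 := by
      by_contra hk2
      push Not at hk2
      have := Nat.pow_le_pow_right hr.out.pos hk2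
      omega
    interval_cases k
    · simp
    · simp
  have key : (⟨x, hx⟩ * ⟨y, hy⟩ : R)⁻¹ * (⟨y, hy⟩ * ⟨x, hx⟩) ∈ MulAction.stabilizer R a := by
    rcases (Nat.dvd_prime hr.out).mp hidx with h1 | h1
    · rw [Subgroup.index_eq_one.mp h1]; trivial
    · have hnorm : (MulAction.stabilizer R a).Normal := by
        apply Subgroup.normal_of_index_eq_minFac_card
        rw [h1]
        obtain ⟨m, hm⟩ := IsPGroup.iff_card.mp hR
        rw [hm]
        have hm0 : m ≠ 0 := by
          rintro rfl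
          have h3 := (MulAction.stabilizer R a).index_dvd_card
          rw [h1, hm, pow_zero] at h3
          exact hr.out.one_lt.ne' (Nat.dvd_one.mp h3)
        exact (hr.out.pow_minFac hm0).symm
      have hcard : Nat.card (R ⧸ MulAction.stabilizer R a) = r := by
        rw [← Subgroup.index_eq_card, h1]
      have := isCyclic_of_prime_card hcard
      have hcomm : ((⟨x, hx⟩ : R) : R ⧸ MulAction.stabilizer R a) * ((⟨y, hy⟩ : R) : R ⧸ MulAction.stabilizer R a)
          = ((⟨y, hy⟩ : R) : R ⧸ MulAction.stabilizer R a) * ((⟨x, hx⟩ : R) : R ⧸ MulAction.stabilizer R a) := by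
        let _ := IsCyclic.commGroup (α := R ⧸ MulAction.stabilizer R a)
        exact mul_comm _ _
      rw [← QuotientGroup.mk_mul, ← QuotientGroup.mk_mul, QuotientGroup.eq] at hcomm
      exact hcomm
  have h2 := MulAction.mem_stabilizer_iff.mp key
  have h3 : ((x * y)⁻¹ * (y * x)) a = a := h2
  have h4 := congrArg (x * y) h3
  simpa using h4.symm

theorem alt6_card_types :
    (Finset.univ.filter (fun g : Perm (Fin 6) => g.cycleType = {3})).card =
    (Finset.univ.filter (fun g : Perm (Fin 6) => g.cycleType = {3, 3})).card := by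
  have h1 := Equiv.Perm.card_of_cycleType_mul_eq (Fin 6) {3}
  have h2 := Equiv.Perm.card_of_cycleType_mul_eq (Fin 6) {3, 3}
  have e1 : ((Fintype.card (Fin 6) - ({3} : Multiset ℕ).sum).factorial * ({3} : Multiset ℕ).prod *
      ∏ n ∈ ({3} : Multiset ℕ).toFinset, (({3} : Multiset ℕ).count n).factorial) = 18 := by
    rw [Fintype.card_fin]; decide
  have e2 : ((Fintype.card (Fin 6) - ({3, 3} : Multiset ℕ).sum).factorial * ({3, 3} : Multiset ℕ).prod *
      ∏ n ∈ ({3, 3} : Multiset ℕ).toFinset, (({3, 3} : Multiset ℕ).count n).factorial) = 18 := by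
    rw [Fintype.card_fin]; decide
  have c1 : (({3} : Multiset ℕ).sum ≤ Fintype.card (Fin 6) ∧ ∀ a ∈ ({3} : Multiset ℕ), 2 ≤ a) := by
    rw [Fintype.card_fin]; decide
  have c2 : (({3, 3} : Multiset ℕ).sum ≤ Fintype.card (Fin 6) ∧ ∀ a ∈ ({3, 3} : Multiset ℕ), 2 ≤ a) := by
    rw [Fintype.card_fin]; decide
  rw [e1, if_pos c1] at h1
  rw [e2, if_pos c2] at h2
  omega

/-- elements of order 3 of `A₆` have cycle type `{3}` or `{3, 3}` -/
theorem alt6_order3 (g : alternatingGroup (Fin 6)) (h : orderOf g = 3) :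
    (g : Perm (Fin 6)).cycleType = {3} ∨ (g : Perm (Fin 6)).cycleType = {3, 3} := by
  have ho : orderOf (g : Perm (Fin 6)) = 3 := by rw [Subgroup.orderOf_coe]; exact h
  obtain ⟨k, hk⟩ := cycleType_prime_order (σ := (g : Perm (Fin 6))) (by rw [ho]; norm_num)
  rw [ho] at hk
  have hsum := sum_cycleType_le (g : Perm (Fin 6))
  rw [hk, Multiset.sum_replicate, smul_eq_mul, Fintype.card_fin] at hsum
  have hk2 : k = 0 ∨ k = 1 := by omega
  rcases hk2 with rfl | rfl
  · left; rw [hk]; rfl
  · right; rw [hk]; rfl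

theorem alt6_type_const (ψ : MulAut (alternatingGroup (Fin 6)))
    (g g' : alternatingGroup (Fin 6)) (hg : IsThreeCycle (g : Perm (Fin 6)))
    (hg' : IsThreeCycle (g' : Perm (Fin 6))) :
    ((ψ g' : alternatingGroup (Fin 6)) : Perm (Fin 6)).cycleType =
      ((ψ g : alternatingGroup (Fin 6)) : Perm (Fin 6)).cycleType := by
  have hc : IsConj g g' := alternatingGroup.isThreeCycle_isConj (by simp) hg hg'
  obtain ⟨c, hc⟩ := isConj_iff.mp hc
  rw [← hc, map_mul, map_mul, map_inv]
  simp only [Subgroup.coe_mul, Subgroup.coe_inv]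
  exact cycleType_conj

theorem alt6_swap (ψ : MulAut (alternatingGroup (Fin 6)))
    (h33 : ∀ g : alternatingGroup (Fin 6), (g : Perm (Fin 6)).cycleType = {3} →
      ((ψ g : alternatingGroup (Fin 6)) : Perm (Fin 6)).cycleType = {3, 3}) :
    ∀ g : alternatingGroup (Fin 6), (g : Perm (Fin 6)).cycleType = {3, 3} →
      ((ψ g : alternatingGroup (Fin 6)) : Perm (Fin 6)).cycleType = {3} := by
  intro g hg
  have hcard := alt6_card_types
  have memA : ∀ x : Perm (Fin 6), x.cycleType = {3} → x ∈ alternatingGroup (Fin 6) :=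
    fun x hx => (show IsThreeCycle x from hx).mem_alternatingGroup
  have himg : (Finset.univ.filter (fun g : Perm (Fin 6) => g.cycleType = {3})).image
      (Cfsg.Agent.Helper14.AutAlt.ex ψ) ⊆
      Finset.univ.filter (fun g : Perm (Fin 6) => g.cycleType = {3, 3}) := by
    intro b hb
    obtain ⟨x, hx, rfl⟩ := Finset.mem_image.mp hb
    have hx' : x.cycleType = {3} := (Finset.mem_filter.mp hx).2
    rw [Finset.mem_filter]
    refine ⟨Finset.mem_univ _, ?_⟩
    rw [Cfsg.Agent.Helper14.AutAlt.ex_pos ψ (memA x hx')]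
    exact h33 ⟨x, memA x hx'⟩ hx'
  have hinj : Set.InjOn (Cfsg.Agent.Helper14.AutAlt.ex ψ)
      (Finset.univ.filter (fun g : Perm (Fin 6) => g.cycleType = {3}) : Finset (Perm (Fin 6))) := by
    intro x hx y hy e
    exact Cfsg.Agent.Helper14.AutAlt.ex_inj ψ (memA x (Finset.mem_filter.mp hx).2)
      (memA y (Finset.mem_filter.mp hy).2) e
  have heq := Finset.eq_of_subset_of_card_le himg
    (by rw [Finset.card_image_of_injOn hinj, hcard])
  have ho : orderOf (ψ g) = 3 := by
    rw [MulEquiv.orderOf_eq, ← Subgroup.orderOf_coe, ← lcm_cycleType, hg]; decide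
  rcases alt6_order3 (ψ g) ho with h | h
  · exact h
  · exfalso
    have hb : ((ψ g : alternatingGroup (Fin 6)) : Perm (Fin 6)) ∈
        Finset.univ.filter (fun g : Perm (Fin 6) => g.cycleType = {3, 3}) := by
      rw [Finset.mem_filter]; exact ⟨Finset.mem_univ _, h⟩
    rw [← heq] at hb
    obtain ⟨x, hx, hxe⟩ := Finset.mem_image.mp hb
    have hx' : x.cycleType = {3} := (Finset.mem_filter.mp hx).2
    have hxe' : Cfsg.Agent.Helper14.AutAlt.ex ψ x = Cfsg.Agent.Helper14.AutAlt.ex ψ (g : Perm (Fin 6)) := by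
      rw [hxe, Cfsg.Agent.Helper14.AutAlt.ex_pos ψ g.2]
    have hxg := Cfsg.Agent.Helper14.AutAlt.ex_inj ψ (memA x hx') g.2 hxe'
    rw [hxg, hg] at hx'
    exact absurd hx' (by decide)

theorem alt6_odd_pres (φ : MulAut (alternatingGroup (Fin 6))) (m : ℕ) (hm : Odd m)
    (hφ : φ ^ m = 1) (g : alternatingGroup (Fin 6)) (hg : IsThreeCycle (g : Perm (Fin 6))) :
    IsThreeCycle ((φ g : alternatingGroup (Fin 6)) : Perm (Fin 6)) := by
  by_contra hcon
  have ho : ∀ x : alternatingGroup (Fin 6), IsThreeCycle (x : Perm (Fin 6)) →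
      orderOf (φ x) = 3 := by
    intro x hx
    rw [MulEquiv.orderOf_eq, ← Subgroup.orderOf_coe, hx.orderOf]
  have h33 : ∀ x : alternatingGroup (Fin 6), (x : Perm (Fin 6)).cycleType = {3} →
      ((φ x : alternatingGroup (Fin 6)) : Perm (Fin 6)).cycleType = {3, 3} := by
    intro x hx
    rw [alt6_type_const φ g x hg hx]
    rcases alt6_order3 (φ g) (ho g hg) with h | h
    · exact absurd h hcon
    · exact h
  have h3 := alt6_swap φ h33
  have key : ∀ k : ℕ, ∀ x : alternatingGroup (Fin 6), (x : Perm (Fin 6)).cycleType = {3} →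
      (((φ ^ (2 * k)) x : alternatingGroup (Fin 6)) : Perm (Fin 6)).cycleType = {3} := by
    intro k
    induction k with
    | zero => intro x hx; simpa using hx
    | succ k ih =>
      intro x hx
      have e : φ ^ (2 * (k + 1)) = φ * (φ * φ ^ (2 * k)) := by
        rw [show 2 * (k + 1) = 2 * k + 1 + 1 by ring, pow_succ', pow_succ']
      rw [e, MulAut.mul_apply, MulAut.mul_apply]
      exact h3 _ (h33 _ (ih x hx))
  obtain ⟨k, rfl⟩ := hm
  have h1 := h33 _ (key k g hg)
  have e2 : φ ((φ ^ (2 * k)) g) = g := by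
    have : (φ ^ (2 * k + 1)) g = g := by rw [hφ]; rfl
    rwa [pow_succ', MulAut.mul_apply] at this
  rw [e2] at h1
  have h2 : (g : Perm (Fin 6)).cycleType = {3} := hg
  rw [h2] at h1
  exact absurd h1 (by decide)

/-- An automorphism of odd order of `Aₙ` (`n ≥ 5`) is conjugation by a permutation. -/
theorem aut_odd_mem_range (n : ℕ) (hn : 5 ≤ n) (φ : MulAut (alternatingGroup (Fin n))) (m : ℕ)
    (hm : Odd m) (hφ : φ ^ m = 1) :
    φ ∈ (MulAut.conjNormal : Perm (Fin n) →* MulAut (alternatingGroup (Fin n))).range := by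
  by_cases h6 : n = 6
  · subst h6
    obtain ⟨σ, hσ⟩ := Cfsg.Agent.Helper14.AutAlt.conj_of_pres φ (0 : Fin 6) 1 2 3
      (by decide) (by decide) (by decide) (by decide) (by decide) (by decide)
      (fun g hg => alt6_odd_pres φ m hm hφ g hg)
    exact ⟨σ, hσ⟩
  · exact (Cfsg.Agent.Helper14.AutAlt.aut_alt (by rw [Fintype.card_fin]; omega)
      (by rw [Fintype.card_fin]; exact h6)).2 φ

/-- `r`-subgroups (`r` odd) of `Aut(Aₙ)` are abelian when `n < r²`. -/
theorem aut_rgroup_comm (n : ℕ) (hn : 5 ≤ n) {r : ℕ} [hr : Fact r.Prime] (hr2 : r ≠ 2)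
    (hnr : n < r ^ 2) (R : Subgroup (MulAut (alternatingGroup (Fin n)))) (hR : IsPGroup r R) :
    ∀ x ∈ R, ∀ y ∈ R, x * y = y * x := by
  have hinj := Cfsg.Agent.Helper14.AutAlt.conj_inj (α := Fin n) (by rw [Fintype.card_fin]; omega)
  have hR' : IsPGroup r (R.comap
      (MulAut.conjNormal : Perm (Fin n) →* MulAut (alternatingGroup (Fin n)))) :=
    hR.comap_of_injective _ hinj
  have hcomm := perm_rgroup_comm (by rw [Fintype.card_fin]; exact hnr) _ hR'
  have hmem : ∀ x ∈ R, ∃ σ, (MulAut.conjNormal : Perm (Fin n) →*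
      MulAut (alternatingGroup (Fin n))) σ = x := by
    intro x hx
    obtain ⟨k, hk⟩ := hR ⟨x, hx⟩
    have hk' : x ^ r ^ k = 1 := by
      have := congrArg Subtype.val hk
      simpa using this
    exact aut_odd_mem_range n hn x (r ^ k) ((hr.out.odd_of_ne_two hr2).pow) hk'
  intro x hx y hy
  obtain ⟨σ, rfl⟩ := hmem x hx
  obtain ⟨τ, rfl⟩ := hmem y hy
  rw [← map_mul, ← map_mul, hcomm σ (Subgroup.mem_comap.mpr hx) τ (Subgroup.mem_comap.mpr hy)]

/-- elements of `Inn(Aₙ)` with prescribed (even) cycle type -/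
theorem exists_order_of_cycleType (n : ℕ) (hn : 5 ≤ n)
    (G : Subgroup (MulAut (alternatingGroup (Fin n))))
    (hG : (MulAut.conj : alternatingGroup (Fin n) →* MulAut (alternatingGroup (Fin n))).range ≤ G)
    (m : Multiset ℕ) (hsum : m.sum ≤ n) (h2 : ∀ a ∈ m, 2 ≤ a)
    (hev : Even (m.sum + Multiset.card m)) :
    ∃ g : G, orderOf g = m.lcm := by
  obtain ⟨σ, hσ⟩ := (Equiv.Perm.exists_with_cycleType_iff (Fin n)).mpr
    ⟨by rw [Fintype.card_fin]; exact hsum, h2⟩
  have hmem : σ ∈ alternatingGroup (Fin n) := by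
    rw [Equiv.Perm.mem_alternatingGroup, Equiv.Perm.sign_of_cycleType, hσ]
    exact Even.neg_one_pow hev
  have hinj := Cfsg.Agent.Helper14.AutAlt.conj_inj (α := Fin n) (by rw [Fintype.card_fin]; omega)
  have he : (MulAut.conj (⟨σ, hmem⟩ : alternatingGroup (Fin n))) =
      (MulAut.conjNormal : Perm (Fin n) →* MulAut (alternatingGroup (Fin n))) σ := by
    ext x
    simp [MulAut.conjNormal_apply]
  refine ⟨⟨MulAut.conj ⟨σ, hmem⟩, hG ⟨_, rfl⟩⟩, ?_⟩
  rw [← Subgroup.orderOf_coe]
  show orderOf (MulAut.conj (⟨σ, hmem⟩ : alternatingGroup (Fin n))) = m.lcm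
  rw [he, orderOf_injective _ hinj, ← Equiv.Perm.lcm_cycleType, hσ]

end Cfsg.Agent.Helper21
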