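import Mathlib
import Cfsg.Agent.S0010
import Cfsg.Agent.S0017
import Cfsg.Agent.Helper18.CharP
import Cfsg.Agent.S0008
import Cfsg.Agent.S0041
import Cfsg.Agent.S0044
import Cfsg.Agent.Helper9.Bend1
import Cfsg.Agent.Helper10.FStar
import Cfsg.Agent.Helper11.CNSolv
import Cfsg.Agent.Helper17.TwoFrob
import Cfsg.Agent.Lead.Cyc

set_option autoImplicit false
set_option linter.style.haveILetI false
open Cfsg

namespace Cfsg.Agent.Helper21

/-- In a solvable group with `O(H) = 1` whose involution centralizers have normal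
2-complements, no involution commutes with a nontrivial element of odd order. -/
theorem cit_core {H : Type*} [Group H] [Finite H] (hsol : Group.IsSolvable H)
    (hO : Cfsg.pPrimeCore 2 H = ⊥)
    (hI : ∀ t : H, orderOf t = 2 →
      Cfsg.HasNormalPComplement 2 ↥(Subgroup.centralizer ({t} : Set H))) :
    ∀ s c : H, orderOf s = 2 → Odd (orderOf c) → s * c = c * s → c = 1 := by
  haveI : Fact (Nat.Prime 2) := ⟨Nat.prime_two⟩
  haveI := hsol
  intro s c hs hc hsc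
  obtain ⟨Y, hYdef⟩ : ∃ Y : Subgroup H, Y = Cfsg.pCore 2 H := ⟨_, rfl⟩
  have hYn : Y.Normal := hYdef ▸ S0010.pCore_normal 2
  have hY2 : IsPGroup 2 Y := hYdef ▸ S0010.pCore_isPGroup 2
  have hCY : Subgroup.centralizer (Y : Set H) ≤ Y := hYdef ▸ S0017.result 2 hO
  obtain ⟨P, N, hNn, hNP⟩ := hI s hs
  have hcC : c ∈ Subgroup.centralizer ({s} : Set H) := by
    rw [Subgroup.mem_centralizer_iff]
    intro y hy
    rw [Set.mem_singleton_iff] at hy
    subst hy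
    exact hsc
  have hNodd : Odd (Nat.card N) := by
    have h1 : (P : Subgroup ↥(Subgroup.centralizer ({s} : Set H))).index = Nat.card N :=
      hNP.index_eq_card
    have h2 := P.not_dvd_index
    rw [h1] at h2
    exact Nat.odd_iff.mpr (by omega)
  have hodd2 : ∀ d : H, Odd (orderOf d) → d ∈ Y → d = 1 := by
    intro d hd hdY
    obtain ⟨k, hk⟩ := hY2 ⟨d, hdY⟩
    have h1 : d ^ 2 ^ k = 1 := by
      have := congrArg Subtype.val hk
      simpa using this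
    have h2 : orderOf d ∣ 2 ^ k := orderOf_dvd_of_pow_eq_one h1
    have h3 : (orderOf d).Coprime (2 ^ k) :=
      Nat.Coprime.pow_right k (Odd.coprime_two_right hd)
    exact orderOf_eq_one_iff.mp (Nat.Coprime.eq_one_of_dvd h3 h2)
  have hcN : (⟨c, hcC⟩ : ↥(Subgroup.centralizer ({s} : Set H))) ∈ N := by
    obtain ⟨k, hk⟩ := (P.isPGroup').exists_card_eq
    have h1 : N.index = Nat.card P := hNP.symm.index_eq_card
    have h2 : orderOf (QuotientGroup.mk' N ⟨c, hcC⟩) ∣ 2 ^ k := by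
      rw [← hk, ← h1, Subgroup.index_eq_card]
      exact orderOf_dvd_natCard _
    have h3 : orderOf (QuotientGroup.mk' N ⟨c, hcC⟩) ∣ orderOf c := by
      have := orderOf_map_dvd (QuotientGroup.mk' N) (⟨c, hcC⟩ : ↥(Subgroup.centralizer ({s} : Set H)))
      rwa [Subgroup.orderOf_mk] at this
    have h4 : (orderOf c).Coprime (2 ^ k) :=
      Nat.Coprime.pow_right k (Odd.coprime_two_right hc)
    have h5 : orderOf (QuotientGroup.mk' N ⟨c, hcC⟩) = 1 :=
      Nat.eq_one_of_dvd_coprimes h4 h3 h2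
    exact (QuotientGroup.eq_one_iff _).mp (orderOf_eq_one_iff.mp h5)
  have hR : IsPGroup 2 (Subgroup.zpowers s) :=
    IsPGroup.of_card (n := 1) (by rw [Nat.card_zpowers, hs, pow_one])
  have hRP : Subgroup.zpowers s ≤ Subgroup.normalizer (Y : Set H) := by
    rw [Subgroup.normalizer_eq_top_iff.mpr hYn]; exact le_top
  have hxR : ∀ r ∈ Subgroup.zpowers s, c * r = r * c := by
    intro r hr
    obtain ⟨k, rfl⟩ := Subgroup.mem_zpowers_iff.mp hr
    exact (Commute.zpow_right (show Commute c s from hsc.symm) k).eq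
  have hxC : ∀ u ∈ Y, (∀ r ∈ Subgroup.zpowers s, u * r = r * u) → c * u = u * c := by
    intro u hu hur
    have hus : s * u = u * s := (hur s (Subgroup.mem_zpowers s)).symm
    have huC : u ∈ Subgroup.centralizer ({s} : Set H) := by
      rw [Subgroup.mem_centralizer_iff]
      intro y hy
      rw [Set.mem_singleton_iff] at hy
      subst hy
      exact hus
    have hdY : c * u * c⁻¹ * u⁻¹ ∈ Y := Y.mul_mem (hYn.conj_mem u hu c) (Y.inv_mem hu)
    have hdN : (⟨c, hcC⟩ * ⟨u, huC⟩ * (⟨c, hcC⟩ : ↥(Subgroup.centralizer ({s} : Set H)))⁻¹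
        * (⟨u, huC⟩ : ↥(Subgroup.centralizer ({s} : Set H)))⁻¹) ∈ N := by
      have h1 := hNn.conj_mem _ (N.inv_mem hcN) ⟨u, huC⟩
      have h2 := N.mul_mem hcN h1
      have e : (⟨c, hcC⟩ * ⟨u, huC⟩ * (⟨c, hcC⟩ : ↥(Subgroup.centralizer ({s} : Set H)))⁻¹
          * (⟨u, huC⟩ : ↥(Subgroup.centralizer ({s} : Set H)))⁻¹)
          = ⟨c, hcC⟩ * (⟨u, huC⟩ * (⟨c, hcC⟩ : ↥(Subgroup.centralizer ({s} : Set H)))⁻¹
            * (⟨u, huC⟩ : ↥(Subgroup.centralizer ({s} : Set H)))⁻¹) := by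
        simp only [mul_assoc]
      rw [e]; exact h2
    have hdodd : Odd (orderOf (c * u * c⁻¹ * u⁻¹)) := by
      have h1 := Subgroup.orderOf_dvd_natCard N hdN
      rw [Subgroup.orderOf_mk] at h1
      exact Odd.of_dvd_nat hNodd h1
    have hd1 := hodd2 _ hdodd hdY
    calc c * u = (c * u * c⁻¹ * u⁻¹) * (u * c) := by group
      _ = u * c := by rw [hd1, one_mul]
  have hcent := Helper18.thompson_AxB Y (Subgroup.zpowers s) hY2 hR hRP c
    (fun u hu => hYn.conj_mem u hu c) (Odd.coprime_two_right hc) hxR hxC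
  have hcY : c ∈ Y := hCY (by
    rw [Subgroup.mem_centralizer_iff]
    intro u hu
    exact (hcent u hu).symm)
  exact hodd2 c hc hcY

/-- Property C implies that every element of even order is a 2-element. -/
theorem cit_pow2 {Γ : Type*} [Group Γ] [Finite Γ]
    (hC : ∀ s c : Γ, orderOf s = 2 → Odd (orderOf c) → s * c = c * s → c = 1) :
    ∀ g : Γ, 2 ∣ orderOf g → ∃ k : ℕ, orderOf g = 2 ^ k := by
  intro g hg
  obtain ⟨a, m, hm, hn⟩ := Nat.exists_eq_two_pow_mul_odd (ne_of_gt (orderOf_pos g))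
  have ha : a ≠ 0 := by
    rintro rfl
    rw [hn, pow_zero, one_mul] at hg
    exact (Nat.not_even_iff_odd.mpr hm) (even_iff_two_dvd.mpr hg)
  obtain ⟨b, rfl⟩ : ∃ b, a = b + 1 := ⟨a - 1, by omega⟩
  have hm0 : m ≠ 0 := by
    rintro rfl
    simp at hm
  have hs : orderOf (g ^ (2 ^ b * m)) = 2 := by
    rw [orderOf_pow_of_dvd (mul_ne_zero (pow_ne_zero _ two_ne_zero) hm0)
      ⟨2, by rw [hn]; ring⟩, hn]
    have : 2 ^ (b + 1) * m = 2 * (2 ^ b * m) := by ring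
    rw [this]
    exact Nat.mul_div_cancel 2
      (Nat.pos_of_ne_zero (mul_ne_zero (pow_ne_zero _ two_ne_zero) hm0))
  have hc : orderOf (g ^ (2 ^ (b + 1))) = m := by
    rw [orderOf_pow_of_dvd (pow_ne_zero _ two_ne_zero) ⟨m, hn⟩, hn]
    exact Nat.mul_div_cancel_left m (pow_pos (by norm_num) _)
  have h1 := hC _ _ hs (by rw [hc]; exact hm) (Commute.pow_pow_self g _ _).eq
  have h2 : orderOf g ∣ 2 ^ (b + 1) := orderOf_dvd_of_pow_eq_one h1
  obtain ⟨k, -, hk⟩ := (Nat.dvd_prime_pow Nat.prime_two).mp h2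
  exact ⟨k, hk⟩

/-- Conversely. -/
theorem cit_of_pow2 {Γ : Type*} [Group Γ]
    (hC' : ∀ g : Γ, 2 ∣ orderOf g → ∃ k : ℕ, orderOf g = 2 ^ k) :
    ∀ s c : Γ, orderOf s = 2 → Odd (orderOf c) → s * c = c * s → c = 1 := by
  intro s c hs hc hsc
  have h1 : orderOf (s * c) = orderOf s * orderOf c :=
    Commute.orderOf_mul_eq_mul_orderOf_of_coprime hsc
      (by rw [hs]; exact (Nat.coprime_two_left.mpr hc))
  rw [hs] at h1
  obtain ⟨k, hk⟩ := hC' (s * c) (by rw [h1]; exact dvd_mul_right 2 _)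
  have h2 : orderOf c ∣ 2 ^ k := by rw [← hk, h1]; exact dvd_mul_left _ _
  have h3 : (orderOf c).Coprime (2 ^ k) := Nat.Coprime.pow_right k (Odd.coprime_two_right hc)
  exact orderOf_eq_one_iff.mp (Nat.Coprime.eq_one_of_dvd h3 h2)

/-- The 2-element property passes to homomorphic images. -/
theorem cit_pow2_map {Γ Δ : Type*} [Group Γ] [Group Δ] (f : Γ →* Δ)
    (hf : Function.Surjective f)
    (hC' : ∀ g : Γ, 2 ∣ orderOf g → ∃ k : ℕ, orderOf g = 2 ^ k) :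
    ∀ g : Δ, 2 ∣ orderOf g → ∃ k : ℕ, orderOf g = 2 ^ k := by
  intro g hg
  obtain ⟨h, rfl⟩ := hf g
  have h1 : orderOf (f h) ∣ orderOf h := orderOf_map_dvd f h
  obtain ⟨k, hk⟩ := hC' h (dvd_trans hg h1)
  rw [hk] at h1
  obtain ⟨j, -, hj⟩ := (Nat.dvd_prime_pow Nat.prime_two).mp h1
  exact ⟨j, hj⟩

theorem cit_struct_aux {H : Type*} [Group H] [Finite H] [Group.IsSolvable H]
    (hC : ∀ s c : H, orderOf s = 2 → Odd (orderOf c) → s * c = c * s → c = 1)
    (Y : Subgroup H) [hYn : Y.Normal] (hY2 : IsPGroup 2 Y)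
    (hCY : Subgroup.centralizer (Y : Set H) ≤ Y)
    (hpq : Cfsg.pCore 2 (H ⧸ Y) = ⊥)
    (X : Subgroup H) (hXodd : Odd (Nat.card X)) (hXidx : ∃ k : ℕ, X.index = 2 ^ k) :
    (∀ x ∈ X, x ≠ 1 → ∀ y ∈ Y, y ≠ 1 → x * y ≠ y * x) ∧
      (∀ (p : ℕ) [Fact p.Prime] (P : Sylow p ↥X), IsCyclic ↥(P : Subgroup ↥X)) ∧
      (X ⊔ Y).Normal ∧
      ∀ _ : (X ⊔ Y).Normal, IsCyclic (H ⧸ (X ⊔ Y)) ∧ IsPGroup 2 (H ⧸ (X ⊔ Y)) := by
  haveI : Fact (Nat.Prime 2) := ⟨Nat.prime_two⟩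
  have hC' := cit_pow2 hC
  have hA : ∀ x y : H, Odd (orderOf x) → y ∈ Y → y ≠ 1 → x * y = y * x → x = 1 := by
    intro x y hx hy hy1 hxy
    obtain ⟨k, hk⟩ := hY2 ⟨y, hy⟩
    have h1 : y ^ 2 ^ k = 1 := by
      have := congrArg Subtype.val hk
      simpa using this
    obtain ⟨j, -, hj⟩ := (Nat.dvd_prime_pow Nat.prime_two).mp (orderOf_dvd_of_pow_eq_one h1)
    have hj0 : j ≠ 0 := by
      rintro rfl
      rw [pow_zero] at hj
      exact hy1 (orderOf_eq_one_iff.mp hj)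
    have h2 : orderOf (x * y) = orderOf x * orderOf y :=
      Commute.orderOf_mul_eq_mul_orderOf_of_coprime hxy
        (by rw [hj]; exact Nat.Coprime.pow_right j (Odd.coprime_two_right hx))
    obtain ⟨i, hi⟩ := hC' (x * y)
      (by rw [h2, hj]; exact dvd_mul_of_dvd_right (dvd_pow_self 2 hj0) _)
    have h3 : orderOf x ∣ 2 ^ i := by rw [← hi, h2]; exact dvd_mul_right _ _
    have h4 : (orderOf x).Coprime (2 ^ i) := Nat.Coprime.pow_right i (Odd.coprime_two_right hx)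
    exact orderOf_eq_one_iff.mp (Nat.Coprime.eq_one_of_dvd h4 h3)
  have hXo : ∀ x ∈ X, Odd (orderOf x) := fun x hx =>
    Odd.of_dvd_nat hXodd (Subgroup.orderOf_dvd_natCard X hx)
  have h1 : ∀ x ∈ X, x ≠ 1 → ∀ y ∈ Y, y ≠ 1 → x * y ≠ y * x :=
    fun x hx hx1 y hy hy1 hxy => hx1 (hA x y (hXo x hx) hy hy1 hxy)
  by_cases hYbot : Y = ⊥
  · have hsub : ∀ h : H, h = 1 := by
      intro h
      have : h ∈ Y := hCY (by
        rw [hYbot, Subgroup.mem_centralizer_iff]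
        intro u hu
        rw [SetLike.mem_coe, Subgroup.mem_bot] at hu
        rw [hu, one_mul, mul_one])
      rwa [hYbot, Subgroup.mem_bot] at this
    haveI : Subsingleton H := ⟨fun a b => by rw [hsub a, hsub b]⟩
    refine ⟨h1, ?_, ?_, ?_⟩
    · intro p _ P
      exact isCyclic_of_subsingleton
    · exact ⟨fun n hn g => by rw [Subsingleton.elim (g * n * g⁻¹) n]; exact hn⟩
    · intro _
      haveI : Subsingleton (H ⧸ (X ⊔ Y)) := ⟨fun a b => by
        obtain ⟨a, rfl⟩ := QuotientGroup.mk_surjective a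
        obtain ⟨b, rfl⟩ := QuotientGroup.mk_surjective b
        rw [Subsingleton.elim a b]⟩
      exact ⟨isCyclic_of_subsingleton, fun q => ⟨0, Subsingleton.elim _ _⟩⟩
  have hsyl : ∀ (B : Subgroup H), B ≤ X → ∀ (p : ℕ) [Fact p.Prime] (P : Sylow p ↥B),
      IsCyclic ↥(P : Subgroup ↥B) := by
    intro B hB p _ P
    have hS : IsPGroup p ((P : Subgroup ↥B).map B.subtype) := P.isPGroup'.map _
    have hSX : (P : Subgroup ↥B).map B.subtype ≤ X := by
      rintro _ ⟨b, -, rfl⟩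
      exact hB b.2
    have hfpf : ∀ s ∈ (P : Subgroup ↥B).map B.subtype, s ≠ 1 →
        Y ⊓ Subgroup.centralizer {s} = ⊥ := by
      intro s hs hs1
      rw [eq_bot_iff]
      intro y hy
      rw [Subgroup.mem_bot]
      by_contra hy1
      have hys : s * y = y * s := Subgroup.mem_centralizer_iff.mp hy.2 s rfl
      exact hs1 (hA s y (hXo s (hSX hs)) hy.1 hy1 hys)
    have hodd : Odd (Nat.card ((P : Subgroup ↥B).map B.subtype)) :=
      Odd.of_dvd_nat hXodd (Subgroup.card_dvd_of_le hSX)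
    haveI := Helper11.fpf_isCyclic_of_odd Y hYbot p _ hS hfpf hodd
    exact isCyclic_of_surjective
      ((P : Subgroup ↥B).equivMapOfInjective B.subtype B.subtype_injective).symm
      ((P : Subgroup ↥B).equivMapOfInjective B.subtype B.subtype_injective).symm.surjective
  have hXY : X ⊓ Y = ⊥ := by
    rw [eq_bot_iff]
    intro z hz
    rw [Subgroup.mem_bot]
    obtain ⟨k, hk⟩ := hY2 ⟨z, hz.2⟩
    have h1 : z ^ 2 ^ k = 1 := by
      have := congrArg Subtype.val hk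
      simpa using this
    have h3 : (orderOf z).Coprime (2 ^ k) :=
      Nat.Coprime.pow_right k (Odd.coprime_two_right (hXo z hz.1))
    exact orderOf_eq_one_iff.mp (Nat.Coprime.eq_one_of_dvd h3 (orderOf_dvd_of_pow_eq_one h1))
  have hπ1 : ∀ h : H, QuotientGroup.mk' Y h = 1 ↔ h ∈ Y := fun h => QuotientGroup.eq_one_iff h
  have hπs : Function.Surjective (QuotientGroup.mk' Y) := QuotientGroup.mk'_surjective Y
  have hC'q : ∀ g : H ⧸ Y, 2 ∣ orderOf g → ∃ k : ℕ, orderOf g = 2 ^ k :=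
    cit_pow2_map _ hπs hC'
  have hCq := cit_of_pow2 hC'q
  obtain ⟨F, hFdef⟩ : ∃ F : Subgroup (H ⧸ Y), F = Cfsg.fittingSubgroup (H ⧸ Y) := ⟨_, rfl⟩
  haveI hFn : F.Normal := by rw [hFdef]; exact Helper10.fitting_normal _
  haveI hFnil : Group.IsNilpotent ↥F := by rw [hFdef]; exact S0008.result
  have hCF : Subgroup.centralizer (F : Set (H ⧸ Y)) ≤ F := by rw [hFdef]; exact S0044.result
  have hFo : ∀ f ∈ F, Odd (orderOf f) := by
    intro f hf
    by_contra hodd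
    have h2 : 2 ∣ orderOf f := even_iff_two_dvd.mp (Nat.not_odd_iff_even.mp hodd)
    obtain ⟨k, hk⟩ := hC'q f h2
    have hfp : f ∈ Cfsg.pCore 2 (H ⧸ Y) :=
      Helper9.mem_pCore_of_mem_fitting_h9 2 f (hFdef ▸ hf)
        ⟨k, by rw [← hk]; exact pow_orderOf_eq_one f⟩
    rw [hpq, Subgroup.mem_bot] at hfp
    rw [hfp, orderOf_one] at h2
    omega
  have hFodd : Odd (Nat.card F) := by
    by_contra hodd
    have h2 : 2 ∣ Nat.card F := even_iff_two_dvd.mp (Nat.not_odd_iff_even.mp hodd)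
    obtain ⟨x, hx⟩ := exists_prime_orderOf_dvd_card' 2 h2
    have := hFo x x.2
    rw [Subgroup.orderOf_coe, hx] at this
    exact absurd this (by decide)
  obtain ⟨Xb, hXb⟩ : ∃ Xb : Subgroup (H ⧸ Y), Xb = X.map (QuotientGroup.mk' Y) := ⟨_, rfl⟩
  have hXbm : ∀ z, z ∈ Xb ↔ ∃ x ∈ X, QuotientGroup.mk' Y x = z := fun z => by
    rw [hXb]; exact Subgroup.mem_map
  have hXbo : Odd (Nat.card Xb) := by
    rw [hXb]; exact Odd.of_dvd_nat hXodd (Subgroup.card_map_dvd X _)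
  have hFX : F ≤ Xb := by
    obtain ⟨k, hk⟩ := hXidx
    have hle : Xb ≤ Xb ⊔ F := le_sup_left
    have hKodd : Odd (Nat.card (Xb ⊔ F : Subgroup (H ⧸ Y))) := by
      have e1 := Subgroup.relIndex_mul_relIndex (⊥ : Subgroup (H ⧸ Y)) F (Xb ⊔ F)
        bot_le le_sup_right
      rw [Subgroup.relIndex_bot_left, Subgroup.relIndex_bot_left,
        Subgroup.relIndex_sup_right] at e1
      rw [← e1]
      exact Odd.mul hFodd (Odd.of_dvd_nat hXbo (Subgroup.relIndex_dvd_card _ _))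
    have h3 : Xb.relIndex (Xb ⊔ F) ∣ 2 ^ k := by
      have e2 := Subgroup.relIndex_mul_index hle
      have e3 : Xb.index ∣ 2 ^ k := by
        rw [hXb, ← hk]; exact Subgroup.index_map_dvd X hπs
      exact dvd_trans (Dvd.intro _ e2) e3
    have h4 : Odd (Xb.relIndex (Xb ⊔ F)) :=
      Odd.of_dvd_nat hKodd (Subgroup.relIndex_dvd_card _ _)
    have h5 : Xb.relIndex (Xb ⊔ F) = 1 :=
      Nat.Coprime.eq_one_of_dvd (Nat.Coprime.pow_right k (Odd.coprime_two_right h4)) h3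
    exact le_trans le_sup_right (Subgroup.relIndex_eq_one.mp h5)
  obtain ⟨A, hAdef⟩ : ∃ A : Subgroup H, A = X ⊓ F.comap (QuotientGroup.mk' Y) := ⟨_, rfl⟩
  have hAX : A ≤ X := hAdef ▸ inf_le_left
  have hAF : ∀ a ∈ A, QuotientGroup.mk' Y a ∈ F := fun a ha => by
    rw [hAdef] at ha; exact ha.2
  have hAm : ∀ a ∈ X, QuotientGroup.mk' Y a ∈ F → a ∈ A := fun a ha hf => by
    rw [hAdef]; exact ⟨ha, hf⟩
  have hAnil : Group.IsNilpotent ↥A := by
    let φ : ↥A →* ↥F :=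
      ((QuotientGroup.mk' Y).comp A.subtype).codRestrict F (fun a => hAF a a.2)
    have hinj : Function.Injective φ := by
      rw [injective_iff_map_eq_one]
      intro a ha
      have h1 : QuotientGroup.mk' Y (a : H) = 1 := congrArg Subtype.val ha
      have h2 : (a : H) ∈ X ⊓ Y := ⟨hAX a.2, (hπ1 _).mp h1⟩
      rw [hXY, Subgroup.mem_bot] at h2
      exact Subtype.ext h2
    exact Group.nilpotent_of_mulEquiv (MonoidHom.ofInjective hinj).symm
  have hAcomm : ∀ a b : ↥A, a * b = b * a :=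
    Helper17.TwoFrob.comm_of_nilpotent_cyclic_sylow hAnil (fun p _ P => hsyl A hAX p P)
  haveI : IsMulCommutative ↥A := ⟨⟨hAcomm⟩⟩
  obtain ⟨V, hVdef⟩ : ∃ V : Subgroup H, V = Y ⊓ Subgroup.centralizer (Y : Set H) := ⟨_, rfl⟩
  haveI hVc : IsMulCommutative ↥V := ⟨⟨fun a b => Subtype.ext (by
    have ha := le_of_eq hVdef a.2
    have hb := le_of_eq hVdef b.2
    exact (Subgroup.mem_centralizer_iff.mp hb.2 _ ha.1))⟩⟩
  have hVbot : V ≠ ⊥ := by
    haveI : Nontrivial ↥Y := (Subgroup.nontrivial_iff_ne_bot Y).mpr hYbot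
    haveI := hY2.center_nontrivial
    obtain ⟨z, hz⟩ := exists_ne (1 : ↥(Subgroup.center ↥Y))
    intro hV
    have hzV : ((z : ↥Y) : H) ∈ V := by
      rw [hVdef]
      refine ⟨(z : ↥Y).2, Subgroup.mem_centralizer_iff.mpr ?_⟩
      intro u hu
      have := Subgroup.mem_center_iff.mp z.2 ⟨u, hu⟩
      exact congrArg Subtype.val this
    rw [hV, Subgroup.mem_bot] at hzV
    exact hz (Subtype.ext (Subtype.ext hzV))
  have hVn : V.Normal := by
    rw [hVdef]; infer_instance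
  have hAV : A ≤ Subgroup.normalizer (V : Set H) := by
    rw [Subgroup.normalizer_eq_top_iff.mpr hVn]; exact le_top
  have hfpfV : ∀ a ∈ A, a ≠ 1 → V ⊓ Subgroup.centralizer {a} = ⊥ := by
    intro a ha ha1
    rw [eq_bot_iff]
    intro y hy
    rw [Subgroup.mem_bot]
    by_contra hy1
    have hyY : y ∈ Y := by
      have := hy.1
      rw [hVdef] at this
      exact this.1
    exact ha1 (hA a y (hXo a (hAX ha)) hyY hy1 (Subgroup.mem_centralizer_iff.mp hy.2 a rfl))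
  haveI hAcyc : IsCyclic ↥A := S0041.result A V hVbot hAV hfpfV (Or.inl inferInstance)
  obtain ⟨a₀, ha₀⟩ := IsCyclic.exists_generator (α := ↥A)
  obtain ⟨f₀, hf₀⟩ : ∃ f₀ : H ⧸ Y, f₀ = QuotientGroup.mk' Y (a₀ : H) := ⟨_, rfl⟩
  have hf₀F : f₀ ∈ F := hf₀ ▸ hAF a₀ a₀.2
  have hFgen : ∀ f ∈ F, ∃ k : ℤ, f = f₀ ^ k := by
    intro f hf
    obtain ⟨x, hx, rfl⟩ := (hXbm f).mp (hFX hf)
    obtain ⟨k, hk⟩ := Subgroup.mem_zpowers_iff.mp (ha₀ ⟨x, hAm x hx hf⟩)
    refine ⟨k, ?_⟩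
    have := congrArg (fun a : ↥A => QuotientGroup.mk' Y (a : H)) hk
    simp only [Subgroup.coe_zpow, map_zpow] at this
    rw [hf₀]; exact this.symm
  have hFcomm : ∀ f ∈ F, ∀ f' ∈ F, f * f' = f' * f := by
    intro f hf f' hf'
    obtain ⟨i, rfl⟩ := hFgen f hf
    obtain ⟨j, rfl⟩ := hFgen f' hf'
    exact (Commute.zpow_zpow_self f₀ i j).eq
  have hcomm : ∀ g h : H ⧸ Y, (h * g)⁻¹ * (g * h) ∈ F := by
    intro g h
    apply hCF
    rw [Subgroup.mem_centralizer_iff]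
    intro f hf
    obtain ⟨i, hi⟩ := hFgen _ (hFn.conj_mem f₀ hf₀F g)
    obtain ⟨j, hj⟩ := hFgen _ (hFn.conj_mem f₀ hf₀F h)
    have e1 : (g * h) * f₀ * (g * h)⁻¹ = f₀ ^ (i * j) := by
      calc (g * h) * f₀ * (g * h)⁻¹ = g * (h * f₀ * h⁻¹) * g⁻¹ := by group
        _ = g * f₀ ^ j * g⁻¹ := by rw [hj]
        _ = (g * f₀ * g⁻¹) ^ j := (conj_zpow).symm
        _ = f₀ ^ (i * j) := by rw [hi, zpow_mul]
    have e2 : (h * g) * f₀ * (h * g)⁻¹ = f₀ ^ (i * j) := by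
      calc (h * g) * f₀ * (h * g)⁻¹ = h * (g * f₀ * g⁻¹) * h⁻¹ := by group
        _ = h * f₀ ^ i * h⁻¹ := by rw [hi]
        _ = (h * f₀ * h⁻¹) ^ i := (conj_zpow).symm
        _ = f₀ ^ (i * j) := by rw [hj, ← zpow_mul, mul_comm]
    have e3 : ((h * g)⁻¹ * (g * h)) * f₀ = f₀ * ((h * g)⁻¹ * (g * h)) := by
      have e4 : (g * h) * f₀ * (g * h)⁻¹ = (h * g) * f₀ * (h * g)⁻¹ := by rw [e1, e2]
      calc ((h * g)⁻¹ * (g * h)) * f₀
          = (h * g)⁻¹ * ((g * h) * f₀ * (g * h)⁻¹) * (g * h) := by group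
        _ = (h * g)⁻¹ * ((h * g) * f₀ * (h * g)⁻¹) * (g * h) := by rw [e4]
        _ = f₀ * ((h * g)⁻¹ * (g * h)) := by group
    obtain ⟨k, rfl⟩ := hFgen f hf
    exact ((Commute.zpow_left (show Commute f₀ ((h * g)⁻¹ * (g * h)) from e3.symm) k)).eq
  have hXbn : Xb.Normal := by
    refine ⟨fun x hx g => ?_⟩
    have h1 : g * x * g⁻¹ * x⁻¹ ∈ Xb := by
      have := hFX (hcomm g⁻¹ x⁻¹)
      have e : (x⁻¹ * g⁻¹)⁻¹ * (g⁻¹ * x⁻¹) = g * x * g⁻¹ * x⁻¹ := by group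
      rwa [e] at this
    have := Xb.mul_mem h1 hx
    rwa [inv_mul_cancel_right] at this
  have hM : X ⊔ Y = Xb.comap (QuotientGroup.mk' Y) := by
    rw [hXb, Subgroup.comap_map_eq, QuotientGroup.ker_mk']
  have hMn : (X ⊔ Y).Normal := by rw [hM]; exact hXbn.comap _
  have hMm : ∀ h : H, h ∈ X ⊔ Y ↔ QuotientGroup.mk' Y h ∈ Xb := fun h => by
    rw [hM]; exact Subgroup.mem_comap
  refine ⟨h1, fun p _ P => hsyl X le_rfl p P, hMn, ?_⟩
  intro _
  have hpg : IsPGroup 2 (H ⧸ (X ⊔ Y)) := by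
    obtain ⟨k, hk⟩ := hXidx
    have h2 : (X ⊔ Y).index ∣ 2 ^ k := hk ▸ Subgroup.index_dvd_of_le le_sup_left
    obtain ⟨j, -, hj⟩ := (Nat.dvd_prime_pow Nat.prime_two).mp h2
    exact IsPGroup.of_card (n := j) (by rw [← hj, Subgroup.index_eq_card])
  refine ⟨?_, hpg⟩
  have hQcomm : ∀ a b : H ⧸ (X ⊔ Y), a * b = b * a := by
    intro a b
    obtain ⟨g, rfl⟩ := QuotientGroup.mk'_surjective (X ⊔ Y) a
    obtain ⟨h, rfl⟩ := QuotientGroup.mk'_surjective (X ⊔ Y) b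
    rw [← map_mul, ← map_mul]
    symm
    have := hFX (hcomm (QuotientGroup.mk' Y g) (QuotientGroup.mk' Y h))
    rw [← map_mul, ← map_mul, ← map_inv, ← map_mul, ← hMm] at this
    exact (QuotientGroup.eq).mpr this
  have hinvF : ∀ h : H, orderOf (QuotientGroup.mk' (X ⊔ Y) h) = 2 →
      ∀ f ∈ F, QuotientGroup.mk' Y h * f * (QuotientGroup.mk' Y h)⁻¹ = f⁻¹ := by
    intro h hh f hf
    obtain ⟨t, ht⟩ : ∃ t : H ⧸ Y, t = QuotientGroup.mk' Y h := ⟨_, rfl⟩
    rw [← ht]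
    have h2 : 2 ∣ orderOf h := by rw [← hh]; exact orderOf_map_dvd _ h
    obtain ⟨k, hk⟩ := hC' h h2
    have ht1 : t ≠ 1 := by
      intro h1'
      rw [ht, hπ1] at h1'
      have : QuotientGroup.mk' (X ⊔ Y) h = 1 :=
        (QuotientGroup.eq_one_iff h).mpr (Subgroup.mem_sup_right h1')
      rw [this, orderOf_one] at hh
      omega
    have ht2 : t ^ 2 = 1 := by
      have e : QuotientGroup.mk' (X ⊔ Y) (h ^ 2) = 1 := by
        have := pow_orderOf_eq_one (QuotientGroup.mk' (X ⊔ Y) h)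
        rw [hh] at this
        rw [map_pow]; exact this
      have hm : h ^ 2 ∈ X ⊔ Y := (QuotientGroup.eq_one_iff _).mp e
      have hb : t ^ 2 ∈ Xb := by
        have := (hMm _).mp hm
        rwa [map_pow, ← ht] at this
      have ho1 : Odd (orderOf (t ^ 2)) :=
        Odd.of_dvd_nat hXbo (Subgroup.orderOf_dvd_natCard Xb hb)
      have ho2 : orderOf (t ^ 2) ∣ 2 ^ k := by
        have h3 : orderOf t ∣ orderOf h := by rw [ht]; exact orderOf_map_dvd _ h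
        exact dvd_trans (orderOf_pow_dvd 2) (hk ▸ h3)
      exact orderOf_eq_one_iff.mp (Nat.Coprime.eq_one_of_dvd
        (Nat.Coprime.pow_right k (Odd.coprime_two_right ho1)) ho2)
    have hto : orderOf t = 2 := orderOf_eq_prime ht2 ht1
    have htinv : t⁻¹ = t := by
      rw [inv_eq_iff_mul_eq_one, ← pow_two]; exact ht2
    have hd : f * (t * f * t⁻¹) ∈ F := F.mul_mem hf (hFn.conj_mem f hf t)
    have hdt : t * (f * (t * f * t⁻¹)) = (f * (t * f * t⁻¹)) * t := by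
      calc t * (f * (t * f * t⁻¹)) = (t * f * t⁻¹) * (t ^ 2) * f * t⁻¹ := by group
        _ = ((t * f * t⁻¹) * f) * t⁻¹ := by rw [ht2, mul_one]
        _ = (f * (t * f * t⁻¹)) * t⁻¹ := by rw [hFcomm _ (hFn.conj_mem f hf t) _ hf]
        _ = (f * (t * f * t⁻¹)) * t := by rw [htinv]
    have hd1 := hCq t _ hto (hFo _ hd) hdt
    exact eq_inv_of_mul_eq_one_right hd1
  have hinv : ∀ q₁ q₂ : H ⧸ (X ⊔ Y), orderOf q₁ = 2 → orderOf q₂ = 2 → q₁ = q₂ := by
    intro q₁ q₂ hq₁ hq₂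
    obtain ⟨h₁, rfl⟩ := QuotientGroup.mk'_surjective (X ⊔ Y) q₁
    obtain ⟨h₂, rfl⟩ := QuotientGroup.mk'_surjective (X ⊔ Y) q₂
    have hw : QuotientGroup.mk' Y h₁ * QuotientGroup.mk' Y h₂ ∈ F := by
      apply hCF
      rw [Subgroup.mem_centralizer_iff]
      intro f hf
      have e1 := hinvF h₂ hq₂ f hf
      have e2 := hinvF h₁ hq₁ f⁻¹ (F.inv_mem hf)
      rw [inv_inv] at e2
      obtain ⟨t₁, ht₁⟩ : ∃ t : H ⧸ Y, t = QuotientGroup.mk' Y h₁ := ⟨_, rfl⟩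
      obtain ⟨t₂, ht₂⟩ : ∃ t : H ⧸ Y, t = QuotientGroup.mk' Y h₂ := ⟨_, rfl⟩
      rw [← ht₁] at e2 ⊢
      rw [← ht₂] at e1 ⊢
      have e3 : (t₁ * t₂) * f * (t₁ * t₂)⁻¹ = f := by
        calc (t₁ * t₂) * f * (t₁ * t₂)⁻¹ = t₁ * (t₂ * f * t₂⁻¹) * t₁⁻¹ := by group
          _ = f := by rw [e1, e2]
      calc f * (t₁ * t₂) = ((t₁ * t₂) * f * (t₁ * t₂)⁻¹) * (t₁ * t₂) := by rw [e3]
        _ = (t₁ * t₂) * f := by group
    have hm : h₁ * h₂ ∈ X ⊔ Y := by
      rw [hMm, map_mul]; exact hFX hw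
    have e : QuotientGroup.mk' (X ⊔ Y) h₁ * QuotientGroup.mk' (X ⊔ Y) h₂ = 1 := by
      rw [← map_mul]; exact (QuotientGroup.eq_one_iff _).mpr hm
    have e2 : QuotientGroup.mk' (X ⊔ Y) h₂ * QuotientGroup.mk' (X ⊔ Y) h₂ = 1 := by
      have := pow_orderOf_eq_one (QuotientGroup.mk' (X ⊔ Y) h₂)
      rw [hq₂, pow_two] at this
      exact this
    exact mul_right_cancel (e.trans e2.symm)
  have key : ∀ K : Subgroup (H ⧸ (X ⊔ Y)), Nat.card K = 2 →
      ∃ q, orderOf q = 2 ∧ K = Subgroup.zpowers q := by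
    intro K hK
    haveI : Nontrivial ↥K := by
      rw [← Finite.one_lt_card_iff_nontrivial, hK]; norm_num
    obtain ⟨q, hq⟩ := exists_ne (1 : ↥K)
    have hq2 : orderOf (q : H ⧸ (X ⊔ Y)) = 2 := by
      have h1 : (q : H ⧸ (X ⊔ Y)) ^ 2 = 1 := by
        have := pow_card_eq_one' (G := ↥K) (x := q)
        rw [hK] at this
        exact congrArg Subtype.val this
      exact orderOf_eq_prime h1 (fun h => hq (Subtype.ext h))
    refine ⟨q, hq2, ?_⟩
    symm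
    apply Subgroup.eq_of_le_of_card_ge
    · rw [Subgroup.zpowers_le]; exact q.2
    · rw [Nat.card_zpowers, hq2, hK]
  letI : CommGroup (H ⧸ (X ⊔ Y)) :=
    { (inferInstance : Group (H ⧸ (X ⊔ Y))) with mul_comm := hQcomm }
  apply Lead.isCyclic_of_unique_order_p_comm 2 hpg
  intro K₁ K₂ hK₁ hK₂
  obtain ⟨q₁, hq₁, rfl⟩ := key K₁ hK₁
  obtain ⟨q₂, hq₂, rfl⟩ := key K₂ hK₂
  rw [hinv q₁ q₂ hq₁ hq₂]

/-- Structure of a solvable group with `O(H) = 1` in which centralizers of involutions are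
2-nilpotent. -/
theorem cit_struct {H : Type*} [Group H] [Finite H] (hsol : Group.IsSolvable H)
    (hO : Cfsg.pPrimeCore 2 H = ⊥)
    (hI : ∀ t : H, orderOf t = 2 →
      Cfsg.HasNormalPComplement 2 ↥(Subgroup.centralizer ({t} : Set H)))
    (X : Subgroup H) (hXodd : Odd (Nat.card X)) (hXidx : ∃ k : ℕ, X.index = 2 ^ k) :
    (∀ x ∈ X, x ≠ 1 → ∀ y ∈ Cfsg.pCore 2 H, y ≠ 1 → x * y ≠ y * x) ∧
      (∀ (p : ℕ) [Fact p.Prime] (P : Sylow p ↥X), IsCyclic ↥(P : Subgroup ↥X)) ∧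
      (X ⊔ Cfsg.pCore 2 H).Normal ∧
      ∀ _ : (X ⊔ Cfsg.pCore 2 H).Normal, IsCyclic (H ⧸ (X ⊔ Cfsg.pCore 2 H)) ∧
        IsPGroup 2 (H ⧸ (X ⊔ Cfsg.pCore 2 H)) := by
  haveI : Fact (Nat.Prime 2) := ⟨Nat.prime_two⟩
  haveI := hsol
  haveI hYn : (Cfsg.pCore 2 H).Normal := S0010.pCore_normal 2
  exact cit_struct_aux (cit_core hsol hO hI) (Cfsg.pCore 2 H) (S0010.pCore_isPGroup 2)
    (S0017.result 2 hO) (Helper11.pCore_quotient_pCore 2) X hXodd hXidx

end Cfsg.Agent.Helper21
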