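import Mathlib

set_option autoImplicit false
set_option linter.style.haveILetI false

open scoped commutatorElement

/-!
Polynomial sequences in a filtered group (Lazard--Leibman) and the collection formula
`(ab)^p ∈ a^p b^p ℧(G')` for groups of class less than `p`.
-/

namespace Cfsg.Agent.Helper21

universe u

section lcs

variable {G : Type*} [Group G]

/-- Three subgroups lemma modulo a normal subgroup. -/
theorem three_subgroups_le (N : Subgroup G) [N.Normal] (A B C : Subgroup G)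
    (h1 : ⁅⁅B, C⁆, A⁆ ≤ N) (h2 : ⁅⁅C, A⁆, B⁆ ≤ N) : ⁅⁅A, B⁆, C⁆ ≤ N := by
  have key : ∀ X Y Z : Subgroup G, ⁅⁅X, Y⁆, Z⁆ ≤ N ↔
      ⁅⁅X.map (QuotientGroup.mk' N), Y.map (QuotientGroup.mk' N)⁆,
        Z.map (QuotientGroup.mk' N)⁆ = ⊥ := by
    intro X Y Z
    rw [← Subgroup.map_commutator, ← Subgroup.map_commutator, Subgroup.map_eq_bot_iff,
      QuotientGroup.ker_mk']
  rw [key] at h1 h2 ⊢
  exact Subgroup.commutator_commutator_eq_bot_of_rotate h1 h2

/-- `[γ_{i+1}, γ_{j+1}] ≤ γ_{i+j+2}` for the lower central series of a group. -/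
theorem lcs_comm_le (i j : ℕ) :
    ⁅(⊤ : Subgroup G).lowerCentralSeries i, (⊤ : Subgroup G).lowerCentralSeries j⁆ ≤
      (⊤ : Subgroup G).lowerCentralSeries (i + j + 1) := by
  induction j generalizing i with
  | zero => exact le_of_eq rfl
  | succ j ih =>
    have h1 : ⁅⁅(⊤ : Subgroup G), (⊤ : Subgroup G).lowerCentralSeries i⁆,
        (⊤ : Subgroup G).lowerCentralSeries j⁆ ≤
        (⊤ : Subgroup G).lowerCentralSeries (i + (j + 1) + 1) := by
      rw [Subgroup.commutator_comm ⊤]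
      have := ih (i + 1)
      have e : i + 1 + j + 1 = i + (j + 1) + 1 := by omega
      rw [e] at this
      exact this
    have h2 : ⁅⁅(⊤ : Subgroup G).lowerCentralSeries i,
        (⊤ : Subgroup G).lowerCentralSeries j⁆, (⊤ : Subgroup G)⁆ ≤
        (⊤ : Subgroup G).lowerCentralSeries (i + (j + 1) + 1) :=
      Subgroup.commutator_mono (ih i) le_rfl
    have h3 := three_subgroups_le ((⊤ : Subgroup G).lowerCentralSeries (i + (j + 1) + 1))
      ((⊤ : Subgroup G).lowerCentralSeries j) ⊤ ((⊤ : Subgroup G).lowerCentralSeries i) h1 h2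
    rw [Subgroup.commutator_comm]
    exact h3

end lcs

section poly

variable {G : Type*} [Group G]

/-- The difference sequence `n ↦ g (n+1) * (g n)⁻¹`. -/
def pdiff (g : ℕ → G) : ℕ → G := fun n => g (n + 1) * (g n)⁻¹

/-- Truncated polynomial sequences with respect to a filtration `F`. -/
def PolyT (F : ℕ → Subgroup G) : ℕ → ℕ → (ℕ → G) → Prop
  | 0, k, g => ∀ n, g n ∈ F k
  | T + 1, k, g => (∀ n, g n ∈ F k) ∧ PolyT F T (k + 1) (pdiff g)

theorem polyT_val {F : ℕ → Subgroup G} {T k : ℕ} {g : ℕ → G} (h : PolyT F T k g) :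
    ∀ n, g n ∈ F k := by
  cases T with
  | zero => exact h
  | succ T => exact h.1

theorem polyT_mono_k {F : ℕ → Subgroup G} (hmono : ∀ i j, i ≤ j → F j ≤ F i) :
    ∀ (T i j : ℕ) (g : ℕ → G), i ≤ j → PolyT F T j g → PolyT F T i g := by
  intro T
  induction T with
  | zero => intro i j g hij h n; exact hmono i j hij (h n)
  | succ T ih =>
    intro i j g hij h
    exact ⟨fun n => hmono i j hij (h.1 n), ih (i + 1) (j + 1) _ (by omega) h.2⟩

theorem polyT_mono_T {F : ℕ → Subgroup G} :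
    ∀ (T k : ℕ) (g : ℕ → G), PolyT F (T + 1) k g → PolyT F T k g := by
  intro T
  induction T with
  | zero => intro k g h; exact h.1
  | succ T ih => intro k g h; exact ⟨h.1, ih (k + 1) _ h.2⟩

theorem polyT_one {F : ℕ → Subgroup G} : ∀ (T k : ℕ), PolyT F T k (fun _ => (1 : G)) := by
  intro T
  induction T with
  | zero => intro k n; exact one_mem _
  | succ T ih =>
    intro k
    refine ⟨fun n => one_mem _, ?_⟩
    have : pdiff (fun _ : ℕ => (1 : G)) = fun _ => 1 := by funext n; simp [pdiff]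
    rw [this]; exact ih (k + 1)

theorem pdiff_mul (g g' : ℕ → G) :
    pdiff (fun n => g n * g' n) = fun n => pdiff g n * (⁅g n, pdiff g' n⁆ * pdiff g' n) := by
  funext n
  simp only [pdiff, commutatorElement_def]
  group

theorem comm_step_identity (x y u v : G) :
    ⁅u * x, v * y⁆ * ⁅x, y⁆⁻¹ = (⁅u, ⁅x, v⁆⁆ * ⁅x, v⁆) * ⁅u * v, ⁅x, y⁆⁆ *
      (⁅⁅x, y⁆, ⁅u, v⁆ * (⁅v, ⁅u, y⁆⁆ * ⁅u, y⁆)⁆ * (⁅u, v⁆ * (⁅v, ⁅u, y⁆⁆ * ⁅u, y⁆))) := by
  simp only [commutatorElement_def]
  group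

theorem pdiff_comm (g g' : ℕ → G) :
    pdiff (fun n => ⁅g n, g' n⁆) = fun n =>
      (⁅pdiff g n, ⁅g n, pdiff g' n⁆⁆ * ⁅g n, pdiff g' n⁆) *
        ⁅pdiff g n * pdiff g' n, ⁅g n, g' n⁆⁆ *
      (⁅⁅g n, g' n⁆, ⁅pdiff g n, pdiff g' n⁆ * (⁅pdiff g' n, ⁅pdiff g n, g' n⁆⁆ * ⁅pdiff g n, g' n⁆)⁆ *
        (⁅pdiff g n, pdiff g' n⁆ * (⁅pdiff g' n, ⁅pdiff g n, g' n⁆⁆ * ⁅pdiff g n, g' n⁆))) := by
  funext n
  have h := comm_step_identity (g n) (g' n) (pdiff g n) (pdiff g' n)
  have hu : pdiff g n * g n = g (n + 1) := by simp [pdiff]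
  have hv : pdiff g' n * g' n = g' (n + 1) := by simp [pdiff]
  rw [hu, hv] at h
  exact h

theorem polyT_mul_comm {F : ℕ → Subgroup G} (hmono : ∀ i j, i ≤ j → F j ≤ F i)
    (hcomm : ∀ i j, ⁅F i, F j⁆ ≤ F (i + j)) (T : ℕ) :
    (∀ (k : ℕ) (g g' : ℕ → G), PolyT F T k g → PolyT F T k g' →
        PolyT F T k (fun n => g n * g' n)) ∧
    (∀ (i j : ℕ) (g g' : ℕ → G), PolyT F T i g → PolyT F T j g' →
        PolyT F T (i + j) (fun n => ⁅g n, g' n⁆)) := by
  induction T with
  | zero =>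
    exact ⟨fun k g g' h h' n => mul_mem (h n) (h' n),
      fun i j g g' h h' n => hcomm i j (Subgroup.commutator_mem_commutator (h n) (h' n))⟩
  | succ T ih =>
    obtain ⟨ihm, ihc⟩ := ih
    have mono := polyT_mono_k hmono T
    refine ⟨?_, ?_⟩
    · intro k g g' h h'
      refine ⟨fun n => mul_mem (h.1 n) (h'.1 n), ?_⟩
      rw [pdiff_mul]
      have hg := polyT_mono_T T k g h
      exact ihm (k + 1) _ _ h.2 (ihm (k + 1) _ _
        (mono (k + 1) (k + (k + 1)) _ (by omega) (ihc k (k + 1) g (pdiff g') hg h'.2)) h'.2)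
    · intro i j g g' h h'
      refine ⟨fun n => hcomm i j (Subgroup.commutator_mem_commutator (h.1 n) (h'.1 n)), ?_⟩
      rw [pdiff_comm]
      have hg := polyT_mono_T T i g h
      have hg' := polyT_mono_T T j g' h'
      have hu := h.2
      have hv := h'.2
      have hc : PolyT F T (i + j) (fun n => ⁅g n, g' n⁆) := ihc i j g g' hg hg'
      have hxv : PolyT F T (i + j + 1) (fun n => ⁅g n, pdiff g' n⁆) :=
        mono _ _ _ (by omega) (ihc i (j + 1) g (pdiff g') hg hv)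
      have huxv : PolyT F T (i + j + 1) (fun n => ⁅pdiff g n, ⁅g n, pdiff g' n⁆⁆) :=
        mono _ _ _ (by omega) (ihc (i + 1) (i + j + 1) _ _ hu hxv)
      have huv1 : PolyT F T 1 (fun n => pdiff g n * pdiff g' n) :=
        ihm 1 _ _ (mono 1 (i + 1) _ (by omega) hu) (mono 1 (j + 1) _ (by omega) hv)
      have huvc : PolyT F T (i + j + 1) (fun n => ⁅pdiff g n * pdiff g' n, ⁅g n, g' n⁆⁆) :=
        mono _ _ _ (by omega) (ihc 1 (i + j) _ _ huv1 hc)
      have huv : PolyT F T (i + j + 1) (fun n => ⁅pdiff g n, pdiff g' n⁆) :=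
        mono _ _ _ (by omega) (ihc (i + 1) (j + 1) _ _ hu hv)
      have huy : PolyT F T (i + j + 1) (fun n => ⁅pdiff g n, g' n⁆) :=
        mono _ _ _ (by omega) (ihc (i + 1) j _ _ hu hg')
      have hvuy : PolyT F T (i + j + 1) (fun n => ⁅pdiff g' n, ⁅pdiff g n, g' n⁆⁆) :=
        mono _ _ _ (by omega) (ihc (j + 1) (i + j + 1) _ _ hv huy)
      have hW : PolyT F T (i + j + 1) (fun n => ⁅pdiff g n, pdiff g' n⁆ *
          (⁅pdiff g' n, ⁅pdiff g n, g' n⁆⁆ * ⁅pdiff g n, g' n⁆)) :=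
        ihm _ _ _ huv (ihm _ _ _ hvuy huy)
      have hcW : PolyT F T (i + j + 1) (fun n => ⁅⁅g n, g' n⁆, ⁅pdiff g n, pdiff g' n⁆ *
          (⁅pdiff g' n, ⁅pdiff g n, g' n⁆⁆ * ⁅pdiff g n, g' n⁆)⁆) :=
        mono _ _ _ (by omega) (ihc (i + j) (i + j + 1) _ _ hc hW)
      exact ihm _ _ _ (ihm _ _ _ (ihm _ _ _ huxv hxv) huvc) (ihm _ _ _ hcW hW)

theorem polyT_vanish {F : ℕ → Subgroup G} :
    ∀ (k T j : ℕ) (g : ℕ → G), k ≤ T → PolyT F T j g → (∀ i < k, g i = 1) →
      ∀ n, g n ∈ F (j + k) := by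
  intro k
  induction k with
  | zero => intro T j g _ h _ n; exact polyT_val h n
  | succ k ih =>
    intro T j g hkT h h0 n
    obtain ⟨T', rfl⟩ : ∃ T', T = T' + 1 := ⟨T - 1, by omega⟩
    have hd := ih T' (j + 1) (pdiff g) (by omega) h.2
      (fun i hi => by simp [pdiff, h0 (i + 1) (by omega), h0 i (by omega)])
    have e : j + 1 + k = j + (k + 1) := by omega
    rw [e] at hd
    induction n with
    | zero => rw [h0 0 (by omega)]; exact one_mem _
    | succ n ihn =>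
      have : g (n + 1) = pdiff g n * g n := by simp [pdiff]
      rw [this]; exact mul_mem (hd n) ihn

theorem polyT_choose {F : ℕ → Subgroup G} (hmono : ∀ i j, i ≤ j → F j ≤ F i) :
    ∀ (T j k : ℕ) (x : G), x ∈ F (j + k) → PolyT F T j (fun n => x ^ (n.choose k)) := by
  intro T
  induction T with
  | zero => intro j k x hx n; exact pow_mem (hmono j (j + k) (by omega) hx) _
  | succ T ih =>
    intro j k x hx
    refine ⟨fun n => pow_mem (hmono j (j + k) (by omega) hx) _, ?_⟩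
    cases k with
    | zero =>
      have : pdiff (fun n : ℕ => x ^ (n.choose 0)) = fun _ => 1 := by funext n; simp [pdiff]
      rw [this]; exact polyT_one T (j + 1)
    | succ k =>
      have : pdiff (fun n : ℕ => x ^ (n.choose (k + 1))) = fun n => x ^ (n.choose k) := by
        funext n
        simp only [pdiff]
        rw [Nat.choose_succ_succ, pow_add, mul_inv_cancel_right]
      rw [this]
      exact ih (j + 1) k x (by rw [show j + 1 + k = j + (k + 1) by omega]; exact hx)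

theorem polyT_taylor {F : ℕ → Subgroup G} (hmono : ∀ i j, i ≤ j → F j ≤ F i)
    (hcomm : ∀ i j, ⁅F i, F j⁆ ≤ F (i + j)) {p : ℕ} (hp : p.Prime) (hFp : F p = ⊥)
    (E : Subgroup G) (hE : ∀ x ∈ F 2, x ^ p ∈ E) :
    ∀ (d k : ℕ) (g : ℕ → G), k + d = p → 2 ≤ k → PolyT F p 0 g → (∀ i < k, g i = 1) →
      g p ∈ E := by
  intro d
  induction d with
  | zero =>
    intro k g hk h2 hg h0
    have := polyT_vanish k p 0 g (by omega) hg h0 p
    have hkp : k = p := by omega
    rw [zero_add, hkp, hFp, Subgroup.mem_bot] at this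
    rw [this]; exact one_mem _
  | succ d ih =>
    intro k g hk h2 hg h0
    have hx : g k ∈ F (0 + k) := polyT_vanish k p 0 g (by omega) hg h0 k
    have hxi : (g k)⁻¹ ∈ F (0 + k) := inv_mem hx
    have hg' : PolyT F p 0 (fun n => g n * ((g k)⁻¹) ^ (n.choose k)) :=
      (polyT_mul_comm hmono hcomm p).1 0 _ _ hg (polyT_choose hmono p 0 k (g k)⁻¹ hxi)
    have h0' : ∀ i < k + 1, (fun n => g n * ((g k)⁻¹) ^ (n.choose k)) i = 1 := by
      intro i hi
      rcases Nat.lt_succ_iff_lt_or_eq.mp hi with h | h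
      · simp [h0 i h, Nat.choose_eq_zero_of_lt h]
      · subst h; simp
    have hI := ih (k + 1) _ (by omega) (by omega) hg' h0'
    obtain ⟨t, ht⟩ := hp.dvd_choose_self (by omega : k ≠ 0) (by omega : k < p)
    have hgp : g p = (g p * ((g k)⁻¹) ^ (p.choose k)) * ((g k) ^ t) ^ p := by
      rw [ht, ← pow_mul, mul_comm t p, inv_pow, inv_mul_cancel_right]
    rw [hgp]
    refine mul_mem hI (hE _ (pow_mem (hmono 2 k h2 ?_) t))
    simpa using hx

/-- Collection formula: in a group with a filtration `F` of length `< p`, the element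
`b⁻ᵖ a⁻ᵖ (ab)ᵖ` lies in any subgroup containing the `p`-th powers of `F 2`. -/
theorem collect_pow {F : ℕ → Subgroup G} (hmono : ∀ i j, i ≤ j → F j ≤ F i)
    (hcomm : ∀ i j, ⁅F i, F j⁆ ≤ F (i + j)) {p : ℕ} (hp : p.Prime) (hFp : F p = ⊥)
    (E : Subgroup G) (hE : ∀ x ∈ F 2, x ^ p ∈ E) (a b : G) (ha : a ∈ F 1) (hb : b ∈ F 1) :
    (b⁻¹) ^ p * (a⁻¹) ^ p * (a * b) ^ p ∈ E := by
  have hpow : ∀ y ∈ F 1, PolyT F p 0 (fun n => y ^ n) := by
    intro y hy
    have := polyT_choose hmono p 0 1 y (by simpa using hy)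
    simpa [Nat.choose_one_right] using this
  have hg : PolyT F p 0 (fun n => (b⁻¹) ^ n * (a⁻¹) ^ n * (a * b) ^ n) :=
    (polyT_mul_comm hmono hcomm p).1 0 _ _
      ((polyT_mul_comm hmono hcomm p).1 0 _ _ (hpow _ (inv_mem hb)) (hpow _ (inv_mem ha)))
      (hpow _ (mul_mem ha hb))
  refine polyT_taylor hmono hcomm hp hFp E hE (p - 2) 2 _ (by have := hp.two_le; omega) le_rfl
    hg ?_
  intro i hi
  interval_cases i <;> simp

end poly

/-- In a group of class less than `p`, `b⁻ᵖ a⁻ᵖ (ab)ᵖ` lies in any subgroup containing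
the `p`-th powers of elements of the derived subgroup. -/
theorem class_lt_pow_mul {H : Type*} [Group H] {p : ℕ} (hp : p.Prime)
    (hcl : (⊤ : Subgroup H).lowerCentralSeries (p - 1) = ⊥) (E : Subgroup H)
    (hE : ∀ x ∈ commutator H, x ^ p ∈ E) (a b : H) :
    (b⁻¹) ^ p * (a⁻¹) ^ p * (a * b) ^ p ∈ E := by
  have hmono : ∀ i j, i ≤ j →
      (⊤ : Subgroup H).lowerCentralSeries (j - 1) ≤ (⊤ : Subgroup H).lowerCentralSeries (i - 1) :=
    fun i j hij => Subgroup.lowerCentralSeries_antitone _ (by omega)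
  have hcomm : ∀ i j, ⁅(⊤ : Subgroup H).lowerCentralSeries (i - 1),
      (⊤ : Subgroup H).lowerCentralSeries (j - 1)⁆ ≤
      (⊤ : Subgroup H).lowerCentralSeries (i + j - 1) := by
    intro i j
    rcases Nat.eq_zero_or_pos i with rfl | hi
    · rw [zero_add]
      exact Subgroup.commutator_le_right _ _
    rcases Nat.eq_zero_or_pos j with rfl | hj
    · exact Subgroup.commutator_le_left _ _
    have := lcs_comm_le (G := H) (i - 1) (j - 1)
    have e : i - 1 + (j - 1) + 1 = i + j - 1 := by omega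
    rw [e] at this
    exact this
  exact collect_pow (F := fun k => (⊤ : Subgroup H).lowerCentralSeries (k - 1)) hmono hcomm hp hcl
    E (fun x hx => hE x hx) a b (Subgroup.mem_top a) (Subgroup.mem_top b)

end Cfsg.Agent.Helper21
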