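import Mathlib

set_option autoImplicit false
set_option linter.style.haveILetI false

namespace Cfsg.Agent.Helper21

/-- Internal direct product gives a Pi-type isomorphism: a family of subgroups (indexed by a
predicate on subgroups), each normalized by `H`, each isomorphic to `M`, independent, with
supremum `H`.  Then `H ≃* (Fin n → M)` with `n` the number of members of the family. -/
theorem pi_iso_of_indep {G : Type*} [Group G] [Finite G] {M : Type*} [Group M]
    (H : Subgroup G) (P : Subgroup G → Prop)
    (hn : ∀ E : {E : Subgroup G // P E}, H ≤ Subgroup.normalizer ((E : Subgroup G) : Set G))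
    (hiso : ∀ E : {E : Subgroup G // P E}, Nonempty (↥(E : Subgroup G) ≃* M))
    (hind : iSupIndep (fun E : {E : Subgroup G // P E} => (E : Subgroup G)))
    (hsup : (⨆ E : {E : Subgroup G // P E}, (E : Subgroup G)) = H) :
    ∃ n : ℕ, n = Nat.card {E : Subgroup G // P E} ∧ (H ≠ ⊥ → 1 ≤ n) ∧
      Nonempty (↥H ≃* (Fin n → M)) := by
  classical
  haveI : Fintype {E : Subgroup G // P E} := Fintype.ofFinite _
  have hle : ∀ E : {E : Subgroup G // P E}, (E : Subgroup G) ≤ H := by
    intro E
    rw [← hsup]
    exact le_iSup (fun E : {E : Subgroup G // P E} => (E : Subgroup G)) E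
  have hcomm : Pairwise fun (i j : {E : Subgroup G // P E}) =>
      ∀ x y : G, x ∈ (i : Subgroup G) → y ∈ (j : Subgroup G) → Commute x y := by
    intro i j hij x y hx hy
    have hdisj : Disjoint (i : Subgroup G) (j : Subgroup G) := hind.pairwiseDisjoint hij
    have h1 : x * y * x⁻¹ * y⁻¹ ∈ (i : Subgroup G) := by
      have h2 : y * x⁻¹ * y⁻¹ ∈ (i : Subgroup G) :=
        ((Subgroup.mem_normalizer_iff.mp (hn i (hle j hy))) x⁻¹).mp (inv_mem hx)
      have : x * y * x⁻¹ * y⁻¹ = x * (y * x⁻¹ * y⁻¹) := by group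
      rw [this]
      exact mul_mem hx h2
    have h2 : x * y * x⁻¹ * y⁻¹ ∈ (j : Subgroup G) := by
      have h3 : x * y * x⁻¹ ∈ (j : Subgroup G) :=
        ((Subgroup.mem_normalizer_iff.mp (hn j (hle i hx))) y).mp hy
      exact mul_mem h3 (inv_mem hy)
    have h3 : x * y * x⁻¹ * y⁻¹ = 1 := by
      have := Subgroup.disjoint_def.mp hdisj h1 h2
      exact this
    have : x * y = y * x := by
      have h4 : x * y = (x * y * x⁻¹ * y⁻¹) * (y * x) := by group
      rw [h4, h3, one_mul]
    exact this
  let φ := Subgroup.noncommPiCoprod hcomm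
  have hinj : Function.Injective φ := Subgroup.injective_noncommPiCoprod_of_iSupIndep (hcomm := hcomm) hind
  have hrange : φ.range = H := by
    rw [Subgroup.noncommPiCoprod_range, hsup]
  let e1 : ((i : {E : Subgroup G // P E}) → ↥(i : Subgroup G)) ≃* ↥H :=
    (MonoidHom.ofInjective hinj).trans (MulEquiv.subgroupCongr hrange)
  let e2 : ((i : {E : Subgroup G // P E}) → ↥(i : Subgroup G)) ≃*
      ({E : Subgroup G // P E} → M) :=
    MulEquiv.piCongrRight (fun i => (hiso i).some)
  let e3 : ({E : Subgroup G // P E} → M) ≃*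
      (Fin (Fintype.card {E : Subgroup G // P E}) → M) :=
    MulEquiv.arrowCongr (Fintype.equivFin {E : Subgroup G // P E}) (MulEquiv.refl M)
  refine ⟨Fintype.card {E : Subgroup G // P E}, by rw [Nat.card_eq_fintype_card], ?_,
    ⟨e1.symm.trans (e2.trans e3)⟩⟩
  intro hH
  by_contra hcon
  have h0 : Fintype.card {E : Subgroup G // P E} = 0 := by omega
  haveI : IsEmpty {E : Subgroup G // P E} := Fintype.card_eq_zero_iff.mp h0
  apply hH
  rw [← hsup]
  exact iSup_of_empty _

end Cfsg.Agent.Helper21
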