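import Mathlib
import Cfsg.Agent.Helper21.FFStruct2

set_option autoImplicit false
set_option linter.style.haveILetI false

namespace Cfsg.Agent.Helper21

/-- Assembling pairwise "orthogonal" direct factors `E i` acting on planes `[V, E i]`. -/
theorem ff_assemble {G : Type*} [Group G] {ι : Type*} [Finite ι] (V H : Subgroup G)
    (E : ι → Subgroup G)
    (hVcomm : ∀ u ∈ V, ∀ v ∈ V, u * v = v * u)
    (hHV : H ≤ Subgroup.normalizer (V : Set G))
    (hEH : ∀ i, E i ≤ H)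
    (h4 : ∀ i, ⁅V, E i⁆ ⊓ (V ⊓ Subgroup.centralizer (E i : Set G)) = ⊥)
    (h5 : ∀ i, ⁅V, E i⁆ ⊔ (V ⊓ Subgroup.centralizer (E i : Set G)) = V)
    (h7 : ∀ i, E i ⊓ (H ⊓ Subgroup.centralizer ((⁅V, E i⁆ : Subgroup G) : Set G)) = ⊥)
    (h9 : ∀ i, ⁅V, H ⊓ Subgroup.centralizer ((⁅V, E i⁆ : Subgroup G) : Set G)⁆ ≤
      V ⊓ Subgroup.centralizer (E i : Set G))
    (hne : ∀ i j, i ≠ j →
      E j ≤ H ⊓ Subgroup.centralizer ((⁅V, E i⁆ : Subgroup G) : Set G))
    (hgen : H ≤ ⨆ i, E i) :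
    iSupIndep E ∧
    iSupIndep (fun o : Option ι =>
      o.elim (V ⊓ Subgroup.centralizer (H : Set G)) (fun i => ⁅V, E i⁆)) ∧
    (V ⊓ Subgroup.centralizer (H : Set G)) ⊔ (⨆ i, ⁅V, E i⁆) = V := by
  classical
  have := Fintype.ofFinite ι
  have hWV : ∀ i, ⁅V, E i⁆ ≤ V := fun i => comm_le_left V (E i) ((hEH i).trans hHV)
  have hWC : ∀ i j, i ≠ j → ⁅V, E j⁆ ≤ V ⊓ Subgroup.centralizer (E i : Set G) := fun i j h =>
    (Subgroup.commutator_mono le_rfl (hne i j h)).trans (h9 i)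
  have hcentnorm : ∀ X Y : Subgroup G, X ≤ V → Y ≤ V →
      X ≤ Subgroup.normalizer (Y : Set G) := by
    intro X Y hX hY
    refine le_trans ?_ (Subgroup.centralizer_le_normalizer _)
    intro w hw
    rw [Subgroup.mem_centralizer_iff]
    intro c hc
    exact hVcomm c (hY hc) w (hX hw)
  have Q : ∀ T : Finset ι,
      (∀ v ∈ ⨆ i ∈ T, ⁅V, E i⁆, (∀ i ∈ T, v ∈ Subgroup.centralizer (E i : Set G)) → v = 1) ∧
      (∀ v ∈ V, ∃ m ∈ ⨆ i ∈ T, ⁅V, E i⁆, ∃ c ∈ V,
        (∀ i ∈ T, c ∈ Subgroup.centralizer (E i : Set G)) ∧ v = m * c) := by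
    intro T
    induction T using Finset.induction_on with
    | empty =>
      constructor
      · intro v hv _
        simpa using hv
      · intro v hv
        exact ⟨1, Subgroup.one_mem _, v, hv, by simp, by simp⟩
    | insert a T haT ih =>
      obtain ⟨ih1, ih2⟩ := ih
      have hMV : (⨆ i ∈ T, ⁅V, E i⁆) ≤ V := iSup₂_le (fun i _ => hWV i)
      have hMC : (⨆ i ∈ T, ⁅V, E i⁆) ≤ V ⊓ Subgroup.centralizer (E a : Set G) :=
        iSup₂_le (fun i hi => hWC a i (fun h => haT (h ▸ hi)))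
      rw [Finset.iSup_insert]
      constructor
      · intro v hv hvC
        obtain ⟨w, hw, m, hm, hvmw⟩ :=
          mem_sup_of_le_normalizer _ _ (hcentnorm _ _ (hWV a) hMV) v hv
        have hwC : w ∈ Subgroup.centralizer (E a : Set G) := by
          have e : w = m⁻¹ * v := by rw [hvmw]; group
          rw [e]
          exact Subgroup.mul_mem _ (Subgroup.inv_mem _ (Subgroup.mem_inf.mp (hMC hm)).2)
            (hvC a (Finset.mem_insert_self a T))
        have hw1 : w = 1 := by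
          have hmem : w ∈ ⁅V, E a⁆ ⊓ (V ⊓ Subgroup.centralizer (E a : Set G)) :=
            Subgroup.mem_inf.mpr ⟨hw, Subgroup.mem_inf.mpr ⟨hWV a hw, hwC⟩⟩
          rw [h4 a] at hmem
          exact Subgroup.mem_bot.mp hmem
        rw [hw1, mul_one] at hvmw
        rw [hvmw]
        apply ih1 m hm
        intro i hi
        rw [← hvmw]
        exact hvC i (Finset.mem_insert_of_mem hi)
      · intro v hv
        obtain ⟨m, hm, c, hcV, hcC, hvmc⟩ := ih2 v hv
        have hc' : c ∈ ⁅V, E a⁆ ⊔ (V ⊓ Subgroup.centralizer (E a : Set G)) := by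
          rw [h5 a]; exact hcV
        obtain ⟨w, hw, c', hc'm, hcw⟩ :=
          mem_sup_of_le_normalizer _ _ (hcentnorm _ _ (hWV a) inf_le_left) c hc'
        obtain ⟨hc'V, hc'C⟩ := Subgroup.mem_inf.mp hc'm
        refine ⟨m * w, ?_, c', hc'V, ?_, ?_⟩
        · exact Subgroup.mul_mem _ ((le_sup_right : _ ≤ ⁅V, E a⁆ ⊔ ⨆ i ∈ T, ⁅V, E i⁆) hm)
            ((le_sup_left : _ ≤ ⁅V, E a⁆ ⊔ ⨆ i ∈ T, ⁅V, E i⁆) hw)
        · intro i hi
          rcases Finset.mem_insert.mp hi with rfl | hiT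
          · exact hc'C
          · have hia : i ≠ a := fun h => haT (h ▸ hiT)
            have e : c' = c * w⁻¹ := by rw [hcw]; group
            rw [e]
            exact Subgroup.mul_mem _ (hcC i hiT)
              (Subgroup.inv_mem _ (Subgroup.mem_inf.mp (hWC i a hia hw)).2)
        · rw [hvmc, hcw, hVcomm c' hc'V w (hWV a hw), mul_assoc]
  obtain ⟨Q1, Q2⟩ := Q Finset.univ
  have hMuniv : (⨆ i ∈ (Finset.univ : Finset ι), ⁅V, E i⁆) = ⨆ i, ⁅V, E i⁆ := by simp
  rw [hMuniv] at Q1 Q2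
  refine ⟨?_, ?_, ?_⟩
  · intro i
    rw [disjoint_iff, eq_bot_iff, ← h7 i]
    exact inf_le_inf_left _ (iSup₂_le (fun j hj => hne i j (Ne.symm hj)))
  · intro o
    cases o with
    | none =>
      rw [disjoint_iff, eq_bot_iff]
      intro v hv
      obtain ⟨hv1, hv2⟩ := Subgroup.mem_inf.mp hv
      have hv2' : v ∈ ⨆ i, ⁅V, E i⁆ := by
        refine (iSup₂_le ?_ : _ ≤ ⨆ i, ⁅V, E i⁆) hv2
        intro o' ho'
        cases o' with
        | none => exact absurd rfl ho'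
        | some j => exact le_iSup (fun i => ⁅V, E i⁆) j
      rw [Subgroup.mem_bot]
      apply Q1 v hv2'
      intro i _
      exact Subgroup.centralizer_le (hEH i) (Subgroup.mem_inf.mp hv1).2
    | some i =>
      rw [disjoint_iff, eq_bot_iff, ← h4 i]
      refine inf_le_inf_left _ (iSup₂_le ?_)
      intro o' ho'
      cases o' with
      | none => exact inf_le_inf_left V (Subgroup.centralizer_le (hEH i))
      | some j =>
        have hji : i ≠ j := fun h => ho' (by rw [h])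
        exact hWC i j hji
  · apply le_antisymm (sup_le inf_le_left (iSup_le hWV))
    intro v hv
    obtain ⟨m, hm, c, hcV, hcC, hvmc⟩ := Q2 v hv
    rw [hvmc]
    refine Subgroup.mul_mem _ ((le_sup_right : _ ≤ (V ⊓ Subgroup.centralizer (H : Set G)) ⊔
      ⨆ i, ⁅V, E i⁆) hm) ((le_sup_left : _ ≤ (V ⊓ Subgroup.centralizer (H : Set G)) ⊔
      ⨆ i, ⁅V, E i⁆) (Subgroup.mem_inf.mpr ⟨hcV, ?_⟩))
    have hS : H ≤ Subgroup.centralizer ({c} : Set G) := by
      refine hgen.trans (iSup_le ?_)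
      intro i y hy
      rw [Subgroup.mem_centralizer_iff]
      intro z hz
      rw [Set.mem_singleton_iff.mp hz]
      exact ((Subgroup.mem_centralizer_iff.mp (hcC i (Finset.mem_univ i))) y hy).symm
    rw [Subgroup.mem_centralizer_iff]
    intro y hy
    have := hS hy
    rw [Subgroup.mem_centralizer_iff] at this
    exact (this c rfl).symm

/-- The structure theorem for failure of factorization, for an abstract index predicate. -/
theorem ff_structure_abs {G : Type*} [Group G] [Finite G] {p : ℕ} [Fact p.Prime]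
    (V K H : Subgroup G)
    (hVcomm : ∀ u ∈ V, ∀ v ∈ V, u * v = v * u) (hVpow : ∀ v ∈ V, v ^ p = 1)
    (hHV : H ≤ Subgroup.normalizer (V : Set G))
    (hf : H ⊓ Subgroup.centralizer (V : Set G) = ⊥)
    (hKH : K ≤ H) (hKc : (Nat.card K).Coprime p) (hHK : H ≤ Subgroup.normalizer (K : Set G))
    (hKf : ∀ P : Subgroup G, P ≤ H → IsPGroup p P →
      P ⊓ Subgroup.centralizer (K : Set G) = ⊥)
    (hgenH : ∀ S : Subgroup G, (∀ B : Subgroup G, B ≤ H → Nat.card B = p →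
      Nat.card ↥(⁅V, B⁆) = p → B ≤ S) → H ≤ S)
    (P : Subgroup G → Prop)
    (hP : ∀ E, P E → ∃ A : Subgroup G, A ≤ H ∧ Nat.card A = p ∧ Nat.card ↥(⁅V, A⁆) = p ∧
      E = ⁅K, A⁆ ⊔ A)
    (hPgen : H ≤ ⨆ E : {E : Subgroup G // P E}, (E : Subgroup G))
    (hH1 : H ≠ ⊥) :
    (p = 2 ∨ p = 3) ∧
    (∀ E : {E : Subgroup G // P E},
      H ≤ Subgroup.normalizer ((E : Subgroup G) : Set G) ∧
      Nonempty (↥(E : Subgroup G) ≃* Matrix.SpecialLinearGroup (Fin 2) (ZMod p)) ∧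
      Nat.card ↥(⁅V, (E : Subgroup G)⁆) = p ^ 2) ∧
    iSupIndep (fun E : {E : Subgroup G // P E} => (E : Subgroup G)) ∧
    (⨆ E : {E : Subgroup G // P E}, (E : Subgroup G)) = H ∧
    iSupIndep (fun o : Option {E : Subgroup G // P E} =>
      o.elim (V ⊓ Subgroup.centralizer (H : Set G)) (fun E => ⁅V, (E : Subgroup G)⁆)) ∧
    (V ⊓ Subgroup.centralizer (H : Set G)) ⊔
      (⨆ E : {E : Subgroup G // P E}, ⁅V, (E : Subgroup G)⁆) = V := by
  classical
  have hp := (Fact.out : p.Prime)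
  have hfacts : ∀ E, P E →
      (p = 2 ∨ p = 3) ∧
      Nonempty (↥E ≃* Matrix.SpecialLinearGroup (Fin 2) (ZMod p)) ∧
      Nat.card ↥(⁅V, E⁆) = p ^ 2 ∧
      ⁅V, E⁆ ⊓ (V ⊓ Subgroup.centralizer (E : Set G)) = ⊥ ∧
      ⁅V, E⁆ ⊔ (V ⊓ Subgroup.centralizer (E : Set G)) = V ∧
      ⁅E, H ⊓ Subgroup.centralizer ((⁅V, E⁆ : Subgroup G) : Set G)⁆ = ⊥ ∧
      E ⊓ (H ⊓ Subgroup.centralizer ((⁅V, E⁆ : Subgroup G) : Set G)) = ⊥ ∧
      E ⊔ (H ⊓ Subgroup.centralizer ((⁅V, E⁆ : Subgroup G) : Set G)) = H ∧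
      ⁅V, H ⊓ Subgroup.centralizer ((⁅V, E⁆ : Subgroup G) : Set G)⁆ ≤
        V ⊓ Subgroup.centralizer (E : Set G) ∧
      H ≤ Subgroup.normalizer (E : Set G) ∧
      (∀ B' : Subgroup G, B' ≤ H → Nat.card B' = p → Nat.card ↥(⁅V, B'⁆) = p →
        B' ≤ E ∨ B' ≤ H ⊓ Subgroup.centralizer ((⁅V, E⁆ : Subgroup G) : Set G)) := by
    intro E hE
    obtain ⟨A, hAH, hAp, hVA, rfl⟩ := hP E hE
    exact ff_struct_single V K H A hVcomm hVpow hHV hf hKH hKc hHK hKf hgenH hAH hAp hVA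
  have hEH : ∀ E, P E → E ≤ H := by
    intro E hE
    obtain ⟨-, -, -, -, -, -, -, c8, -, -, -⟩ := hfacts E hE
    exact le_sup_left.trans_eq c8
  have hpair : ∀ E E', P E → P E' → E ≠ E' →
      E' ≤ H ⊓ Subgroup.centralizer ((⁅V, E⁆ : Subgroup G) : Set G) := by
    intro E E' hE hE' hEE'
    obtain ⟨-, ⟨e⟩, -, -, -, -, -, -, -, c10, c12⟩ := hfacts E hE
    obtain ⟨-, ⟨e'⟩, -, -, -, -, -, -, -, -, -⟩ := hfacts E' hE'
    obtain ⟨A', hA'H, hA'p, hVA', hE'def⟩ := hP E' hE'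
    have hHW : H ≤ Subgroup.normalizer ((⁅V, E⁆ : Subgroup G) : Set G) := fun h hh =>
      comm_normalizer V E h (hHV hh) (c10 hh)
    have hFn : H ≤ Subgroup.normalizer
        ((H ⊓ Subgroup.centralizer ((⁅V, E⁆ : Subgroup G) : Set G) : Subgroup G) : Set G) := by
      intro h hh
      refine inf_mem_normalizer H _ h (Subgroup.le_normalizer hh) ?_
      apply mem_normalizer_of_conj'
      intro c hc
      exact conj_mem_centralizer _ h c (hHW hh) hc
    have hclose : ∀ Z : Subgroup G, H ≤ Subgroup.normalizer (Z : Set G) → A' ≤ Z → E' ≤ Z := by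
      intro Z hZ hA'Z
      rw [hE'def]
      refine sup_le ?_ hA'Z
      rw [Subgroup.commutator_le]
      intro k hk a ha
      rw [commutatorElement_def]
      exact Z.mul_mem ((Subgroup.mem_normalizer_iff.mp (hZ (hKH hk)) a).mp (hA'Z ha))
        (Z.inv_mem (hA'Z ha))
    rcases c12 A' hA'H hA'p hVA' with h | h
    · exfalso
      have hle : E' ≤ E := hclose E c10 h
      have hcard : Nat.card E ≤ Nat.card E' := by
        rw [Nat.card_congr e.toEquiv, Nat.card_congr e'.toEquiv]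
      exact hEE' (Subgroup.eq_of_le_of_card_ge hle hcard).symm
    · exact hclose _ hFn h
  have hasm := ff_assemble V H (fun E : {E : Subgroup G // P E} => (E : Subgroup G)) hVcomm hHV
    (fun E => hEH E.1 E.2)
    (fun E => (hfacts E.1 E.2).2.2.2.1)
    (fun E => (hfacts E.1 E.2).2.2.2.2.1)
    (fun E => (hfacts E.1 E.2).2.2.2.2.2.2.1)
    (fun E => (hfacts E.1 E.2).2.2.2.2.2.2.2.2.1)
    (fun E E' h => hpair E.1 E'.1 E.2 E'.2 (fun h' => h (Subtype.ext h')))
    hPgen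
  obtain ⟨a1, a2, a3⟩ := hasm
  refine ⟨?_, ?_, a1, ?_, a2, a3⟩
  · by_cases hne : Nonempty {E : Subgroup G // P E}
    · obtain ⟨E⟩ := hne
      exact (hfacts E.1 E.2).1
    · exfalso
      apply hH1
      rw [eq_bot_iff]
      refine hPgen.trans (iSup_le ?_)
      intro E
      exact absurd ⟨E⟩ hne
  · intro E
    obtain ⟨-, c2, c3, -, -, -, -, -, -, c10, -⟩ := hfacts E.1 E.2
    exact ⟨c10, c2, c3⟩
  · exact le_antisymm (iSup_le (fun E => hEH E.1 E.2)) hPgen

end Cfsg.Agent.Helper21
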