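import Mathlib
import Cfsg.Prelude.Def_PLocal
import Cfsg.Agent.Helper21.FFStruct3

set_option autoImplicit false
set_option linter.style.haveILetI false

namespace Cfsg.Agent.Helper21

universe u

/-- Realizing the action of `G` on a normal subgroup `V` faithfully inside a finite group. -/
theorem holo_exists {G : Type u} [Group G] [Finite G] (V : Subgroup G) [V.Normal] :
    ∃ (Γ : Type u) (_ : Group Γ) (_ : Finite Γ) (ψ : G →* Γ) (ι : ↥V →* Γ),
      Function.Injective ι ∧
      (∀ (g : G) (v : ↥V), ψ g * ι v * (ψ g)⁻¹ = ι (MulAut.conjNormal g v)) ∧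
      ψ.ker = Subgroup.centralizer (V : Set G) := by
  have hfin : Finite (↥V ⋊[MonoidHom.id (MulAut ↥V)] MulAut ↥V) :=
    Finite.of_equiv (↥V × MulAut ↥V) SemidirectProduct.equivProd.symm
  refine ⟨↥V ⋊[MonoidHom.id (MulAut ↥V)] MulAut ↥V, inferInstance, hfin,
    (SemidirectProduct.inr).comp MulAut.conjNormal, SemidirectProduct.inl,
    SemidirectProduct.inl_injective, ?_, ?_⟩
  · intro g v
    have := SemidirectProduct.inl_aut (φ := MonoidHom.id (MulAut ↥V)) (MulAut.conjNormal g) v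
    rw [MonoidHom.comp_apply, ← map_inv]
    exact this.symm
  · ext g
    rw [MonoidHom.mem_ker, MonoidHom.comp_apply, Subgroup.mem_centralizer_iff]
    constructor
    · intro h v hv
      have h1 : MulAut.conjNormal (H := V) g = 1 :=
        SemidirectProduct.inr_injective (by rw [h, map_one])
      have h2 : (MulAut.conjNormal g) (⟨v, hv⟩ : ↥V) = ⟨v, hv⟩ := by rw [h1]; rfl
      have h3 := congrArg Subtype.val h2
      rw [MulAut.conjNormal_apply] at h3
      have h4 : g * v * g⁻¹ = v := h3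
      calc v * g = (g * v * g⁻¹) * g := by rw [h4]
        _ = g * v := by group
    · intro h
      have h1 : MulAut.conjNormal (H := V) g = 1 := by
        ext v
        rw [MulAut.conjNormal_apply]
        have := h v v.2
        show g * (v : G) * g⁻¹ = v
        rw [← this]; group
      rw [h1, map_one]

section bridge

variable {G Γ : Type*} [Group G] [Group Γ] (V : Subgroup G) [V.Normal] (ψ : G →* Γ)
  (ι : ↥V →* Γ)

theorem bridge_fix (hι : Function.Injective ι)
    (heq : ∀ (g : G) (v : ↥V), ψ g * ι v * (ψ g)⁻¹ = ι (MulAut.conjNormal g v))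
    (g : G) (v : ↥V) : ψ g * ι v = ι v * ψ g ↔ g * (v : G) = v * g := by
  constructor
  · intro h
    have h1 : ι (MulAut.conjNormal g v) = ι v := by
      rw [← heq, h]; group
    have h2 := congrArg Subtype.val (hι h1)
    rw [MulAut.conjNormal_apply] at h2
    calc g * (v : G) = (g * v * g⁻¹) * g := by group
      _ = v * g := by rw [h2]
  · intro h
    have h1 : MulAut.conjNormal g v = v := by
      apply Subtype.ext
      rw [MulAut.conjNormal_apply, h]; group
    have h2 := heq g v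
    rw [h1] at h2
    calc ψ g * ι v = (ψ g * ι v * (ψ g)⁻¹) * ψ g := by group
      _ = ι v * ψ g := by rw [h2]

theorem bridge_cent_card (hι : Function.Injective ι)
    (heq : ∀ (g : G) (v : ↥V), ψ g * ι v * (ψ g)⁻¹ = ι (MulAut.conjNormal g v))
    (B : Subgroup G) :
    Nat.card ↥(ι.range ⊓ Subgroup.centralizer ((B.map ψ : Subgroup Γ) : Set Γ)) =
      Nat.card ↥(V ⊓ Subgroup.centralizer (B : Set G)) := by
  have hset : ι.range ⊓ Subgroup.centralizer ((B.map ψ : Subgroup Γ) : Set Γ) =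
      ((V ⊓ Subgroup.centralizer (B : Set G)).subgroupOf V).map ι := by
    ext y
    constructor
    · intro hy
      obtain ⟨⟨v, rfl⟩, hyC⟩ := Subgroup.mem_inf.mp hy
      refine ⟨v, ?_, rfl⟩
      rw [SetLike.mem_coe, Subgroup.mem_subgroupOf]
      refine Subgroup.mem_inf.mpr ⟨v.2, ?_⟩
      rw [Subgroup.mem_centralizer_iff]
      intro b hb
      rw [Subgroup.mem_centralizer_iff] at hyC
      exact (bridge_fix V ψ ι hι heq b v).mp (hyC (ψ b) ⟨b, hb, rfl⟩)
    · rintro ⟨v, hv, rfl⟩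
      rw [SetLike.mem_coe, Subgroup.mem_subgroupOf] at hv
      obtain ⟨-, hvC⟩ := Subgroup.mem_inf.mp hv
      refine Subgroup.mem_inf.mpr ⟨⟨v, rfl⟩, ?_⟩
      rw [Subgroup.mem_centralizer_iff]
      rintro _ ⟨b, hb, rfl⟩
      rw [Subgroup.mem_centralizer_iff] at hvC
      exact (bridge_fix V ψ ι hι heq b v).mpr (hvC b hb)
  rw [hset, Subgroup.card_map_of_injective hι]
  exact Nat.card_congr (Subgroup.subgroupOfEquivOfLe inf_le_left).toEquiv

theorem bridge_card_map (A : Subgroup G) :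
    Nat.card A = Nat.card ↥(A ⊓ ψ.ker) * Nat.card ↥(A.map ψ) := by
  have h1 := Subgroup.card_mul_index (ψ.ker.subgroupOf A)
  have h2 : (ψ.ker.subgroupOf A).index = Nat.card ↥(A.map ψ) := Subgroup.relIndex_ker A ψ
  have h3 : Nat.card ↥(ψ.ker.subgroupOf A) = Nat.card ↥(A ⊓ ψ.ker) := by
    rw [← Subgroup.inf_subgroupOf_left]
    exact Nat.card_congr (Subgroup.subgroupOfEquivOfLe inf_le_left).toEquiv
  rw [h2, h3] at h1
  exact h1.symm

theorem bridge_bo [Finite G] {p : ℕ} (hι : Function.Injective ι)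
    (heq : ∀ (g : G) (v : ↥V), ψ g * ι v * (ψ g)⁻¹ = ι (MulAut.conjNormal g v))
    (hker : ψ.ker = Subgroup.centralizer (V : Set G))
    (A : Subgroup G) (hA : Cfsg.IsBestOffenderOn p V A) :
    Cfsg.IsBestOffenderOn p ι.range (A.map ψ) := by
  obtain ⟨h1, h2, h3⟩ := hA
  refine ⟨?_, ?_, ?_⟩
  · intro B' hB'
    have hBmap : (A ⊓ B'.comap ψ).map ψ = B' := by
      ext y
      constructor
      · rintro ⟨b, hb, rfl⟩
        exact (Subgroup.mem_inf.mp hb).2
      · intro hy
        obtain ⟨a, ha, rfl⟩ := hB' hy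
        exact ⟨a, Subgroup.mem_inf.mpr ⟨ha, hy⟩, rfl⟩
    have hBker : (A ⊓ B'.comap ψ) ⊓ ψ.ker = A ⊓ ψ.ker := by
      rw [inf_assoc]
      congr 1
      apply inf_eq_right.mpr
      intro x hx
      show ψ x ∈ B'
      rw [MonoidHom.mem_ker.mp hx]; exact B'.one_mem
    have hle := h1 (A ⊓ B'.comap ψ) inf_le_left
    have c1 := bridge_card_map ψ (A ⊓ B'.comap ψ)
    have c2 := bridge_card_map ψ A
    rw [hBmap, hBker] at c1
    have c3 := bridge_cent_card V ψ ι hι heq (A ⊓ B'.comap ψ)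
    rw [hBmap] at c3
    have c4 := bridge_cent_card V ψ ι hι heq A
    rw [c3, c4]
    rw [c1, c2] at hle
    have hpos : 0 < Nat.card ↥(A ⊓ ψ.ker) := Nat.card_pos
    have hle' : Nat.card ↥(A ⊓ ψ.ker) * (Nat.card ↥B' *
        Nat.card ↥(V ⊓ Subgroup.centralizer ((A ⊓ B'.comap ψ : Subgroup G) : Set G))) ≤
        Nat.card ↥(A ⊓ ψ.ker) * (Nat.card ↥(A.map ψ) *
        Nat.card ↥(V ⊓ Subgroup.centralizer (A : Set G))) := by
      rw [← mul_assoc, ← mul_assoc]; exact hle
    exact Nat.le_of_mul_le_mul_left hle' hpos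
  · rw [← Subgroup.map_commutator]
    have : (⁅A, A⁆).map ψ = ⊥ := by
      rw [Subgroup.map_eq_bot_iff, hker]; exact h2
    rw [this]; exact bot_le
  · rintro _ ⟨a, ha, rfl⟩
    have : ψ a ^ p = 1 := by
      rw [← map_pow, ← MonoidHom.mem_ker, hker]; exact h3 a ha
    rw [this]; exact Subgroup.one_mem _

end bridge

end Cfsg.Agent.Helper21
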