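import Mathlib
import Cfsg.Agent.Helper21.FFStruct2
import Cfsg.Agent.S0611
import Cfsg.Agent.S0612

set_option autoImplicit false
set_option linter.style.haveILetI false

namespace Cfsg.Agent.Helper21

/-- In the failure-of-factorization setting, `H` is generated by its transvection subgroups of
order `p`. -/
theorem ff_gen {G : Type*} [Group G] [Finite G] {p : ℕ} [Fact p.Prime] (V H : Subgroup G)
    (hV : Cfsg.IsElementaryAbelian p V) (hHV : H ≤ Subgroup.normalizer (V : Set G))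
    (hf : H ⊓ Subgroup.centralizer (V : Set G) = ⊥)
    (hS1 : Subgroup.centralizer (Cfsg.pPrimeCore p ↥H : Set ↥H) ≤ Cfsg.pPrimeCore p ↥H)
    (hS3 : H = ⨆ A : {A : Subgroup G // A ≤ H ∧ Cfsg.IsBestOffenderOn p V A}, (A : Subgroup G))
    (hH1 : H ≠ ⊥) :
    ∀ S : Subgroup G, (∀ B : Subgroup G, B ≤ H → Nat.card B = p →
      Nat.card ↥(⁅V, B⁆) = p → B ≤ S) → H ≤ S := by
  intro S hS
  have key : (⨆ A : {A : Subgroup G // A ≤ H ∧ Cfsg.IsBestOffenderOn p V A}, (A : Subgroup G))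
      ≤ S := by
    apply iSup_le
    rintro ⟨A, hAH, hA⟩
    by_cases hA1 : A = ⊥
    · show A ≤ S
      rw [hA1]; exact bot_le
    · obtain ⟨k, B, hB, -, hsup⟩ :=
        Cfsg.Agent.S0612.result V H hV hHV hf hS1 hS3 hH1 A hAH hA hA1
      show A ≤ S
      rw [← hsup]
      apply iSup_le
      intro i
      obtain ⟨h1, h2, h3, h4⟩ := hB i
      obtain ⟨c1, c2, -⟩ :=
        Cfsg.Agent.S0611.result V H hV hHV hf hS1 hS3 hH1 (B i) (h1.trans hAH) h2 h3 h4
      exact hS (B i) (h1.trans hAH) c1 c2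
  exact hS3.le.trans key

end Cfsg.Agent.Helper21
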