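import Mathlib
import Cfsg.Agent.Helper21.FFStruct3

set_option autoImplicit false
set_option linter.style.haveILetI false

open scoped IsMulCommutative

namespace Cfsg.Agent.Helper21

/-- Product of the pairwise commuting `Ξ`-conjugates of an element `y`. -/
theorem norm_exists {G : Type*} [Group G] [Finite G] (Ξ S M : Subgroup G) (y : G)
    (hcomm : ∀ ξ ∈ Ξ, ∀ η ∈ Ξ,
      (ξ * y * ξ⁻¹) * (η * y * η⁻¹) = (η * y * η⁻¹) * (ξ * y * ξ⁻¹))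
    (hS : ∀ ξ ∈ Ξ, ξ ∈ S → ξ * y * ξ⁻¹ = y)
    (hM : ∀ ξ ∈ Ξ, ξ ∉ S → ξ * y * ξ⁻¹ ∈ M) :
    ∃ n f : G, n ∈ Subgroup.closure {z : G | ∃ ξ ∈ Ξ, z = ξ * y * ξ⁻¹} ∧
      (∀ η ∈ Ξ, η * n * η⁻¹ = n) ∧ f ∈ M ∧
      n = y ^ (Nat.card ↥(S.subgroupOf Ξ)) * f := by
  classical
  have := Fintype.ofFinite ↥Ξ
  obtain ⟨B, hBdef⟩ : ∃ B : Subgroup G,
      B = Subgroup.closure {z : G | ∃ ξ ∈ Ξ, z = ξ * y * ξ⁻¹} := ⟨_, rfl⟩
  have hBc : IsMulCommutative B := by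
    rw [hBdef]
    apply Subgroup.isMulCommutative_closure
    rintro _ ⟨ξ, hξ, rfl⟩ _ ⟨η, hη, rfl⟩
    exact hcomm ξ hξ η hη
  have hmemB : ∀ ξ : ↥Ξ, (ξ : G) * y * (ξ : G)⁻¹ ∈ B := by
    intro ξ; rw [hBdef]; exact Subgroup.subset_closure ⟨ξ, ξ.2, rfl⟩
  have hyB : y ∈ B := by
    have := hmemB 1
    simpa using this
  have hBnorm : ∀ η ∈ Ξ, η ∈ Subgroup.normalizer (B : Set G) := by
    intro η hη
    apply mem_normalizer_of_conj'
    have hle : B ≤ B.comap (MulAut.conj η).toMonoidHom := by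
      conv_lhs => rw [hBdef]
      rw [Subgroup.closure_le]
      rintro _ ⟨ξ, hξ, rfl⟩
      show η * (ξ * y * ξ⁻¹) * η⁻¹ ∈ B
      have := hmemB ⟨η * ξ, Ξ.mul_mem hη hξ⟩
      have e : η * (ξ * y * ξ⁻¹) * η⁻¹ = (η * ξ) * y * (η * ξ)⁻¹ := by group
      rw [e]; exact this
    intro z hz
    exact hle hz
  rw [← hBdef]
  -- the product
  let b : ↥Ξ → ↥B := fun ξ => ⟨(ξ : G) * y * (ξ : G)⁻¹, hmemB ξ⟩
  refine ⟨((∏ ξ : ↥Ξ, b ξ : ↥B) : G), ?_⟩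
  -- fixedness
  have hfix : ∀ η ∈ Ξ, η * ((∏ ξ : ↥Ξ, b ξ : ↥B) : G) * η⁻¹ = ((∏ ξ : ↥Ξ, b ξ : ↥B) : G) := by
    intro η hη
    let c : ↥B ≃* ↥B := B.normalizerMonoidHom ⟨η, hBnorm η hη⟩
    have hc : ∀ z : ↥B, ((c z : ↥B) : G) = η * z * η⁻¹ := fun z => rfl
    rw [← hc, map_prod]
    congr 1
    have hb : ∀ ξ : ↥Ξ, c (b ξ) = b (Equiv.mulLeft (⟨η, hη⟩ : ↥Ξ) ξ) := by
      intro ξ
      apply Subtype.ext
      rw [hc]
      show η * ((ξ : G) * y * (ξ : G)⁻¹) * η⁻¹ = (η * (ξ : G)) * y * (η * (ξ : G))⁻¹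
      group
    simp_rw [hb]
    exact Equiv.prod_comp (Equiv.mulLeft (⟨η, hη⟩ : ↥Ξ)) b
  -- the split
  have hsplit := Finset.prod_filter_mul_prod_filter_not (Finset.univ : Finset ↥Ξ)
    (fun ξ : ↥Ξ => (ξ : G) ∈ S) b
  have h1 : (∏ ξ ∈ Finset.univ.filter (fun ξ : ↥Ξ => (ξ : G) ∈ S), b ξ)
      = (⟨y, hyB⟩ : ↥B) ^ (Nat.card ↥(S.subgroupOf Ξ)) := by
    have hconst : ∀ ξ ∈ Finset.univ.filter (fun ξ : ↥Ξ => (ξ : G) ∈ S), b ξ = (⟨y, hyB⟩ : ↥B) := by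
      intro ξ hξ
      apply Subtype.ext
      exact hS ξ ξ.2 (Finset.mem_filter.mp hξ).2
    rw [Finset.prod_congr rfl hconst, Finset.prod_const]
    congr 1
    rw [Nat.card_eq_fintype_card, Fintype.card_subtype]
    rfl
  have h2 : (∏ ξ ∈ Finset.univ.filter (fun ξ : ↥Ξ => ¬ (ξ : G) ∈ S), b ξ) ∈ M.subgroupOf B := by
    apply Subgroup.prod_mem
    intro ξ hξ
    rw [Subgroup.mem_subgroupOf]
    exact hM ξ ξ.2 (Finset.mem_filter.mp hξ).2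
  refine ⟨((∏ ξ ∈ Finset.univ.filter (fun ξ : ↥Ξ => ¬ (ξ : G) ∈ S), b ξ : ↥B) : G),
    Subtype.mem _, hfix, Subgroup.mem_subgroupOf.mp h2, ?_⟩
  rw [← hsplit, h1]
  rfl

/-- A conjugate of the factor `E = [K, A] A` by an element normalizing `V, H, K` is either `E`
itself or lies in `C_H([V, E])`. -/
theorem ff_conj_dichotomy {G : Type*} [Group G] [Finite G] {p : ℕ} [Fact p.Prime]
    (V K H A : Subgroup G)
    (hVcomm : ∀ u ∈ V, ∀ v ∈ V, u * v = v * u) (hVpow : ∀ v ∈ V, v ^ p = 1)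
    (hHV : H ≤ Subgroup.normalizer (V : Set G))
    (hf : H ⊓ Subgroup.centralizer (V : Set G) = ⊥)
    (hKH : K ≤ H) (hKc : (Nat.card K).Coprime p) (hHK : H ≤ Subgroup.normalizer (K : Set G))
    (hKf : ∀ P : Subgroup G, P ≤ H → IsPGroup p P →
      P ⊓ Subgroup.centralizer (K : Set G) = ⊥)
    (hgenH : ∀ S : Subgroup G, (∀ B : Subgroup G, B ≤ H → Nat.card B = p →
      Nat.card ↥(⁅V, B⁆) = p → B ≤ S) → H ≤ S)
    (hAH : A ≤ H) (hAp : Nat.card A = p) (hVA : Nat.card ↥(⁅V, A⁆) = p)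
    (ξ : G) (hξV : ξ ∈ Subgroup.normalizer (V : Set G))
    (hξH : ξ ∈ Subgroup.normalizer (H : Set G)) (hξK : ξ ∈ Subgroup.normalizer (K : Set G)) :
    (⁅K, A⁆ ⊔ A).map (MulAut.conj ξ).toMonoidHom = ⁅K, A⁆ ⊔ A ∨
    (⁅K, A⁆ ⊔ A).map (MulAut.conj ξ).toMonoidHom ≤
      H ⊓ Subgroup.centralizer ((⁅V, ⁅K, A⁆ ⊔ A⁆ : Subgroup G) : Set G) := by
  obtain ⟨-, -, -, -, -, -, -, -, -, c10, c12⟩ :=
    ff_struct_single V K H A hVcomm hVpow hHV hf hKH hKc hHK hKf hgenH hAH hAp hVA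
  have hA'H : A.map (MulAut.conj ξ).toMonoidHom ≤ H := by
    rintro _ ⟨a, ha, rfl⟩
    exact (Subgroup.mem_normalizer_iff.mp hξH a).mp (hAH ha)
  obtain ⟨hc1, hc2⟩ := card_conj_facts V A ξ hξV
  have hmap : (⁅K, A⁆ ⊔ A).map (MulAut.conj ξ).toMonoidHom =
      ⁅K, A.map (MulAut.conj ξ).toMonoidHom⁆ ⊔ A.map (MulAut.conj ξ).toMonoidHom := by
    rw [Subgroup.map_sup, Subgroup.map_commutator, map_conj_eq_self K ξ hξK]
  have hHW : H ≤ Subgroup.normalizer ((⁅V, ⁅K, A⁆ ⊔ A⁆ : Subgroup G) : Set G) := fun h hh =>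
    comm_normalizer V _ h (hHV hh) (c10 hh)
  have hFn : H ≤ Subgroup.normalizer
      ((H ⊓ Subgroup.centralizer ((⁅V, ⁅K, A⁆ ⊔ A⁆ : Subgroup G) : Set G) : Subgroup G) :
        Set G) := by
    intro h hh
    refine inf_mem_normalizer H _ h (Subgroup.le_normalizer hh) ?_
    apply mem_normalizer_of_conj'
    intro c hc
    exact conj_mem_centralizer _ h c (hHW hh) hc
  have hclose : ∀ Z : Subgroup G, H ≤ Subgroup.normalizer (Z : Set G) →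
      A.map (MulAut.conj ξ).toMonoidHom ≤ Z →
      ⁅K, A.map (MulAut.conj ξ).toMonoidHom⁆ ⊔ A.map (MulAut.conj ξ).toMonoidHom ≤ Z := by
    intro Z hZ hA'Z
    refine sup_le ?_ hA'Z
    rw [Subgroup.commutator_le]
    intro k hk a ha
    rw [commutatorElement_def]
    exact Z.mul_mem ((Subgroup.mem_normalizer_iff.mp (hZ (hKH hk)) a).mp (hA'Z ha))
      (Z.inv_mem (hA'Z ha))
  rcases c12 _ hA'H (hc1.trans hAp) (hc2.trans hVA) with h | h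
  · left
    have hle : (⁅K, A⁆ ⊔ A).map (MulAut.conj ξ).toMonoidHom ≤ ⁅K, A⁆ ⊔ A := by
      rw [hmap]; exact hclose _ c10 h
    exact Subgroup.eq_of_le_of_card_ge hle
      (by rw [Subgroup.card_map_of_injective (MulAut.conj ξ).injective])
  · right
    rw [hmap]; exact hclose _ hFn h

theorem arith_fix {p q i : ℕ} (hp : p = 2 ∨ p = 3) (hq : q.Prime) (hq2 : q ≠ 2) (hq3 : q ≠ 3)
    (hi : i ≤ 2) (h : p ^ 2 ≡ p ^ i [MOD q]) : i = 2 := by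
  have h2 : ¬ q ∣ 2 := fun hd => hq2 ((Nat.prime_dvd_prime_iff_eq hq Nat.prime_two).mp hd)
  have h3 : ¬ q ∣ 3 := fun hd => hq3 ((Nat.prime_dvd_prime_iff_eq hq Nat.prime_three).mp hd)
  rcases hp with rfl | rfl
  · interval_cases i
    · exfalso
      have hd : q ∣ 2 ^ 2 - 2 ^ 0 := (Nat.modEq_iff_dvd' (by norm_num)).mp h.symm
      exact h3 (by norm_num at hd; exact hd)
    · exfalso
      have hd : q ∣ 2 ^ 2 - 2 ^ 1 := (Nat.modEq_iff_dvd' (by norm_num)).mp h.symm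
      exact h2 (by norm_num at hd; exact hd)
    · rfl
  · interval_cases i
    · exfalso
      have hd : q ∣ 3 ^ 2 - 3 ^ 0 := (Nat.modEq_iff_dvd' (by norm_num)).mp h.symm
      have hd' : q ∣ 2 ^ 3 := by norm_num at hd ⊢; exact hd
      exact h2 (hq.dvd_of_dvd_pow hd')
    · exfalso
      have hd : q ∣ 3 ^ 2 - 3 ^ 1 := (Nat.modEq_iff_dvd' (by norm_num)).mp h.symm
      have hd' : q ∣ 2 * 3 := by norm_num at hd ⊢; exact hd
      rcases (Nat.Prime.dvd_mul hq).mp hd' with h' | h'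
      · exact h2 h'
      · exact h3 h'
    · rfl

/-- An element of a `q`-group (`q ∤ |H|`) normalizing `V` and the factor `E` centralizes
`[V, E]` and `E`. -/
theorem ff_stab_cent {G : Type*} [Group G] [Finite G] {p q : ℕ} [Fact p.Prime] [Fact q.Prime]
    (V K H A : Subgroup G)
    (hVcomm : ∀ u ∈ V, ∀ v ∈ V, u * v = v * u) (hVpow : ∀ v ∈ V, v ^ p = 1)
    (hHV : H ≤ Subgroup.normalizer (V : Set G))
    (hf : H ⊓ Subgroup.centralizer (V : Set G) = ⊥)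
    (hKH : K ≤ H) (hKc : (Nat.card K).Coprime p) (hHK : H ≤ Subgroup.normalizer (K : Set G))
    (hKf : ∀ P : Subgroup G, P ≤ H → IsPGroup p P →
      P ⊓ Subgroup.centralizer (K : Set G) = ⊥)
    (hgenH : ∀ S : Subgroup G, (∀ B : Subgroup G, B ≤ H → Nat.card B = p →
      Nat.card ↥(⁅V, B⁆) = p → B ≤ S) → H ≤ S)
    (hAH : A ≤ H) (hAp : Nat.card A = p) (hVA : Nat.card ↥(⁅V, A⁆) = p)
    (Ξ : Subgroup G) (hΞq : IsPGroup q Ξ) (hqH : ¬ q ∣ Nat.card H)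
    (ξ : G) (hξΞ : ξ ∈ Ξ) (hξV : ξ ∈ Subgroup.normalizer (V : Set G))
    (hξE : ξ ∈ Subgroup.normalizer ((⁅K, A⁆ ⊔ A : Subgroup G) : Set G)) :
    (∀ w ∈ ⁅V, ⁅K, A⁆ ⊔ A⁆, ξ * w * ξ⁻¹ = w) ∧ (∀ e ∈ ⁅K, A⁆ ⊔ A, ξ * e * ξ⁻¹ = e) := by
  classical
  have hp := (Fact.out : p.Prime)
  have hq := (Fact.out : q.Prime)
  obtain ⟨c1, ⟨e⟩, c3, -, -, -, c7, c8, -, c10, -⟩ :=
    ff_struct_single V K H A hVcomm hVpow hHV hf hKH hKc hHK hKf hgenH hAH hAp hVA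
  obtain ⟨E, hEdef⟩ : ∃ E : Subgroup G, E = ⁅K, A⁆ ⊔ A := ⟨_, rfl⟩
  rw [← hEdef] at c3 c7 c8 c10 hξE e ⊢
  have hEH : E ≤ H := le_sup_left.trans_eq c8
  have hcardE : Nat.card E = p * (p - 1) * (p + 1) := by
    rw [Nat.card_congr e.toEquiv, Cfsg.Agent.S2430.card_SL2, ZMod.card]
  have hdvd : p * (p - 1) * (p + 1) ∣ Nat.card H := hcardE ▸ Subgroup.card_dvd_of_le hEH
  have h6 : 6 ∣ Nat.card H := by
    rcases c1 with rfl | rfl
    · exact Dvd.dvd.trans (show (6:ℕ) ∣ 2 * (2 - 1) * (2 + 1) by decide) hdvd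
    · exact Dvd.dvd.trans (show (6:ℕ) ∣ 3 * (3 - 1) * (3 + 1) by decide) hdvd
  have hq2 : q ≠ 2 := by
    rintro rfl
    exact hqH (Dvd.dvd.trans (show (2:ℕ) ∣ 6 by decide) h6)
  have hq3 : q ≠ 3 := by
    rintro rfl
    exact hqH (Dvd.dvd.trans (show (3:ℕ) ∣ 6 by decide) h6)
  have hξW : ξ ∈ Subgroup.normalizer ((⁅V, E⁆ : Subgroup G) : Set G) :=
    comm_normalizer V E ξ hξV hξE
  have hHW : H ≤ Subgroup.normalizer ((⁅V, E⁆ : Subgroup G) : Set G) := fun h hh =>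
    comm_normalizer V E h (hHV hh) (c10 hh)
  obtain ⟨W, hWdef⟩ : ∃ W : Subgroup G, W = ⁅V, E⁆ := ⟨_, rfl⟩
  rw [← hWdef] at c3 c7 hξW hHW ⊢
  have hZN : Subgroup.zpowers ξ ≤ Subgroup.normalizer (W : Set G) :=
    Subgroup.zpowers_le.mpr hξW
  have hZq : IsPGroup q ↥(Subgroup.zpowers ξ) := hΞq.to_le (Subgroup.zpowers_le.mpr hξΞ)
  letI : MulAction ↥(Subgroup.zpowers ξ) ↥W :=
    MulAction.compHom ↥W ((Subgroup.normalizerMonoidHom W).comp (Subgroup.inclusion hZN))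
  have hsmul : ∀ (z : ↥(Subgroup.zpowers ξ)) (w : ↥W), ((z • w : ↥W) : G) = z * w * (z : G)⁻¹ :=
    fun z w => rfl
  have hcls := IsPGroup.card_modEq_card_fixedPoints hZq ↥W
  have hset : (MulAction.fixedPoints ↥(Subgroup.zpowers ξ) ↥W : Set ↥W) =
      (((Subgroup.centralizer ((Subgroup.zpowers ξ : Subgroup G) : Set G)).subgroupOf W :
        Subgroup ↥W) : Set ↥W) := by
    ext w
    rw [MulAction.mem_fixedPoints, SetLike.mem_coe, Subgroup.mem_subgroupOf,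
      Subgroup.mem_centralizer_iff]
    constructor
    · intro h z hz
      have h1 := congrArg Subtype.val (h ⟨z, hz⟩)
      rw [hsmul] at h1
      have h2 : z * (w : G) * z⁻¹ = w := h1
      calc z * (w : G) = (z * w * z⁻¹) * z := by group
        _ = w * z := by rw [h2]
    · intro h z
      apply Subtype.ext
      rw [hsmul, h z z.2]; group
  rw [hset] at hcls
  have hcls' : Nat.card ↥W ≡ Nat.card ↥((Subgroup.centralizer
      ((Subgroup.zpowers ξ : Subgroup G) : Set G)).subgroupOf W) [MOD q] := hcls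
  have hdvd2 : Nat.card ↥((Subgroup.centralizer
      ((Subgroup.zpowers ξ : Subgroup G) : Set G)).subgroupOf W) ∣ p ^ 2 := by
    rw [← c3]; exact Subgroup.card_subgroup_dvd_card _
  obtain ⟨i, hi, hci⟩ := (Nat.dvd_prime_pow hp).mp hdvd2
  rw [c3, hci] at hcls'
  have hi2 := arith_fix c1 hq hq2 hq3 hi hcls'
  rw [hi2, ← c3] at hci
  have htop : (Subgroup.centralizer ((Subgroup.zpowers ξ : Subgroup G) : Set G)).subgroupOf W
      = ⊤ := Subgroup.eq_top_of_card_eq _ hci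
  have hWc : ∀ w ∈ W, ξ * w * ξ⁻¹ = w := by
    intro w hw
    have h1 : (⟨w, hw⟩ : ↥W) ∈ (Subgroup.centralizer
        ((Subgroup.zpowers ξ : Subgroup G) : Set G)).subgroupOf W := by rw [htop]; trivial
    rw [Subgroup.mem_subgroupOf, Subgroup.mem_centralizer_iff] at h1
    have h2 := h1 ξ (Subgroup.mem_zpowers ξ)
    have h3 : ξ * w = w * ξ := h2
    rw [h3]; group
  have hWc' : ∀ w ∈ W, ξ⁻¹ * w * ξ = w := by
    intro w hw
    have := hWc w hw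
    calc ξ⁻¹ * w * ξ = ξ⁻¹ * (ξ * w * ξ⁻¹) * ξ := by rw [this]
      _ = w := by group
  refine ⟨hWc, ?_⟩
  intro x hx
  have hmem : ξ * x * ξ⁻¹ * x⁻¹ ∈ E ⊓ (H ⊓ Subgroup.centralizer (W : Set G)) := by
    have hxE : ξ * x * ξ⁻¹ * x⁻¹ ∈ E :=
      E.mul_mem ((Subgroup.mem_normalizer_iff.mp hξE x).mp hx) (E.inv_mem hx)
    refine Subgroup.mem_inf.mpr ⟨hxE, Subgroup.mem_inf.mpr ⟨hEH hxE, ?_⟩⟩
    rw [Subgroup.mem_centralizer_iff]
    intro w hw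
    have hw' : x⁻¹ * w * x ∈ W := by
      have := (Subgroup.mem_normalizer_iff.mp (hHW (hEH (E.inv_mem hx))) w).mp hw
      simpa using this
    have h1 := hWc' _ hw'
    have h2 := hWc w hw
    have h3 : (ξ * x * ξ⁻¹ * x⁻¹) * w * (ξ * x * ξ⁻¹ * x⁻¹)⁻¹ = w := by
      calc (ξ * x * ξ⁻¹ * x⁻¹) * w * (ξ * x * ξ⁻¹ * x⁻¹)⁻¹
          = ξ * (x * (ξ⁻¹ * (x⁻¹ * w * x) * ξ) * x⁻¹) * ξ⁻¹ := by group
        _ = ξ * (x * (x⁻¹ * w * x) * x⁻¹) * ξ⁻¹ := by rw [h1]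
        _ = ξ * w * ξ⁻¹ := by group
        _ = w := h2
    calc w * (ξ * x * ξ⁻¹ * x⁻¹)
        = ((ξ * x * ξ⁻¹ * x⁻¹) * w * (ξ * x * ξ⁻¹ * x⁻¹)⁻¹) * (ξ * x * ξ⁻¹ * x⁻¹) := by
          rw [h3]
      _ = (ξ * x * ξ⁻¹ * x⁻¹) * w := by group
  rw [c7, Subgroup.mem_bot] at hmem
  calc ξ * x * ξ⁻¹ = (ξ * x * ξ⁻¹ * x⁻¹) * x := by group
    _ = x := by rw [hmem, one_mul]

/-- The norm map of an abelian group under a finite group of automorphisms. -/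
noncomputable def normHom {B Ξ : Type*} [CommGroup B] [Group Ξ] [Fintype Ξ] (c : Ξ →* MulAut B) :
    B →* B := ∏ ξ : Ξ, (c ξ).toMonoidHom

theorem normHom_apply {B Ξ : Type*} [CommGroup B] [Group Ξ] [Fintype Ξ] (c : Ξ →* MulAut B)
    (b : B) : normHom c b = ∏ ξ : Ξ, c ξ b := by
  unfold normHom
  rw [MonoidHom.finset_prod_apply]
  rfl

theorem normHom_fixed {B Ξ : Type*} [CommGroup B] [Group Ξ] [Fintype Ξ] (c : Ξ →* MulAut B)
    (η : Ξ) (b : B) : c η (normHom c b) = normHom c b := by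
  rw [normHom_apply, map_prod]
  have h : ∀ ξ : Ξ, c η (c ξ b) = c (Equiv.mulLeft η ξ) b := fun ξ => by
    rw [Equiv.coe_mulLeft, map_mul]; rfl
  simp_rw [h]
  exact Equiv.prod_comp (Equiv.mulLeft η) (fun ξ => c ξ b)

theorem normHom_comm {B Ξ : Type*} [CommGroup B] [Group Ξ] [Fintype Ξ] (c : Ξ →* MulAut B)
    (δ : B ≃* B) (hδ : ∀ ξ b, δ (c ξ b) = c ξ (δ b)) (b : B) :
    δ (normHom c b) = normHom c (δ b) := by
  rw [normHom_apply, normHom_apply, map_prod]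
  exact Finset.prod_congr rfl (fun ξ _ => hδ ξ b)

theorem normHom_split {B Ξ : Type*} [CommGroup B] [Group Ξ] [Fintype Ξ] (c : Ξ →* MulAut B)
    (S : Subgroup Ξ) (M : Subgroup B) (y : B) (hS : ∀ ξ ∈ S, c ξ y = y)
    (hM : ∀ ξ, ξ ∉ S → c ξ y ∈ M) :
    ∃ f ∈ M, normHom c y = y ^ Nat.card S * f := by
  classical
  rw [normHom_apply]
  have hsplit := Finset.prod_filter_mul_prod_filter_not (Finset.univ : Finset Ξ)
    (fun ξ : Ξ => ξ ∈ S) (fun ξ => c ξ y)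
  have h1 : (∏ ξ ∈ Finset.univ.filter (fun ξ : Ξ => ξ ∈ S), c ξ y) = y ^ Nat.card S := by
    rw [Finset.prod_congr rfl (fun ξ hξ => hS ξ (Finset.mem_filter.mp hξ).2), Finset.prod_const]
    congr 1
    rw [Nat.card_eq_fintype_card, Fintype.card_subtype]
  refine ⟨∏ ξ ∈ Finset.univ.filter (fun ξ : Ξ => ¬ ξ ∈ S), c ξ y,
    Subgroup.prod_mem _ (fun ξ hξ => hM ξ (Finset.mem_filter.mp hξ).2), ?_⟩
  rw [← hsplit, h1]

/-- Fixed points of a coprime operator group on a faithful FF-configuration contain an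
`SL(2, p)`-section. -/
theorem ff_fixed_section {G : Type*} [Group G] [Finite G] {p q : ℕ} [Fact p.Prime] [Fact q.Prime]
    (V K H A : Subgroup G)
    (hVcomm : ∀ u ∈ V, ∀ v ∈ V, u * v = v * u) (hVpow : ∀ v ∈ V, v ^ p = 1)
    (hHV : H ≤ Subgroup.normalizer (V : Set G))
    (hf : H ⊓ Subgroup.centralizer (V : Set G) = ⊥)
    (hKH : K ≤ H) (hKc : (Nat.card K).Coprime p) (hHK : H ≤ Subgroup.normalizer (K : Set G))
    (hKf : ∀ P : Subgroup G, P ≤ H → IsPGroup p P →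
      P ⊓ Subgroup.centralizer (K : Set G) = ⊥)
    (hgenH : ∀ S : Subgroup G, (∀ B : Subgroup G, B ≤ H → Nat.card B = p →
      Nat.card ↥(⁅V, B⁆) = p → B ≤ S) → H ≤ S)
    (hAH : A ≤ H) (hAp : Nat.card A = p) (hVA : Nat.card ↥(⁅V, A⁆) = p)
    (Ξ : Subgroup G) (hΞq : IsPGroup q Ξ) (hqH : ¬ q ∣ Nat.card H)
    (hΞV : Ξ ≤ Subgroup.normalizer (V : Set G))
    (hΞH : Ξ ≤ Subgroup.normalizer (H : Set G)) (hΞK : Ξ ≤ Subgroup.normalizer (K : Set G)) :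
    (p = 2 ∨ p = 3) ∧ ∃ W D : Subgroup G, W ≤ V ⊓ Subgroup.centralizer (Ξ : Set G) ∧
      D ≤ H ⊓ Subgroup.centralizer (Ξ : Set G) ∧ Nat.card W = p ^ 2 ∧
      D ≤ Subgroup.normalizer (W : Set G) ∧
      ∃ hn : ((Subgroup.centralizer (W : Set G)).subgroupOf D).Normal,
        Nonempty (↥D ⧸ (Subgroup.centralizer (W : Set G)).subgroupOf D ≃*
          Matrix.SpecialLinearGroup (Fin 2) (ZMod p)) := by
  classical
  have hp := (Fact.out : p.Prime)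
  have hq := (Fact.out : q.Prime)
  obtain ⟨c1, ⟨e⟩, c3, c4, -, c6, c7, c8, c9, c10, -⟩ :=
    ff_struct_single V K H A hVcomm hVpow hHV hf hKH hKc hHK hKf hgenH hAH hAp hVA
  have hdich := fun (ξ : G) (hξ : ξ ∈ Ξ) => ff_conj_dichotomy V K H A hVcomm hVpow hHV hf hKH hKc
    hHK hKf hgenH hAH hAp hVA ξ (hΞV hξ) (hΞH hξ) (hΞK hξ)
  have hstab := fun (ξ : G) (hξ : ξ ∈ Ξ) hξE => ff_stab_cent V K H A hVcomm hVpow hHV hf hKH hKc
    hHK hKf hgenH hAH hAp hVA Ξ hΞq hqH ξ hξ (hΞV hξ) hξE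
  refine ⟨c1, ?_⟩
  obtain ⟨E, hEdef⟩ : ∃ E : Subgroup G, E = ⁅K, A⁆ ⊔ A := ⟨_, rfl⟩
  rw [← hEdef] at c3 c4 c6 c7 c8 c9 c10 e hdich hstab
  obtain ⟨W₁, hW₁def⟩ : ∃ W₁ : Subgroup G, W₁ = ⁅V, E⁆ := ⟨_, rfl⟩
  rw [← hW₁def] at c3 c4 c6 c7 c8 c9 hdich hstab
  obtain ⟨F, hFdef⟩ : ∃ F : Subgroup G, F = H ⊓ Subgroup.centralizer (W₁ : Set G) := ⟨_, rfl⟩
  rw [← hFdef] at c6 c7 c8 c9 hdich
  have hEH : E ≤ H := le_sup_left.trans_eq c8
  have hFH : F ≤ H := le_sup_right.trans_eq c8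
  have hW₁V : W₁ ≤ V := by rw [hW₁def]; exact comm_le_left V E (fun x hx => hHV (hEH hx))
  have hHW₁ : H ≤ Subgroup.normalizer (W₁ : Set G) := fun h hh => by
    rw [hW₁def]; exact comm_normalizer V E h (hHV hh) (c10 hh)
  have hEF : ∀ x ∈ E, ∀ f ∈ F, x * f = f * x := by
    intro x hx f hf'
    have := Subgroup.commutator_mem_commutator (H₁ := E) (H₂ := F) hx hf'
    rw [c6, Subgroup.mem_bot, commutatorElement_def] at this
    calc x * f = (x * f * x⁻¹ * f⁻¹) * f * x := by group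
      _ = f * x := by rw [this, one_mul]
  have hFW : ∀ f ∈ F, ∀ w ∈ W₁, f * w * f⁻¹ = w := by
    intro f hf' w hw
    rw [hFdef] at hf'
    have := (Subgroup.mem_centralizer_iff.mp hf'.2) w hw
    rw [← this]; group
  have hΞE : ∀ ξ ∈ Ξ, ξ ∉ Subgroup.normalizer (E : Set G) → ∀ x ∈ E, ξ * x * ξ⁻¹ ∈ F := by
    intro ξ hξ hn x hx
    rcases hdich ξ hξ with h | h
    · exact absurd (mem_normalizer_of_map_eq E ξ h) hn
    · exact h (Subgroup.mem_map_of_mem _ hx)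
  have hΞW : ∀ ξ ∈ Ξ, ξ ∉ Subgroup.normalizer (E : Set G) → ∀ w ∈ W₁,
      ξ * w * ξ⁻¹ ∈ V ⊓ Subgroup.centralizer (E : Set G) := by
    intro ξ hξ hn w hw
    apply c9
    have h1 : ξ * w * ξ⁻¹ ∈ W₁.map (MulAut.conj ξ).toMonoidHom := Subgroup.mem_map_of_mem _ hw
    rw [hW₁def, Subgroup.map_commutator, map_conj_eq_self V ξ (hΞV hξ)] at h1
    refine Subgroup.commutator_mono le_rfl ?_ h1
    rcases hdich ξ hξ with h | h
    · exact absurd (mem_normalizer_of_map_eq E ξ h) hn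
    · exact h
  have hΞstabE : ∀ ξ ∈ Ξ, ξ ∈ Subgroup.normalizer (E : Set G) → ∀ x ∈ E, ξ * x * ξ⁻¹ = x :=
    fun ξ hξ hn => (hstab ξ hξ hn).2
  have hΞstabW : ∀ ξ ∈ Ξ, ξ ∈ Subgroup.normalizer (E : Set G) → ∀ w ∈ W₁, ξ * w * ξ⁻¹ = w :=
    fun ξ hξ hn => (hstab ξ hξ hn).1
  -- the number m
  obtain ⟨m, hmdef⟩ : ∃ m : ℕ,
      m = Nat.card ↥((Subgroup.normalizer (E : Set G)).subgroupOf Ξ) := ⟨_, rfl⟩
  have hmq : ∃ j, m = q ^ j := by
    have hPG : IsPGroup q ↥((Subgroup.normalizer (E : Set G)).subgroupOf Ξ) :=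
      hΞq.to_subgroup _
    obtain ⟨j, hj⟩ := IsPGroup.iff_card.mp hPG
    exact ⟨j, hmdef.trans hj⟩
  have hqE : ¬ q ∣ Nat.card E := fun h => hqH (h.trans (Subgroup.card_dvd_of_le hEH))
  have hmE : (Nat.card E).Coprime m := by
    obtain ⟨j, rfl⟩ := hmq
    exact Nat.Coprime.pow_right _ ((Nat.Prime.coprime_iff_not_dvd hq).mpr hqE).symm
  have hpq : p ≠ q := by
    rintro rfl
    apply hqH
    rw [← hAp]; exact Subgroup.card_dvd_of_le hAH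
  have hmp : m.Coprime p := by
    obtain ⟨j, rfl⟩ := hmq
    exact Nat.Coprime.pow_left _ ((Nat.coprime_primes hq hp).mpr (Ne.symm hpq))
  -- the cover lemma
  have hcover : ∀ x ∈ E, ∃ d ∈ H ⊓ Subgroup.centralizer (Ξ : Set G), ∃ f ∈ F, x = d * f := by
    intro x hx
    obtain ⟨⟨y, hy⟩, hyx⟩ := (powCoprime hmE).surjective ⟨x, hx⟩
    have hyx' : y ^ m = x := by
      have := congrArg Subtype.val hyx
      simpa using this
    have hself : ∀ ζ ∈ Ξ, (ζ * y * ζ⁻¹) * y = y * (ζ * y * ζ⁻¹) := by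
      intro ζ hζ
      by_cases hn : ζ ∈ Subgroup.normalizer (E : Set G)
      · rw [hΞstabE ζ hζ hn y hy]
      · exact (hEF y hy _ (hΞE ζ hζ hn y hy)).symm
    have hcomm : ∀ ξ ∈ Ξ, ∀ η ∈ Ξ,
        (ξ * y * ξ⁻¹) * (η * y * η⁻¹) = (η * y * η⁻¹) * (ξ * y * ξ⁻¹) := by
      intro ξ hξ η hη
      have h := hself (η⁻¹ * ξ) (Ξ.mul_mem (Ξ.inv_mem hη) hξ)
      calc (ξ * y * ξ⁻¹) * (η * y * η⁻¹)
          = η * (((η⁻¹ * ξ) * y * (η⁻¹ * ξ)⁻¹) * y) * η⁻¹ := by group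
        _ = η * (y * ((η⁻¹ * ξ) * y * (η⁻¹ * ξ)⁻¹)) * η⁻¹ := by rw [h]
        _ = (η * y * η⁻¹) * (ξ * y * ξ⁻¹) := by group
    obtain ⟨n, f, hn1, hn2, hf1, hnf⟩ := norm_exists Ξ (Subgroup.normalizer (E : Set G)) F y
      hcomm (fun ξ hξ hn => hΞstabE ξ hξ hn y hy) (fun ξ hξ hn => hΞE ξ hξ hn y hy)
    refine ⟨n, Subgroup.mem_inf.mpr ⟨?_, ?_⟩, f⁻¹, F.inv_mem hf1, ?_⟩
    · refine (Subgroup.closure_le H).mpr ?_ hn1
      rintro _ ⟨ξ, hξ, rfl⟩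
      exact (Subgroup.mem_normalizer_iff.mp (hΞH hξ) y).mp (hEH hy)
    · rw [Subgroup.mem_centralizer_iff]
      intro η hη
      have := hn2 η hη
      calc η * n = (η * n * η⁻¹) * η := by group
        _ = n * η := by rw [this]
    · rw [hnf, ← hmdef, hyx']; group
  -- the norm on V
  haveI hVc : IsMulCommutative V := ⟨⟨fun a b => Subtype.ext (hVcomm a a.2 b b.2)⟩⟩
  haveI := Fintype.ofFinite ↥Ξ
  let cV : ↥Ξ →* MulAut ↥V := (Subgroup.normalizerMonoidHom V).comp (Subgroup.inclusion hΞV)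
  have hcV : ∀ (ξ : ↥Ξ) (v : ↥V), ((cV ξ v : ↥V) : G) = ξ * v * (ξ : G)⁻¹ := fun ξ v => rfl
  obtain ⟨N, hNdef⟩ : ∃ N : ↥V →* ↥V, N = normHom cV := ⟨_, rfl⟩
  have hNfix : ∀ (v : ↥V), ∀ η ∈ Ξ, η * (N v : G) * η⁻¹ = N v := by
    intro v η hη
    have := normHom_fixed cV ⟨η, hη⟩ v
    rw [← hNdef] at this
    have h2 := congrArg Subtype.val this
    rw [hcV] at h2
    exact h2
  have hNsplit : ∀ w (hw : w ∈ W₁), ∃ c ∈ V ⊓ Subgroup.centralizer (E : Set G),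
      ((N ⟨w, hW₁V hw⟩ : ↥V) : G) = w ^ m * c := by
    intro w hw
    obtain ⟨f, hf1, hf2⟩ := normHom_split cV ((Subgroup.normalizer (E : Set G)).subgroupOf Ξ)
      ((V ⊓ Subgroup.centralizer (E : Set G)).subgroupOf V) ⟨w, hW₁V hw⟩
      (fun ξ hξ => Subtype.ext (by
        rw [hcV]; exact hΞstabW ξ ξ.2 (Subgroup.mem_subgroupOf.mp hξ) w hw))
      (fun ξ hξ => by
        rw [Subgroup.mem_subgroupOf, hcV]
        exact hΞW ξ ξ.2 (fun h => hξ (Subgroup.mem_subgroupOf.mpr h)) w hw)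
    refine ⟨f, Subgroup.mem_subgroupOf.mp hf1, ?_⟩
    rw [hNdef, hf2, ← hmdef]
    rfl
  have hNker : ∀ w (hw : w ∈ W₁), N ⟨w, hW₁V hw⟩ = 1 → w = 1 := by
    intro w hw h1
    obtain ⟨c, hc, hNc⟩ := hNsplit w hw
    rw [h1] at hNc
    have hwm : w ^ m ∈ W₁ ⊓ (V ⊓ Subgroup.centralizer (E : Set G)) := by
      refine Subgroup.mem_inf.mpr ⟨W₁.pow_mem hw m, ?_⟩
      have : w ^ m = c⁻¹ := by
        have h2 : (1 : G) = w ^ m * c := hNc
        calc w ^ m = (w ^ m * c) * c⁻¹ := by group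
          _ = c⁻¹ := by rw [← h2, one_mul]
      rw [this]; exact Subgroup.inv_mem _ hc
    rw [c4, Subgroup.mem_bot] at hwm
    have h3 := pow_gcd_eq_one.mpr ⟨hwm, hVpow w (hW₁V hw)⟩
    rw [Nat.Coprime.gcd_eq_one hmp, pow_one] at h3
    exact h3
  have hNinj : ∀ a b : ↥V, (a : G) ∈ W₁ → (b : G) ∈ W₁ → N a = N b → a = b := by
    intro a b ha hb hab
    have hmem : (a : G) * (b : G)⁻¹ ∈ W₁ := W₁.mul_mem ha (W₁.inv_mem hb)
    have h1 : N ⟨(a : G) * (b : G)⁻¹, hW₁V hmem⟩ = 1 := by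
      have : (⟨(a : G) * (b : G)⁻¹, hW₁V hmem⟩ : ↥V) = a * b⁻¹ := rfl
      rw [this, map_mul, map_inv, hab, mul_inv_cancel]
    have h2 := hNker _ hmem h1
    apply Subtype.ext
    calc (a : G) = ((a : G) * (b : G)⁻¹) * b := by group
      _ = b := by rw [h2, one_mul]
  obtain ⟨W, hWdef⟩ : ∃ W : Subgroup G, W = ((W₁.subgroupOf V).map N).map V.subtype := ⟨_, rfl⟩
  have hWmem : ∀ x, x ∈ W ↔ ∃ w, ∃ hw : w ∈ W₁, x = ((N ⟨w, hW₁V hw⟩ : ↥V) : G) := by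
    intro x
    rw [hWdef]
    constructor
    · rintro ⟨_, ⟨v, hv, rfl⟩, rfl⟩
      exact ⟨v, Subgroup.mem_subgroupOf.mp hv, rfl⟩
    · rintro ⟨w, hw, rfl⟩
      exact ⟨_, ⟨⟨w, hW₁V hw⟩, Subgroup.mem_subgroupOf.mpr hw, rfl⟩, rfl⟩
  have hWcard : Nat.card W = p ^ 2 := by
    rw [hWdef, Subgroup.card_map_of_injective V.subtype_injective, ← c3]
    have hinj : Set.InjOn N ((W₁.subgroupOf V : Subgroup ↥V) : Set ↥V) := by
      intro a ha b hb hab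
      exact hNinj a b (Subgroup.mem_subgroupOf.mp ha) (Subgroup.mem_subgroupOf.mp hb) hab
    have h := Nat.card_image_of_injOn hinj
    rw [← Subgroup.coe_map] at h
    rw [← Nat.card_congr (Subgroup.subgroupOfEquivOfLe hW₁V).toEquiv]
    exact h
  have hWle : W ≤ V ⊓ Subgroup.centralizer (Ξ : Set G) := by
    intro x hx
    obtain ⟨w, hw, rfl⟩ := (hWmem x).mp hx
    refine Subgroup.mem_inf.mpr ⟨Subtype.mem _, ?_⟩
    rw [Subgroup.mem_centralizer_iff]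
    intro η hη
    have := hNfix ⟨w, hW₁V hw⟩ η hη
    calc η * (N ⟨w, hW₁V hw⟩ : G) = (η * (N ⟨w, hW₁V hw⟩ : G) * η⁻¹) * η := by group
      _ = (N ⟨w, hW₁V hw⟩ : G) * η := by rw [this]
  obtain ⟨D, hDdef⟩ : ∃ D : Subgroup G, D = H ⊓ Subgroup.centralizer (Ξ : Set G) := ⟨_, rfl⟩
  have hDH : D ≤ H := by rw [hDdef]; exact inf_le_left
  have hNd : ∀ d ∈ D, ∀ w (hw : w ∈ W₁), ∃ hw' : d * w * d⁻¹ ∈ W₁,
      d * (N ⟨w, hW₁V hw⟩ : G) * d⁻¹ = (N ⟨d * w * d⁻¹, hW₁V hw'⟩ : ↥V) := by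
    intro d hd w hw
    have hw' : d * w * d⁻¹ ∈ W₁ := (Subgroup.mem_normalizer_iff.mp (hHW₁ (hDH hd)) w).mp hw
    refine ⟨hw', ?_⟩
    have hdV : d ∈ Subgroup.normalizer (V : Set G) := hHV (hDH hd)
    let δ : ↥V ≃* ↥V := Subgroup.normalizerMonoidHom V ⟨d, hdV⟩
    have hδ : ∀ v : ↥V, ((δ v : ↥V) : G) = d * v * d⁻¹ := fun v => rfl
    have hdΞ : ∀ ξ ∈ Ξ, ξ * d = d * ξ := by
      rw [hDdef] at hd
      exact Subgroup.mem_centralizer_iff.mp hd.2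
    have := normHom_comm cV δ (fun ξ b => Subtype.ext (by
      rw [hδ, hcV, hcV, hδ]
      have h := hdΞ ξ ξ.2
      calc d * ((ξ : G) * b * (ξ : G)⁻¹) * d⁻¹ = (d * ξ) * b * (d * ξ)⁻¹ := by group
        _ = (ξ * d) * b * (ξ * d)⁻¹ := by rw [h]
        _ = ξ * (d * b * d⁻¹) * (ξ : G)⁻¹ := by group)) ⟨w, hW₁V hw⟩
    rw [← hNdef] at this
    have h2 := congrArg Subtype.val this
    rw [hδ] at h2
    exact h2
  have hDW : D ≤ Subgroup.normalizer (W : Set G) := by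
    intro d hd
    apply mem_normalizer_of_conj'
    intro x hx
    obtain ⟨w, hw, rfl⟩ := (hWmem x).mp hx
    obtain ⟨hw', h⟩ := hNd d hd w hw
    rw [h]
    exact (hWmem _).mpr ⟨_, hw', rfl⟩
  have hcent : ∀ d ∈ D, d ∈ Subgroup.centralizer (W : Set G) ↔ ∀ w ∈ W₁, d * w * d⁻¹ = w := by
    intro d hd
    rw [Subgroup.mem_centralizer_iff]
    constructor
    · intro h w hw
      obtain ⟨hw', h1⟩ := hNd d hd w hw
      have h2 := h _ ((hWmem _).mpr ⟨w, hw, rfl⟩)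
      have h3 : d * (N ⟨w, hW₁V hw⟩ : G) * d⁻¹ = (N ⟨w, hW₁V hw⟩ : ↥V) := by
        rw [← h2]; group
      rw [h3] at h1
      have h4 := hNinj ⟨w, hW₁V hw⟩ ⟨d * w * d⁻¹, hW₁V hw'⟩ hw hw' (Subtype.ext h1)
      exact (congrArg Subtype.val h4).symm
    · intro h x hx
      obtain ⟨w, hw, rfl⟩ := (hWmem x).mp hx
      obtain ⟨hw', h1⟩ := hNd d hd w hw
      have h2 : (N ⟨d * w * d⁻¹, hW₁V hw'⟩ : ↥V) = N ⟨w, hW₁V hw⟩ := by
        congr 1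
        exact Subtype.ext (h w hw)
      rw [h2] at h1
      calc (N ⟨w, hW₁V hw⟩ : G) * d = (d * (N ⟨w, hW₁V hw⟩ : G) * d⁻¹) * d := by rw [h1]
        _ = d * (N ⟨w, hW₁V hw⟩ : G) := by group
  have hDW₁ : D ≤ Subgroup.normalizer (W₁ : Set G) := hDH.trans hHW₁
  have hEW₁ : E ≤ Subgroup.normalizer (W₁ : Set G) := hEH.trans hHW₁
  let ρD : ↥D →* MulAut ↥W₁ := (Subgroup.normalizerMonoidHom W₁).comp (Subgroup.inclusion hDW₁)
  let ρE : ↥E →* MulAut ↥W₁ := (Subgroup.normalizerMonoidHom W₁).comp (Subgroup.inclusion hEW₁)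
  have hρD : ∀ (d : ↥D) (w : ↥W₁), ((ρD d w : ↥W₁) : G) = d * w * (d : G)⁻¹ := fun d w => rfl
  have hρE : ∀ (x : ↥E) (w : ↥W₁), ((ρE x w : ↥W₁) : G) = x * w * (x : G)⁻¹ := fun x w => rfl
  have hρEinj : Function.Injective ρE := by
    rw [injective_iff_map_eq_one]
    intro x hx
    have hxF : (x : G) ∈ F := by
      rw [hFdef]
      refine Subgroup.mem_inf.mpr ⟨hEH x.2, ?_⟩
      rw [Subgroup.mem_centralizer_iff]
      intro w hw
      have h1 := congrArg Subtype.val (DFunLike.congr_fun hx ⟨w, hw⟩)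
      rw [hρE] at h1
      have h2 : (x : G) * w * (x : G)⁻¹ = w := h1
      calc w * (x : G) = ((x : G) * w * (x : G)⁻¹) * x := by rw [h2]
        _ = x * w := by group
    have : (x : G) ∈ E ⊓ F := Subgroup.mem_inf.mpr ⟨x.2, hxF⟩
    rw [c7, Subgroup.mem_bot] at this
    exact Subtype.ext this
  have hrange : ρD.range = ρE.range := by
    apply le_antisymm
    · rintro _ ⟨d, rfl⟩
      have hdH : (d : G) ∈ F ⊔ E := by rw [sup_comm, c8]; exact hDH d.2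
      obtain ⟨f, hf', x, hx, hdxf⟩ := mem_sup_of_le_normalizer F E (hFH.trans c10) _ hdH
      refine ⟨⟨x, hx⟩, ?_⟩
      ext w
      rw [hρE, hρD, hdxf]
      have := hFW f hf' w w.2
      calc x * (w : G) * x⁻¹ = x * (f * w * f⁻¹) * x⁻¹ := by rw [this]
        _ = (x * f) * w * (x * f)⁻¹ := by group
    · rintro _ ⟨x, rfl⟩
      obtain ⟨d, hd, f, hf', hxdf⟩ := hcover x x.2
      refine ⟨⟨d, by rw [hDdef]; exact hd⟩, ?_⟩
      ext w
      rw [hρE, hρD, hxdf]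
      have := hFW f hf' w w.2
      calc d * (w : G) * d⁻¹ = d * (f * w * f⁻¹) * d⁻¹ := by rw [this]
        _ = (d * f) * w * (d * f)⁻¹ := by group
  have hker : (Subgroup.centralizer (W : Set G)).subgroupOf D = ρD.ker := by
    ext d
    rw [Subgroup.mem_subgroupOf, MonoidHom.mem_ker, hcent d d.2]
    constructor
    · intro h
      ext w
      rw [hρD]; exact h w w.2
    · intro h w hw
      have h1 := congrArg Subtype.val (DFunLike.congr_fun h ⟨w, hw⟩)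
      rw [hρD] at h1
      exact h1
  have hn : ((Subgroup.centralizer (W : Set G)).subgroupOf D).Normal := by
    rw [hker]; infer_instance
  refine ⟨W, D, hWle, le_of_eq hDdef, hWcard, hDW, hn, ⟨?_⟩⟩
  exact (QuotientGroup.quotientMulEquivOfEq hker).trans
    ((QuotientGroup.quotientKerEquivRange ρD).trans
      ((MulEquiv.subgroupCongr hrange).trans ((MonoidHom.ofInjective hρEinj).symm.trans e)))

end Cfsg.Agent.Helper21
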