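import Mathlib
import Cfsg.Agent.Helper21.FFFix
import Cfsg.Agent.Helper21.FFGen
import Cfsg.Agent.Helper21.Holo
import Cfsg.Agent.Helper10.Ext2

set_option autoImplicit false
set_option linter.style.haveILetI false

namespace Cfsg.Agent.Helper21

universe u

/-- Elements normalizing `H` normalize `O_{p'}(H)`. -/
theorem ppc_normalizer {G : Type*} [Group G] [Finite G] {p : ℕ} (H : Subgroup G) (ξ : G)
    (hξ : ξ ∈ Subgroup.normalizer (H : Set G)) :
    ξ ∈ Subgroup.normalizer (((Cfsg.pPrimeCore p ↥H).map H.subtype : Subgroup G) : Set G) := by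
  apply mem_normalizer_of_conj'
  rintro _ ⟨k, hk, rfl⟩
  let c : ↥H ≃* ↥H := Subgroup.normalizerMonoidHom H ⟨ξ, hξ⟩
  have h1 := Cfsg.Agent.Helper10.pPrimeCore_map_equiv p c
  have h2 : c k ∈ Cfsg.pPrimeCore p ↥H := by rw [← h1]; exact ⟨k, hk, rfl⟩
  exact ⟨c k, h2, rfl⟩

/-- `ff_fixed_section` under the hypotheses of the FF structure theorem. -/
theorem ff_fixed_section' {G : Type*} [Group G] [Finite G] {p q : ℕ} [Fact p.Prime]
    [Fact q.Prime] (V H : Subgroup G) (hV : Cfsg.IsElementaryAbelian p V)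
    (hHV : H ≤ Subgroup.normalizer (V : Set G))
    (hf : H ⊓ Subgroup.centralizer (V : Set G) = ⊥)
    (hS1 : Subgroup.centralizer (Cfsg.pPrimeCore p ↥H : Set ↥H) ≤ Cfsg.pPrimeCore p ↥H)
    (hS3 : H = ⨆ A : {A : Subgroup G // A ≤ H ∧ Cfsg.IsBestOffenderOn p V A}, (A : Subgroup G))
    (hH1 : H ≠ ⊥)
    (Ξ : Subgroup G) (hΞq : IsPGroup q Ξ) (hqH : ¬ q ∣ Nat.card H)
    (hΞV : Ξ ≤ Subgroup.normalizer (V : Set G))
    (hΞH : Ξ ≤ Subgroup.normalizer (H : Set G)) :
    (p = 2 ∨ p = 3) ∧ ∃ W D : Subgroup G, W ≤ V ⊓ Subgroup.centralizer (Ξ : Set G) ∧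
      D ≤ H ⊓ Subgroup.centralizer (Ξ : Set G) ∧ Nat.card W = p ^ 2 ∧
      D ≤ Subgroup.normalizer (W : Set G) ∧
      ∃ hn : ((Subgroup.centralizer (W : Set G)).subgroupOf D).Normal,
        Nonempty (↥D ⧸ (Subgroup.centralizer (W : Set G)).subgroupOf D ≃*
          Matrix.SpecialLinearGroup (Fin 2) (ZMod p)) := by
  classical
  obtain ⟨hKH, hKc, hHK⟩ := ppc_explicit (p := p) H
  have hVcomm : ∀ u ∈ V, ∀ v ∈ V, u * v = v * u := fun u hu v hv =>
    congrArg Subtype.val (hV.1.is_comm.comm ⟨u, hu⟩ ⟨v, hv⟩)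
  have hKf := ppc_explicit_faithful H hS1
  have hgenH := ff_gen V H hV hHV hf hS1 hS3 hH1
  obtain ⟨A, hAH, hAp, hVA⟩ : ∃ A : Subgroup G, A ≤ H ∧ Nat.card A = p ∧
      Nat.card ↥(⁅V, A⁆) = p := by
    by_contra hno
    apply hH1
    rw [eq_bot_iff]
    exact hgenH ⊥ (fun B hB h1 h2 => absurd ⟨B, hB, h1, h2⟩ hno)
  exact ff_fixed_section V _ H A hVcomm hV.2 hHV hf hKH hKc hHK hKf hgenH hAH hAp hVA Ξ hΞq hqH
    hΞV hΞH (fun ξ hξ => ppc_normalizer H ξ (hΞH hξ))

/-- The join of the `Ω₁ Z(S)` over the Sylow `p`-subgroups is invariant under automorphisms. -/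
theorem sylow_omega_aut_le {M : Type*} [Group M] [Finite M] {p : ℕ} [Fact p.Prime]
    (φ : M ≃* M) :
    (⨆ S : Sylow p M, Cfsg.omegaOne p ((S : Subgroup M) ⊓
      Subgroup.centralizer ((S : Subgroup M) : Set M))).map φ.toMonoidHom ≤
      ⨆ S : Sylow p M, Cfsg.omegaOne p ((S : Subgroup M) ⊓
        Subgroup.centralizer ((S : Subgroup M) : Set M)) := by
  rw [Subgroup.map_iSup]
  apply iSup_le
  intro S
  have hcard : Nat.card ↥((S : Subgroup M).map φ.toMonoidHom) =
      p ^ (Nat.card M).factorization p := by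
    rw [Subgroup.card_map_of_injective φ.injective]; exact S.card_eq_multiplicity
  refine le_trans ?_ (le_iSup _ (Sylow.ofCard _ hcard))
  unfold Cfsg.omegaOne
  rw [MonoidHom.map_closure, Subgroup.closure_le]
  rintro _ ⟨x, ⟨hx1, hx2⟩, rfl⟩
  apply Subgroup.subset_closure
  refine ⟨?_, by
    show (φ x) ^ p = 1
    rw [← map_pow, hx2, map_one]⟩
  rw [Sylow.coe_ofCard]
  refine Subgroup.mem_inf.mpr ⟨Subgroup.mem_map_of_mem _ hx1.1, ?_⟩
  rw [Subgroup.mem_centralizer_iff]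
  rintro _ ⟨s, hs, rfl⟩
  have := Subgroup.mem_centralizer_iff.mp hx1.2 s hs
  show φ s * φ x = φ x * φ s
  rw [← map_mul, ← map_mul, this]

/-- `holo_exists` together with a lift of a group of automorphisms preserving `V`. -/
theorem holo_exists_act {G : Type u} [Group G] [Finite G] (V : Subgroup G) [V.Normal]
    {Y : Type*} [Group Y] (θ : Y →* MulAut G) (hθ : ∀ y, ∀ v ∈ V, θ y v ∈ V) :
    ∃ (Γ : Type u) (_ : Group Γ) (_ : Finite Γ) (ψ : G →* Γ) (ι : ↥V →* Γ) (lam : Y →* Γ),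
      Function.Injective ι ∧
      (∀ (g : G) (v : ↥V), ψ g * ι v * (ψ g)⁻¹ = ι (MulAut.conjNormal g v)) ∧
      ψ.ker = Subgroup.centralizer (V : Set G) ∧
      (∀ (y : Y) (g : G), lam y * ψ g * (lam y)⁻¹ = ψ (θ y g)) ∧
      (∀ (y : Y) (v : ↥V), lam y * ι v * (lam y)⁻¹ = ι ⟨θ y v, hθ y v v.2⟩) := by
  have hfin : Finite (↥V ⋊[MonoidHom.id (MulAut ↥V)] MulAut ↥V) :=
    Finite.of_equiv (↥V × MulAut ↥V) SemidirectProduct.equivProd.symm
  obtain ⟨θV, hθV⟩ : ∃ θV : Y →* MulAut ↥V, ∀ y (v : ↥V), ((θV y v : ↥V) : G) = θ y v :=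
    ⟨{ toFun := fun y =>
        { toFun := fun v => ⟨θ y v, hθ y v v.2⟩
          invFun := fun v => ⟨θ y⁻¹ v, hθ y⁻¹ v v.2⟩
          left_inv := fun v => Subtype.ext (by simp)
          right_inv := fun v => Subtype.ext (by simp)
          map_mul' := fun a b => Subtype.ext (map_mul (θ y) (a : G) (b : G)) }
       map_one' := by ext v; simp
       map_mul' := fun a b => by ext v; simp }, fun y v => rfl⟩
  refine ⟨↥V ⋊[MonoidHom.id (MulAut ↥V)] MulAut ↥V, inferInstance, hfin,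
    (SemidirectProduct.inr).comp MulAut.conjNormal, SemidirectProduct.inl,
    (SemidirectProduct.inr).comp θV,
    SemidirectProduct.inl_injective, ?_, ?_, ?_, ?_⟩
  · intro g v
    have := SemidirectProduct.inl_aut (φ := MonoidHom.id (MulAut ↥V)) (MulAut.conjNormal g) v
    rw [MonoidHom.comp_apply, ← map_inv]
    exact this.symm
  · ext g
    rw [MonoidHom.mem_ker, MonoidHom.comp_apply, Subgroup.mem_centralizer_iff]
    constructor
    · intro h v hv
      have h1 : MulAut.conjNormal (H := V) g = 1 :=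
        SemidirectProduct.inr_injective (by rw [h, map_one])
      have h2 : (MulAut.conjNormal g) (⟨v, hv⟩ : ↥V) = ⟨v, hv⟩ := by rw [h1]; rfl
      have h3 := congrArg Subtype.val h2
      rw [MulAut.conjNormal_apply] at h3
      have h4 : g * v * g⁻¹ = v := h3
      calc v * g = (g * v * g⁻¹) * g := by rw [h4]
        _ = g * v := by group
    · intro h
      have h1 : MulAut.conjNormal (H := V) g = 1 := by
        ext v
        rw [MulAut.conjNormal_apply]
        have := h v v.2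
        show g * (v : G) * g⁻¹ = v
        rw [← this]; group
      rw [h1, map_one]
  · intro y g
    rw [MonoidHom.comp_apply, MonoidHom.comp_apply, MonoidHom.comp_apply, ← map_inv, ← map_mul,
      ← map_mul]
    congr 1
    ext v
    rw [MulAut.conjNormal_apply, MulAut.mul_apply, MulAut.mul_apply, hθV,
      MulAut.conjNormal_apply, map_mul, map_mul, map_inv]
    have h1 : ((θV y)⁻¹ v : G) = (θ y)⁻¹ (v : G) := by
      have h2 := hθV y ((θV y)⁻¹ v)
      rw [MulAut.apply_inv_self] at h2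
      rw [h2, MulAut.inv_apply_self]
    rw [h1, MulAut.apply_inv_self]
  · intro y v
    have := SemidirectProduct.inl_aut (φ := MonoidHom.id (MulAut ↥V)) (θV y) v
    have h1 : (⟨θ y v, hθ y v v.2⟩ : ↥V) = θV y v := Subtype.ext (hθV y v).symm
    rw [h1, MonoidHom.comp_apply, ← map_inv]
    exact this.symm

end Cfsg.Agent.Helper21
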