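import Mathlib
import Cfsg.Agent.Helper21.FFFix2

set_option autoImplicit false
set_option linter.style.haveILetI false

namespace Cfsg.Agent.Helper21

/-- The cover lemma: every element of the factor `E` is a fixed point of `Ξ` times an
element of `C_H([V, E])`. -/
theorem ff_cover {G : Type*} [Group G] [Finite G] {p q : ℕ} [Fact p.Prime] [Fact q.Prime]
    (V K H A : Subgroup G)
    (hVcomm : ∀ u ∈ V, ∀ v ∈ V, u * v = v * u) (hVpow : ∀ v ∈ V, v ^ p = 1)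
    (hHV : H ≤ Subgroup.normalizer (V : Set G))
    (hf : H ⊓ Subgroup.centralizer (V : Set G) = ⊥)
    (hKH : K ≤ H) (hKc : (Nat.card K).Coprime p) (hHK : H ≤ Subgroup.normalizer (K : Set G))
    (hKf : ∀ P : Subgroup G, P ≤ H → IsPGroup p P →
      P ⊓ Subgroup.centralizer (K : Set G) = ⊥)
    (hgenH : ∀ S : Subgroup G, (∀ B : Subgroup G, B ≤ H → Nat.card B = p →
      Nat.card ↥(⁅V, B⁆) = p → B ≤ S) → H ≤ S)
    (hAH : A ≤ H) (hAp : Nat.card A = p) (hVA : Nat.card ↥(⁅V, A⁆) = p)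
    (Ξ : Subgroup G) (hΞq : IsPGroup q Ξ) (hqH : ¬ q ∣ Nat.card H)
    (hΞV : Ξ ≤ Subgroup.normalizer (V : Set G))
    (hΞH : Ξ ≤ Subgroup.normalizer (H : Set G)) (hΞK : Ξ ≤ Subgroup.normalizer (K : Set G)) :
    ∀ x ∈ ⁅K, A⁆ ⊔ A, ∃ d ∈ H ⊓ Subgroup.centralizer (Ξ : Set G),
      ∃ f ∈ H ⊓ Subgroup.centralizer ((⁅V, ⁅K, A⁆ ⊔ A⁆ : Subgroup G) : Set G), x = d * f := by
  classical
  have hp := (Fact.out : p.Prime)
  have hq := (Fact.out : q.Prime)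
  obtain ⟨c1, ⟨e⟩, c3, c4, -, c6, c7, c8, c9, c10, -⟩ :=
    ff_struct_single V K H A hVcomm hVpow hHV hf hKH hKc hHK hKf hgenH hAH hAp hVA
  have hdich := fun (ξ : G) (hξ : ξ ∈ Ξ) => ff_conj_dichotomy V K H A hVcomm hVpow hHV hf hKH hKc
    hHK hKf hgenH hAH hAp hVA ξ (hΞV hξ) (hΞH hξ) (hΞK hξ)
  have hstab := fun (ξ : G) (hξ : ξ ∈ Ξ) hξE => ff_stab_cent V K H A hVcomm hVpow hHV hf hKH hKc
    hHK hKf hgenH hAH hAp hVA Ξ hΞq hqH ξ hξ (hΞV hξ) hξE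
  obtain ⟨E, hEdef⟩ : ∃ E : Subgroup G, E = ⁅K, A⁆ ⊔ A := ⟨_, rfl⟩
  rw [← hEdef] at c3 c4 c6 c7 c8 c9 c10 e hdich hstab ⊢
  obtain ⟨W₁, hW₁def⟩ : ∃ W₁ : Subgroup G, W₁ = ⁅V, E⁆ := ⟨_, rfl⟩
  rw [← hW₁def] at c3 c4 c6 c7 c8 c9 hdich hstab ⊢
  obtain ⟨F, hFdef⟩ : ∃ F : Subgroup G, F = H ⊓ Subgroup.centralizer (W₁ : Set G) := ⟨_, rfl⟩
  rw [← hFdef] at c6 c7 c8 c9 hdich ⊢
  have hEH : E ≤ H := le_sup_left.trans_eq c8
  have hFH : F ≤ H := le_sup_right.trans_eq c8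
  have hW₁V : W₁ ≤ V := by rw [hW₁def]; exact comm_le_left V E (fun x hx => hHV (hEH hx))
  have hHW₁ : H ≤ Subgroup.normalizer (W₁ : Set G) := fun h hh => by
    rw [hW₁def]; exact comm_normalizer V E h (hHV hh) (c10 hh)
  have hEF : ∀ x ∈ E, ∀ f ∈ F, x * f = f * x := by
    intro x hx f hf'
    have := Subgroup.commutator_mem_commutator (H₁ := E) (H₂ := F) hx hf'
    rw [c6, Subgroup.mem_bot, commutatorElement_def] at this
    calc x * f = (x * f * x⁻¹ * f⁻¹) * f * x := by group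
      _ = f * x := by rw [this, one_mul]
  have hFW : ∀ f ∈ F, ∀ w ∈ W₁, f * w * f⁻¹ = w := by
    intro f hf' w hw
    rw [hFdef] at hf'
    have := (Subgroup.mem_centralizer_iff.mp hf'.2) w hw
    rw [← this]; group
  have hΞE : ∀ ξ ∈ Ξ, ξ ∉ Subgroup.normalizer (E : Set G) → ∀ x ∈ E, ξ * x * ξ⁻¹ ∈ F := by
    intro ξ hξ hn x hx
    rcases hdich ξ hξ with h | h
    · exact absurd (mem_normalizer_of_map_eq E ξ h) hn
    · exact h (Subgroup.mem_map_of_mem _ hx)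
  have hΞW : ∀ ξ ∈ Ξ, ξ ∉ Subgroup.normalizer (E : Set G) → ∀ w ∈ W₁,
      ξ * w * ξ⁻¹ ∈ V ⊓ Subgroup.centralizer (E : Set G) := by
    intro ξ hξ hn w hw
    apply c9
    have h1 : ξ * w * ξ⁻¹ ∈ W₁.map (MulAut.conj ξ).toMonoidHom := Subgroup.mem_map_of_mem _ hw
    rw [hW₁def, Subgroup.map_commutator, map_conj_eq_self V ξ (hΞV hξ)] at h1
    refine Subgroup.commutator_mono le_rfl ?_ h1
    rcases hdich ξ hξ with h | h
    · exact absurd (mem_normalizer_of_map_eq E ξ h) hn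
    · exact h
  have hΞstabE : ∀ ξ ∈ Ξ, ξ ∈ Subgroup.normalizer (E : Set G) → ∀ x ∈ E, ξ * x * ξ⁻¹ = x :=
    fun ξ hξ hn => (hstab ξ hξ hn).2
  have hΞstabW : ∀ ξ ∈ Ξ, ξ ∈ Subgroup.normalizer (E : Set G) → ∀ w ∈ W₁, ξ * w * ξ⁻¹ = w :=
    fun ξ hξ hn => (hstab ξ hξ hn).1
  -- the number m
  obtain ⟨m, hmdef⟩ : ∃ m : ℕ,
      m = Nat.card ↥((Subgroup.normalizer (E : Set G)).subgroupOf Ξ) := ⟨_, rfl⟩
  have hmq : ∃ j, m = q ^ j := by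
    have hPG : IsPGroup q ↥((Subgroup.normalizer (E : Set G)).subgroupOf Ξ) :=
      hΞq.to_subgroup _
    obtain ⟨j, hj⟩ := IsPGroup.iff_card.mp hPG
    exact ⟨j, hmdef.trans hj⟩
  have hqE : ¬ q ∣ Nat.card E := fun h => hqH (h.trans (Subgroup.card_dvd_of_le hEH))
  have hmE : (Nat.card E).Coprime m := by
    obtain ⟨j, rfl⟩ := hmq
    exact Nat.Coprime.pow_right _ ((Nat.Prime.coprime_iff_not_dvd hq).mpr hqE).symm
  have hpq : p ≠ q := by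
    rintro rfl
    apply hqH
    rw [← hAp]; exact Subgroup.card_dvd_of_le hAH
  have hmp : m.Coprime p := by
    obtain ⟨j, rfl⟩ := hmq
    exact Nat.Coprime.pow_left _ ((Nat.coprime_primes hq hp).mpr (Ne.symm hpq))
  -- the cover lemma
  intro x hx
  obtain ⟨⟨y, hy⟩, hyx⟩ := (powCoprime hmE).surjective ⟨x, hx⟩
  have hyx' : y ^ m = x := by
    have := congrArg Subtype.val hyx
    simpa using this
  have hself : ∀ ζ ∈ Ξ, (ζ * y * ζ⁻¹) * y = y * (ζ * y * ζ⁻¹) := by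
    intro ζ hζ
    by_cases hn : ζ ∈ Subgroup.normalizer (E : Set G)
    · rw [hΞstabE ζ hζ hn y hy]
    · exact (hEF y hy _ (hΞE ζ hζ hn y hy)).symm
  have hcomm : ∀ ξ ∈ Ξ, ∀ η ∈ Ξ,
      (ξ * y * ξ⁻¹) * (η * y * η⁻¹) = (η * y * η⁻¹) * (ξ * y * ξ⁻¹) := by
    intro ξ hξ η hη
    have h := hself (η⁻¹ * ξ) (Ξ.mul_mem (Ξ.inv_mem hη) hξ)
    calc (ξ * y * ξ⁻¹) * (η * y * η⁻¹)
        = η * (((η⁻¹ * ξ) * y * (η⁻¹ * ξ)⁻¹) * y) * η⁻¹ := by group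
      _ = η * (y * ((η⁻¹ * ξ) * y * (η⁻¹ * ξ)⁻¹)) * η⁻¹ := by rw [h]
      _ = (η * y * η⁻¹) * (ξ * y * ξ⁻¹) := by group
  obtain ⟨n, f, hn1, hn2, hf1, hnf⟩ := norm_exists Ξ (Subgroup.normalizer (E : Set G)) F y
    hcomm (fun ξ hξ hn => hΞstabE ξ hξ hn y hy) (fun ξ hξ hn => hΞE ξ hξ hn y hy)
  refine ⟨n, Subgroup.mem_inf.mpr ⟨?_, ?_⟩, f⁻¹, F.inv_mem hf1, ?_⟩
  · refine (Subgroup.closure_le H).mpr ?_ hn1
    rintro _ ⟨ξ, hξ, rfl⟩
    exact (Subgroup.mem_normalizer_iff.mp (hΞH hξ) y).mp (hEH hy)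
  · rw [Subgroup.mem_centralizer_iff]
    intro η hη
    have := hn2 η hη
    calc η * n = (η * n * η⁻¹) * η := by group
      _ = n * η := by rw [this]
  · rw [hnf, ← hmdef, hyx']; group

/-- A faithful FF-configuration under a coprime operator group `Ξ` is generated by the fixed
points of `Ξ` together with a Sylow `p`-subgroup. -/
theorem ff_gen_fixed {G : Type*} [Group G] [Finite G] {p q : ℕ} [Fact p.Prime] [Fact q.Prime]
    (V K H : Subgroup G)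
    (hVcomm : ∀ u ∈ V, ∀ v ∈ V, u * v = v * u) (hVpow : ∀ v ∈ V, v ^ p = 1)
    (hHV : H ≤ Subgroup.normalizer (V : Set G))
    (hf : H ⊓ Subgroup.centralizer (V : Set G) = ⊥)
    (hKH : K ≤ H) (hKc : (Nat.card K).Coprime p) (hHK : H ≤ Subgroup.normalizer (K : Set G))
    (hKf : ∀ P : Subgroup G, P ≤ H → IsPGroup p P →
      P ⊓ Subgroup.centralizer (K : Set G) = ⊥)
    (hgenH : ∀ S : Subgroup G, (∀ B : Subgroup G, B ≤ H → Nat.card B = p →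
      Nat.card ↥(⁅V, B⁆) = p → B ≤ S) → H ≤ S)
    (Ξ : Subgroup G) (hΞq : IsPGroup q Ξ) (hqH : ¬ q ∣ Nat.card H)
    (hΞV : Ξ ≤ Subgroup.normalizer (V : Set G))
    (hΞH : Ξ ≤ Subgroup.normalizer (H : Set G)) (hΞK : Ξ ≤ Subgroup.normalizer (K : Set G))
    (M : Subgroup G) (hD : H ⊓ Subgroup.centralizer (Ξ : Set G) ≤ M)
    (hsyl : ∀ B : Subgroup G, B ≤ H → Nat.card B = p → ∃ h ∈ H, ∀ b ∈ B, h * b * h⁻¹ ∈ M) :
    H ≤ M := by
  apply hgenH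
  intro B hBH hBp hVB
  obtain ⟨-, -, -, -, -, c6, -, c8, -, c10, -⟩ :=
    ff_struct_single V K H B hVcomm hVpow hHV hf hKH hKc hHK hKf hgenH hBH hBp hVB
  have hcover := ff_cover V K H B hVcomm hVpow hHV hf hKH hKc hHK hKf hgenH hBH hBp hVB Ξ hΞq hqH
    hΞV hΞH hΞK
  obtain ⟨E, hEdef⟩ : ∃ E : Subgroup G, E = ⁅K, B⁆ ⊔ B := ⟨_, rfl⟩
  rw [← hEdef] at c6 c8 c10 hcover
  obtain ⟨F, hFdef⟩ : ∃ F : Subgroup G,
      F = H ⊓ Subgroup.centralizer ((⁅V, E⁆ : Subgroup G) : Set G) := ⟨_, rfl⟩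
  rw [← hFdef] at c6 c8 hcover
  have hBE : B ≤ E := by rw [hEdef]; exact le_sup_right
  have hFH : F ≤ H := le_sup_right.trans_eq c8
  have hEF : ∀ x ∈ E, ∀ f ∈ F, f * x * f⁻¹ = x := by
    intro x hx f hf'
    have := Subgroup.commutator_mem_commutator (H₁ := E) (H₂ := F) hx hf'
    rw [c6, Subgroup.mem_bot, commutatorElement_def] at this
    have h1 : x * f = f * x := by
      calc x * f = (x * f * x⁻¹ * f⁻¹) * f * x := by group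
        _ = f * x := by rw [this, one_mul]
    calc f * x * f⁻¹ = (x * f) * f⁻¹ := by rw [h1]
      _ = x := by group
  obtain ⟨h, hhH, hh⟩ := hsyl B hBH hBp
  have hhS : h ∈ F ⊔ E := by rw [sup_comm, c8]; exact hhH
  obtain ⟨f, hf', e, he, hhef⟩ := mem_sup_of_le_normalizer F E (hFH.trans c10) h hhS
  obtain ⟨d, hd, f', hf'', hedf⟩ := hcover e he
  intro b hb
  have hbE := hBE hb
  have h1 : h * b * h⁻¹ = d * b * d⁻¹ := by
    rw [hhef, hedf]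
    calc (d * f' * f) * b * (d * f' * f)⁻¹ = d * (f' * (f * b * f⁻¹) * f'⁻¹) * d⁻¹ := by group
      _ = d * b * d⁻¹ := by rw [hEF b hbE f hf', hEF b hbE f' hf'']
  have h2 := hh b hb
  rw [h1] at h2
  have hdM := hD hd
  have hb' : b = d⁻¹ * (d * b * d⁻¹) * d := by group
  rw [hb']
  exact M.mul_mem (M.mul_mem (M.inv_mem hdM) h2) hdM

/-- `ff_gen_fixed` under the hypotheses of the FF structure theorem. -/
theorem ff_gen_fixed' {G : Type*} [Group G] [Finite G] {p q : ℕ} [Fact p.Prime]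
    [Fact q.Prime] (V H : Subgroup G) (hV : Cfsg.IsElementaryAbelian p V)
    (hHV : H ≤ Subgroup.normalizer (V : Set G))
    (hf : H ⊓ Subgroup.centralizer (V : Set G) = ⊥)
    (hS1 : Subgroup.centralizer (Cfsg.pPrimeCore p ↥H : Set ↥H) ≤ Cfsg.pPrimeCore p ↥H)
    (hS3 : H = ⨆ A : {A : Subgroup G // A ≤ H ∧ Cfsg.IsBestOffenderOn p V A}, (A : Subgroup G))
    (hH1 : H ≠ ⊥)
    (Ξ : Subgroup G) (hΞq : IsPGroup q Ξ) (hqH : ¬ q ∣ Nat.card H)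
    (hΞV : Ξ ≤ Subgroup.normalizer (V : Set G))
    (hΞH : Ξ ≤ Subgroup.normalizer (H : Set G))
    (M : Subgroup G) (hD : H ⊓ Subgroup.centralizer (Ξ : Set G) ≤ M)
    (hsyl : ∀ B : Subgroup G, B ≤ H → Nat.card B = p → ∃ h ∈ H, ∀ b ∈ B, h * b * h⁻¹ ∈ M) :
    H ≤ M := by
  classical
  obtain ⟨hKH, hKc, hHK⟩ := ppc_explicit (p := p) H
  have hVcomm : ∀ u ∈ V, ∀ v ∈ V, u * v = v * u := fun u hu v hv =>
    congrArg Subtype.val (hV.1.is_comm.comm ⟨u, hu⟩ ⟨v, hv⟩)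
  have hKf := ppc_explicit_faithful H hS1
  have hgenH := ff_gen V H hV hHV hf hS1 hS3 hH1
  exact ff_gen_fixed V _ H hVcomm hV.2 hHV hf hKH hKc hHK hKf hgenH Ξ hΞq hqH
    hΞV hΞH (fun ξ hξ => ppc_normalizer H ξ (hΞH hξ)) M hD hsyl

end Cfsg.Agent.Helper21
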