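import Mathlib
import Cfsg.Prelude.Def_OddOrderLocal
import Cfsg.Agent.Helper21.PGroupAb

set_option autoImplicit false
set_option linter.style.haveILetI false
set_option linter.unusedSectionVars false

namespace Cfsg.Agent.Helper21

open scoped commutatorElement

/-! ## Generalities used for metacyclic `p`-groups -/

/-- If `S = A⟨s⟩` with `A` normal and abelian then `|A| = |A ∩ Z(S)| · |S'|`. -/
theorem card_eq_inf_center_mul_commutator {S : Type*} [Group S] [Finite S]
    (A : Subgroup S) [hAn : A.Normal] (hAc : ∀ a ∈ A, ∀ b ∈ A, a * b = b * a) (s : S)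
    (htop : A ⊔ Subgroup.zpowers s = ⊤) :
    Nat.card A = Nat.card (A ⊓ Subgroup.center S : Subgroup S) * Nat.card (commutator S) := by
  classical
  have hcen : ∀ x, (∀ a ∈ A, a * x = x * a) → s * x = x * s → x ∈ Subgroup.center S := by
    intro x hxA hxt
    have h1 : A ⊔ Subgroup.zpowers s ≤ Subgroup.centralizer {x} := by
      apply sup_le
      · intro a ha
        rw [Subgroup.mem_centralizer_iff]
        intro y hy
        rw [Set.mem_singleton_iff] at hy
        rw [hy]; exact (hxA a ha).symm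
      · rw [Subgroup.zpowers_le, Subgroup.mem_centralizer_iff]
        intro y hy
        rw [Set.mem_singleton_iff] at hy
        rw [hy]; exact hxt.symm
    rw [htop] at h1
    rw [Subgroup.mem_center_iff]
    intro g
    exact (Subgroup.mem_centralizer_iff.mp (h1 (Subgroup.mem_top g)) x (Set.mem_singleton x)).symm
  have hφA : ∀ b ∈ A, b * s * b⁻¹ * s⁻¹ ∈ A := by
    intro b hb
    have h1 := hAn.conj_mem _ (inv_mem hb) s
    have e : b * s * b⁻¹ * s⁻¹ = b * (s * b⁻¹ * s⁻¹) := by group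
    rw [e]; exact mul_mem hb h1
  let φ : ↥A →* S := MonoidHom.mk' (fun a => (a : S) * s * (a : S)⁻¹ * s⁻¹) (by
    intro a b
    have hb := hφA b b.2
    have ha := hφA a a.2
    have hc := hAc _ a.2 _ hb
    calc ((a * b : ↥A) : S) * s * ((a * b : ↥A) : S)⁻¹ * s⁻¹
        = (a : S) * ((b : S) * s * (b : S)⁻¹ * s⁻¹) * (s * (a : S)⁻¹ * s⁻¹) := by
          rw [Subgroup.coe_mul]; group
      _ = ((b : S) * s * (b : S)⁻¹ * s⁻¹) * (a : S) * (s * (a : S)⁻¹ * s⁻¹) := by rw [hc]
      _ = ((b : S) * s * (b : S)⁻¹ * s⁻¹) * ((a : S) * s * (a : S)⁻¹ * s⁻¹) := by group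
      _ = ((a : S) * s * (a : S)⁻¹ * s⁻¹) * ((b : S) * s * (b : S)⁻¹ * s⁻¹) := hAc _ hb _ ha)
  have hφapp : ∀ a : ↥A, φ a = (a : S) * s * (a : S)⁻¹ * s⁻¹ := fun a => rfl
  have hker : φ.ker = (Subgroup.center S).subgroupOf A := by
    ext a
    rw [MonoidHom.mem_ker, hφapp, Subgroup.mem_subgroupOf]
    constructor
    · intro h
      have h1 : (a : S) * s = s * a := mul_inv_eq_iff_eq_mul.mp (mul_inv_eq_one.mp h)
      exact hcen a (fun b hb => hAc b hb a a.2) h1.symm
    · intro h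
      rw [← Subgroup.mem_center_iff.mp h s]; group
  have hrange : φ.range = commutator S := by
    apply le_antisymm
    · rintro _ ⟨a, rfl⟩
      rw [hφapp, commutator_def]
      exact Subgroup.commutator_mem_commutator (Subgroup.mem_top (a : S)) (Subgroup.mem_top s)
    · have hRA : φ.range ≤ A := by
        rintro _ ⟨a, rfl⟩
        exact hφA a a.2
      haveI hRn : φ.range.Normal := by
        have h1 : A ⊔ Subgroup.zpowers s ≤ Subgroup.normalizer (φ.range : Set S) := by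
          apply sup_le
          · intro a ha
            apply mem_normalizer_of_conj'
            intro r hr
            have : a * r * a⁻¹ = r := by rw [hAc a ha r (hRA hr), mul_inv_cancel_right]
            rw [this]; exact hr
          · rw [Subgroup.zpowers_le]
            apply mem_normalizer_of_conj'
            rintro _ ⟨a, rfl⟩
            refine ⟨⟨s * a * s⁻¹, hAn.conj_mem _ a.2 s⟩, ?_⟩
            rw [hφapp, hφapp]
            show s * (a : S) * s⁻¹ * s * (s * (a : S) * s⁻¹)⁻¹ * s⁻¹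
              = s * ((a : S) * s * (a : S)⁻¹ * s⁻¹) * s⁻¹
            group
        rw [htop] at h1
        exact Subgroup.normalizer_eq_top_iff.mp (top_le_iff.mp h1)
      let π := QuotientGroup.mk' φ.range
      have hπ : Function.Surjective π := QuotientGroup.mk'_surjective _
      have hq : ∀ x y : S ⧸ φ.range, x * y = y * x := by
        apply comm_of_sup_zpowers (A.map π) (π s)
        · rw [← MonoidHom.map_zpowers, ← Subgroup.map_sup, htop]
          exact Subgroup.map_top_of_surjective π hπ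
        · rintro _ ⟨a, ha, rfl⟩ _ ⟨b, hb, rfl⟩
          rw [← map_mul, ← map_mul, hAc a ha b hb]
        · rintro _ ⟨a, ha, rfl⟩
          have h1 : a * s * a⁻¹ * s⁻¹ ∈ φ.range := ⟨⟨a, ha⟩, rfl⟩
          have h2 : π (a * s * a⁻¹ * s⁻¹) = 1 := (QuotientGroup.eq_one_iff _).mpr h1
          rw [map_mul, map_mul, map_mul, map_inv, map_inv] at h2
          exact mul_inv_eq_iff_eq_mul.mp (mul_inv_eq_one.mp h2)
      rw [commutator_def, Subgroup.commutator_le]
      intro g₁ _ g₂ _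
      apply (QuotientGroup.eq_one_iff _).mp
      show π ⁅g₁, g₂⁆ = 1
      rw [commutatorElement_def, map_mul, map_mul, map_mul, map_inv, map_inv, hq (π g₁) (π g₂)]
      group
  have h1 := Subgroup.card_mul_index φ.ker
  rw [Subgroup.index_ker, hrange, hker] at h1
  rw [← h1]
  congr 1
  rw [← Subgroup.inf_subgroupOf_left]
  exact Nat.card_congr (Subgroup.subgroupOfEquivOfLe inf_le_left).toEquiv

/-- An element commuting with two generators is central. -/
theorem comm_all_of_gens {T : Type*} [Group T] {a b g : T}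
    (htop : Subgroup.zpowers a ⊔ Subgroup.zpowers b = ⊤) (ha : g * a = a * g)
    (hb : g * b = b * g) (x : T) : g * x = x * g := by
  have h1 : Subgroup.zpowers a ⊔ Subgroup.zpowers b ≤ Subgroup.centralizer {g} := by
    apply sup_le
    · rw [Subgroup.zpowers_le, Subgroup.mem_centralizer_iff]
      intro y hy
      rw [Set.mem_singleton_iff] at hy
      rw [hy]; exact ha
    · rw [Subgroup.zpowers_le, Subgroup.mem_centralizer_iff]
      intro y hy
      rw [Set.mem_singleton_iff] at hy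
      rw [hy]; exact hb
  rw [htop] at h1
  exact Subgroup.mem_centralizer_iff.mp (h1 (Subgroup.mem_top x)) g (Set.mem_singleton g)

/-- If all commutators with `g` lie in `T` then the class of `g` has at most `|T|` elements. -/
theorem index_centralizer_le_card {T : Type*} [Group T] [Finite T] (g : T) (K : Subgroup T)
    (h : ∀ x : T, x * g * x⁻¹ * g⁻¹ ∈ K) :
    (Subgroup.centralizer ({g} : Set T)).index ≤ Nat.card K := by
  rw [Subgroup.index_eq_card]
  let f : T ⧸ Subgroup.centralizer ({g} : Set T) → K :=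
    fun q => ⟨q.out * g * q.out⁻¹ * g⁻¹, h _⟩
  apply Nat.card_le_card_of_injective f
  intro q1 q2 hq
  have h1 : q1.out * g * q1.out⁻¹ * g⁻¹ = q2.out * g * q2.out⁻¹ * g⁻¹ :=
    congrArg Subtype.val hq
  have h2 : q1.out * g * q1.out⁻¹ = q2.out * g * q2.out⁻¹ := mul_right_cancel h1
  have h3 : (q1.out : T ⧸ Subgroup.centralizer ({g} : Set T)) = q2.out := by
    rw [QuotientGroup.eq, Subgroup.mem_centralizer_iff]
    intro y hy
    rw [Set.mem_singleton_iff] at hy
    rw [hy]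
    have e1 : g * (q1.out⁻¹ * q2.out) = q1.out⁻¹ * (q1.out * g * q1.out⁻¹) * q2.out := by group
    have e2 : q1.out⁻¹ * q2.out * g = q1.out⁻¹ * (q2.out * g * q2.out⁻¹) * q2.out := by group
    rw [e1, e2, h2]
  rwa [QuotientGroup.out_eq', QuotientGroup.out_eq'] at h3

/-- If only the powers `c ^ z` with `d ∣ z` commute with `g`, the class of `g` has at least `d`
elements. -/
theorem le_index_centralizer {T : Type*} [Group T] [Finite T] (g c : T) (d : ℕ)
    (h : ∀ z : ℕ, c ^ z * g = g * c ^ z → d ∣ z) :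
    d ≤ (Subgroup.centralizer ({g} : Set T)).index := by
  rw [Subgroup.index_eq_card]
  have key : ∀ i j : ℕ, i ≤ j → j < d →
      ((c ^ i : T) : T ⧸ Subgroup.centralizer ({g} : Set T)) = ((c ^ j : T) : T ⧸ _) → i = j := by
    intro i j hij hjd he
    rw [QuotientGroup.eq, Subgroup.mem_centralizer_iff] at he
    have h1 := he g (Set.mem_singleton g)
    have h2 : (c ^ i)⁻¹ * c ^ j = c ^ (j - i) := by
      have : c ^ j = c ^ i * c ^ (j - i) := by rw [← pow_add, Nat.add_sub_cancel' hij]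
      rw [this, inv_mul_cancel_left]
    rw [h2] at h1
    have h3 := h (j - i) h1.symm
    have h4 : j - i = 0 := Nat.eq_zero_of_dvd_of_lt h3 (by omega)
    omega
  let f : Fin d → T ⧸ Subgroup.centralizer ({g} : Set T) := fun i => ((c ^ (i : ℕ) : T) : T ⧸ _)
  have hf : Function.Injective f := by
    intro i j hij
    rcases le_total (i : ℕ) (j : ℕ) with h1 | h1
    · exact Fin.ext (key i j h1 j.2 hij)
    · exact Fin.ext (key j i h1 i.2 hij.symm).symm
  have := Nat.card_le_card_of_injective f hf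
  rwa [Nat.card_fin] at this

/-- Powers with divisible exponents. -/
theorem pow_mem_zpowers_of_dvd {T : Type*} [Group T] (a : T) {d e : ℕ} (h : d ∣ e) :
    a ^ e ∈ Subgroup.zpowers (a ^ d) := by
  obtain ⟨c, rfl⟩ := h
  rw [pow_mul]
  exact Subgroup.pow_mem _ (Subgroup.mem_zpowers _) c

/-- Subgroups generated by a power of a generator of a cyclic normal subgroup are normal. -/
theorem zpowers_pow_normal {T : Type*} [Group T] (a : T) (hN : (Subgroup.zpowers a).Normal)
    (e : ℕ) : (Subgroup.zpowers (a ^ e)).Normal := by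
  constructor
  intro x hx g
  obtain ⟨z, rfl⟩ := Subgroup.mem_zpowers_iff.mp hx
  have h1 : g * a * g⁻¹ ∈ Subgroup.zpowers a := hN.conj_mem a (Subgroup.mem_zpowers a) g
  obtain ⟨w, hw⟩ := Subgroup.mem_zpowers_iff.mp h1
  have h2 : g * (a ^ e) ^ z * g⁻¹ = ((g * a * g⁻¹) ^ e) ^ z := by
    rw [conj_pow, conj_zpow]
  have h3 : (a ^ w) ^ e = (a ^ e) ^ w := by
    rw [← zpow_natCast (a ^ w) e, ← zpow_mul, mul_comm, zpow_mul, zpow_natCast]
  rw [h2, ← hw, h3]
  exact Subgroup.zpow_mem _ (Subgroup.zpow_mem _ (Subgroup.mem_zpowers _) w) z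

/-- The order of a `p`-power power. -/
theorem orderOf_pow_prime_pow {T : Type*} [Group T] {p : ℕ} (hp : p.Prime) {a : T} {m : ℕ}
    (ha : orderOf a = p ^ m) {u : ℕ} (hu : u ≤ m) : orderOf (a ^ p ^ u) = p ^ (m - u) := by
  rw [orderOf_pow_of_dvd (pow_ne_zero _ hp.ne_zero) (by rw [ha]; exact pow_dvd_pow p hu), ha,
    Nat.pow_div hu hp.pos]

/-- Subgroups of a cyclic `p`-group. -/
theorem exists_eq_zpowers_pow {T : Type*} [Group T] [Finite T] {p : ℕ} (hp : p.Prime) {c : T}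
    {m : ℕ} (hc : orderOf c = p ^ m) (L : Subgroup T) (hL : L ≤ Subgroup.zpowers c) :
    ∃ u, u ≤ m ∧ L = Subgroup.zpowers (c ^ p ^ u) := by
  have h1 : Nat.card L ∣ p ^ m := by
    rw [← hc, ← Nat.card_zpowers]
    exact Subgroup.card_dvd_of_le hL
  obtain ⟨j, hj, hLj⟩ := (Nat.dvd_prime_pow hp).mp h1
  refine ⟨m - j, Nat.sub_le _ _, ?_⟩
  apply Subgroup.eq_of_le_of_card_ge
  · intro h hh
    obtain ⟨z, rfl⟩ := (Submonoid.mem_powers_iff _ _).mp (mem_powers_iff_mem_zpowers.mpr (hL hh))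
    have h2 : (c ^ z) ^ p ^ j = 1 := by
      have := pow_card_eq_one' (G := L) (x := ⟨c ^ z, hh⟩)
      rw [hLj] at this
      exact congrArg Subtype.val this
    rw [← pow_mul, ← orderOf_dvd_iff_pow_eq_one, hc] at h2
    have h3 : p ^ m = p ^ (m - j) * p ^ j := by rw [← pow_add, Nat.sub_add_cancel hj]
    rw [h3] at h2
    exact pow_mem_zpowers_of_dvd c (Nat.dvd_of_mul_dvd_mul_right (pow_pos hp.pos j) h2)
  · rw [Nat.card_zpowers, orderOf_pow_prime_pow hp hc (Nat.sub_le _ _), hLj,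
      Nat.sub_sub_self hj]

/-- `|M| = |N ∩ M| · |MN/N|`. -/
theorem card_eq_card_inf_mul_card_map {T : Type*} [Group T] [Finite T] (N M : Subgroup T)
    [N.Normal] :
    Nat.card M = Nat.card (N ⊓ M : Subgroup T) * Nat.card (M.map (QuotientGroup.mk' N)) := by
  have h1 := Subgroup.relIndex_mul_relIndex (H := (⊥ : Subgroup T)) (K := N ⊓ M) (L := M)
    bot_le inf_le_right
  rw [Subgroup.relIndex_bot_left, Subgroup.relIndex_bot_left, Subgroup.inf_relIndex_right] at h1
  have h2 := Subgroup.relIndex_ker M (QuotientGroup.mk' N)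
  rw [QuotientGroup.ker_mk'] at h2
  rw [← h1, h2]

/-- Verbal subgroups generated by powers are normal. -/
theorem closure_pow_normal {T : Type*} [Group T] (e : ℕ) :
    (Subgroup.closure {x : T | ∃ y : T, y ^ e = x}).Normal := by
  constructor
  intro g hg x
  have h1 : (Subgroup.closure {x : T | ∃ y : T, y ^ e = x}).map (MulAut.conj x).toMonoidHom
      ≤ Subgroup.closure {x : T | ∃ y : T, y ^ e = x} := by
    rw [MonoidHom.map_closure, Subgroup.closure_le]
    rintro _ ⟨_, ⟨y, rfl⟩, rfl⟩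
    apply Subgroup.subset_closure
    refine ⟨x * y * x⁻¹, ?_⟩
    rw [conj_pow]
    rfl
  exact h1 ⟨g, hg, rfl⟩

/-! ## Arithmetic -/

/-- The divisibility form of the lifting-the-exponent lemma. -/
theorem mc_dvd_iff {p : ℕ} [hp : Fact p.Prime] (hp2 : p ≠ 2) {r t : ℕ} (hr1 : 1 < r)
    (hpr : p ∣ r - 1) (ht : padicValNat p (r - 1) = t) (x y e : ℕ) :
    p ^ (t + e) ∣ x * (r ^ y - 1) ↔ p ^ e ∣ x * y := by
  by_cases hx : x = 0
  · simp [hx]
  by_cases hy : y = 0
  · simp [hy]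
  have hodd : Odd p := hp.out.odd_of_ne_two hp2
  have hnr : ¬ p ∣ r := by
    intro h
    have h1 := Nat.dvd_sub h hpr
    have h2 : r - (r - 1) = 1 := by omega
    rw [h2] at h1
    exact hp.out.one_lt.ne' (Nat.dvd_one.mp h1)
  have hv : padicValNat p (r ^ y - 1) = t + padicValNat p y := by
    have := padicValNat.pow_sub_pow hodd hr1 hpr hnr hy
    rw [one_pow] at this
    rw [this, ht]
  have hne : r ^ y - 1 ≠ 0 := by
    have := Nat.one_lt_pow hy hr1
    omega
  rw [padicValNat_dvd_iff_le (mul_ne_zero hx hne), padicValNat_dvd_iff_le (mul_ne_zero hx hy),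
    padicValNat.mul hx hne, padicValNat.mul hx hy, hv]
  omega

/-- From `p ^ n ∣ z * y` and `p ^ s ∤ y` deduce `p ^ (n - s + 1) ∣ z`. -/
theorem mc_dvd_of_not_dvd {p : ℕ} [hp : Fact p.Prime] {n s z y : ℕ} (hs : s ≤ n)
    (h : p ^ n ∣ z * y) (hy : ¬ p ^ s ∣ y) : p ^ (n - s + 1) ∣ z := by
  have hy0 : y ≠ 0 := by
    rintro rfl
    exact hy (dvd_zero _)
  by_cases hz : z = 0
  · rw [hz]; exact dvd_zero _
  rw [padicValNat_dvd_iff_le hy0] at hy
  rw [padicValNat_dvd_iff_le (mul_ne_zero hz hy0), padicValNat.mul hz hy0] at h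
  rw [padicValNat_dvd_iff_le hz]
  omega

/-- The geometric sums `1 + R + ⋯ + R ^ (e - 1)`. -/
def mcLam (R : ℕ) : ℕ → ℕ
  | 0 => 0
  | e + 1 => 1 + mcLam R e * R

theorem mcLam_spec (Q e : ℕ) : mcLam (Q + 1) e * Q + 1 = (Q + 1) ^ e := by
  induction e with
  | zero => simp [mcLam]
  | succ e ih =>
    rw [pow_succ, ← ih]
    simp only [mcLam]
    ring

theorem mcLam_one (e : ℕ) : mcLam 1 e = e := by
  induction e with
  | zero => simp [mcLam]
  | succ e ih => simp only [mcLam]; rw [ih]; omega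

theorem mcLam_ne_zero (R e : ℕ) (he : e ≠ 0) : mcLam R e ≠ 0 := by
  obtain ⟨e', rfl⟩ := Nat.exists_eq_succ_of_ne_zero he
  simp only [mcLam]
  omega

theorem dvd_mcLam {p : ℕ} [hp : Fact p.Prime] (hp2 : p ≠ 2) (R : ℕ) (hR : 1 ≤ R)
    (hpR : p ∣ R - 1) (s : ℕ) : p ^ s ∣ mcLam R (p ^ s) := by
  rcases eq_or_lt_of_le hR with h | h
  · rw [← h, mcLam_one]
  obtain ⟨Q, rfl⟩ : ∃ Q, R = Q + 1 := ⟨R - 1, by omega⟩
  have hQ : Q ≠ 0 := by omega
  have hspec := mcLam_spec Q (p ^ s)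
  have hodd : Odd p := hp.out.odd_of_ne_two hp2
  have hpQ : p ∣ Q := by simpa using hpR
  have hnr : ¬ p ∣ Q + 1 := by
    intro h1
    have h2 := (Nat.dvd_add_right hpQ).mp h1
    exact hp.out.one_lt.ne' (Nat.dvd_one.mp h2)
  have hv := padicValNat.pow_sub_pow hodd h (by simpa using hpQ) hnr
    (pow_ne_zero s hp.out.ne_zero)
  rw [one_pow, padicValNat.prime_pow] at hv
  have hL : mcLam (Q + 1) (p ^ s) ≠ 0 := mcLam_ne_zero _ _ (pow_ne_zero s hp.out.ne_zero)
  have h3 : (Q + 1) ^ p ^ s - 1 = mcLam (Q + 1) (p ^ s) * Q := by omega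
  rw [h3, padicValNat.mul hL hQ] at hv
  have h4 : padicValNat p (mcLam (Q + 1) (p ^ s)) = s := by
    have : Q + 1 - 1 = Q := by omega
    rw [this] at hv
    omega
  have h5 := pow_padicValNat_dvd (p := p) (n := mcLam (Q + 1) (p ^ s))
  rwa [h4] at h5

/-! ## Two-generator calculus -/

theorem conj_pow_aux {T : Type*} [Group T] {a b : T} {r : ℕ} (h : b * a = a ^ r * b)
    (x y : ℕ) : b ^ y * a ^ x = a ^ (x * r ^ y) * b ^ y := by
  have h1 : ∀ x : ℕ, b * a ^ x = a ^ (x * r) * b := by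
    intro x
    induction x with
    | zero => simp
    | succ x ih =>
      rw [pow_succ, ← mul_assoc, ih, mul_assoc, h, ← mul_assoc, ← pow_add, Nat.succ_mul]
  induction y with
  | zero => simp
  | succ y ih =>
    rw [pow_succ', mul_assoc, ih, ← mul_assoc, h1, mul_assoc, pow_succ, mul_assoc]

theorem pow_formula {T : Type*} [Group T] {a b : T} {r : ℕ} (h : b * a = a ^ r * b)
    (i j e : ℕ) : (a ^ i * b ^ j) ^ e = a ^ (i * mcLam (r ^ j) e) * b ^ (j * e) := by
  induction e with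
  | zero => simp [mcLam]
  | succ e ih =>
    rw [pow_succ', ih]
    have h1 := conj_pow_aux h (i * mcLam (r ^ j) e) j
    calc a ^ i * b ^ j * (a ^ (i * mcLam (r ^ j) e) * b ^ (j * e))
        = a ^ i * (b ^ j * a ^ (i * mcLam (r ^ j) e)) * b ^ (j * e) := by group
      _ = a ^ i * (a ^ (i * mcLam (r ^ j) e * r ^ j) * b ^ j) * b ^ (j * e) := by rw [h1]
      _ = a ^ (i + i * mcLam (r ^ j) e * r ^ j) * b ^ (j + j * e) := by
          rw [pow_add, pow_add]; group
      _ = a ^ (i * mcLam (r ^ j) (e + 1)) * b ^ (j * (e + 1)) := by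
          congr 2
          · simp only [mcLam]; ring
          · ring

/-! ## Metacyclic data -/

/-- A presentation-like description of a (nonabelian) metacyclic `p`-group. -/
structure MCData (G : Type*) [Group G] (p : ℕ) where
  a : G
  b : G
  m : ℕ
  k : ℕ
  t : ℕ
  n : ℕ
  r : ℕ
  ha : orderOf a = p ^ m
  hN : (Subgroup.zpowers a).Normal
  htop : Subgroup.zpowers a ⊔ Subgroup.zpowers b = ⊤
  hconj : b * a = a ^ r * b
  hr1 : 1 < r
  hpr : p ∣ r - 1
  ht : padicValNat p (r - 1) = t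
  hm : m = t + n
  hk : ∀ j : ℕ, b ^ j ∈ Subgroup.zpowers a ↔ p ^ k ∣ j

namespace MCData

variable {G : Type*} [Group G] [Finite G] {p : ℕ} [hp : Fact p.Prime] (D : MCData G p)

instance instNormalZpowers : (Subgroup.zpowers D.a).Normal := D.hN

theorem one_le_t : 1 ≤ D.t := by
  rw [← D.ht]
  exact one_le_padicValNat_of_dvd (by have := D.hr1; omega) D.hpr

theorem comm_iff (hp2 : p ≠ 2) (x y : ℕ) :
    D.a ^ x * D.b ^ y = D.b ^ y * D.a ^ x ↔ p ^ D.n ∣ x * y := by
  rw [conj_pow_aux D.hconj x y, mul_left_inj, pow_eq_pow_iff_modEq, D.ha,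
    ← mc_dvd_iff hp2 D.hr1 D.hpr D.ht x y D.n, ← D.hm, Nat.mul_sub_one]
  have h1 : x ≤ x * D.r ^ y :=
    Nat.le_mul_of_pos_right x (pow_pos (by have := D.hr1; omega) y)
  exact Nat.modEq_iff_dvd' h1

theorem exists_rep (g : G) : ∃ i j : ℕ, g = D.a ^ i * D.b ^ j := by
  have hg : g ∈ Subgroup.zpowers D.a ⊔ Subgroup.zpowers D.b := by
    rw [D.htop]; exact Subgroup.mem_top g
  obtain ⟨y, hy, z, hz, rfl⟩ := Subgroup.mem_sup_of_normal_left.mp hg
  obtain ⟨i, rfl⟩ := (Submonoid.mem_powers_iff _ _).mp (mem_powers_iff_mem_zpowers.mpr hy)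
  obtain ⟨j, rfl⟩ := (Submonoid.mem_powers_iff _ _).mp (mem_powers_iff_mem_zpowers.mpr hz)
  exact ⟨i, j, rfl⟩

theorem n_le_k (hp2 : p ≠ 2) : D.n ≤ D.k := by
  have h1 : D.b ^ p ^ D.k ∈ Subgroup.zpowers D.a := (D.hk _).mpr dvd_rfl
  obtain ⟨e, he⟩ := (Submonoid.mem_powers_iff _ _).mp (mem_powers_iff_mem_zpowers.mpr h1)
  have h2 : D.a ^ 1 * D.b ^ p ^ D.k = D.b ^ p ^ D.k * D.a ^ 1 := by
    rw [← he, ← pow_add, ← pow_add, add_comm]
  have h3 := (D.comm_iff hp2 1 (p ^ D.k)).mp h2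
  rw [one_mul] at h3
  exact (Nat.pow_dvd_pow_iff_le_right hp.out.one_lt).mp h3

theorem n_le_m : D.n ≤ D.m := by rw [D.hm]; omega

theorem orderOf_mk_b :
    orderOf (QuotientGroup.mk' (Subgroup.zpowers D.a) D.b) = p ^ D.k := by
  apply Nat.dvd_antisymm
  · rw [orderOf_dvd_iff_pow_eq_one, ← map_pow]
    exact (QuotientGroup.eq_one_iff _).mpr ((D.hk _).mpr dvd_rfl)
  · apply (D.hk _).mp
    apply (QuotientGroup.eq_one_iff _).mp
    have := pow_orderOf_eq_one (QuotientGroup.mk' (Subgroup.zpowers D.a) D.b)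
    rw [← map_pow] at this
    exact this

/-- The subgroups `⟨a^(p^s), b^(p^s)⟩`. -/
def M (s : ℕ) : Subgroup G :=
  Subgroup.zpowers (D.a ^ p ^ s) ⊔ Subgroup.zpowers (D.b ^ p ^ s)

theorem mem_M_of_dvd (s x y : ℕ) (hx : p ^ s ∣ x) (hy : p ^ s ∣ y) :
    D.a ^ x * D.b ^ y ∈ D.M s :=
  Subgroup.mul_mem _ (Subgroup.mem_sup_left (pow_mem_zpowers_of_dvd _ hx))
    (Subgroup.mem_sup_right (pow_mem_zpowers_of_dvd _ hy))

theorem M_zero : D.M 0 = ⊤ := by
  unfold M
  rw [pow_zero, pow_one, pow_one, D.htop]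

theorem comm_mem_T (hp2 : p ≠ 2) (s : ℕ) (g : G) (hg : g ∈ D.M s) (x : G) :
    x * g * x⁻¹ * g⁻¹ ∈ Subgroup.zpowers (D.a ^ p ^ (D.t + s)) := by
  haveI hTn : (Subgroup.zpowers (D.a ^ p ^ (D.t + s))).Normal := zpowers_pow_normal D.a D.hN _
  let q := QuotientGroup.mk' (Subgroup.zpowers (D.a ^ p ^ (D.t + s)))
  have hq : Function.Surjective q := QuotientGroup.mk'_surjective _
  have htop' : Subgroup.zpowers (q D.a) ⊔ Subgroup.zpowers (q D.b) = ⊤ := by
    rw [← MonoidHom.map_zpowers, ← MonoidHom.map_zpowers, ← Subgroup.map_sup, D.htop]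
    exact Subgroup.map_top_of_surjective q hq
  have hqT : ∀ e : ℕ, p ^ (D.t + s) ∣ e → q (D.a ^ e) = 1 := by
    intro e he
    exact (QuotientGroup.eq_one_iff _).mpr (pow_mem_zpowers_of_dvd _ he)
  have hr0 : 0 < D.r := by have := D.hr1; omega
  have hle : D.M s ≤ (Subgroup.center
      (G ⧸ Subgroup.zpowers (D.a ^ p ^ (D.t + s)))).comap q := by
    apply sup_le
    · rw [Subgroup.zpowers_le, Subgroup.mem_comap, Subgroup.mem_center_iff]
      intro y
      refine (comm_all_of_gens htop' ?_ ?_ y).symm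
      · rw [← map_mul, ← map_mul, ← pow_succ, ← pow_succ']
      · have h1 := conj_pow_aux D.hconj (p ^ s) 1
        simp only [pow_one] at h1
        have h2 : p ^ s * D.r = p ^ s + p ^ s * (D.r - 1) := by
          rw [Nat.mul_sub_one]
          have := Nat.le_mul_of_pos_right (p ^ s) hr0
          omega
        have hd : p ^ (D.t + s) ∣ p ^ s * (D.r - 1) := by
          rw [pow_add, mul_comm]
          exact Nat.mul_dvd_mul dvd_rfl (by rw [← D.ht]; exact pow_padicValNat_dvd)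
        rw [← map_mul, ← map_mul, h1, h2, pow_add D.a, map_mul, map_mul, map_mul, hqT _ hd,
          mul_one]
    · rw [Subgroup.zpowers_le, Subgroup.mem_comap, Subgroup.mem_center_iff]
      intro y
      refine (comm_all_of_gens htop' ?_ ?_ y).symm
      · have h1 := conj_pow_aux D.hconj 1 (p ^ s)
        simp only [pow_one, one_mul] at h1
        have h3 : 1 ≤ D.r ^ p ^ s := Nat.one_le_pow _ _ hr0
        have h2 : D.r ^ p ^ s = 1 + (D.r ^ p ^ s - 1) := by omega
        have hd : p ^ (D.t + s) ∣ D.r ^ p ^ s - 1 := by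
          have := (mc_dvd_iff hp2 D.hr1 D.hpr D.ht 1 (p ^ s) s).mpr (by rw [one_mul])
          rwa [one_mul] at this
        rw [← map_mul, ← map_mul, h1, h2, pow_add D.a, pow_one, map_mul, map_mul, map_mul,
          hqT _ hd, mul_one]
      · rw [← map_mul, ← map_mul, ← pow_succ, ← pow_succ']
  have h1 := hle hg
  rw [Subgroup.mem_comap, Subgroup.mem_center_iff] at h1
  have h2 := h1 (q x)
  apply (QuotientGroup.eq_one_iff _).mp
  show q (x * g * x⁻¹ * g⁻¹) = 1
  rw [map_mul, map_mul, map_mul, map_inv, map_inv, h2]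
  group

theorem card_T (s : ℕ) (hs : s ≤ D.n) :
    Nat.card (Subgroup.zpowers (D.a ^ p ^ (D.t + s))) = p ^ (D.n - s) := by
  rw [Nat.card_zpowers, orderOf_pow_prime_pow hp.out D.ha (by rw [D.hm]; omega)]
  congr 1
  rw [D.hm]; omega

theorem index_le_of_mem (hp2 : p ≠ 2) (s : ℕ) (hs : s ≤ D.n) (g : G) (hg : g ∈ D.M s) :
    (Subgroup.centralizer ({g} : Set G)).index ≤ p ^ (D.n - s) := by
  rw [← D.card_T s hs]
  exact index_centralizer_le_card g _ (D.comm_mem_T hp2 s g hg)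

theorem dvd_of_index_le (hp2 : p ≠ 2) (s : ℕ) (hs : s ≤ D.n) (x y : ℕ)
    (h : (Subgroup.centralizer ({D.a ^ x * D.b ^ y} : Set G)).index ≤ p ^ (D.n - s)) :
    p ^ s ∣ x ∧ p ^ s ∣ y := by
  by_contra hcon
  have hlt : p ^ (D.n - s) < p ^ (D.n - s + 1) :=
    Nat.pow_lt_pow_right hp.out.one_lt (Nat.lt_succ_self _)
  have hge : p ^ (D.n - s + 1) ≤
      (Subgroup.centralizer ({D.a ^ x * D.b ^ y} : Set G)).index := by
    by_cases hy : p ^ s ∣ y
    · have hx : ¬ p ^ s ∣ x := fun hx => hcon ⟨hx, hy⟩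
      apply le_index_centralizer _ D.b
      intro z hz
      have h1 : D.a ^ x * D.b ^ z = D.b ^ z * D.a ^ x := by
        have h2 : D.b ^ z * D.a ^ x * D.b ^ y = D.a ^ x * D.b ^ z * D.b ^ y := by
          rw [← mul_assoc] at hz
          rw [hz, mul_assoc, mul_assoc, ← pow_add, ← pow_add, add_comm]
        exact (mul_right_cancel h2).symm
      have h3 := (D.comm_iff hp2 x z).mp h1
      rw [mul_comm] at h3
      exact mc_dvd_of_not_dvd hs h3 hx
    · apply le_index_centralizer _ D.a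
      intro z hz
      have h1 : D.a ^ z * D.b ^ y = D.b ^ y * D.a ^ z := by
        have h2 : D.a ^ x * (D.a ^ z * D.b ^ y) = D.a ^ x * (D.b ^ y * D.a ^ z) := by
          rw [← mul_assoc, ← mul_assoc, ← hz, ← mul_assoc, ← pow_add, ← pow_add, add_comm]
        exact mul_left_cancel h2
      have h3 := (D.comm_iff hp2 z y).mp h1
      exact mc_dvd_of_not_dvd hs h3 hy
  omega

theorem mem_M_iff_dvd (hp2 : p ≠ 2) (s : ℕ) (hs : s ≤ D.n) (x y : ℕ) :
    D.a ^ x * D.b ^ y ∈ D.M s ↔ p ^ s ∣ x ∧ p ^ s ∣ y :=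
  ⟨fun h => D.dvd_of_index_le hp2 s hs x y (D.index_le_of_mem hp2 s hs _ h),
   fun h => D.mem_M_of_dvd s x y h.1 h.2⟩

theorem mem_M_iff (hp2 : p ≠ 2) (s : ℕ) (hs : s ≤ D.n) (g : G) :
    g ∈ D.M s ↔ (Subgroup.centralizer ({g} : Set G)).index ≤ p ^ (D.n - s) := by
  refine ⟨D.index_le_of_mem hp2 s hs g, fun h => ?_⟩
  obtain ⟨x, y, rfl⟩ := D.exists_rep g
  obtain ⟨h1, h2⟩ := D.dvd_of_index_le hp2 s hs x y h
  exact D.mem_M_of_dvd s x y h1 h2

theorem inf_M (hp2 : p ≠ 2) (s : ℕ) (hs : s ≤ D.n) :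
    Subgroup.zpowers D.a ⊓ D.M s = Subgroup.zpowers (D.a ^ p ^ s) := by
  apply le_antisymm
  · intro g hg
    have hg1 : g ∈ Subgroup.zpowers D.a := hg.1
    have hg2 : g ∈ D.M s := hg.2
    obtain ⟨x, rfl⟩ := (Submonoid.mem_powers_iff _ _).mp (mem_powers_iff_mem_zpowers.mpr hg1)
    have h1 : D.a ^ x * D.b ^ 0 ∈ D.M s := by rw [pow_zero, mul_one]; exact hg2
    exact pow_mem_zpowers_of_dvd _ ((D.mem_M_iff_dvd hp2 s hs x 0).mp h1).1
  · exact le_inf (Subgroup.zpowers_le.mpr (pow_mem (Subgroup.mem_zpowers _) _)) le_sup_left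

theorem map_M (s : ℕ) : (D.M s).map (QuotientGroup.mk' (Subgroup.zpowers D.a)) =
    Subgroup.zpowers ((QuotientGroup.mk' (Subgroup.zpowers D.a) D.b) ^ p ^ s) := by
  unfold M
  rw [Subgroup.map_sup, MonoidHom.map_zpowers, MonoidHom.map_zpowers, map_pow, map_pow]
  have h1 : QuotientGroup.mk' (Subgroup.zpowers D.a) D.a = 1 :=
    (QuotientGroup.eq_one_iff _).mpr (Subgroup.mem_zpowers _)
  rw [h1, one_pow, Subgroup.zpowers_one_eq_bot, bot_sup_eq]

theorem card_M (hp2 : p ≠ 2) (s : ℕ) (hs : s ≤ D.n) :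
    Nat.card (D.M s) = p ^ (D.m - s) * p ^ (D.k - s) := by
  rw [card_eq_card_inf_mul_card_map (Subgroup.zpowers D.a) (D.M s), D.inf_M hp2 s hs,
    D.map_M s, Nat.card_zpowers, Nat.card_zpowers,
    orderOf_pow_prime_pow hp.out D.ha (hs.trans D.n_le_m),
    orderOf_pow_prime_pow hp.out D.orderOf_mk_b (hs.trans (D.n_le_k hp2))]

theorem card_G (hp2 : p ≠ 2) : Nat.card G = p ^ D.m * p ^ D.k := by
  have h := D.card_M hp2 0 (Nat.zero_le _)
  rw [D.M_zero, Subgroup.card_top] at h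
  simpa using h

theorem center_eq (hp2 : p ≠ 2) : Subgroup.center G = D.M D.n := by
  ext g
  rw [D.mem_M_iff hp2 D.n le_rfl g, Nat.sub_self, pow_zero]
  have h0 : (Subgroup.centralizer ({g} : Set G)).index ≠ 0 := Subgroup.index_ne_zero_of_finite
  constructor
  · intro hg
    have : Subgroup.centralizer ({g} : Set G) = ⊤ := by
      rw [Subgroup.centralizer_eq_top_iff_subset]
      intro y hy
      rw [Set.mem_singleton_iff] at hy
      rw [hy]; exact hg
    rw [this, Subgroup.index_top]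
  · intro h
    have h1 : (Subgroup.centralizer ({g} : Set G)).index = 1 := by omega
    rw [Subgroup.index_eq_one, Subgroup.centralizer_eq_top_iff_subset] at h1
    exact h1 (Set.mem_singleton g)

theorem card_center (hp2 : p ≠ 2) :
    Nat.card (Subgroup.center G) = p ^ (D.m - D.n) * p ^ (D.k - D.n) := by
  rw [D.center_eq hp2, D.card_M hp2 D.n le_rfl]

theorem card_commutator (hp2 : p ≠ 2) : Nat.card (commutator G) = p ^ D.n := by
  have h1 := card_eq_inf_center_mul_commutator (Subgroup.zpowers D.a)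
    (by
      intro x hx y hy
      obtain ⟨i, rfl⟩ := Subgroup.mem_zpowers_iff.mp hx
      obtain ⟨j, rfl⟩ := Subgroup.mem_zpowers_iff.mp hy
      rw [← zpow_add, ← zpow_add, add_comm]) D.b D.htop
  rw [D.center_eq hp2, D.inf_M hp2 D.n le_rfl, Nat.card_zpowers, Nat.card_zpowers, D.ha,
    orderOf_pow_prime_pow hp.out D.ha D.n_le_m] at h1
  have h2 : p ^ D.m = p ^ (D.m - D.n) * p ^ D.n := by
    rw [← pow_add, Nat.sub_add_cancel D.n_le_m]
  rw [h2] at h1
  exact (Nat.eq_of_mul_eq_mul_left (pow_pos hp.out.pos _) h1).symm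

theorem index_center (hp2 : p ≠ 2) : (Subgroup.center G).index = p ^ D.n * p ^ D.n := by
  have h1 := Subgroup.card_mul_index (Subgroup.center G)
  rw [D.card_center hp2, D.card_G hp2] at h1
  have e1 : p ^ D.m = p ^ (D.m - D.n) * p ^ D.n := by
    rw [← pow_add, Nat.sub_add_cancel D.n_le_m]
  have e2 : p ^ D.k = p ^ (D.k - D.n) * p ^ D.n := by
    rw [← pow_add, Nat.sub_add_cancel (D.n_le_k hp2)]
  have h2 : p ^ D.m * p ^ D.k
      = p ^ (D.m - D.n) * p ^ (D.k - D.n) * (p ^ D.n * p ^ D.n) := by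
    conv_lhs => rw [e1, e2]
    ring
  rw [h2] at h1
  exact Nat.eq_of_mul_eq_mul_left
    (Nat.mul_pos (pow_pos hp.out.pos _) (pow_pos hp.out.pos _)) h1

theorem index_commutator (hp2 : p ≠ 2) :
    (commutator G).index = p ^ (D.m + D.k - D.n) := by
  have h1 := Subgroup.card_mul_index (commutator G)
  rw [D.card_commutator hp2, D.card_G hp2] at h1
  have h2 : p ^ D.m * p ^ D.k = p ^ D.n * p ^ (D.m + D.k - D.n) := by
    rw [← pow_add, ← pow_add]
    congr 1
    have := D.n_le_m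
    omega
  rw [h2] at h1
  exact Nat.eq_of_mul_eq_mul_left (pow_pos hp.out.pos _) h1

theorem pow_mem_M (hp2 : p ≠ 2) (s : ℕ) (y : G) : y ^ p ^ s ∈ D.M s := by
  obtain ⟨i, j, rfl⟩ := D.exists_rep y
  rw [pow_formula D.hconj i j (p ^ s)]
  apply D.mem_M_of_dvd
  · apply Dvd.dvd.mul_left
    apply dvd_mcLam hp2 _ (Nat.one_le_pow _ _ (by have := D.hr1; omega))
    have h1 := Nat.sub_dvd_pow_sub_pow D.r 1 j
    rw [one_pow] at h1
    exact D.hpr.trans h1
  · exact Dvd.intro_left _ rfl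

theorem agemo_eq (hp2 : p ≠ 2) (s : ℕ) :
    Subgroup.closure {x : G | ∃ y : G, y ^ p ^ s = x} = D.M s := by
  apply le_antisymm
  · rw [Subgroup.closure_le]
    rintro _ ⟨y, rfl⟩
    exact D.pow_mem_M hp2 s y
  · apply sup_le
    · rw [Subgroup.zpowers_le]
      exact Subgroup.subset_closure ⟨D.a, rfl⟩
    · rw [Subgroup.zpowers_le]
      exact Subgroup.subset_closure ⟨D.b, rfl⟩

theorem abelian_iff (hp2 : p ≠ 2) (L : Subgroup G) :
    (∀ x ∈ L, ∀ y ∈ L, x * y = y * x) ↔ Nat.card L ≤ p ^ (D.m + D.k - D.n) := by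
  let π := QuotientGroup.mk' (Subgroup.zpowers D.a)
  have hπb : orderOf (π D.b) = p ^ D.k := D.orderOf_mk_b
  obtain ⟨u, hu, hLN⟩ := exists_eq_zpowers_pow hp.out D.ha (Subgroup.zpowers D.a ⊓ L) inf_le_left
  have hπtop : Subgroup.zpowers (π D.b) = ⊤ := by
    have h1 : (Subgroup.zpowers D.a ⊔ Subgroup.zpowers D.b).map π = ⊤ := by
      rw [D.htop]; exact Subgroup.map_top_of_surjective π (QuotientGroup.mk'_surjective _)
    rw [Subgroup.map_sup, MonoidHom.map_zpowers, MonoidHom.map_zpowers] at h1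
    have h2 : π D.a = 1 := (QuotientGroup.eq_one_iff _).mpr (Subgroup.mem_zpowers _)
    rwa [h2, Subgroup.zpowers_one_eq_bot, bot_sup_eq] at h1
  obtain ⟨w, hw, hLπ⟩ := exists_eq_zpowers_pow hp.out hπb (L.map π)
    (by rw [hπtop]; exact le_top)
  obtain ⟨c, hcL, hc⟩ : ∃ c ∈ L, π c = π D.b ^ p ^ w := by
    have h1 : π D.b ^ p ^ w ∈ L.map π := by rw [hLπ]; exact Subgroup.mem_zpowers _
    obtain ⟨c, hc, hc'⟩ := h1
    exact ⟨c, hc, hc'⟩
  obtain ⟨x, hx⟩ : ∃ x : ℕ, c = D.a ^ x * D.b ^ p ^ w := by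
    have h1 : c * (D.b ^ p ^ w)⁻¹ ∈ Subgroup.zpowers D.a := by
      apply (QuotientGroup.eq_one_iff _).mp
      show π (c * (D.b ^ p ^ w)⁻¹) = 1
      rw [map_mul, map_inv, map_pow, hc, mul_inv_cancel]
    obtain ⟨x, hx⟩ := (Submonoid.mem_powers_iff _ _).mp (mem_powers_iff_mem_zpowers.mpr h1)
    exact ⟨x, by rw [hx, inv_mul_cancel_right]⟩
  have hcard : Nat.card L = p ^ (D.m - u) * p ^ (D.k - w) := by
    rw [card_eq_card_inf_mul_card_map (Subgroup.zpowers D.a) L, hLN, hLπ, Nat.card_zpowers,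
      Nat.card_zpowers, orderOf_pow_prime_pow hp.out D.ha hu,
      orderOf_pow_prime_pow hp.out hπb hw]
  have haL : D.a ^ p ^ u ∈ L := by
    have h1 : D.a ^ p ^ u ∈ Subgroup.zpowers D.a ⊓ L := by
      rw [hLN]; exact Subgroup.mem_zpowers _
    exact h1.2
  have hLle : L ≤ Subgroup.zpowers (D.a ^ p ^ u) ⊔ Subgroup.zpowers c := by
    intro g hg
    have h1 : π g ∈ L.map π := ⟨g, hg, rfl⟩
    rw [hLπ, ← hc] at h1
    obtain ⟨z, hz⟩ := Subgroup.mem_zpowers_iff.mp h1
    have h2 : g * (c ^ z)⁻¹ ∈ Subgroup.zpowers D.a ⊓ L := by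
      refine ⟨?_, L.mul_mem hg (L.inv_mem (L.zpow_mem hcL z))⟩
      apply (QuotientGroup.eq_one_iff _).mp
      show π (g * (c ^ z)⁻¹) = 1
      rw [map_mul, map_inv, map_zpow, hz, mul_inv_cancel]
    rw [hLN] at h2
    have h3 : g = g * (c ^ z)⁻¹ * c ^ z := by rw [inv_mul_cancel_right]
    rw [h3]
    exact Subgroup.mul_mem _ (Subgroup.mem_sup_left h2)
      (Subgroup.mem_sup_right (Subgroup.zpow_mem _ (Subgroup.mem_zpowers c) z))
  have hiff : (∀ x ∈ L, ∀ y ∈ L, x * y = y * x) ↔ D.n ≤ u + w := by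
    have hcomm : D.a ^ p ^ u * c = c * D.a ^ p ^ u ↔ D.n ≤ u + w := by
      rw [hx, ← Nat.pow_dvd_pow_iff_le_right hp.out.one_lt, pow_add, ← D.comm_iff hp2]
      constructor
      · intro h
        have h2 : D.a ^ x * (D.a ^ p ^ u * D.b ^ p ^ w)
            = D.a ^ x * (D.b ^ p ^ w * D.a ^ p ^ u) := by
          rw [← mul_assoc, ← mul_assoc, ← h, ← mul_assoc, ← pow_add, ← pow_add, add_comm]
        exact mul_left_cancel h2
      · intro h
        rw [mul_assoc, ← h, ← mul_assoc, ← mul_assoc, ← pow_add, ← pow_add, add_comm]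
    rw [← hcomm]
    constructor
    · intro h
      exact h _ haL _ hcL
    · intro h
      have hcl : Subgroup.zpowers (D.a ^ p ^ u) ⊔ Subgroup.zpowers c
          = Subgroup.closure {D.a ^ p ^ u, c} := by
        rw [Subgroup.zpowers_eq_closure, Subgroup.zpowers_eq_closure, ← Subgroup.closure_union,
          Set.singleton_union]
      have hc2 : IsMulCommutative (Subgroup.closure ({D.a ^ p ^ u, c} : Set G)) :=
        Subgroup.isMulCommutative_closure (by
          intro a ha b hb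
          rcases ha with ha | ha <;> rcases hb with hb | hb
          · rw [ha, hb]
          · rw [Set.mem_singleton_iff] at hb; rw [ha, hb]; exact h
          · rw [Set.mem_singleton_iff] at ha; rw [ha, hb]; exact h.symm
          · rw [Set.mem_singleton_iff] at ha hb; rw [ha, hb])
      intro x hx y hy
      have hx' : x ∈ Subgroup.closure ({D.a ^ p ^ u, c} : Set G) := by
        rw [← hcl]; exact hLle hx
      have hy' : y ∈ Subgroup.closure ({D.a ^ p ^ u, c} : Set G) := by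
        rw [← hcl]; exact hLle hy
      have e : (⟨x, hx'⟩ : Subgroup.closure ({D.a ^ p ^ u, c} : Set G)) * ⟨y, hy'⟩
          = ⟨y, hy'⟩ * ⟨x, hx'⟩ := hc2.is_comm.comm _ _
      exact congrArg Subtype.val e
  rw [hiff, hcard, ← pow_add, Nat.pow_le_pow_iff_right hp.out.one_lt]
  have := D.n_le_m
  omega

end MCData

/-- Nonabelian metacyclic `p`-groups admit metacyclic data. -/
theorem exists_mcdata {G : Type*} [Group G] [Finite G] {p : ℕ} [hp : Fact p.Prime]
    (hG : IsPGroup p G) (hmc : Cfsg.IsMetacyclic G) (hna : ¬ ∀ x y : G, x * y = y * x) :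
    Nonempty (MCData G p) := by
  obtain ⟨N, hNn, hNc, hQc⟩ := hmc
  haveI := hNc
  haveI := hQc
  obtain ⟨a0, ha0⟩ := IsCyclic.exists_generator (α := N)
  obtain ⟨q, hq⟩ := IsCyclic.exists_generator (α := G ⧸ N)
  obtain ⟨b, rfl⟩ := QuotientGroup.mk_surjective q
  have hNa : Subgroup.zpowers (a0 : G) = N := by
    ext x
    constructor
    · intro hx
      obtain ⟨z, rfl⟩ := Subgroup.mem_zpowers_iff.mp hx
      exact N.zpow_mem a0.2 z
    · intro hx
      obtain ⟨z, hz⟩ := Subgroup.mem_zpowers_iff.mp (ha0 ⟨x, hx⟩)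
      rw [Subgroup.mem_zpowers_iff]
      refine ⟨z, ?_⟩
      have := congrArg Subtype.val hz
      exact (Subgroup.coe_zpow N a0 z).symm.trans this
  obtain ⟨a, ha_def⟩ : ∃ a : G, a = (a0 : G) := ⟨_, rfl⟩
  rw [← ha_def] at hNa
  haveI hNn' : (Subgroup.zpowers a).Normal := by rw [hNa]; exact hNn
  have htop : Subgroup.zpowers a ⊔ Subgroup.zpowers b = ⊤ := by
    rw [eq_top_iff]
    intro g _
    obtain ⟨z, hz⟩ := Subgroup.mem_zpowers_iff.mp (hq (g : G ⧸ N))
    have h1 : g * (b ^ z)⁻¹ ∈ N := by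
      apply (QuotientGroup.eq_one_iff _).mp
      rw [QuotientGroup.mk_mul, QuotientGroup.mk_inv, QuotientGroup.mk_zpow, hz, mul_inv_cancel]
    have h3 : g = g * (b ^ z)⁻¹ * b ^ z := by rw [inv_mul_cancel_right]
    rw [h3]
    exact Subgroup.mul_mem _ (Subgroup.mem_sup_left (by rw [hNa]; exact h1))
      (Subgroup.mem_sup_right (Subgroup.zpow_mem _ (Subgroup.mem_zpowers b) z))
  obtain ⟨m, hm⟩ : ∃ m, orderOf a = p ^ m := by
    obtain ⟨j, hj⟩ := hG a
    obtain ⟨m, -, hm⟩ := (Nat.dvd_prime_pow hp.out).mp (orderOf_dvd_of_pow_eq_one hj)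
    exact ⟨m, hm⟩
  have hapow : a ^ p ^ m = 1 := by rw [← hm]; exact pow_orderOf_eq_one a
  have hba : ¬ b * a = a * b := by
    intro h
    apply hna
    apply comm_of_sup_zpowers (Subgroup.zpowers a) b htop
    · intro x hx y hy
      obtain ⟨i, rfl⟩ := Subgroup.mem_zpowers_iff.mp hx
      obtain ⟨j, rfl⟩ := Subgroup.mem_zpowers_iff.mp hy
      rw [← zpow_add, ← zpow_add, add_comm]
    · intro x hx
      obtain ⟨i, rfl⟩ := Subgroup.mem_zpowers_iff.mp hx
      exact (Commute.zpow_left (show Commute a b from h.symm) i).eq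
  have hm0 : m ≠ 0 := by
    rintro rfl
    rw [pow_zero, orderOf_eq_one_iff] at hm
    apply hba
    rw [hm, mul_one, one_mul]
  obtain ⟨r0, hr0⟩ : ∃ r0 : ℕ, a ^ r0 = b * a * b⁻¹ :=
    (Submonoid.mem_powers_iff _ _).mp (mem_powers_iff_mem_zpowers.mpr
      (hNn'.conj_mem a (Subgroup.mem_zpowers a) b))
  obtain ⟨r, hr⟩ : ∃ r : ℕ, r = r0 + 2 * p ^ m := ⟨_, rfl⟩
  have hconj : b * a = a ^ r * b := by
    rw [hr, pow_add, mul_comm 2, pow_mul, hapow, one_pow, mul_one, hr0, inv_mul_cancel_right]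
  have hr1 : 1 < r := by
    have := pow_pos hp.out.pos m
    omega
  have hpr : p ∣ r - 1 := by
    obtain ⟨e, he⟩ := hG b
    have h1 := conj_pow_aux hconj 1 (p ^ e)
    simp only [he, one_mul, mul_one, pow_one] at h1
    have h2 : a ^ 1 = a ^ (r ^ p ^ e) := by rw [pow_one]; exact h1
    rw [pow_eq_pow_iff_modEq, hm] at h2
    have h3 : (1 : ℕ) ≡ r ^ p ^ e [MOD p] := Nat.ModEq.of_dvd (dvd_pow_self p hm0) h2
    have h4 : ((r : ℕ) : ZMod p) = 1 := by
      have := (ZMod.natCast_eq_natCast_iff _ _ _).mpr h3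
      rw [Nat.cast_pow, ZMod.pow_card_pow, Nat.cast_one] at this
      exact this.symm
    have h5 : (1 : ℕ) ≡ r [MOD p] := by
      apply (ZMod.natCast_eq_natCast_iff _ _ _).mp
      rw [h4, Nat.cast_one]
    exact (Nat.modEq_iff_dvd' hr1.le).mp h5
  have hr10 : r - 1 ≠ 0 := by omega
  have htm : padicValNat p (r - 1) ≤ m := by
    by_contra hlt
    push Not at hlt
    apply hba
    have h1 : p ^ m ∣ r - 1 := (padicValNat_dvd_iff_le hr10).mpr hlt.le
    obtain ⟨c, hc⟩ := h1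
    have h2 : r = 1 + p ^ m * c := by omega
    rw [hconj, h2, pow_add, pow_mul, hapow, one_pow, mul_one, pow_one]
  obtain ⟨k, hk⟩ : ∃ k, orderOf (QuotientGroup.mk' (Subgroup.zpowers a) b) = p ^ k := by
    obtain ⟨j, hj⟩ := hG b
    have h1 : (QuotientGroup.mk' (Subgroup.zpowers a) b) ^ p ^ j = 1 := by
      rw [← map_pow, hj, map_one]
    obtain ⟨k, -, hk⟩ := (Nat.dvd_prime_pow hp.out).mp (orderOf_dvd_of_pow_eq_one h1)
    exact ⟨k, hk⟩
  refine ⟨⟨a, b, m, k, padicValNat p (r - 1), m - padicValNat p (r - 1), r, hm, hNn', htop,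
    hconj, hr1, hpr, rfl, by omega, ?_⟩⟩
  intro j
  rw [← hk, orderOf_dvd_iff_pow_eq_one, ← map_pow]
  exact (QuotientGroup.eq_one_iff _).symm

/-- Subgroups of metacyclic groups are metacyclic. -/
theorem isMetacyclic_subgroup {G : Type*} [Group G] (hmc : Cfsg.IsMetacyclic G)
    (R : Subgroup G) : Cfsg.IsMetacyclic R := by
  obtain ⟨N, hNn, hNc, hQc⟩ := hmc
  haveI := hNc
  haveI := hQc
  refine ⟨N.subgroupOf R, inferInstance, ?_, ?_⟩
  · let f : ↥(N.subgroupOf R) →* ↥N :=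
      (R.subtype.comp (N.subgroupOf R).subtype).codRestrict N
        (fun x => Subgroup.mem_subgroupOf.mp x.2)
    have hf : Function.Injective f := by
      intro x y hxy
      have h1 : ((f x : N) : G) = ((f y : N) : G) := congrArg Subtype.val hxy
      exact Subtype.ext (Subtype.ext h1)
    exact isCyclic_of_injective f hf
  · let g : ↥R →* G ⧸ N := (QuotientGroup.mk' N).comp R.subtype
    have hker : g.ker = N.subgroupOf R := by
      ext x
      rw [MonoidHom.mem_ker, Subgroup.mem_subgroupOf]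
      exact QuotientGroup.eq_one_iff _
    let f : ↥R ⧸ N.subgroupOf R →* G ⧸ N :=
      QuotientGroup.lift (N.subgroupOf R) g (by rw [hker])
    have hf : Function.Injective f := by
      rw [injective_iff_map_eq_one]
      intro x hx
      obtain ⟨y, rfl⟩ := QuotientGroup.mk_surjective x
      have h1 : g y = 1 := hx
      rw [QuotientGroup.eq_one_iff, ← hker]
      exact h1
    exact isCyclic_of_injective f hf

end Cfsg.Agent.Helper21
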