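import Mathlib
import Cfsg.Agent.Helper21.Metacyclic

set_option autoImplicit false
set_option linter.style.haveILetI false

namespace Cfsg.Agent.Helper21

open scoped commutatorElement

universe u

theorem p_mul_card_le_of_lt {G : Type*} [Group G] [Finite G] {p : ℕ} [Fact p.Prime]
    (hG : IsPGroup p G) {H K : Subgroup G} (h : H < K) : p * Nat.card H ≤ Nat.card K := by
  have hp := (Fact.out : p.Prime)
  obtain ⟨b, hb⟩ := IsPGroup.iff_card.mp (hG.to_subgroup K)
  have hdvd : Nat.card H ∣ Nat.card K := Subgroup.card_dvd_of_le h.le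
  rw [hb] at hdvd
  obtain ⟨a, hab, ha⟩ := (Nat.dvd_prime_pow hp).mp hdvd
  have hne : a ≠ b := by
    rintro rfl
    exact h.ne (Subgroup.eq_of_le_of_card_ge h.le (by rw [ha, hb]))
  rw [ha, hb, ← pow_succ']
  exact Nat.pow_le_pow_right hp.pos (by omega)

theorem comm_top_lt {G : Type*} [Group G] [Group.IsNilpotent G] (M : Subgroup G) [M.Normal]
    (hM : M ≠ ⊥) : ⁅M, (⊤ : Subgroup G)⁆ < M := by
  refine lt_of_le_of_ne (Subgroup.commutator_le_left M ⊤) ?_
  intro heq
  have hall : ∀ j, M ≤ (⊤ : Subgroup G).lowerCentralSeries j := by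
    intro j
    induction j with
    | zero => exact le_top
    | succ j ih =>
      rw [Subgroup.lowerCentralSeries_succ]
      calc M = ⁅M, (⊤ : Subgroup G)⁆ := heq.symm
        _ ≤ _ := Subgroup.commutator_mono ih le_rfl
  obtain ⟨c, hc⟩ :=
    (Subgroup.isNilpotent_iff_lowerCentralSeries (S := (⊤ : Subgroup G))).mp inferInstance
  exact hM (le_bot_iff.mp (hc ▸ hall c))

/-- a normal subgroup of order at most `p ^ n` of a `p`-group lies in the `n`-th centre. -/
theorem le_ucs_of_card_le {G : Type*} [Group G] [Finite G] {p : ℕ} [Fact p.Prime]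
    (hG : IsPGroup p G) : ∀ (n : ℕ) (M : Subgroup G), M.Normal → Nat.card M ≤ p ^ n →
      M ≤ Subgroup.upperCentralSeries G n := by
  have hp := (Fact.out : p.Prime)
  haveI : Group.IsNilpotent G := hG.isNilpotent
  intro n
  induction n with
  | zero =>
    intro M _ hc
    rw [pow_zero] at hc
    rw [M.eq_bot_of_card_le hc]; exact bot_le
  | succ n ih =>
    intro M hMn hc
    haveI := hMn
    by_cases hM : M = ⊥
    · rw [hM]; exact bot_le
    · have hlt := comm_top_lt M hM
      have h1 := p_mul_card_le_of_lt hG hlt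
      have h2 : Nat.card (⁅M, (⊤ : Subgroup G)⁆ : Subgroup G) ≤ p ^ n := by
        rw [pow_succ'] at hc
        exact Nat.le_of_mul_le_mul_left (h1.trans hc) hp.pos
      have h3 := ih ⁅M, (⊤ : Subgroup G)⁆ inferInstance h2
      intro x hx
      rw [Subgroup.mem_upperCentralSeries_succ_iff]
      intro y
      exact h3 (Subgroup.commutator_mem_commutator hx (Subgroup.mem_top y))

/-- `[γ_{k+1}(G), Z_{k+1}(G)] = 1`. -/
theorem lcs_comm_ucs_eq_bot : ∀ (k : ℕ) (G : Type u) [Group G],
    ⁅(⊤ : Subgroup G).lowerCentralSeries k, Subgroup.upperCentralSeries G (k + 1)⁆ = ⊥ := by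
  intro k
  induction k with
  | zero =>
    intro G _
    rw [Subgroup.lowerCentralSeries_zero, Subgroup.commutator_comm, eq_bot_iff]
    exact Subgroup.commutator_upperCentralSeries_top_le G 0
  | succ k ih =>
    intro G _
    have h1 : ⁅⁅(⊤ : Subgroup G), Subgroup.upperCentralSeries G (k + 2)⁆,
        (⊤ : Subgroup G).lowerCentralSeries k⁆ = ⊥ := by
      rw [eq_bot_iff, ← ih G]
      rw [Subgroup.commutator_comm ((⊤ : Subgroup G).lowerCentralSeries k)]
      apply Subgroup.commutator_mono _ le_rfl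
      rw [Subgroup.commutator_comm]
      exact Subgroup.commutator_upperCentralSeries_top_le G (k + 1)
    have h2 : ⁅⁅Subgroup.upperCentralSeries G (k + 2), (⊤ : Subgroup G).lowerCentralSeries k⁆,
        (⊤ : Subgroup G)⁆ = ⊥ := by
      have hle : ⁅Subgroup.upperCentralSeries G (k + 2), (⊤ : Subgroup G).lowerCentralSeries k⁆ ≤
          Subgroup.center G := by
        have hmap : Subgroup.map (QuotientGroup.mk' (Subgroup.center G))
            ⁅Subgroup.upperCentralSeries G (k + 2), (⊤ : Subgroup G).lowerCentralSeries k⁆ = ⊥ := by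
          rw [Subgroup.map_commutator, Subgroup.map_lowerCentralSeries,
            Subgroup.map_top_of_surjective _ (QuotientGroup.mk'_surjective _)]
          have hc : Subgroup.comap (QuotientGroup.mk' (Subgroup.center G))
              (Subgroup.upperCentralSeries (G ⧸ Subgroup.center G) (k + 1)) =
              Subgroup.upperCentralSeries G (k + 2) := Subgroup.comap_upperCentralSeries_quotient_center (k + 1)
          have h3 : Subgroup.map (QuotientGroup.mk' (Subgroup.center G))
              (Subgroup.upperCentralSeries G (k + 2)) =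
              Subgroup.upperCentralSeries (G ⧸ Subgroup.center G) (k + 1) := by
            rw [← hc]
            exact Subgroup.map_comap_eq_self_of_surjective (QuotientGroup.mk'_surjective _) _
          rw [h3, Subgroup.commutator_comm]
          exact ih (G ⧸ Subgroup.center G)
        have := (Subgroup.map_eq_bot_iff _).mp hmap
        rwa [QuotientGroup.ker_mk'] at this
      rw [eq_bot_iff]
      calc ⁅⁅Subgroup.upperCentralSeries G (k + 2), (⊤ : Subgroup G).lowerCentralSeries k⁆,
            (⊤ : Subgroup G)⁆ ≤ ⁅Subgroup.center G, (⊤ : Subgroup G)⁆ :=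
            Subgroup.commutator_mono hle le_rfl
        _ ≤ ⊥ := by
          rw [Subgroup.commutator_le]
          intro a ha b _
          rw [Subgroup.mem_bot, commutatorElement_def]
          have := Subgroup.mem_center_iff.mp ha b
          rw [← this]; group
    have h3 := Subgroup.commutator_commutator_eq_bot_of_rotate h1 h2
    rw [Subgroup.lowerCentralSeries_succ]
    exact h3

theorem lcs_normal_of_normal {G : Type*} [Group G] (N : Subgroup G) [N.Normal] (j : ℕ) :
    (N.lowerCentralSeries j).Normal := by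
  induction j with
  | zero => rw [Subgroup.lowerCentralSeries_zero]; infer_instance
  | succ j ih =>
    rw [Subgroup.lowerCentralSeries_succ]
    haveI := ih
    infer_instance

/-- a nontrivial normal subgroup `K` of a `p`-group contains a `G`-normal subgroup of index `p`. -/
theorem exists_normal_index_p {G : Type*} [Group G] [Finite G] {p : ℕ} [Fact p.Prime]
    (hG : IsPGroup p G) (K : Subgroup G) [K.Normal] (hK : K ≠ ⊥) :
    ∃ L : Subgroup G, L.Normal ∧ L ≤ K ∧ p * Nat.card L = Nat.card K := by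
  have hp := (Fact.out : p.Prime)
  haveI : Group.IsNilpotent G := hG.isNilpotent
  have hlt := comm_top_lt K hK
  obtain ⟨b, hb⟩ := IsPGroup.iff_card.mp (hG.to_subgroup K)
  obtain ⟨a, ha⟩ := IsPGroup.iff_card.mp (hG.to_subgroup ⁅K, (⊤ : Subgroup G)⁆)
  have h1 := p_mul_card_le_of_lt hG hlt
  rw [ha, hb, ← pow_succ'] at h1
  have hab : a + 1 ≤ b := (Nat.pow_le_pow_iff_right hp.one_lt).mp h1
  have hcard' : Nat.card ((⁅K, (⊤ : Subgroup G)⁆).subgroupOf K) = p ^ a := by
    rw [← ha]
    exact Nat.card_congr (Subgroup.subgroupOfEquivOfLe hlt.le).toEquiv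
  have hdvd : p ^ (b - 1) ∣ Nat.card K := by rw [hb]; exact pow_dvd_pow p (by omega)
  obtain ⟨H', hH'c, hH'le⟩ :=
    Sylow.exists_subgroup_card_pow_prime_le p hdvd _ hcard' (by omega)
  refine ⟨H'.map K.subtype, ?_, Subgroup.map_subtype_le H', ?_⟩
  · have hL0 : ⁅K, (⊤ : Subgroup G)⁆ ≤ H'.map K.subtype := by
      intro x hx
      have hxK : x ∈ K := hlt.le hx
      refine ⟨⟨x, hxK⟩, hH'le ?_, rfl⟩
      rw [Subgroup.mem_subgroupOf]; exact hx
    constructor
    intro l hl g
    have hlK : l ∈ K := Subgroup.map_subtype_le H' hl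
    have h2 : ⁅l, g⁆ ∈ ⁅K, (⊤ : Subgroup G)⁆ :=
      Subgroup.commutator_mem_commutator hlK (Subgroup.mem_top g)
    have h3 : g * l * g⁻¹ = ⁅l, g⁆⁻¹ * l := by rw [commutatorElement_def]; group
    rw [h3]
    exact mul_mem (inv_mem (hL0 h2)) hl
  · rw [Subgroup.card_map_of_injective K.subtype_injective, hH'c, hb, ← pow_succ']
    congr 1; omega

/-- P. Hall: if `N ⊴ G` lies in `γ_n(G)` and `γ_{i+1}(N) ≠ 1` then `|γ_i(N) : γ_{i+1}(N)| ≥ p^n`. -/
theorem hall_lcs_index {G : Type*} [Group G] [Finite G] {p : ℕ} [Fact p.Prime]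
    (hG : IsPGroup p G) (n : ℕ) (hn : 1 ≤ n) (N : Subgroup G) [N.Normal]
    (hN : N ≤ (⊤ : Subgroup G).lowerCentralSeries (n - 1)) (i' : ℕ)
    (hne : N.lowerCentralSeries (i' + 1) ≠ ⊥) :
    p ^ n ≤ (N.lowerCentralSeries (i' + 1)).relIndex (N.lowerCentralSeries i') := by
  classical
  have hp := (Fact.out : p.Prime)
  haveI : Group.IsNilpotent G := hG.isNilpotent
  haveI hMn : (N.lowerCentralSeries i').Normal := lcs_normal_of_normal N i'
  haveI hKn : (N.lowerCentralSeries (i' + 1)).Normal := lcs_normal_of_normal N (i' + 1)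
  have hKM : N.lowerCentralSeries (i' + 1) ≤ N.lowerCentralSeries i' :=
    Subgroup.lowerCentralSeries_antitone N (Nat.le_succ _)
  by_contra hcon
  push Not at hcon
  obtain ⟨L, hLn, hLK, hLc⟩ := exists_normal_index_p hG (N.lowerCentralSeries (i' + 1)) hne
  haveI := hLn
  have hrel := Subgroup.relIndex_mul_relIndex (H := (⊥ : Subgroup G))
    (K := N.lowerCentralSeries (i' + 1)) (L := N.lowerCentralSeries i') bot_le hKM
  rw [Subgroup.relIndex_bot_left, Subgroup.relIndex_bot_left] at hrel
  have hrd : (N.lowerCentralSeries (i' + 1)).relIndex (N.lowerCentralSeries i') ∣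
      Nat.card (N.lowerCentralSeries i') := Subgroup.relIndex_dvd_card _ _
  obtain ⟨m, hm⟩ := IsPGroup.iff_card.mp (hG.to_subgroup (N.lowerCentralSeries i'))
  rw [hm] at hrd
  obtain ⟨r, hr, hr'⟩ := (Nat.dvd_prime_pow hp).mp hrd
  have hrn : r < n := by
    rw [hr'] at hcon
    exact (Nat.pow_lt_pow_iff_right hp.one_lt).mp hcon
  have hcardM := card_eq_card_inf_mul_card_map L (N.lowerCentralSeries i')
  have hinf : L ⊓ N.lowerCentralSeries i' = L := inf_eq_left.mpr (hLK.trans hKM)
  rw [hinf] at hcardM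
  have hLpos : 0 < Nat.card L := Nat.card_pos
  have hmapcard : Nat.card ((N.lowerCentralSeries i').map (QuotientGroup.mk' L)) =
      p ^ (r + 1) := by
    have h1 : Nat.card L * Nat.card ((N.lowerCentralSeries i').map (QuotientGroup.mk' L)) =
        Nat.card L * p ^ (r + 1) := by
      rw [← hcardM, ← hrel, ← hLc, hr', pow_succ]; ring
    exact Nat.eq_of_mul_eq_mul_left hLpos h1
  have hGq : IsPGroup p (G ⧸ L) := hG.to_quotient L
  have hMq : ((N.lowerCentralSeries i').map (QuotientGroup.mk' L)).Normal :=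
    Subgroup.Normal.map inferInstance _ (QuotientGroup.mk'_surjective L)
  have hle1 : (N.lowerCentralSeries i').map (QuotientGroup.mk' L) ≤
      Subgroup.upperCentralSeries (G ⧸ L) n :=
    le_ucs_of_card_le hGq n _ hMq
      (by rw [hmapcard]; exact Nat.pow_le_pow_right hp.pos (by omega))
  have hle2 : N.map (QuotientGroup.mk' L) ≤
      (⊤ : Subgroup (G ⧸ L)).lowerCentralSeries (n - 1) := by
    have h1 := Subgroup.map_mono (f := QuotientGroup.mk' L) hN
    rw [Subgroup.map_lowerCentralSeries,
      Subgroup.map_top_of_surjective _ (QuotientGroup.mk'_surjective L)] at h1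
    exact h1
  have hbot := lcs_comm_ucs_eq_bot (n - 1) (G ⧸ L)
  rw [show n - 1 + 1 = n by omega] at hbot
  have hcomm : ⁅N.map (QuotientGroup.mk' L),
      (N.lowerCentralSeries i').map (QuotientGroup.mk' L)⁆ = ⊥ := by
    rw [eq_bot_iff, ← hbot]; exact Subgroup.commutator_mono hle2 hle1
  rw [← Subgroup.map_commutator] at hcomm
  have hker := (Subgroup.map_eq_bot_iff _).mp hcomm
  rw [QuotientGroup.ker_mk'] at hker
  have hKL : N.lowerCentralSeries (i' + 1) ≤ L := by
    rw [Subgroup.lowerCentralSeries_succ, Subgroup.commutator_comm]; exact hker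
  have h5 := Subgroup.card_le_of_le hKL
  rw [← hLc] at h5
  have h6 : 2 * Nat.card L ≤ p * Nat.card L := Nat.mul_le_mul_right _ hp.two_le
  omega

end Cfsg.Agent.Helper21
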