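import Mathlib
import Cfsg.Prelude
import Cfsg.Agent.Helper1.Fusion

set_option autoImplicit false
set_option linter.style.haveILetI false

namespace Cfsg.Agent.Helper21

open Polynomial in
/-- A commutative domain all of whose elements satisfy `k ^ N = k` (`1 < N`) has at most `N`
elements. -/
theorem ip_card_le_of_pow_eq {K : Type*} [CommRing K] [IsDomain K] [Finite K] (N : ℕ) (hN : 1 < N)
    (h : ∀ k : K, k ^ N = k) : Nat.card K ≤ N := by
  classical
  haveI : Fintype K := Fintype.ofFinite K
  have h1 : (X : K[X]).degree < (X ^ N : K[X]).degree := by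
    rw [degree_X_pow, degree_X]
    exact mod_cast hN
  have hdeg : (X ^ N - X : K[X]).natDegree = N := by
    rw [natDegree_eq_of_degree_eq (degree_sub_eq_left_of_degree_lt h1), natDegree_X_pow]
  have hf0 : (X ^ N - X : K[X]) ≠ 0 := by
    apply ne_zero_of_natDegree_gt (n := 1)
    rw [hdeg]; exact hN
  rw [Nat.card_eq_fintype_card]
  calc Fintype.card K = (Finset.univ : Finset K).card := rfl
    _ ≤ (X ^ N - X : K[X]).roots.toFinset.card := Finset.card_le_card (fun k _ => by
        rw [Multiset.mem_toFinset, mem_roots hf0, IsRoot.def]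
        simp [h k])
    _ ≤ Multiset.card (X ^ N - X : K[X]).roots := Multiset.toFinset_card_le _
    _ ≤ (X ^ N - X : K[X]).natDegree := card_roots' _
    _ = N := hdeg

/-- An irreducible automorphism of prime order `p` of an elementary abelian `q`-group `V` forces
`|V| = q ^ ord_p(q)`. -/
theorem irr_card {V : Type*} [Group V] [Finite V] (hcomm : ∀ a b : V, a * b = b * a)
    {p q : ℕ} (hp : p.Prime) (hq : q.Prime) (hexp : ∀ v : V, v ^ q = 1)
    (τ : MulAut V) (hτp : τ ^ p = 1) (hτ1 : τ ≠ 1)
    (hirr : ∀ S : Subgroup V, (∀ v ∈ S, τ v ∈ S) → S = ⊥ ∨ S = ⊤) :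
    Nat.card V = q ^ orderOf (q : ZMod p) := by
  classical
  letI : CommGroup V := { ‹Group V› with mul_comm := hcomm }
  haveI : Fact q.Prime := ⟨hq⟩
  haveI : Fact p.Prime := ⟨hp⟩
  -- fixed points are trivial
  have hfix : ∀ v : V, τ v = v → v = 1 := by
    intro v hv
    let F : Subgroup V :=
      { carrier := {w | τ w = w}
        mul_mem' := by
          intro a b ha hb
          show τ (a * b) = a * b
          rw [map_mul, show τ a = a from ha, show τ b = b from hb]
        one_mem' := map_one τ
        inv_mem' := by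
          intro a ha
          show τ a⁻¹ = a⁻¹
          rw [map_inv, show τ a = a from ha] }
    rcases hirr F (fun w hw => by
      show τ (τ w) = τ w
      exact congrArg τ hw) with h | h
    · have : v ∈ F := hv
      rw [h] at this
      exact Subgroup.mem_bot.mp this
    · exfalso
      apply hτ1
      ext w
      have : w ∈ F := by rw [h]; trivial
      exact this
  obtain ⟨v₀, hv₀⟩ : ∃ v₀ : V, v₀ ≠ 1 := by
    by_contra hcon
    apply hτ1
    ext w
    have h1 : w = 1 := by
      by_contra hw; exact hcon ⟨w, hw⟩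
    rw [h1, map_one]; rfl
  -- |V| ≡ 1 mod p
  have hoτ : orderOf τ = p := orderOf_eq_prime hτp hτ1
  have hPG : IsPGroup p ↥(Subgroup.zpowers τ) := by
    refine IsPGroup.of_card (n := 1) ?_
    rw [Nat.card_zpowers, hoτ, pow_one]
  have hmod := hPG.card_modEq_card_fixedPoints V
  have hfp : MulAction.fixedPoints ↥(Subgroup.zpowers τ) V = {1} := by
    ext v
    rw [MulAction.mem_fixedPoints, Set.mem_singleton_iff]
    constructor
    · intro h
      exact hfix v (h ⟨τ, Subgroup.mem_zpowers τ⟩)
    · intro h m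
      rw [h]; exact smul_one m
  rw [hfp] at hmod
  have hc1 : Nat.card (({1} : Set V)) = 1 := by simp
  rw [hc1] at hmod
  have hVq : IsPGroup q V := fun v => ⟨1, by rw [pow_one]; exact hexp v⟩
  obtain ⟨d, hd⟩ := IsPGroup.iff_card.mp hVq
  have hcardV : 1 < Nat.card V := by
    rw [Finite.one_lt_card_iff_nontrivial]
    exact ⟨⟨v₀, 1, hv₀⟩⟩
  have hd0 : d ≠ 0 := by
    rintro rfl
    rw [hd, pow_zero] at hcardV
    exact lt_irrefl _ hcardV
  have hqd : (q : ZMod p) ^ d = 1 := by
    have h1 := (ZMod.natCast_eq_natCast_iff _ _ _).mpr hmod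
    rw [hd] at h1
    push_cast at h1
    exact h1
  obtain ⟨e, he⟩ : ∃ e, e = orderOf (q : ZMod p) := ⟨_, rfl⟩
  rw [← he]
  have hed : e ∣ d := by rw [he]; exact orderOf_dvd_of_pow_eq_one hqd
  have he0 : e ≠ 0 := by
    rintro rfl
    exact hd0 (Nat.eq_zero_of_zero_dvd hed)
  have hlow : q ^ e ≤ Nat.card V := by
    rw [hd]
    exact Nat.pow_le_pow_right hq.pos (Nat.le_of_dvd (Nat.pos_of_ne_zero hd0) hed)
  refine le_antisymm ?_ hlow
  -- the ring argument
  obtain ⟨T, hT⟩ : ∃ T : AddMonoid.End (Additive V), ∀ x, T x = Additive.ofMul (τ x.toMul) :=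
    ⟨MonoidHom.toAdditive τ.toMonoidHom, fun _ => rfl⟩
  have hTk : ∀ k : ℕ, ∀ x : Additive V, (T ^ k) x = Additive.ofMul ((τ ^ k) x.toMul) := by
    intro k
    induction k with
    | zero => intro x; simp
    | succ k ih =>
      intro x
      rw [pow_succ, pow_succ]
      show (T ^ k) (T x) = _
      rw [ih, hT]; rfl
  have hTp : T ^ p = 1 := by
    ext x
    rw [hTk, hτp]; rfl
  have hqe : (q : ZMod p) ^ e = 1 := by rw [he]; exact pow_orderOf_eq_one _
  have hTq : T ^ (q ^ e) = T := by
    have h1 : ((q ^ e : ℕ) : ZMod p) = ((1 : ℕ) : ZMod p) := by push_cast; exact hqe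
    have h2 := (ZMod.natCast_eq_natCast_iff _ _ _).mp h1
    have h3 : p ∣ q ^ e - 1 := (Nat.modEq_iff_dvd' (Nat.one_le_pow _ _ hq.pos)).mp h2.symm
    obtain ⟨c, hc⟩ := h3
    have h4 : q ^ e = 1 + p * c := by
      have := Nat.one_le_pow e q hq.pos
      omega
    rw [h4, pow_add, pow_one, pow_mul, hTp, one_pow, mul_one]
  have hq0 : ((q : ℕ) : AddMonoid.End (Additive V)) = 0 := by
    ext x
    rw [AddMonoid.End.natCast_apply]
    show q • x = 0
    have : q • Additive.ofMul x.toMul = 0 := by
      rw [← ofMul_pow, hexp]; rfl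
    exact this
  haveI : Nontrivial (AddMonoid.End (Additive V)) := by
    refine ⟨⟨1, 0, fun h => hv₀ ?_⟩⟩
    have := congrArg (fun f : AddMonoid.End (Additive V) => f (Additive.ofMul v₀)) h
    exact this
  haveI : CharP (AddMonoid.End (Additive V)) q := (CharP.charP_iff_prime_eq_zero hq).mpr hq0
  obtain ⟨K, hK⟩ : ∃ K : Subring (AddMonoid.End (Additive V)), K = Subring.closure {T} := ⟨_, rfl⟩
  have hTK : T ∈ K := by rw [hK]; exact Subring.subset_closure rfl
  have hKT : ∀ k ∈ K, T * k = k * T := by
    have : K ≤ Subring.centralizer {T} := by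
      rw [hK, Subring.closure_le]
      intro x hx
      rw [Set.mem_singleton_iff] at hx
      rw [hx, SetLike.mem_coe, Subring.mem_centralizer_iff]
      intro g hg
      rw [Set.mem_singleton_iff] at hg
      rw [hg]
    intro k hk
    exact Subring.mem_centralizer_iff.mp (this hk) T rfl
  have hKcomm : ∀ k ∈ K, ∀ l ∈ K, k * l = l * k := by
    have : K ≤ Subring.centralizer (K : Set (AddMonoid.End (Additive V))) := by
      conv_lhs => rw [hK]
      rw [Subring.closure_le]
      intro x hx
      rw [Set.mem_singleton_iff] at hx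
      rw [hx, SetLike.mem_coe, Subring.mem_centralizer_iff]
      intro g hg
      exact (hKT g hg).symm
    intro k hk l hl
    exact Subring.mem_centralizer_iff.mp (this hl) k hk
  have hfrob : ∀ k ∈ K, k ^ (q ^ e) = k := by
    intro k hk
    rw [hK] at hk
    induction hk using Subring.closure_induction with
    | mem x hx => rw [Set.mem_singleton_iff] at hx; rw [hx]; exact hTq
    | zero => exact zero_pow (pow_ne_zero _ hq.ne_zero)
    | one => exact one_pow _
    | add x y hx hy ihx ihy =>
      rw [add_pow_char_pow_of_commute q e (hKcomm x (hK ▸ hx) y (hK ▸ hy)), ihx, ihy]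
    | neg x hx ihx =>
      have h1 : (-x + x) ^ (q ^ e) = (-x) ^ (q ^ e) + x ^ (q ^ e) :=
        add_pow_char_pow_of_commute q e (Commute.neg_left (Commute.refl x))
      rw [neg_add_cancel, zero_pow (pow_ne_zero _ hq.ne_zero), ihx] at h1
      exact (neg_eq_of_add_eq_zero_left h1.symm).symm
    | mul x y hx hy ihx ihy =>
      rw [Commute.mul_pow (hKcomm x (hK ▸ hx) y (hK ▸ hy)), ihx, ihy]
  -- kernels
  have hker : ∀ k ∈ K, k ≠ 0 → ∀ x : Additive V, k x = 0 → x = 0 := by
    intro k hk hk0 x hx
    let S' : Subgroup V :=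
      { carrier := {v | k (Additive.ofMul v) = 0}
        mul_mem' := by
          intro a b ha hb
          show k (Additive.ofMul (a * b)) = 0
          rw [ofMul_mul, map_add, show k (Additive.ofMul a) = 0 from ha,
            show k (Additive.ofMul b) = 0 from hb, add_zero]
        one_mem' := by
          show k (Additive.ofMul 1) = 0
          rw [ofMul_one, map_zero]
        inv_mem' := by
          intro a ha
          show k (Additive.ofMul a⁻¹) = 0
          rw [ofMul_inv, map_neg, show k (Additive.ofMul a) = 0 from ha, neg_zero] }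
    rcases hirr S' (fun v hv => by
      show k (Additive.ofMul (τ v)) = 0
      have h1 : Additive.ofMul (τ v) = T (Additive.ofMul v) := (hT _).symm
      rw [h1]
      show (k * T) (Additive.ofMul v) = 0
      rw [← hKT k hk]
      show T (k (Additive.ofMul v)) = 0
      rw [show k (Additive.ofMul v) = 0 from hv, map_zero]) with h | h
    · have : x.toMul ∈ S' := hx
      rw [h, Subgroup.mem_bot] at this
      exact this
    · exfalso
      apply hk0
      ext y
      have : y.toMul ∈ S' := by rw [h]; trivial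
      exact this
  letI : CommRing ↥K :=
    { (inferInstance : Ring ↥K) with
      mul_comm := fun a b => Subtype.ext (hKcomm a.1 a.2 b.1 b.2) }
  haveI : IsDomain ↥K := by
    haveI : NoZeroDivisors ↥K := by
      refine ⟨fun {a b} hab => ?_⟩
      by_cases ha : a = 0
      · exact Or.inl ha
      right
      apply Subtype.ext
      ext x
      have h1 : (a.1 * b.1) x = 0 := by
        have := congrArg (fun f : ↥K => (f.1) x) hab
        exact this
      have ha' : a.1 ≠ 0 := fun h => ha (Subtype.ext h)
      exact hker a.1 a.2 ha' _ h1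
    exact NoZeroDivisors.to_isDomain _
  haveI : Finite (AddMonoid.End (Additive V)) :=
    Finite.of_injective (fun f : AddMonoid.End (Additive V) => (f : Additive V → Additive V))
      DFunLike.coe_injective
  haveI : Finite ↥K := inferInstance
  have hcardK : Nat.card ↥K ≤ q ^ e := by
    apply ip_card_le_of_pow_eq (q ^ e) (Nat.one_lt_pow he0 hq.one_lt)
    intro k
    apply Subtype.ext
    exact hfrob k.1 k.2
  -- evaluation at v₀ is surjective
  have hsurj : ∀ v : V, ∃ k ∈ K, k (Additive.ofMul v₀) = Additive.ofMul v := by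
    let S₂ : Subgroup V :=
      { carrier := {v | ∃ k ∈ K, k (Additive.ofMul v₀) = Additive.ofMul v}
        mul_mem' := by
          rintro a b ⟨k, hk, hka⟩ ⟨l, hl, hlb⟩
          refine ⟨k + l, K.add_mem hk hl, ?_⟩
          show k (Additive.ofMul v₀) + l (Additive.ofMul v₀) = _
          rw [hka, hlb]; rfl
        one_mem' := ⟨0, K.zero_mem, rfl⟩
        inv_mem' := by
          rintro a ⟨k, hk, hka⟩
          refine ⟨-k, K.neg_mem hk, ?_⟩
          show -(k (Additive.ofMul v₀)) = _
          rw [hka]; rfl }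
    rcases hirr S₂ (by
      rintro v ⟨k, hk, hkv⟩
      refine ⟨T * k, K.mul_mem hTK hk, ?_⟩
      show T (k (Additive.ofMul v₀)) = _
      rw [hkv, hT]; rfl) with h | h
    · exfalso
      have : v₀ ∈ S₂ := ⟨1, K.one_mem, rfl⟩
      rw [h, Subgroup.mem_bot] at this
      exact hv₀ this
    · intro v
      have : v ∈ S₂ := by rw [h]; trivial
      exact this
  have hle : Nat.card V ≤ Nat.card ↥K := by
    apply Nat.card_le_card_of_surjective (fun k : ↥K => Additive.toMul (k.1 (Additive.ofMul v₀)))
    intro v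
    obtain ⟨k, hk, hkv⟩ := hsurj v
    exact ⟨⟨k, hk⟩, by show Additive.toMul (k (Additive.ofMul v₀)) = v; rw [hkv]; rfl⟩
  exact hle.trans hcardK

theorem ip_mem_normalizer {G : Type*} [Group G] [Finite G] (H : Subgroup G) (n : G)
    (h : ∀ y ∈ H, n * y * n⁻¹ ∈ H) : n ∈ Subgroup.normalizer (H : Set G) := by
  have h1 : n⁻¹ ∈ Subgroup.normalizer (H : Set G) := by
    apply Cfsg.Agent.Helper1.mem_normalizer_of_conj_mem
    intro y hy
    simpa using h y hy
  simpa using inv_mem h1

theorem sylow_normal_of_card_dvd_prime {X : Type*} [Group X] [Finite X] {p : ℕ} [Fact p.Prime]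
    (h : Nat.card X ∣ p) (P : Sylow p X) : (P : Subgroup X).Normal := by
  have h1 : (P : Subgroup X).index ∣ p := (Subgroup.index_dvd_card _).trans h
  have h2 := P.not_dvd_index
  have h3 : (P : Subgroup X).index = 1 := by
    rcases (Nat.dvd_prime (Fact.out : p.Prime)).mp h1 with h | h
    · exact h
    · exact absurd (by rw [h]) h2
  rw [Subgroup.index_eq_one] at h3
  rw [h3]; infer_instance

theorem sylow_normal_of_not_dvd {X : Type*} [Group X] [Finite X] {p : ℕ} [Fact p.Prime]
    (h : ¬ p ∣ Nat.card X) (P : Sylow p X) : (P : Subgroup X).Normal := by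
  obtain ⟨k, hk⟩ := IsPGroup.iff_card.mp P.2
  have h1 : Nat.card (P : Subgroup X) ∣ Nat.card X := Subgroup.card_subgroup_dvd_card _
  have hk0 : k = 0 := by
    by_contra hk0
    apply h
    exact (dvd_pow_self p hk0).trans (hk ▸ h1)
  rw [hk0, pow_zero] at hk
  rw [Subgroup.eq_bot_of_card_eq _ hk]; infer_instance

/-- Nonabelian `G` with a minimal normal elementary abelian `q`-subgroup `A` of prime index `p`:
`|A| = q ^ ord_p(q)` and `G` is minimal non-`p`-closed. -/
theorem minNonPClosed_core {G : Type*} [Group G] [Finite G] {p q : ℕ} [hpf : Fact p.Prime]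
    (hq : q.Prime) (hpq : q ≠ p)
    (hna : ¬ IsMulCommutative G) (A : Subgroup G) [hAn : A.Normal]
    (hA : Cfsg.IsElementaryAbelian q A) (hidx : A.index = p)
    (hmin : ∀ B : Subgroup G, B.Normal → B ≤ A → B = ⊥ ∨ B = A) :
    Nat.card ↥A = q ^ orderOf (q : ZMod p) ∧ ¬ Cfsg.IsPClosed p G ∧
      (∀ H : Subgroup G, H ≠ ⊤ → Cfsg.IsPClosed p ↥H) ∧
      ∀ (N : Subgroup G) [N.Normal], N ≠ ⊥ → Cfsg.IsPClosed p (G ⧸ N) := by
  classical
  have hp := hpf.out
  haveI : Fact q.Prime := ⟨hq⟩
  have hAcomm : ∀ a ∈ A, ∀ b ∈ A, a * b = b * a := by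
    intro a ha b hb
    have := hA.1.is_comm.comm ⟨a, ha⟩ ⟨b, hb⟩
    exact congrArg Subtype.val this
  have hAq : IsPGroup q ↥A := fun v => ⟨1, by rw [pow_one]; exact Subtype.ext (hA.2 v.1 v.2)⟩
  obtain ⟨d, hd⟩ := IsPGroup.iff_card.mp hAq
  have hcardG : Nat.card G = q ^ d * p := by rw [← hd, ← hidx]; exact (A.card_mul_index).symm
  have hpA : ¬ p ∣ Nat.card ↥A := by
    rw [hd]; intro h
    exact hpq ((Nat.prime_dvd_prime_iff_eq hp hq).mp (hp.dvd_of_dvd_pow h)).symm
  have hmax : ∀ H : Subgroup G, A ≤ H → H = A ∨ H = ⊤ := by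
    intro H hAH
    have h1 := Subgroup.relIndex_mul_index hAH
    rw [hidx] at h1
    have h2 : H.index ∣ p := ⟨A.relIndex H, by rw [← h1]; ring⟩
    rcases (Nat.dvd_prime hp).mp h2 with h | h
    · right; exact Subgroup.index_eq_one.mp h
    · left
      rw [h] at h1
      have h3 : A.relIndex H = 1 := by
        have := hp.pos
        exact Nat.eq_of_mul_eq_mul_right this (by rw [h1, one_mul])
      exact le_antisymm (Subgroup.relIndex_eq_one.mp h3) hAH
  have hL : ∀ y : G, y ∉ A → ¬ (∀ a ∈ A, y * a = a * y) := by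
    intro y hy hyc
    apply hna
    have hcen : ∀ g : G, (∀ a ∈ A, g * a = a * g) → g * y = y * g → g ∈ Subgroup.center G := by
      intro g hgA hgy
      have h1 : A ≤ Subgroup.centralizer ({g} : Set G) := by
        intro a ha
        rw [Subgroup.mem_centralizer_iff]
        intro h hh
        rw [Set.mem_singleton_iff] at hh
        rw [hh]; exact hgA a ha
      have h2 : y ∈ Subgroup.centralizer ({g} : Set G) := by
        rw [Subgroup.mem_centralizer_iff]
        intro h hh
        rw [Set.mem_singleton_iff] at hh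
        rw [hh]; exact hgy
      rcases hmax _ h1 with h | h
      · exact absurd (h ▸ h2) hy
      · rw [Subgroup.mem_center_iff]
        intro z
        have hz : z ∈ Subgroup.centralizer ({g} : Set G) := by rw [h]; trivial
        exact (Subgroup.mem_centralizer_iff.mp hz g rfl).symm
    have hAZ : A ≤ Subgroup.center G :=
      fun a ha => hcen a (fun b hb => hAcomm a ha b hb) ((hyc a ha).symm)
    have hyZ : y ∈ Subgroup.center G := hcen y hyc rfl
    rcases hmax _ hAZ with h | h
    · exact absurd (h ▸ hyZ) hy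
    · exact ⟨⟨fun a b => by
        have : a ∈ Subgroup.center G := by rw [h]; trivial
        exact (Subgroup.mem_center_iff.mp this b).symm⟩⟩
  obtain ⟨x, hx⟩ := exists_prime_orderOf_dvd_card' p (hcardG ▸ dvd_mul_left p _)
  have hxA : x ∉ A := by
    intro h
    have : orderOf x ∣ Nat.card ↥A := by
      have := orderOf_dvd_natCard (⟨x, h⟩ : ↥A)
      rwa [Subgroup.orderOf_mk] at this
    rw [hx] at this; exact hpA this
  have hnormal : ∀ S : Subgroup G, S ≤ A → ∀ y : G, y ∉ A → (∀ s ∈ S, y * s * y⁻¹ ∈ S) →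
      S = ⊥ ∨ S = A := by
    intro S hS y hy hyS
    have h1 : A ≤ Subgroup.normalizer (S : Set G) := by
      intro a ha
      apply ip_mem_normalizer
      intro s hs
      have : a * s * a⁻¹ = s := by rw [hAcomm a ha s (hS hs)]; group
      rw [this]; exact hs
    have h2 : y ∈ Subgroup.normalizer (S : Set G) := ip_mem_normalizer S y hyS
    rcases hmax _ h1 with h | h
    · exact absurd (h ▸ h2) hy
    · exact hmin S (Subgroup.normalizer_eq_top_iff.mp h) hS
  obtain ⟨τ, hτdef⟩ : ∃ τ : MulAut ↥A, τ = MulAut.conjNormal x := ⟨_, rfl⟩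
  have hτa : ∀ a : ↥A, ((τ a : ↥A) : G) = x * a * x⁻¹ := by
    intro a; rw [hτdef]; exact MulAut.conjNormal_apply x a
  have hτp : τ ^ p = 1 := by
    rw [hτdef, ← map_pow, ← hx, pow_orderOf_eq_one, map_one]
  have hτ1 : τ ≠ 1 := by
    intro h
    apply hL x hxA
    intro a ha
    have h1 := hτa ⟨a, ha⟩
    rw [h] at h1
    have h2 : a = x * a * x⁻¹ := h1
    calc x * a = (x * a * x⁻¹) * x := by group
      _ = a * x := by rw [← h2]
  have hirr : ∀ S : Subgroup ↥A, (∀ v ∈ S, τ v ∈ S) → S = ⊥ ∨ S = ⊤ := by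
    intro S hS
    have h1 := hnormal (S.map A.subtype) (Subgroup.map_subtype_le S) x hxA (by
      rintro s ⟨v, hv, rfl⟩
      exact ⟨τ v, hS v hv, hτa v⟩)
    rcases h1 with h | h
    · left; exact (Subgroup.map_eq_bot_iff_of_injective S A.subtype_injective).mp h
    · right
      rw [eq_top_iff]
      intro v _
      have : (v : G) ∈ S.map A.subtype := by rw [h]; exact v.2
      obtain ⟨w, hw, hwv⟩ := this
      have : w = v := Subtype.ext hwv
      rwa [← this]
  have hcardA := irr_card (fun a b => Subtype.ext (hAcomm a.1 a.2 b.1 b.2)) hp hq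
    (fun v => Subtype.ext (hA.2 v.1 v.2)) τ hτp hτ1 hirr
  have h6 : ¬ Cfsg.IsPClosed p G := by
    intro hcl
    have hzp : IsPGroup p (Subgroup.zpowers x) :=
      IsPGroup.of_card (n := 1) (by rw [Nat.card_zpowers, hx, pow_one])
    obtain ⟨P, hP⟩ := hzp.exists_le_sylow
    have hPn := hcl P
    have hdis : Disjoint (P : Subgroup G) A :=
      IsPGroup.disjoint_of_ne p q hpq.symm (P : Subgroup G) A P.2 hAq
    have hcomm := Subgroup.commute_of_normal_of_disjoint (P : Subgroup G) A hPn hAn hdis
    apply hL x hxA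
    intro a ha
    exact hcomm x a (hP (Subgroup.mem_zpowers x)) ha
  have h7 : ∀ H : Subgroup G, H ≠ ⊤ → Cfsg.IsPClosed p ↥H := by
    intro H hH P
    by_cases hpH : p ∣ Nat.card ↥H
    · apply sylow_normal_of_card_dvd_prime ?_ P
      have hHA : ¬ H ≤ A := fun h => hpA (hpH.trans (Subgroup.card_dvd_of_le h))
      have hsup : H ⊔ A = ⊤ := by
        rcases hmax (H ⊔ A) le_sup_right with h | h
        · exact absurd (h ▸ le_sup_left) hHA
        · exact h
      have hinfn : (H ⊓ A).Normal := by
        rw [← Subgroup.normalizer_eq_top_iff, eq_top_iff, ← hsup]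
        apply sup_le
        · intro h hh
          apply ip_mem_normalizer
          intro s hs
          exact Subgroup.mem_inf.mpr ⟨H.mul_mem (H.mul_mem hh hs.1) (H.inv_mem hh),
            hAn.conj_mem s hs.2 h⟩
        · intro a ha
          apply ip_mem_normalizer
          intro s hs
          have : a * s * a⁻¹ = s := by rw [hAcomm a ha s hs.2]; group
          rw [this]; exact hs
      rcases hmin (H ⊓ A) hinfn inf_le_right with h | h
      · have h1 := Subgroup.relIndex_dvd_index_of_normal A H
        rw [hidx, ← Subgroup.inf_relIndex_right, inf_comm A H, h, Subgroup.relIndex_bot_left] at h1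
        exact h1
      · exfalso
        have hAH : A ≤ H := by rw [← h]; exact inf_le_left
        rcases hmax H hAH with h' | h'
        · exact hHA h'.le
        · exact hH h'
    · exact sylow_normal_of_not_dvd hpH P
  have h8 : ∀ (N : Subgroup G) [N.Normal], N ≠ ⊥ → Cfsg.IsPClosed p (G ⧸ N) := by
    intro N hNn hN P
    have hinfn : (N ⊓ A).Normal := inferInstance
    rcases hmin (N ⊓ A) hinfn inf_le_right with h | h
    · exfalso
      obtain ⟨⟨y, hyN⟩, hy1⟩ := (Subgroup.ne_bot_iff_exists_ne_one).mp hN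
      have hy1' : y ≠ 1 := fun h => hy1 (Subtype.ext h)
      have hyA : y ∉ A := fun hyA => hy1' (by
        have : y ∈ N ⊓ A := ⟨hyN, hyA⟩
        rw [h] at this
        exact Subgroup.mem_bot.mp this)
      apply hL y hyA
      intro a ha
      exact Subgroup.commute_of_normal_of_disjoint N A hNn hAn (disjoint_iff.mpr h) y a hyN ha
    · have hAN : A ≤ N := by rw [← h]; exact inf_le_left
      apply sylow_normal_of_card_dvd_prime ?_ P
      have h1 : N.index ∣ p := by rw [← hidx]; exact Subgroup.index_dvd_of_le hAN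
      exact h1
  exact ⟨hcardA, h6, h7, fun N _ hN => h8 N hN⟩

end Cfsg.Agent.Helper21
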