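import Mathlib
import Cfsg.Prelude.Def_Solvable
import Cfsg.Agent.Helper4.MinNormal
import Cfsg.Agent.Helper11.EPPO
import Cfsg.Agent.Lead.ThB
import Cfsg.Agent.Helper21.Metacyclic
import Cfsg.Agent.Helper21.BaerSuzuki

set_option autoImplicit false
set_option linter.style.haveILetI false

/-! Prime graph of a finite solvable group: disconnected implies Frobenius or 2-Frobenius. -/

namespace Cfsg.Agent.Helper21

open Cfsg
open scoped Pointwise
open scoped IsMulCommutative

/-- no element of order `p * q` with `p ∈ A`, `q ∉ A` (both prime). -/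
def NoMix (X : Type*) [Group X] (A : Set ℕ) : Prop :=
  ∀ p q : ℕ, p.Prime → q.Prime → p ∈ A → q ∉ A → ∀ g : X, orderOf g ≠ p * q

/-- all prime divisors of `n` lie in `A`. -/
def PiNum (A : Set ℕ) (n : ℕ) : Prop := ∀ p : ℕ, p.Prime → p ∣ n → p ∈ A

theorem PiNum.mul {A : Set ℕ} {m n : ℕ} (hm : PiNum A m) (hn : PiNum A n) : PiNum A (m * n) := by
  intro p hp hd
  rcases (Nat.Prime.dvd_mul hp).mp hd with h | h
  · exact hm p hp h
  · exact hn p hp h

theorem PiNum.of_dvd {A : Set ℕ} {m n : ℕ} (hn : PiNum A n) (h : m ∣ n) : PiNum A m :=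
  fun p hp hd => hn p hp (hd.trans h)

theorem piNum_one (A : Set ℕ) : PiNum A 1 := by
  intro p hp hd
  exact absurd (Nat.dvd_one.mp hd) hp.one_lt.ne'

theorem piNum_coprime {A : Set ℕ} {m n : ℕ} (hm : PiNum A m) (hn : PiNum Aᶜ n) :
    m.Coprime n :=
  Nat.coprime_of_dvd (fun k hk h1 h2 => (hn k hk h2) (hm k hk h1))

theorem NoMix.compl {X : Type*} [Group X] {A : Set ℕ} (h : NoMix X A) : NoMix X Aᶜ := by
  intro p q hp hq hpA hqA g hg
  have hqA' : q ∈ A := by
    by_contra hh
    exact hqA hh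
  exact h q p hq hp hqA' hpA g (by rw [hg, mul_comm])

theorem exists_pow_orderOf_eq {X : Type*} [Group X] [Finite X] (g : X) (n : ℕ)
    (h : n ∣ orderOf g) : orderOf (g ^ (orderOf g / n)) = n := by
  have hpos : 0 < orderOf g := orderOf_pos g
  have hn : 0 < n := Nat.pos_of_dvd_of_pos h hpos
  have hm : orderOf g / n ≠ 0 := (Nat.div_pos (Nat.le_of_dvd hpos h) hn).ne'
  have := orderOf_pow_of_dvd hm (Nat.div_dvd_of_dvd h)
  rw [Nat.div_div_self h hpos.ne'] at this
  exact this

theorem NoMix.map {X Y : Type*} [Group X] [Group Y] [Finite X] {A : Set ℕ} (h : NoMix X A)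
    (f : X →* Y) (hf : Function.Surjective f) : NoMix Y A := by
  intro p q hp hq hpA hqA y hy
  obtain ⟨g, rfl⟩ := hf y
  have hd : p * q ∣ orderOf g := hy ▸ orderOf_map_dvd f g
  exact h p q hp hq hpA hqA _ (exists_pow_orderOf_eq g (p * q) hd)

theorem NoMix.commute {X : Type*} [Group X] [Finite X] {A : Set ℕ} (h : NoMix X A) {x y : X}
    (hc : Commute x y) {p q : ℕ} (hp : p.Prime) (hq : q.Prime) (hpA : p ∈ A) (hqA : q ∉ A)
    (hpx : p ∣ orderOf x) (hqy : q ∣ orderOf y) : False := by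
  have hx' := exists_pow_orderOf_eq x p hpx
  have hy' := exists_pow_orderOf_eq y q hqy
  have hc' : Commute (x ^ (orderOf x / p)) (y ^ (orderOf y / q)) := hc.pow_pow _ _
  have hpq : p ≠ q := fun e => hqA (e ▸ hpA)
  have hcop : Nat.Coprime p q := (Nat.coprime_primes hp hq).mpr hpq
  have := hc'.orderOf_mul_eq_mul_orderOf_of_coprime (by rw [hx', hy']; exact hcop)
  rw [hx', hy'] at this
  exact h p q hp hq hpA hqA _ this

theorem NoMix.subgroup {X : Type*} [Group X] {A : Set ℕ} (h : NoMix X A) (K : Subgroup X) :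
    NoMix ↥K A := by
  intro p q hp hq hpA hqA g hg
  exact h p q hp hq hpA hqA (g : X) (by rw [Subgroup.orderOf_coe, hg])

/-- a nontrivial element of a `B`-subgroup has order divisible by a prime in `B`. -/
theorem exists_prime_dvd_orderOf_of_pi {X : Type*} [Group X] [Finite X] {B : Set ℕ}
    {L : Subgroup X} (hL : PiNum B (Nat.card L)) {x : X} (hx : x ∈ L) (hx1 : x ≠ 1) :
    ∃ p : ℕ, p.Prime ∧ p ∈ B ∧ p ∣ orderOf x := by
  have h1 : orderOf x ≠ 1 := fun h => hx1 (orderOf_eq_one_iff.mp h)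
  refine ⟨(orderOf x).minFac, Nat.minFac_prime h1, ?_, Nat.minFac_dvd _⟩
  exact hL _ (Nat.minFac_prime h1) ((Nat.minFac_dvd _).trans (L.orderOf_dvd_natCard hx))

/-- A normal Hall subgroup `N` such that no element outside `N` commutes with a nontrivial element
of `N` is the Frobenius kernel of a complement. -/
theorem frob_of_hall_fpf {X : Type*} [Group X] [Finite X] (N : Subgroup X) [hN : N.Normal]
    (hcop : (Nat.card N).Coprime N.index) (hN1 : N ≠ ⊥) (hN2 : N ≠ ⊤)
    (hfpf : ∀ n ∈ N, n ≠ 1 → ∀ x : X, Commute x n → x ∈ N) :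
    ∃ C : Subgroup X, IsFrobeniusComplement C ∧ frobeniusKernel C = (N : Set X) := by
  obtain ⟨C, hC⟩ := Subgroup.exists_right_complement'_of_coprime hcop
  have hdisj : N ⊓ C = ⊥ := disjoint_iff.mp hC.disjoint
  have hsup : N ⊔ C = ⊤ := hC.sup_eq_top
  have hNC : ∀ x : X, x ∈ N → x ∈ C → x = 1 := by
    intro x h1 h2
    have : x ∈ N ⊓ C := ⟨h1, h2⟩
    rwa [hdisj, Subgroup.mem_bot] at this
  have hdec : ∀ g : X, ∃ n ∈ N, ∃ c ∈ C, g = n * c := by
    intro g
    have h1 : g ∈ ((N ⊔ C : Subgroup X) : Set X) := by rw [hsup]; trivial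
    rw [Subgroup.normal_mul, Set.mem_mul] at h1
    obtain ⟨n, hn, c, hc, rfl⟩ := h1
    exact ⟨n, hn, c, hc, rfl⟩
  have hmem : ∀ (g x : X), x ∈ MulAut.conj g • C ↔ g⁻¹ * x * g ∈ C := by
    intro g x
    rw [Subgroup.mem_pointwise_smul_iff_inv_smul_mem]
    simp [MulAut.smul_def]
  refine ⟨C, ⟨?_, ?_, ?_⟩, ?_⟩
  · intro h
    rw [h, sup_bot_eq] at hsup
    exact hN2 hsup
  · intro h
    rw [h, inf_top_eq] at hdisj
    exact hN1 hdisj
  · intro g hg
    rw [eq_bot_iff]
    intro x hx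
    have hx1 : x ∈ C := hx.1
    have hx2 : x ∈ MulAut.conj g • C := hx.2
    rw [hmem] at hx2
    obtain ⟨n, hn, c, hc, rfl⟩ := hdec g
    have hn1 : n ≠ 1 := by
      rintro rfl
      rw [one_mul] at hg
      exact hg hc
    have hy : n⁻¹ * x * n ∈ C := by
      have h3 := C.mul_mem (C.mul_mem hc hx2) (C.inv_mem hc)
      have h4 : c * ((n * c)⁻¹ * x * (n * c)) * c⁻¹ = n⁻¹ * x * n := by group
      rwa [h4] at h3
    have h5 : x⁻¹ * (n⁻¹ * x * n) ∈ N := by
      have h6 : x⁻¹ * n⁻¹ * x⁻¹⁻¹ ∈ N := hN.conj_mem _ (N.inv_mem hn) x⁻¹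
      have h7 := N.mul_mem h6 hn
      have h8 : x⁻¹ * n⁻¹ * x⁻¹⁻¹ * n = x⁻¹ * (n⁻¹ * x * n) := by group
      rwa [h8] at h7
    have h9 := hNC _ h5 (C.mul_mem (C.inv_mem hx1) hy)
    have hcomm : Commute x n := by
      have : x * n = n * x := by
        have h10 : n⁻¹ * x * n = x := by
          have := congrArg (fun t => x * t) h9
          simpa using this
        calc x * n = n * (n⁻¹ * x * n) := by group
          _ = n * x := by rw [h10]
      exact this
    have hxN := hfpf n hn hn1 x hcomm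
    rw [Subgroup.mem_bot]
    exact hNC x hxN hx1
  · ext x
    constructor
    · intro hx
      by_contra hxN
      have hxN' : x ∉ N := hxN
      have hx1 : x ≠ 1 := fun h => hxN' (h ▸ N.one_mem)
      have hx' : ∀ g : X, x ∉ MulAut.conj g • C := by
        rcases hx with h | h
        · exact absurd h hx1
        · exact h
      obtain ⟨m, hm, c, hc, rfl⟩ := hdec x
      have hc1 : c ≠ 1 := by
        rintro rfl
        rw [mul_one] at hxN'
        exact hxN' hm
      let f : N → N := fun n => ⟨(n : X) * (c * (n : X)⁻¹ * c⁻¹),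
        N.mul_mem n.2 (hN.conj_mem _ (N.inv_mem n.2) c)⟩
      have hinj : Function.Injective f := by
        intro n n' hnn
        have h1 : (n : X) * (c * (n : X)⁻¹ * c⁻¹) = (n' : X) * (c * (n' : X)⁻¹ * c⁻¹) :=
          congrArg Subtype.val hnn
        have h2 : c * ((n' : X)⁻¹ * (n : X)) * c⁻¹ = (n' : X)⁻¹ * (n : X) := by
          calc c * ((n' : X)⁻¹ * (n : X)) * c⁻¹
              = (n' : X)⁻¹ * ((n' : X) * (c * (n' : X)⁻¹ * c⁻¹)) * (c * (n : X)⁻¹ * c⁻¹)⁻¹ := by
                group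
            _ = (n' : X)⁻¹ * ((n : X) * (c * (n : X)⁻¹ * c⁻¹)) * (c * (n : X)⁻¹ * c⁻¹)⁻¹ := by
                rw [h1]
            _ = (n' : X)⁻¹ * (n : X) := by group
        by_contra hne
        have hne' : (n' : X)⁻¹ * (n : X) ≠ 1 := by
          intro h
          apply hne
          apply Subtype.ext
          have := congrArg (fun t => (n' : X) * t) h
          simpa using this
        have hcomm : Commute c ((n' : X)⁻¹ * (n : X)) := by
          have : c * ((n' : X)⁻¹ * (n : X)) = ((n' : X)⁻¹ * (n : X)) * c := by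
            calc c * ((n' : X)⁻¹ * (n : X)) = (c * ((n' : X)⁻¹ * (n : X)) * c⁻¹) * c := by group
              _ = ((n' : X)⁻¹ * (n : X)) * c := by rw [h2]
          exact this
        have hcN := hfpf _ (N.mul_mem (N.inv_mem n'.2) n.2) hne' c hcomm
        exact hc1 (hNC c hcN hc)
      have hsurj : Function.Surjective f := Finite.injective_iff_surjective.mp hinj
      obtain ⟨n, hn⟩ := hsurj ⟨m, hm⟩
      have hn' : (n : X) * (c * (n : X)⁻¹ * c⁻¹) = m := congrArg Subtype.val hn
      apply hx' (n : X)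
      rw [hmem, ← hn']
      have : (n : X)⁻¹ * ((n : X) * (c * (n : X)⁻¹ * c⁻¹) * c) * (n : X) = c := by group
      rw [this]
      exact hc
    · intro hx
      have hxN : x ∈ N := hx
      by_cases hx1 : x = 1
      · exact Or.inl hx1
      · refine Or.inr (fun g hg => hx1 ?_)
        rw [hmem] at hg
        have h1 : g⁻¹ * x * g⁻¹⁻¹ ∈ N := hN.conj_mem x hxN g⁻¹
        rw [inv_inv] at h1
        have h2 := hNC _ h1 hg
        have := congrArg (fun t => g * t * g⁻¹) h2
        simpa [mul_assoc] using this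

theorem exists_max_normal_pi (G : Type*) [Group G] [Finite G] (A : Set ℕ) :
    ∃ H : Subgroup G, H.Normal ∧ PiNum A (Nat.card H) ∧
      ∀ L : Subgroup G, L.Normal → PiNum A (Nat.card L) → Nat.card L ≤ Nat.card H := by
  classical
  haveI : Nonempty {H : Subgroup G // H.Normal ∧ PiNum A (Nat.card H)} :=
    ⟨⟨⊥, inferInstance, by rw [Subgroup.card_bot]; exact piNum_one A⟩⟩
  obtain ⟨H, hH⟩ := Finite.exists_max
    (fun H : {H : Subgroup G // H.Normal ∧ PiNum A (Nat.card H)} => Nat.card H.1)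
  exact ⟨H.1, H.2.1, H.2.2, fun L hL hL' => hH ⟨L, hL, hL'⟩⟩

theorem card_comap_mk' {G : Type*} [Group G] [Finite G] (H : Subgroup G) [H.Normal]
    (L' : Subgroup (G ⧸ H)) :
    Nat.card (L'.comap (QuotientGroup.mk' H)) = Nat.card H * Nat.card L' := by
  have h1 := card_eq_card_inf_mul_card_map H (L'.comap (QuotientGroup.mk' H))
  have h2 : H ⊓ L'.comap (QuotientGroup.mk' H) = H := inf_eq_left.mpr (by
    intro x hx
    rw [Subgroup.mem_comap]
    have : (QuotientGroup.mk' H x) = 1 := (QuotientGroup.eq_one_iff x).mpr hx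
    rw [this]
    exact L'.one_mem)
  have h3 : (L'.comap (QuotientGroup.mk' H)).map (QuotientGroup.mk' H) = L' :=
    Subgroup.map_comap_eq_self_of_surjective (QuotientGroup.mk'_surjective H) L'
  rw [h2, h3] at h1
  exact h1

theorem quot_no_normal_pi {G : Type*} [Group G] [Finite G] (A : Set ℕ) (H : Subgroup G)
    [H.Normal] (hA : PiNum A (Nat.card H))
    (hmax : ∀ L : Subgroup G, L.Normal → PiNum A (Nat.card L) → Nat.card L ≤ Nat.card H)
    (L' : Subgroup (G ⧸ H)) (hL'n : L'.Normal) (hL' : PiNum A (Nat.card L')) : L' = ⊥ := by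
  have hcard := card_comap_mk' H L'
  have hpi : PiNum A (Nat.card (L'.comap (QuotientGroup.mk' H))) := by
    rw [hcard]
    exact hA.mul hL'
  have hle := hmax _ (hL'n.comap _) hpi
  rw [hcard] at hle
  have hle1 : Nat.card L' ≤ 1 := by
    have hpos : 0 < Nat.card H := Nat.card_pos
    by_contra hcon
    push Not at hcon
    have : Nat.card H * 2 ≤ Nat.card H * Nat.card L' := Nat.mul_le_mul_left _ hcon
    omega
  exact L'.eq_bot_of_card_le hle1

/-- If `N` is a normal `A`-subgroup with `A'`-index in a group without mixed elements, then `N`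
is a Frobenius kernel. -/
theorem frob_of_pi_quot {X : Type*} [Group X] [Finite X] (A : Set ℕ) (hA : NoMix X A)
    (N : Subgroup X) [hN : N.Normal] (hN1 : N ≠ ⊥) (hN2 : N ≠ ⊤)
    (hNA : PiNum A (Nat.card N)) (hQ : PiNum Aᶜ N.index) :
    ∃ C : Subgroup X, IsFrobeniusComplement C ∧ frobeniusKernel C = (N : Set X) := by
  refine frob_of_hall_fpf N (piNum_coprime hNA hQ) hN1 hN2 ?_
  intro n hn hn1 x hc
  by_contra hxN
  obtain ⟨p, hp, hpA, hpn⟩ := exists_prime_dvd_orderOf_of_pi hNA hn hn1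
  have hx1 : (QuotientGroup.mk' N x) ≠ 1 := fun h => hxN ((QuotientGroup.eq_one_iff x).mp h)
  have ho1 : orderOf (QuotientGroup.mk' N x) ≠ 1 := fun h => hx1 (orderOf_eq_one_iff.mp h)
  have hq := Nat.minFac_prime ho1
  have hqd : (orderOf (QuotientGroup.mk' N x)).minFac ∣ N.index := by
    rw [Subgroup.index_eq_card]
    exact (Nat.minFac_dvd _).trans (orderOf_dvd_natCard _)
  have hqA : (orderOf (QuotientGroup.mk' N x)).minFac ∉ A := hQ _ hq hqd
  have hqx : (orderOf (QuotientGroup.mk' N x)).minFac ∣ orderOf x :=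
    (Nat.minFac_dvd _).trans (orderOf_map_dvd _ x)
  exact hA.commute hc.symm hp hq hpA hqA hpn hqx

/-- The norm trick: a commuting pair `a, b` of elements of order dividing `r`, such that all
`a * b ^ j` and all `b ^ i` (`0 < i < r`) act fixed-point-freely on the abelian normal
`r'`-subgroup `M`, forces `M = 1`. -/
theorem fpf_elem_abelian_trivial {G : Type*} [Group G] [Finite G] (M : Subgroup G) [hM : M.Normal]
    (hMc : ∀ x ∈ M, ∀ y ∈ M, x * y = y * x) (r : ℕ) (hr : r.Prime)
    (hMr : (Nat.card M).Coprime r)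
    (a b : G) (hab : Commute a b) (ha : a ^ r = 1) (hb : b ^ r = 1)
    (h1 : ∀ j : ℕ, ∀ m ∈ M, (a * b ^ j) * m * (a * b ^ j)⁻¹ = m → m = 1)
    (h2 : ∀ i : ℕ, 0 < i → i < r → ∀ m ∈ M, (b ^ i) * m * (b ^ i)⁻¹ = m → m = 1) : M = ⊥ := by
  haveI : IsMulCommutative M := .of_setLike_mul_comm hMc
  have hΦ : ∀ x : G, x ^ r = 1 → (∀ m ∈ M, x * m * x⁻¹ = m → m = 1) →
      ∑ i ∈ Finset.range r, (Lead.Th.conjEndN M x) ^ i = 0 := by
    intro x hx hfp
    have hg := mul_geom_sum (Lead.Th.conjEndN M x) r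
    rw [← map_pow, hx, map_one, sub_self] at hg
    refine DFunLike.ext _ _ (fun v => ?_)
    have h3 := DFunLike.congr_fun hg v
    have h4 : Lead.Th.conjEndN M x ((∑ i ∈ Finset.range r, (Lead.Th.conjEndN M x) ^ i) v) =
        (∑ i ∈ Finset.range r, (Lead.Th.conjEndN M x) ^ i) v := by
      have h5 : (Lead.Th.conjEndN M x - 1) ((∑ i ∈ Finset.range r, (Lead.Th.conjEndN M x) ^ i) v) = 0 :=
        h3
      have h5' : Lead.Th.conjEndN M x ((∑ i ∈ Finset.range r, (Lead.Th.conjEndN M x) ^ i) v) -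
          (∑ i ∈ Finset.range r, (Lead.Th.conjEndN M x) ^ i) v = 0 := h5
      exact sub_eq_zero.mp h5'
    have h6 := Lead.Th.conjEndN_apply M x ((∑ i ∈ Finset.range r, (Lead.Th.conjEndN M x) ^ i) v)
    rw [h4] at h6
    have h7 := hfp _ (Additive.toMul ((∑ i ∈ Finset.range r, (Lead.Th.conjEndN M x) ^ i) v) : M).2
      h6.symm
    apply Helper11.additive_subgroup_ext
    exact h7
  have hcalc : ∑ j ∈ Finset.range r, ∑ i ∈ Finset.range r, (Lead.Th.conjEndN M (a * b ^ j)) ^ i =
      (r : AddMonoid.End (Additive ↥M)) := by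
    have e1 : ∀ j ∈ Finset.range r, ∀ i ∈ Finset.range r,
        (Lead.Th.conjEndN M (a * b ^ j)) ^ i =
          (Lead.Th.conjEndN M a) ^ i * (Lead.Th.conjEndN M (b ^ i)) ^ j := by
      intro j _ i _
      rw [← map_pow, ← map_pow, ← map_pow, ← map_mul]
      congr 1
      rw [(hab.pow_right j).mul_pow, ← pow_mul, ← pow_mul, mul_comm j i]
    rw [Finset.sum_congr rfl (fun j hj => Finset.sum_congr rfl (fun i hi => e1 j hj i hi))]
    rw [Finset.sum_comm]
    have e2 : ∀ i ∈ Finset.range r,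
        ∑ j ∈ Finset.range r, (Lead.Th.conjEndN M a) ^ i * (Lead.Th.conjEndN M (b ^ i)) ^ j =
          if i = 0 then (r : AddMonoid.End (Additive ↥M)) else 0 := by
      intro i hi
      rw [← Finset.mul_sum]
      by_cases hi0 : i = 0
      · subst hi0
        simp
      · rw [if_neg hi0]
        rw [hΦ (b ^ i) (by rw [← pow_mul, mul_comm, pow_mul, hb, one_pow])
          (h2 i (Nat.pos_of_ne_zero hi0) (Finset.mem_range.mp hi)), mul_zero]
    rw [Finset.sum_congr rfl e2]
    rw [Finset.sum_ite_eq' (Finset.range r) 0]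
    rw [if_pos (Finset.mem_range.mpr hr.pos)]
  have hzero : (r : AddMonoid.End (Additive ↥M)) = 0 := by
    rw [← hcalc]
    apply Finset.sum_eq_zero
    intro j _
    exact hΦ (a * b ^ j) (by rw [(hab.pow_right j).mul_pow, ha, ← pow_mul, mul_comm, pow_mul, hb,
      one_pow, one_mul]) (h1 j)
  rw [eq_bot_iff]
  intro m hm
  rw [Subgroup.mem_bot]
  have h3 := DFunLike.congr_fun hzero (Additive.ofMul (⟨m, hm⟩ : M))
  rw [AddMonoid.End.natCast_apply] at h3
  have h4 : m ^ r = 1 := by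
    have h5 : ((⟨m, hm⟩ : M) ^ r : M) = 1 := h3
    have := congrArg Subtype.val h5
    simpa using this
  have h6 : orderOf m ∣ r := orderOf_dvd_of_pow_eq_one h4
  have h7 : orderOf m ∣ Nat.card M := M.orderOf_dvd_natCard hm
  have h8 : orderOf m = 1 := Nat.eq_one_of_dvd_coprimes hMr h7 h6
  exact orderOf_eq_one_iff.mp h8

theorem pg_normal_le_sylow {H : Type*} [Group H] [Finite H] {p : ℕ} [Fact p.Prime]
    (N : Subgroup H) [hNn : N.Normal] (hN : IsPGroup p N) (Q : Sylow p H) : N ≤ Q := by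
  obtain ⟨Q', hQ'⟩ := hN.exists_le_sylow
  obtain ⟨g, hg⟩ := MulAction.exists_smul_eq H Q' Q
  intro x hx
  have h1 : g⁻¹ * x * g ∈ (Q' : Subgroup H) := hQ' (by
    have := hNn.conj_mem x hx g⁻¹
    simpa using this)
  have h2 : x ∈ ((g • Q' : Sylow p H) : Subgroup H) := (bs_mem_sylow_smul g x Q').mpr h1
  rw [hg] at h2
  exact h2

theorem prime_eq_of_dvd_card_of_exponent {X : Type*} [Group X] [Finite X] (W : Subgroup X)
    {r : ℕ} (hr : r.Prime) (hW : ∀ x ∈ W, x ^ r = 1) {p : ℕ} (hp : p.Prime)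
    (hd : p ∣ Nat.card W) : p = r := by
  haveI : Fact p.Prime := ⟨hp⟩
  obtain ⟨x, hx⟩ := exists_prime_orderOf_dvd_card' (G := W) p hd
  have h1 : x ^ r = 1 := by
    apply Subtype.ext
    rw [Subgroup.coe_pow, Subgroup.coe_one]
    exact hW x x.2
  have h2 : p ∣ r := hx ▸ orderOf_dvd_of_pow_eq_one h1
  exact (Nat.prime_dvd_prime_iff_eq hp hr).mp h2

theorem pgroup_dvd_orderOf {X : Type*} [Group X] {r : ℕ} (hr : r.Prime) {P : Subgroup X}
    (hP : IsPGroup r P) {x : X} (hx : x ∈ P) (hx1 : x ≠ 1) : r ∣ orderOf x := by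
  obtain ⟨k, hk⟩ := hP ⟨x, hx⟩
  have h1 : x ^ r ^ k = 1 := by
    have := congrArg Subtype.val hk
    simpa using this
  have h2 : orderOf x ∣ r ^ k := orderOf_dvd_of_pow_eq_one h1
  obtain ⟨j, _, hj⟩ := (Nat.dvd_prime_pow hr).mp h2
  rw [hj]
  have hj0 : j ≠ 0 := by
    rintro rfl
    rw [pow_zero] at hj
    exact hx1 (orderOf_eq_one_iff.mp hj)
  exact dvd_pow_self r hj0

theorem frob_or_two_frob_aux {G : Type*} [Group G] [Finite G] (hsol : Group.IsSolvable G)
    (A : Set ℕ) (hA : NoMix G A)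
    (M : Subgroup G) [hMn : M.Normal] (hM1 : M ≠ ⊥) (hMc : ∀ x ∈ M, ∀ y ∈ M, x * y = y * x)
    (hMA : PiNum A (Nat.card M)) (hb : ∃ b, b ∉ A ∧ b.Prime ∧ b ∣ Nat.card G) :
    (∃ C : Subgroup G, Cfsg.IsFrobeniusComplement C) ∨
    (∃ (H K : Subgroup G) (_ : H.Normal), K.Normal ∧ H < K ∧
      (∃ C : Subgroup ↥K, Cfsg.IsFrobeniusComplement C ∧
        Cfsg.frobeniusKernel C = (H.subgroupOf K : Set ↥K)) ∧
      (∃ C : Subgroup (G ⧸ H), Cfsg.IsFrobeniusComplement C ∧
        Cfsg.frobeniusKernel C = (K.map (QuotientGroup.mk' H) : Set (G ⧸ H)))) := by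
  classical
  obtain ⟨H, hHn, hHA, hHmax⟩ := exists_max_normal_pi G A
  haveI := hHn
  have hMcard : 1 < Nat.card M := by
    haveI : Nontrivial M := (Subgroup.nontrivial_iff_ne_bot M).mpr hM1
    exact Finite.one_lt_card
  have hH1 : H ≠ ⊥ := by
    intro h
    have := hHmax M hMn hMA
    rw [h, Subgroup.card_bot] at this
    omega
  obtain ⟨b, hbA, hbp, hbG⟩ := hb
  have hH2 : H ≠ ⊤ := by
    intro h
    apply hbA
    apply hHA b hbp
    rw [h, Subgroup.card_top]
    exact hbG
  have hQ : NoMix (G ⧸ H) A := hA.map (QuotientGroup.mk' H) (QuotientGroup.mk'_surjective H)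
  have hQno := quot_no_normal_pi A H hHA hHmax
  obtain ⟨K', hK'n, hK'A, hK'max⟩ := exists_max_normal_pi (G ⧸ H) Aᶜ
  haveI := hK'n
  haveI : Nontrivial (G ⧸ H) := QuotientGroup.nontrivial_iff.mpr hH2
  haveI := hsol
  haveI : Group.IsSolvable (G ⧸ H) :=
    Group.isSolvable_of_surjective (QuotientGroup.mk'_surjective H)
  obtain ⟨W', hW'n, hW'1, hW'min⟩ := Helper11.exists_min_normal (G ⧸ H)
  haveI := hW'n
  have hW'c := Helper4.abelian_of_min_normal W' hW'1 hW'min
  obtain ⟨r, hr, hW'r⟩ := Helper4.exponent_of_min_normal W' hW'1 hW'min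
  haveI : Fact r.Prime := ⟨hr⟩
  have hW'pi : ∀ p : ℕ, p.Prime → p ∣ Nat.card W' → p = r :=
    fun p hp hd => prime_eq_of_dvd_card_of_exponent W' hr hW'r hp hd
  have hrA : r ∉ A := by
    intro hrA
    apply hW'1
    exact hQno W' hW'n (fun p hp hd => (hW'pi p hp hd) ▸ hrA)
  have hW'A : PiNum Aᶜ (Nat.card W') := fun p hp hd => (hW'pi p hp hd) ▸ hrA
  have hK'1 : K' ≠ ⊥ := by
    intro h
    have h1 := hK'max W' hW'n hW'A
    rw [h, Subgroup.card_bot] at h1
    have h2 : 1 < Nat.card W' := by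
      haveI : Nontrivial W' := (Subgroup.nontrivial_iff_ne_bot W').mpr hW'1
      exact Finite.one_lt_card
    omega
  set K : Subgroup G := K'.comap (QuotientGroup.mk' H) with hKdef
  have hKn : K.Normal := hK'n.comap _
  have hHK : H ≤ K := by
    intro x hx
    rw [hKdef, Subgroup.mem_comap]
    have : (QuotientGroup.mk' H x) = 1 := (QuotientGroup.eq_one_iff x).mpr hx
    rw [this]
    exact K'.one_mem
  have hKmap : K.map (QuotientGroup.mk' H) = K' :=
    Subgroup.map_comap_eq_self_of_surjective (QuotientGroup.mk'_surjective H) K'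
  have hKcard : Nat.card K = Nat.card H * Nat.card K' := card_comap_mk' H K'
  have hlt : H < K := by
    refine lt_of_le_of_ne hHK (fun h => hK'1 ?_)
    rw [← hKmap, ← h, Subgroup.map_eq_bot_iff, QuotientGroup.ker_mk']
  have hFK : ∃ C : Subgroup ↥K, Cfsg.IsFrobeniusComplement C ∧
      Cfsg.frobeniusKernel C = (H.subgroupOf K : Set ↥K) := by
    have hcN : Nat.card (H.subgroupOf K) = Nat.card H :=
      Nat.card_congr (Subgroup.subgroupOfEquivOfLe hHK).toEquiv
    have hidx : (H.subgroupOf K).index = Nat.card K' := by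
      have h1 := Subgroup.card_mul_index (H.subgroupOf K)
      rw [hcN, hKcard] at h1
      exact Nat.eq_of_mul_eq_mul_left Nat.card_pos h1
    refine frob_of_pi_quot A (hA.subgroup K) (H.subgroupOf K) ?_ ?_ ?_ ?_
    · rw [Ne, Subgroup.subgroupOf_eq_bot]
      intro hd
      exact hH1 (eq_bot_iff.mpr (hd le_rfl hHK))
    · rw [Ne, Subgroup.subgroupOf_eq_top]
      exact not_le_of_gt hlt
    · rw [hcN]
      exact hHA
    · rw [hidx]
      exact hK'A
  by_cases hK'top : K' = ⊤
  · left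
    have hidx : H.index = Nat.card K' := by
      rw [Subgroup.index_eq_card, hK'top, Subgroup.card_top]
    obtain ⟨C, hC, _⟩ := frob_of_pi_quot A hA H hH1 hH2 hHA (by rw [hidx]; exact hK'A)
    exact ⟨C, hC⟩
  · right
    refine ⟨H, K, hHn, hKn, hlt, hFK, ?_⟩
    rw [hKmap]
    -- `W'` is cyclic
    have hcyc : ∀ b' ∈ W', b' ≠ 1 → ∀ a' ∈ W', a' ∈ Subgroup.zpowers b' := by
      intro b' hb' hb'1 a' ha'
      by_contra hnot
      apply hM1
      let P : Sylow r G := default
      have hPinj : ∀ x ∈ (P : Subgroup G), (QuotientGroup.mk' H x) = 1 → x = 1 := by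
        intro x hxP hx1
        have hxH : x ∈ H := (QuotientGroup.eq_one_iff x).mp hx1
        by_contra hne
        exact hrA (hHA r hr ((pgroup_dvd_orderOf hr P.isPGroup' hxP hne).trans
          (H.orderOf_dvd_natCard hxH)))
      have hW'p : IsPGroup r W' := by
        intro x
        refine ⟨1, ?_⟩
        apply Subtype.ext
        rw [pow_one, Subgroup.coe_pow, Subgroup.coe_one]
        exact hW'r x x.2
      have hP'le : W' ≤ (P.mapSurjective (QuotientGroup.mk'_surjective H) :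
          Subgroup (G ⧸ H)) := pg_normal_le_sylow W' hW'p _
      rw [Sylow.coe_mapSurjective] at hP'le
      obtain ⟨a, haP, rfl⟩ := hP'le ha'
      obtain ⟨b₀, hbP, rfl⟩ := hP'le hb'
      have hab : Commute a b₀ := by
        have h1 : a * b₀ * a⁻¹ * b₀⁻¹ = 1 := by
          apply hPinj _ (Subgroup.mul_mem _ (Subgroup.mul_mem _ (Subgroup.mul_mem _ haP hbP)
            (Subgroup.inv_mem _ haP)) (Subgroup.inv_mem _ hbP))
          rw [map_mul, map_mul, map_mul, map_inv, map_inv, hW'c _ ha' _ hb']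
          group
        have h2 : a * b₀ = b₀ * a := by
          calc a * b₀ = (a * b₀ * a⁻¹ * b₀⁻¹) * (b₀ * a) := by group
            _ = b₀ * a := by rw [h1, one_mul]
        exact h2
      have ha : a ^ r = 1 := by
        apply hPinj _ (Subgroup.pow_mem _ haP r)
        rw [map_pow]
        exact hW'r _ ha'
      have hb : b₀ ^ r = 1 := by
        apply hPinj _ (Subgroup.pow_mem _ hbP r)
        rw [map_pow]
        exact hW'r _ hb'
      have hb1 : b₀ ≠ 1 := by
        rintro rfl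
        exact hb'1 (map_one _)
      have hfix : ∀ x ∈ (P : Subgroup G), x ≠ 1 → ∀ m ∈ M, x * m * x⁻¹ = m → m = 1 := by
        intro x hxP hx1 m hm hxm
        by_contra hne
        obtain ⟨p, hp, hpA, hpm⟩ := exists_prime_dvd_orderOf_of_pi hMA hm hne
        have hrx := pgroup_dvd_orderOf hr P.isPGroup' hxP hx1
        have hc : Commute m x := by
          have : m * x = x * m := by
            calc m * x = (x * m * x⁻¹) * x := by rw [hxm]
              _ = x * m := by group
          exact this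
        exact hA.commute hc hp hr hpA hrA hpm hrx
      have hcop : (Nat.card M).Coprime r :=
        ((Nat.Prime.coprime_iff_not_dvd hr).mpr (fun h => hrA (hMA r hr h))).symm
      refine fpf_elem_abelian_trivial M hMc r hr hcop a b₀ hab ha hb ?_ ?_
      · intro j
        refine hfix (a * b₀ ^ j) (Subgroup.mul_mem _ haP (Subgroup.pow_mem _ hbP j)) ?_
        intro h
        apply hnot
        have h1 : (QuotientGroup.mk' H a) * (QuotientGroup.mk' H b₀) ^ j = 1 := by
          rw [← map_pow, ← map_mul, h, map_one]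
        have h2 : (QuotientGroup.mk' H a) = ((QuotientGroup.mk' H b₀) ^ j)⁻¹ :=
          eq_inv_of_mul_eq_one_left h1
        rw [h2]
        exact Subgroup.inv_mem _ (Subgroup.pow_mem _ (Subgroup.mem_zpowers _) j)
      · intro i hi0 hir
        refine hfix (b₀ ^ i) (Subgroup.pow_mem _ hbP i) ?_
        intro h
        have h1 : orderOf b₀ = r := orderOf_eq_prime hb hb1
        have h2 : r ∣ i := h1 ▸ orderOf_dvd_of_pow_eq_one h
        exact absurd (Nat.le_of_dvd hi0 h2) (not_le_of_gt hir)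
    obtain ⟨⟨w, hwW⟩, hw1'⟩ := Subgroup.ne_bot_iff_exists_ne_one.mp hW'1
    have hw1 : w ≠ 1 := fun h => hw1' (Subtype.ext h)
    have hwr : w ^ r = 1 := hW'r w hwW
    have hwo : orderOf w = r := orderOf_eq_prime hwr hw1
    have hcomm0 : ∀ x y : G ⧸ H, Commute ((x * y)⁻¹ * (y * x)) w := by
      intro x y
      obtain ⟨i, hi⟩ := Subgroup.mem_zpowers_iff.mp
        (hcyc w hwW hw1 _ (hW'n.conj_mem w hwW x))
      obtain ⟨j, hj⟩ := Subgroup.mem_zpowers_iff.mp
        (hcyc w hwW hw1 _ (hW'n.conj_mem w hwW y))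
      have h1 : (x * y) * w * (x * y)⁻¹ = w ^ (i * j) := by
        calc (x * y) * w * (x * y)⁻¹ = x * (y * w * y⁻¹) * x⁻¹ := by group
          _ = x * w ^ j * x⁻¹ := by rw [hj]
          _ = (x * w * x⁻¹) ^ j := conj_zpow.symm
          _ = w ^ (i * j) := by rw [← hi, ← zpow_mul]
      have h2 : (y * x) * w * (y * x)⁻¹ = w ^ (i * j) := by
        calc (y * x) * w * (y * x)⁻¹ = y * (x * w * x⁻¹) * y⁻¹ := by group
          _ = y * w ^ i * y⁻¹ := by rw [hi]
          _ = (y * w * y⁻¹) ^ i := conj_zpow.symm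
          _ = w ^ (i * j) := by rw [← hj, ← zpow_mul, mul_comm]
      have h3 : ((x * y)⁻¹ * (y * x)) * w = w * ((x * y)⁻¹ * (y * x)) := by
        calc ((x * y)⁻¹ * (y * x)) * w = (x * y)⁻¹ * ((y * x) * w * (y * x)⁻¹) * (y * x) := by
              group
          _ = (x * y)⁻¹ * ((x * y) * w * (x * y)⁻¹) * (y * x) := by rw [h2, h1]
          _ = w * ((x * y)⁻¹ * (y * x)) := by group
      exact h3
    have hcomm : ∀ x y : G ⧸ H, Commute (y * x * y⁻¹ * x⁻¹) w := by
      intro x y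
      have h := hcomm0 x⁻¹ y⁻¹
      have e : (x⁻¹ * y⁻¹)⁻¹ * (y⁻¹ * x⁻¹) = y * x * y⁻¹ * x⁻¹ := by group
      rwa [e] at h
    have hC'n : (Subgroup.centralizer (W' : Set (G ⧸ H))).Normal := Subgroup.normal_centralizer
    have hcommC : ∀ x y : G ⧸ H, y * x * y⁻¹ * x⁻¹ ∈ Subgroup.centralizer (W' : Set (G ⧸ H)) := by
      intro x y
      rw [Subgroup.mem_centralizer_iff]
      intro h hh
      obtain ⟨k, rfl⟩ := Subgroup.mem_zpowers_iff.mp (hcyc w hwW hw1 h hh)
      exact (((hcomm x y).zpow_right k).eq).symm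
    have hC'A : PiNum Aᶜ (Nat.card (Subgroup.centralizer (W' : Set (G ⧸ H)))) := by
      intro p hp hd hpA
      haveI : Fact p.Prime := ⟨hp⟩
      obtain ⟨c, hc⟩ := exists_prime_orderOf_dvd_card'
        (G := Subgroup.centralizer (W' : Set (G ⧸ H))) p hd
      have hcw : Commute (c : G ⧸ H) w := by
        have := (Subgroup.mem_centralizer_iff.mp c.2) w hwW
        exact this.symm
      exact hQ.commute hcw hp hr hpA hrA (by rw [Subgroup.orderOf_coe, hc]) (by rw [hwo])
    have hC'K : Subgroup.centralizer (W' : Set (G ⧸ H)) ≤ K' := by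
      have h1 : (Subgroup.centralizer (W' : Set (G ⧸ H))).map (QuotientGroup.mk' K') = ⊥ := by
        refine quot_no_normal_pi Aᶜ K' hK'A hK'max _
          (hC'n.map _ (QuotientGroup.mk'_surjective K')) ?_
        exact hC'A.of_dvd (Subgroup.card_map_dvd _ _)
      rw [Subgroup.map_eq_bot_iff, QuotientGroup.ker_mk'] at h1
      exact h1
    have hcommQ : ∀ u v : (G ⧸ H) ⧸ K', u * v = v * u := by
      intro u v
      obtain ⟨x, rfl⟩ := QuotientGroup.mk'_surjective K' u
      obtain ⟨y, rfl⟩ := QuotientGroup.mk'_surjective K' v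
      rw [← map_mul, ← map_mul]
      apply QuotientGroup.eq.mpr
      have h := hC'K (hcommC x⁻¹ y⁻¹)
      have e : y⁻¹ * x⁻¹ * y⁻¹⁻¹ * x⁻¹⁻¹ = (x * y)⁻¹ * (y * x) := by group
      rwa [e] at h
    have hidxA : PiNum A K'.index := by
      intro q hq hd
      by_contra hqA
      haveI : Fact q.Prime := ⟨hq⟩
      rw [Subgroup.index_eq_card] at hd
      obtain ⟨s, hs⟩ := exists_prime_orderOf_dvd_card' (G := (G ⧸ H) ⧸ K') q hd
      have hSn : (Subgroup.zpowers s).Normal := by
        constructor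
        intro n hn g
        rw [hcommQ g n, mul_inv_cancel_right]
        exact hn
      have hSpi : PiNum Aᶜ (Nat.card (Subgroup.zpowers s)) := by
        rw [Nat.card_zpowers, hs]
        intro p hp hpq
        rw [(Nat.prime_dvd_prime_iff_eq hp hq).mp hpq]
        exact hqA
      have hS := quot_no_normal_pi Aᶜ K' hK'A hK'max _ hSn hSpi
      have hs1 : s = 1 := by
        have : s ∈ Subgroup.zpowers s := Subgroup.mem_zpowers s
        rwa [hS, Subgroup.mem_bot] at this
      rw [hs1, orderOf_one] at hs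
      exact hq.one_lt.ne hs
    exact frob_of_pi_quot Aᶜ hQ.compl K' hK'1 hK'top hK'A (by rw [compl_compl]; exact hidxA)

/-- **Gruenberg–Kegel, solvable case.** A finite solvable group with disconnected prime graph is a
Frobenius or a 2-Frobenius group. -/
theorem frob_or_two_frob {G : Type*} [Group G] [Finite G] (hsol : Group.IsSolvable G)
    (hdisc : ∃ A : Set ℕ, (∃ a ∈ A, a.Prime ∧ a ∣ Nat.card G) ∧
      (∃ b ∉ A, b.Prime ∧ b ∣ Nat.card G) ∧
      ∀ a ∈ A, ∀ b ∉ A, a.Prime → b.Prime → a ∣ Nat.card G → b ∣ Nat.card G →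
        ¬ ∃ g : G, orderOf g = a * b) :
    (∃ C : Subgroup G, Cfsg.IsFrobeniusComplement C) ∨
    (∃ (H K : Subgroup G) (_ : H.Normal), K.Normal ∧ H < K ∧
      (∃ C : Subgroup ↥K, Cfsg.IsFrobeniusComplement C ∧
        Cfsg.frobeniusKernel C = (H.subgroupOf K : Set ↥K)) ∧
      (∃ C : Subgroup (G ⧸ H), Cfsg.IsFrobeniusComplement C ∧
        Cfsg.frobeniusKernel C = (K.map (QuotientGroup.mk' H) : Set (G ⧸ H)))) := by
  obtain ⟨A, ⟨a, haA, hap, haG⟩, ⟨b, hbA, hbp, hbG⟩, hno⟩ := hdisc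
  have hA : NoMix G A := by
    intro p q hp hq hpA hqA g hg
    have hd : p * q ∣ Nat.card G := hg ▸ orderOf_dvd_natCard g
    exact hno p hpA q hqA hp hq ((dvd_mul_right p q).trans hd) ((dvd_mul_left q p).trans hd)
      ⟨g, hg⟩
  haveI : Nontrivial G := by
    rw [← Finite.one_lt_card_iff_nontrivial]
    exact lt_of_lt_of_le hap.one_lt (Nat.le_of_dvd Nat.card_pos haG)
  haveI := hsol
  obtain ⟨M, hMn, hM1, hMmin⟩ := Helper11.exists_min_normal G
  haveI := hMn
  have hMc := Helper4.abelian_of_min_normal M hM1 hMmin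
  obtain ⟨p, hp, hMp⟩ := Helper4.exponent_of_min_normal M hM1 hMmin
  have hMpi : ∀ q : ℕ, q.Prime → q ∣ Nat.card M → q = p :=
    fun q hq hd => prime_eq_of_dvd_card_of_exponent M hp hMp hq hd
  by_cases hpA : p ∈ A
  · exact frob_or_two_frob_aux hsol A hA M hM1 hMc (fun q hq hd => (hMpi q hq hd) ▸ hpA)
      ⟨b, hbA, hbp, hbG⟩
  · exact frob_or_two_frob_aux hsol Aᶜ hA.compl M hM1 hMc
      (fun q hq hd => (hMpi q hq hd) ▸ hpA) ⟨a, fun h => h haA, hap, haG⟩

end Cfsg.Agent.Helper21
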