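import Mathlib
import Cfsg.Prelude.Def_Solvable
import Cfsg.Agent.S0035
import Cfsg.Agent.S0038
import Cfsg.Agent.S0039
import Cfsg.Agent.S0041
import Cfsg.Agent.S0042
import Cfsg.Agent.Helper2.FrobGroup2
import Cfsg.Agent.Helper11.CNSolv
import Cfsg.Agent.Helper11.FrobFixed
import Cfsg.Agent.Helper23.Frob
import Cfsg.Agent.Helper21.PrimeGraph

set_option autoImplicit false
set_option linter.style.haveILetI false

/-! Structure of 2-Frobenius groups. -/

namespace Cfsg.Agent.Helper21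

open Cfsg
open scoped Pointwise

/-- basic facts on a Frobenius group whose kernel is the subgroup `N`. -/
theorem frobK_facts {X : Type*} [Group X] [Finite X] (C N : Subgroup X)
    (hC : IsFrobeniusComplement C) (hN : frobeniusKernel C = (N : Set X)) :
    N.Normal ∧ Subgroup.IsComplement' N C ∧ Group.IsNilpotent N ∧
      (Nat.card N).Coprime (Nat.card C) := by
  obtain ⟨N', h1, h2, h3⟩ := Cfsg.Agent.S0035.result C hC
  have e : N' = N := SetLike.coe_injective (h1.trans hN)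
  subst e
  obtain ⟨N'', h4, _, h6⟩ := Cfsg.Agent.S0042.result C hC
  have e' : N'' = N' := SetLike.coe_injective (h4.trans hN)
  subst e'
  exact ⟨h2, h3, h6, Helper2.frob_coprime hC N'' h3⟩

/-- an element outside the kernel commutes with no nontrivial element of the kernel. -/
theorem frobK_commute {X : Type*} [Group X] [Finite X] (C N : Subgroup X)
    (hC : IsFrobeniusComplement C) (hN : frobeniusKernel C = (N : Set X)) {x n : X}
    (hn : n ∈ N) (hx : x ∉ N) (hc : x * n = n * x) : n = 1 := by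
  have hx' : x ∉ frobeniusKernel C := by rw [hN]; exact hx
  obtain ⟨hx1, g, hg⟩ := Helper2.not_mem_frobeniusKernel hx'
  have hCg := Helper2.frobC_conj hC g
  have hn' : n ∈ MulAut.conj g • C := Helper2.frobC_centralizer hCg hg hx1 hc.symm
  have hnk : n ∈ frobeniusKernel C := by rw [hN]; exact hn
  rcases hnk with h | h
  · exact h
  · exact absurd hn' (h g)

/-- a Frobenius complement has at most one involution. -/
theorem frobK_unique_invol {X : Type*} [Group X] [Finite X] (C N : Subgroup X)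
    (hC : IsFrobeniusComplement C) (hN : frobeniusKernel C = (N : Set X)) {s t : X}
    (hs : s ∈ C) (ht : t ∈ C) (hs2 : orderOf s = 2) (ht2 : orderOf t = 2) : s = t := by
  obtain ⟨hNn, hcompl, -, -⟩ := frobK_facts C N hC hN
  have hdisj : N ⊓ C = ⊥ := disjoint_iff.mp hcompl.disjoint
  have hnotN : ∀ u ∈ C, u ≠ 1 → u ∉ N := by
    intro u hu hu1 huN
    have : u ∈ N ⊓ C := ⟨huN, hu⟩
    rw [hdisj, Subgroup.mem_bot] at this
    exact hu1 this
  have hinv : ∀ u ∈ C, orderOf u = 2 → ∀ m ∈ N, u * m * u⁻¹ = m⁻¹ := by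
    intro u hu hu2 m hm
    have hu1 : u ≠ 1 := by
      rintro rfl
      rw [orderOf_one] at hu2
      omega
    have huu : u * u = 1 := by
      have := pow_orderOf_eq_one u
      rwa [hu2, pow_two] at this
    have huinv : u⁻¹ = u := inv_eq_of_mul_eq_one_left huu
    let f : N → N := fun n => ⟨(n : X)⁻¹ * (u * (n : X) * u⁻¹),
      N.mul_mem (N.inv_mem n.2) (hNn.conj_mem _ n.2 u)⟩
    have hinj : Function.Injective f := by
      intro n n' hnn
      have h1 : (n : X)⁻¹ * (u * (n : X) * u⁻¹) = (n' : X)⁻¹ * (u * (n' : X) * u⁻¹) :=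
        congrArg Subtype.val hnn
      have h2 : u * ((n' : X) * (n : X)⁻¹) = ((n' : X) * (n : X)⁻¹) * u := by
        calc u * ((n' : X) * (n : X)⁻¹)
            = (n' : X) * ((n' : X)⁻¹ * (u * (n' : X) * u⁻¹)) * u * (n : X)⁻¹ := by group
          _ = (n' : X) * ((n : X)⁻¹ * (u * (n : X) * u⁻¹)) * u * (n : X)⁻¹ := by rw [h1]
          _ = ((n' : X) * (n : X)⁻¹) * u := by group
      have h3 := frobK_commute C N hC hN (N.mul_mem n'.2 (N.inv_mem n.2)) (hnotN u hu hu1) h2
      apply Subtype.ext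
      have h4 : (n' : X) = (n : X) := by
        calc (n' : X) = ((n' : X) * (n : X)⁻¹) * (n : X) := by group
          _ = (n : X) := by rw [h3, one_mul]
      exact h4.symm
    obtain ⟨n, hn⟩ := (Finite.injective_iff_surjective.mp hinj) ⟨m, hm⟩
    have hn' : (n : X)⁻¹ * (u * (n : X) * u⁻¹) = m := congrArg Subtype.val hn
    rw [← hn', huinv]
    calc u * ((n : X)⁻¹ * (u * (n : X) * u)) * u
        = u * (n : X)⁻¹ * u * (n : X) * (u * u) := by group
      _ = ((n : X)⁻¹ * (u * (n : X) * u))⁻¹ := by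
        rw [huu, mul_one]
        have : ((n : X)⁻¹ * (u * (n : X) * u))⁻¹ = u⁻¹ * (n : X)⁻¹ * u⁻¹ * (n : X) := by group
        rw [this, huinv]
  by_contra hne
  have hst : s * t⁻¹ ≠ 1 := fun h => hne (mul_inv_eq_one.mp h)
  have hstC : s * t⁻¹ ∈ C := C.mul_mem hs (C.inv_mem ht)
  have hNbot : N ≠ ⊥ := by
    intro h
    have h1 := hcompl.sup_eq_top
    rw [h, bot_sup_eq] at h1
    exact hC.2.1 h1
  obtain ⟨⟨n, hnN⟩, hn1'⟩ := Subgroup.ne_bot_iff_exists_ne_one.mp hNbot
  have hn1 : n ≠ 1 := fun h => hn1' (Subtype.ext h)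
  have ht2' : t⁻¹ = t := by
    have := pow_orderOf_eq_one t
    rw [ht2, pow_two] at this
    exact inv_eq_of_mul_eq_one_left this
  have hcomm : (s * t⁻¹) * n = n * (s * t⁻¹) := by
    have h1 := hinv t ht ht2 n hnN
    have h2 := hinv s hs hs2 n⁻¹ (N.inv_mem hnN)
    rw [inv_inv] at h2
    have h3 : t⁻¹ * n * t = n⁻¹ := by
      have : t⁻¹ * n * t = t * n * t⁻¹ := by rw [ht2']
      rw [this, h1]
    calc (s * t⁻¹) * n = s * (t⁻¹ * n * t) * s⁻¹ * (s * t⁻¹) := by group
      _ = n * (s * t⁻¹) := by rw [h3, h2]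
  exact hn1 (frobK_commute C N hC hN hnN (hnotN _ hstC hst) hcomm)

/-- commutators centralize a cyclic normal subgroup. -/
theorem comm_centralizes_cyclic_normal {X : Type*} [Group X] (W : Subgroup X) [hW : W.Normal]
    (w : X) (hw : w ∈ W) (hcyc : ∀ a ∈ W, a ∈ Subgroup.zpowers w) (x y : X) :
    Commute (y * x * y⁻¹ * x⁻¹) w := by
  have hcomm0 : ∀ x y : X, Commute ((x * y)⁻¹ * (y * x)) w := by
    intro x y
    obtain ⟨i, hi⟩ := Subgroup.mem_zpowers_iff.mp (hcyc _ (hW.conj_mem w hw x))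
    obtain ⟨j, hj⟩ := Subgroup.mem_zpowers_iff.mp (hcyc _ (hW.conj_mem w hw y))
    have h1 : (x * y) * w * (x * y)⁻¹ = w ^ (i * j) := by
      calc (x * y) * w * (x * y)⁻¹ = x * (y * w * y⁻¹) * x⁻¹ := by group
        _ = x * w ^ j * x⁻¹ := by rw [hj]
        _ = (x * w * x⁻¹) ^ j := conj_zpow.symm
        _ = w ^ (i * j) := by rw [← hi, ← zpow_mul]
    have h2 : (y * x) * w * (y * x)⁻¹ = w ^ (i * j) := by
      calc (y * x) * w * (y * x)⁻¹ = y * (x * w * x⁻¹) * y⁻¹ := by group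
        _ = y * w ^ i * y⁻¹ := by rw [hi]
        _ = (y * w * y⁻¹) ^ i := conj_zpow.symm
        _ = w ^ (i * j) := by rw [← hj, ← zpow_mul, mul_comm]
    have h3 : ((x * y)⁻¹ * (y * x)) * w = w * ((x * y)⁻¹ * (y * x)) := by
      calc ((x * y)⁻¹ * (y * x)) * w = (x * y)⁻¹ * ((y * x) * w * (y * x)⁻¹) * (y * x) := by
            group
        _ = (x * y)⁻¹ * ((x * y) * w * (x * y)⁻¹) * (y * x) := by rw [h2, h1]
        _ = w * ((x * y)⁻¹ * (y * x)) := by group
    exact h3
  have h := hcomm0 x⁻¹ y⁻¹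
  have e : (x⁻¹ * y⁻¹)⁻¹ * (y⁻¹ * x⁻¹) = y * x * y⁻¹ * x⁻¹ := by group
  rwa [e] at h

theorem cyclic_mul_comm {X : Type*} [Group X] [IsCyclic X] (a b : X) : a * b = b * a := by
  obtain ⟨g, hg⟩ := IsCyclic.exists_generator (α := X)
  obtain ⟨i, rfl⟩ := Subgroup.mem_zpowers_iff.mp (hg a)
  obtain ⟨j, rfl⟩ := Subgroup.mem_zpowers_iff.mp (hg b)
  rw [← zpow_add, ← zpow_add, add_comm]

theorem cyclic_exists_orderOf {X : Type*} [Group X] [Finite X] [IsCyclic X] (n : ℕ)
    (h : n ∣ Nat.card X) : ∃ g : X, orderOf g = n := by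
  obtain ⟨g, hg⟩ := IsCyclic.exists_generator (α := X)
  have h1 : orderOf g = Nat.card X := orderOf_eq_card_of_forall_mem_zpowers hg
  exact ⟨_, exists_pow_orderOf_eq g n (h1 ▸ h)⟩

theorem exists_orderOf_of_surjective {X Y : Type*} [Group X] [Group Y] [Finite X] (f : X →* Y)
    (hf : Function.Surjective f) (y : Y) : ∃ x : X, orderOf x = orderOf y := by
  obtain ⟨g, rfl⟩ := hf y
  exact ⟨_, exists_pow_orderOf_eq g _ (orderOf_map_dvd f g)⟩

theorem orderOf_mul_of_commute_primes {X : Type*} [Group X] {x y : X} (hc : Commute x y)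
    {p q : ℕ} (hp : p.Prime) (hq : q.Prime) (hpq : p ≠ q) (hx : orderOf x = p)
    (hy : orderOf y = q) : orderOf (x * y) = p * q := by
  have hcop : Nat.Coprime p q := (Nat.coprime_primes hp hq).mpr hpq
  have := hc.orderOf_mul_eq_mul_orderOf_of_coprime (by rw [hx, hy]; exact hcop)
  rw [hx, hy] at this
  exact this

/-- in a finite nilpotent group two distinct primes dividing the order are adjacent. -/
theorem nilpotent_exists_order_pq {X : Type*} [Group X] [Finite X] [hnil : Group.IsNilpotent X]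
    {p q : ℕ} (hp : p.Prime) (hq : q.Prime) (hpq : p ≠ q) (hpX : p ∣ Nat.card X)
    (hqX : q ∣ Nat.card X) : ∃ g : X, orderOf g = p * q := by
  haveI : Fact p.Prime := ⟨hp⟩
  haveI : Fact q.Prime := ⟨hq⟩
  have hall := (Group.isNilpotent_of_finite_tfae (G := X)).out 0 3 |>.mp hnil
  let P : Sylow p X := default
  let Q : Sylow q X := default
  have hPn : (P : Subgroup X).Normal := hall p inferInstance P
  have hQn : (Q : Subgroup X).Normal := hall q inferInstance Q
  obtain ⟨x, hx⟩ := exists_prime_orderOf_dvd_card' (G := X) p hpX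
  obtain ⟨y, hy⟩ := exists_prime_orderOf_dvd_card' (G := X) q hqX
  have hmemP : x ∈ (P : Subgroup X) := by
    have h1 : IsPGroup p (Subgroup.zpowers x) :=
      IsPGroup.of_card (n := 1) (by rw [Nat.card_zpowers, hx, pow_one])
    obtain ⟨P', hP'⟩ := h1.exists_le_sylow
    haveI := Sylow.unique_of_normal P hPn
    have : P' = P := Subsingleton.elim _ _
    rw [← this]
    exact hP' (Subgroup.mem_zpowers x)
  have hmemQ : y ∈ (Q : Subgroup X) := by
    have h1 : IsPGroup q (Subgroup.zpowers y) :=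
      IsPGroup.of_card (n := 1) (by rw [Nat.card_zpowers, hy, pow_one])
    obtain ⟨Q', hQ'⟩ := h1.exists_le_sylow
    haveI := Sylow.unique_of_normal Q hQn
    have : Q' = Q := Subsingleton.elim _ _
    rw [← this]
    exact hQ' (Subgroup.mem_zpowers y)
  have hdis : Disjoint (P : Subgroup X) (Q : Subgroup X) :=
    IsPGroup.disjoint_of_ne p q hpq _ _ P.isPGroup' Q.isPGroup'
  have hc : Commute x y :=
    Subgroup.commute_of_normal_of_disjoint _ _ hPn hQn hdis x y hmemP hmemQ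
  exact ⟨x * y, orderOf_mul_of_commute_primes hc hp hq hpq hx hy⟩

/-- the data of a 2-Frobenius group, unpacked. -/
theorem two_frob_structure {G : Type*} [Group G] [Finite G] (H K : Subgroup G) [hHn : H.Normal]
    [hKn : K.Normal] (hlt : H < K)
    (hK : ∃ C : Subgroup ↥K, Cfsg.IsFrobeniusComplement C ∧
      Cfsg.frobeniusKernel C = (H.subgroupOf K : Set ↥K))
    (hGH : ∃ C : Subgroup (G ⧸ H), Cfsg.IsFrobeniusComplement C ∧
      Cfsg.frobeniusKernel C = (K.map (QuotientGroup.mk' H) : Set (G ⧸ H))) :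
    Group.IsSolvable G ∧ Odd (Nat.card (↥K ⧸ H.subgroupOf K)) ∧
      Nat.Coprime (Nat.card (↥K ⧸ H.subgroupOf K)) (Nat.card ↥H * Nat.card (G ⧸ K)) ∧
      IsCyclic (G ⧸ K) ∧
      ∀ p q : ℕ, p.Prime → q.Prime → p ≠ q → p ∣ Nat.card G → q ∣ Nat.card G →
        ((∃ g : G, orderOf g = p * q) ↔
          (p ∣ Nat.card (↥K ⧸ H.subgroupOf K) ↔ q ∣ Nat.card (↥K ⧸ H.subgroupOf K))) := by
  classical
  obtain ⟨C₁, hC₁, hker₁⟩ := hK
  obtain ⟨C₂, hC₂, hker₂⟩ := hGH
  have hHK : H ≤ K := hlt.le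
  obtain ⟨hN₁n, hcompl₁, hnil₁, hcop₁⟩ := frobK_facts C₁ (H.subgroupOf K) hC₁ hker₁
  obtain ⟨Kb, hKbdef⟩ : ∃ Kb : Subgroup (G ⧸ H), Kb = K.map (QuotientGroup.mk' H) := ⟨_, rfl⟩
  rw [← hKbdef] at hker₂
  obtain ⟨hKbn, hcompl₂, hnil₂, hcop₂⟩ := frobK_facts C₂ Kb hC₂ hker₂
  obtain ⟨m, hmdef⟩ : ∃ m : ℕ, m = Nat.card (↥K ⧸ H.subgroupOf K) := ⟨_, rfl⟩
  rw [← hmdef]
  have hdisj₁ : ∀ x : ↥K, x ∈ H.subgroupOf K → x ∈ C₁ → x = 1 := by
    intro x h1 h2
    have : x ∈ H.subgroupOf K ⊓ C₁ := ⟨h1, h2⟩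
    rwa [disjoint_iff.mp hcompl₁.disjoint, Subgroup.mem_bot] at this
  have hdisj₂ : ∀ x : G ⧸ H, x ∈ Kb → x ∈ C₂ → x = 1 := by
    intro x h1 h2
    have : x ∈ Kb ⊓ C₂ := ⟨h1, h2⟩
    rwa [disjoint_iff.mp hcompl₂.disjoint, Subgroup.mem_bot] at this
  have hdec₁ : ∀ x : ↥K, ∃ n ∈ H.subgroupOf K, ∃ c ∈ C₁, x = n * c := by
    intro g
    have h1 : g ∈ ((H.subgroupOf K ⊔ C₁ : Subgroup ↥K) : Set ↥K) := by
      rw [hcompl₁.sup_eq_top]; trivial
    rw [Subgroup.normal_mul, Set.mem_mul] at h1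
    obtain ⟨n, hn, c, hc, rfl⟩ := h1
    exact ⟨n, hn, c, hc, rfl⟩
  have hdec₂ : ∀ x : G ⧸ H, ∃ n ∈ Kb, ∃ c ∈ C₂, x = n * c := by
    intro g
    have h1 : g ∈ ((Kb ⊔ C₂ : Subgroup (G ⧸ H)) : Set (G ⧸ H)) := by
      rw [hcompl₂.sup_eq_top]; trivial
    rw [Subgroup.normal_mul, Set.mem_mul] at h1
    obtain ⟨n, hn, c, hc, rfl⟩ := h1
    exact ⟨n, hn, c, hc, rfl⟩
  -- the map `K → G/H`
  obtain ⟨φ, hφdef⟩ : ∃ φ : ↥K →* G ⧸ H, ∀ x : ↥K, φ x = QuotientGroup.mk' H (x : G) :=
    ⟨(QuotientGroup.mk' H).comp K.subtype, fun _ => rfl⟩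
  have hφker : ∀ x : ↥K, φ x = 1 ↔ x ∈ H.subgroupOf K := by
    intro x
    rw [hφdef, Subgroup.mem_subgroupOf]
    exact QuotientGroup.eq_one_iff (x : G)
  have hφmem : ∀ x : ↥K, φ x ∈ Kb := by
    intro x
    rw [hφdef, hKbdef]
    exact Subgroup.mem_map_of_mem _ x.2
  have hφsurj : ∀ y ∈ Kb, ∃ c ∈ C₁, φ c = y := by
    intro y hy
    rw [hKbdef] at hy
    obtain ⟨k, hk, rfl⟩ := hy
    obtain ⟨n, hn, c, hc, hx⟩ := hdec₁ ⟨k, hk⟩
    refine ⟨c, hc, ?_⟩
    have h1 : φ ⟨k, hk⟩ = φ n * φ c := by rw [hx, map_mul]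
    rw [(hφker n).mpr hn, one_mul] at h1
    rw [← h1, hφdef]
  have hφinj : ∀ c ∈ C₁, φ c = 1 → c = 1 := fun c hc h => hdisj₁ c ((hφker c).mp h) hc
  have hmemKb : ∀ g : G, QuotientGroup.mk' H g ∈ Kb ↔ g ∈ K := by
    intro g
    rw [hKbdef]
    constructor
    · rintro ⟨k, hk, hkg⟩
      have h1 : k⁻¹ * g ∈ H := QuotientGroup.eq.mp hkg
      have h2 := K.mul_mem hk (hHK h1)
      simpa using h2
    · intro hg
      exact Subgroup.mem_map_of_mem _ hg
  -- cardinalities
  have hcN₁ : Nat.card (H.subgroupOf K) = Nat.card H :=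
    Nat.card_congr (Subgroup.subgroupOfEquivOfLe hHK).toEquiv
  have hcK : Nat.card (H.subgroupOf K) * Nat.card C₁ = Nat.card K := hcompl₁.card_mul_card
  have hm : m = Nat.card C₁ := by
    have h1 := Subgroup.card_mul_index (H.subgroupOf K)
    rw [Subgroup.index_eq_card, ← hcK, ← hmdef] at h1
    exact Nat.eq_of_mul_eq_mul_left Nat.card_pos h1
  have hcKb : Nat.card Kb = Nat.card C₁ := by
    have h1 := card_eq_card_inf_mul_card_map H K
    rw [inf_eq_left.mpr hHK, ← hcK, hcN₁, ← hKbdef] at h1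
    exact (Nat.eq_of_mul_eq_mul_left Nat.card_pos h1).symm
  have hcC₂ : Nat.card C₂ = Nat.card (G ⧸ K) := by
    have h1 : Nat.card Kb * Nat.card C₂ = Nat.card (G ⧸ H) := hcompl₂.card_mul_card
    have h2 : Nat.card H * Nat.card (G ⧸ H) = Nat.card G := by
      rw [← Subgroup.index_eq_card]; exact Subgroup.card_mul_index H
    have h3 : Nat.card K * Nat.card (G ⧸ K) = Nat.card G := by
      rw [← Subgroup.index_eq_card]; exact Subgroup.card_mul_index K
    have h4 : Nat.card K = Nat.card H * Nat.card Kb := by rw [hcKb, ← hcK, hcN₁]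
    have h5 : Nat.card K * Nat.card C₂ = Nat.card K * Nat.card (G ⧸ K) := by
      rw [h3, ← h2, ← h1, h4, mul_assoc]
    exact Nat.eq_of_mul_eq_mul_left Nat.card_pos h5
  have hcG : Nat.card G = Nat.card H * m * Nat.card (G ⧸ K) := by
    rw [hm, ← hcN₁, hcK, ← Subgroup.index_eq_card]
    exact (Subgroup.card_mul_index K).symm
  have hcopH : Nat.Coprime m (Nat.card H) := by
    rw [hm, ← hcN₁]; exact hcop₁.symm
  have hcopGK : Nat.Coprime m (Nat.card (G ⧸ K)) := by
    rw [hm, ← hcKb, ← hcC₂]; exact hcop₂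
  -- orders under `φ` on `C₁`
  have hφC_ord : ∀ c ∈ C₁, orderOf (φ c) = orderOf c := by
    intro c hc
    have hinj : Function.Injective (φ.comp C₁.subtype) := by
      rw [injective_iff_map_eq_one]
      intro a ha
      exact Subtype.ext (hφinj a a.2 ha)
    have h1 := orderOf_injective (φ.comp C₁.subtype) hinj ⟨c, hc⟩
    rw [Subgroup.orderOf_mk] at h1
    exact h1
  -- oddness
  have hodd : Odd m := by
    by_contra hnodd
    rw [Nat.not_odd_iff_even, even_iff_two_dvd, hm] at hnodd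
    haveI : Fact (Nat.Prime 2) := ⟨Nat.prime_two⟩
    obtain ⟨t, ht⟩ := exists_prime_orderOf_dvd_card' (G := C₁) 2 hnodd
    have ht2 : orderOf (t : ↥K) = 2 := by rw [Subgroup.orderOf_coe, ht]
    have htb2 : orderOf (φ t) = 2 := by rw [hφC_ord _ t.2, ht2]
    have hcentral : ∀ g : G ⧸ H, g * φ t * g⁻¹ = φ t := by
      intro g
      have h1 : g * φ t * g⁻¹ ∈ Kb := hKbn.conj_mem _ (hφmem _) g
      obtain ⟨c, hc, hcφ⟩ := hφsurj _ h1
      have h2 : orderOf c = 2 := by
        rw [← hφC_ord c hc, hcφ]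
        have h3 := MulEquiv.orderOf_eq (MulAut.conj g) (φ t)
        rw [MulAut.conj_apply] at h3
        rw [h3, htb2]
      have h4 := frobK_unique_invol C₁ (H.subgroupOf K) hC₁ hker₁ hc t.2 h2 ht2
      rw [← hcφ, h4]
    obtain ⟨⟨c, hcC⟩, hc1'⟩ := Subgroup.ne_bot_iff_exists_ne_one.mp hC₂.1
    have hc1 : c ≠ 1 := fun h => hc1' (Subtype.ext h)
    have hcKb' : c ∉ Kb := fun h => hc1 (hdisj₂ c h hcC)
    have hcomm : c * φ t = φ t * c := by
      have h5 := hcentral c
      calc c * φ t = (c * φ t * c⁻¹) * c := by group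
        _ = φ t * c := by rw [h5]
    have h6 := frobK_commute C₂ Kb hC₂ hker₂ (hφmem _) hcKb' hcomm
    rw [h6, orderOf_one] at htb2
    omega
  have hcop : Nat.Coprime m (Nat.card ↥H * Nat.card (G ⧸ K)) := Nat.Coprime.mul_right hcopH hcopGK
  -- `C₁` is cyclic
  have hN₁bot : H.subgroupOf K ≠ ⊥ := by
    intro h
    have h1 := hcompl₁.sup_eq_top
    rw [h, bot_sup_eq] at h1
    exact hC₁.2.1 h1
  have hKbbot : Kb ≠ ⊥ := by
    intro h
    have h1 := hcompl₂.sup_eq_top
    rw [h, bot_sup_eq] at h1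
    exact hC₂.2.1 h1
  have hfpf₁ : ∀ h ∈ C₁, h ≠ 1 → H.subgroupOf K ⊓ Subgroup.centralizer {h} = ⊥ :=
    (Cfsg.Agent.S0039.result (H.subgroupOf K) C₁ hcompl₁ hN₁bot hC₁.1).mp hC₁
  have hfpf₂ : ∀ h ∈ C₂, h ≠ 1 → Kb ⊓ Subgroup.centralizer {h} = ⊥ :=
    (Cfsg.Agent.S0039.result Kb C₂ hcompl₂ hKbbot hC₂.1).mp hC₂
  obtain ⟨ψ, hψdef⟩ : ∃ ψ : C₁ →* Kb, ∀ c : C₁, ((ψ c : Kb) : G ⧸ H) = φ c :=
    ⟨(φ.comp C₁.subtype).codRestrict Kb (fun c => hφmem _), fun _ => rfl⟩
  have hψinj : Function.Injective ψ := by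
    rw [injective_iff_map_eq_one]
    intro a ha
    have h1 : φ a = 1 := by rw [← hψdef, ha]; rfl
    exact Subtype.ext (hφinj a a.2 h1)
  have hψsurj : Function.Surjective ψ := by
    intro y
    obtain ⟨c, hc, hcy⟩ := hφsurj y y.2
    exact ⟨⟨c, hc⟩, Subtype.ext (by rw [hψdef]; exact hcy)⟩
  have hC₁cyc : IsCyclic C₁ := by
    haveI : Group.IsNilpotent C₁ := by
      haveI := hnil₂
      exact Group.nilpotent_of_mulEquiv (MulEquiv.ofBijective ψ ⟨hψinj, hψsurj⟩).symm
    have hSyl : ∀ (r : ℕ) [Fact r.Prime] (P : Sylow r C₁),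
        IsCyclic P ∨ ∃ n : ℕ, Nonempty (P ≃* QuaternionGroup (2 ^ n)) := by
      intro r hr P
      left
      have hS : IsPGroup r ((P : Subgroup C₁).map C₁.subtype) := P.isPGroup'.map _
      have hodd' : Odd (Nat.card ((P : Subgroup C₁).map C₁.subtype)) := by
        rw [Subgroup.card_map_of_injective C₁.subtype_injective]
        exact Odd.of_dvd_nat (hm ▸ hodd) (Subgroup.card_subgroup_dvd_card _)
      have hcyc := Helper11.fpf_isCyclic_of_odd (H.subgroupOf K) hN₁bot r _ hS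
        (fun s hs hs1 => hfpf₁ s (by obtain ⟨a, _, rfl⟩ := hs; exact a.2) hs1) hodd'
      exact isCyclic_of_surjective
        ((P : Subgroup C₁).equivMapOfInjective C₁.subtype C₁.subtype_injective).symm
        (MulEquiv.surjective _)
    rcases Helper11.nilpotent_cyc_or_quat C₁ hSyl with h | ⟨C, Q, -, -, -, -, n, ⟨e⟩⟩
    · exact h
    · exfalso
      have hc : Nat.card Q = 4 * 2 ^ n := by
        rw [Nat.card_congr e.toEquiv, Nat.card_eq_fintype_card, QuaternionGroup.card]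
      have hd : Nat.card Q ∣ Nat.card C₁ := Subgroup.card_subgroup_dvd_card Q
      rw [hc, ← hm] at hd
      have h2 : 2 ∣ m := Dvd.dvd.trans ⟨2 * 2 ^ n, by ring⟩ hd
      exact (Nat.not_even_iff_odd.mpr hodd) (even_iff_two_dvd.mpr h2)
  have hKbcyc : IsCyclic Kb := by
    haveI := hC₁cyc
    exact isCyclic_of_surjective ψ hψsurj
  -- `C₂` is abelian, hence cyclic
  obtain ⟨k₀', hk₀'⟩ := IsCyclic.exists_generator (α := Kb)
  have hk₀gen : ∀ a ∈ Kb, a ∈ Subgroup.zpowers (k₀' : G ⧸ H) := by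
    intro a ha
    obtain ⟨i, hi⟩ := Subgroup.mem_zpowers_iff.mp (hk₀' ⟨a, ha⟩)
    refine Subgroup.mem_zpowers_iff.mpr ⟨i, ?_⟩
    have := congrArg Subtype.val hi
    simpa using this
  have hk₀1 : (k₀' : G ⧸ H) ≠ 1 := by
    intro h
    apply hKbbot
    rw [eq_bot_iff]
    intro a ha
    have h1 := hk₀gen a ha
    rw [h, Subgroup.zpowers_one_eq_bot] at h1
    exact h1
  have hC₂comm : ∀ c ∈ C₂, ∀ d ∈ C₂, c * d = d * c := by
    intro c hc d hd
    haveI := hKbn
    have h1 := comm_centralizes_cyclic_normal Kb (k₀' : G ⧸ H) k₀'.2 hk₀gen c d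
    have h2 : d * c * d⁻¹ * c⁻¹ ∈ C₂ :=
      C₂.mul_mem (C₂.mul_mem (C₂.mul_mem hd hc) (C₂.inv_mem hd)) (C₂.inv_mem hc)
    by_contra hne
    have h3 : d * c * d⁻¹ * c⁻¹ ≠ 1 := by
      intro h
      apply hne
      calc c * d = (d * c * d⁻¹ * c⁻¹)⁻¹ * (d * c) := by group
        _ = d * c := by rw [h, inv_one, one_mul]
    have h4 : d * c * d⁻¹ * c⁻¹ ∉ Kb := fun h => h3 (hdisj₂ _ h h2)
    exact hk₀1 (frobK_commute C₂ Kb hC₂ hker₂ k₀'.2 h4 h1.eq)
  have hC₂cyc : IsCyclic C₂ := by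
    haveI : IsMulCommutative Kb := .of_setLike_mul_comm (fun a ha b hb => by
      have := cyclic_mul_comm (⟨a, ha⟩ : Kb) ⟨b, hb⟩
      exact congrArg Subtype.val this)
    haveI : IsMulCommutative C₂ := .of_setLike_mul_comm hC₂comm
    refine Cfsg.Agent.S0041.result C₂ Kb hKbbot ?_ hfpf₂ (Or.inl inferInstance)
    intro c _
    rw [Subgroup.normalizer_eq_top_iff.mpr hKbn]
    trivial
  -- `G/K` is cyclic
  obtain ⟨π, hπmk⟩ : ∃ π : G ⧸ H →* G ⧸ K, ∀ g : G, π (QuotientGroup.mk' H g) =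
      QuotientGroup.mk' K g :=
    ⟨QuotientGroup.map H K (MonoidHom.id G) (fun x hx => hHK hx), fun _ => rfl⟩
  have hπKb : ∀ a ∈ Kb, π a = 1 := by
    intro a ha
    rw [hKbdef] at ha
    obtain ⟨k, hk, rfl⟩ := ha
    rw [hπmk]
    exact (QuotientGroup.eq_one_iff k).mpr hk
  have hGKcyc : IsCyclic (G ⧸ K) := by
    haveI := hC₂cyc
    refine isCyclic_of_surjective (π.comp C₂.subtype) ?_
    intro y
    obtain ⟨g, rfl⟩ := QuotientGroup.mk'_surjective K y
    obtain ⟨n, hn, c, hc, hx⟩ := hdec₂ (QuotientGroup.mk' H g)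
    refine ⟨⟨c, hc⟩, ?_⟩
    show π c = _
    rw [← hπmk, hx, map_mul, hπKb n hn, one_mul]
  -- solvability
  have hsolK : Group.IsSolvable ↥K := by
    haveI := hnil₁
    haveI : Group.IsSolvable ↥(H.subgroupOf K) := inferInstance
    haveI : Group.IsSolvable (↥K ⧸ H.subgroupOf K) := by
      haveI := hC₁cyc
      haveI : IsCyclic (↥K ⧸ H.subgroupOf K) :=
        isCyclic_of_surjective ((QuotientGroup.mk' (H.subgroupOf K)).comp C₁.subtype) (by
          intro y
          obtain ⟨x, rfl⟩ := QuotientGroup.mk'_surjective (H.subgroupOf K) y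
          obtain ⟨n, hn, c, hc, hx⟩ := hdec₁ x
          refine ⟨⟨c, hc⟩, ?_⟩
          show QuotientGroup.mk' (H.subgroupOf K) c = QuotientGroup.mk' (H.subgroupOf K) x
          rw [hx, map_mul]
          have : QuotientGroup.mk' (H.subgroupOf K) n = 1 := (QuotientGroup.eq_one_iff n).mpr hn
          rw [this, one_mul])
      exact Group.isSolvable_of_comm cyclic_mul_comm
    exact Group.isSolvable_of_ker_le_range (H.subgroupOf K).subtype
      (QuotientGroup.mk' (H.subgroupOf K)) (by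
        rw [QuotientGroup.ker_mk', Subgroup.range_subtype])
  have hsolG : Group.IsSolvable G := by
    haveI := hsolK
    haveI : Group.IsSolvable (G ⧸ K) := by
      haveI := hGKcyc
      exact Group.isSolvable_of_comm cyclic_mul_comm
    exact Group.isSolvable_of_ker_le_range K.subtype (QuotientGroup.mk' K) (by
      rw [QuotientGroup.ker_mk', Subgroup.range_subtype])
  refine ⟨hsolG, hodd, hcop, hGKcyc, ?_⟩
  -- Frobenius action facts, in `G`
  have hKfrob : ∀ (x y : G), x ∈ K → x ∉ H → y ∈ H → x * y = y * x → y = 1 := by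
    intro x y hxK hxH hyH hc
    have h1 := frobK_commute C₁ (H.subgroupOf K) hC₁ hker₁ (x := ⟨x, hxK⟩) (n := ⟨y, hHK hyH⟩)
      (by rw [Subgroup.mem_subgroupOf]; exact hyH) (by rw [Subgroup.mem_subgroupOf]; exact hxH)
      (Subtype.ext hc)
    exact congrArg Subtype.val h1
  have hGfrob : ∀ (x y : G), x ∉ K → y ∈ K → x * y = y * x → y ∈ H := by
    intro x y hxK hyK hc
    have h1 := frobK_commute C₂ Kb hC₂ hker₂ (x := QuotientGroup.mk' H x)
      (n := QuotientGroup.mk' H y) ((hmemKb y).mpr hyK) (fun h => hxK ((hmemKb x).mp h))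
      (by rw [← map_mul, ← map_mul, hc])
    exact (QuotientGroup.eq_one_iff y).mp h1
  have hnomix : ∀ p q : ℕ, p.Prime → q.Prime → p ∣ m → ¬ q ∣ m → ∀ x y : G, orderOf x = p →
      orderOf y = q → Commute x y → False := by
    intro p q hp hq hpm hqm x y hx hy hc
    have hpH : ¬ p ∣ Nat.card H := fun h => hp.one_lt.ne' (Nat.eq_one_of_dvd_coprimes hcopH hpm h)
    have hpGK : ¬ p ∣ Nat.card (G ⧸ K) :=
      fun h => hp.one_lt.ne' (Nat.eq_one_of_dvd_coprimes hcopGK hpm h)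
    have hxK : x ∈ K := by
      rw [← QuotientGroup.eq_one_iff (N := K) x]
      have h1 : orderOf (QuotientGroup.mk' K x) ∣ p := hx ▸ orderOf_map_dvd _ x
      rcases (Nat.dvd_prime hp).mp h1 with h | h
      · exact orderOf_eq_one_iff.mp h
      · exact absurd (h ▸ orderOf_dvd_natCard _) hpGK
    have hxH : x ∉ H := fun h => hpH (hx ▸ H.orderOf_dvd_natCard h)
    have hyK : y ∈ K := by
      by_contra hyK
      exact hxH (hGfrob y x hyK hxK hc.symm.eq)
    have hyH : y ∈ H := by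
      rw [← QuotientGroup.eq_one_iff (N := H) y]
      have h1 : orderOf (QuotientGroup.mk' H y) ∣ q := hy ▸ orderOf_map_dvd _ y
      rcases (Nat.dvd_prime hq).mp h1 with h | h
      · exact orderOf_eq_one_iff.mp h
      · exfalso
        apply hqm
        have h2 := Kb.orderOf_dvd_natCard ((hmemKb y).mpr hyK)
        rw [h, hcKb, ← hm] at h2
        exact h2
    have hy1 := hKfrob x y hxK hxH hyH hc.eq
    rw [hy1, orderOf_one] at hy
    exact hq.one_lt.ne hy
  have hmixed : ∀ p q : ℕ, p.Prime → q.Prime → p ≠ q → p ∣ Nat.card H →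
      q ∣ Nat.card (G ⧸ K) → ¬ q ∣ m → ∃ g : G, orderOf g = p * q := by
    intro p q hp hq hpq hpH hqGK hqm
    haveI : Fact p.Prime := ⟨hp⟩
    haveI : Fact q.Prime := ⟨hq⟩
    obtain ⟨M, hMdef⟩ : ∃ M : Subgroup G, M = C₁.map K.subtype := ⟨_, rfl⟩
    have hMmem : ∀ x : G, x ∈ M ↔ ∃ h : x ∈ K, (⟨x, h⟩ : ↥K) ∈ C₁ := by
      intro x
      rw [hMdef]
      constructor
      · rintro ⟨c, hc, rfl⟩
        exact ⟨c.2, hc⟩
      · rintro ⟨h, hc⟩
        exact ⟨⟨x, h⟩, hc, rfl⟩
    have hMK : M ≤ K := fun x hx => ((hMmem x).mp hx).1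
    -- Frattini
    have hfrat : ∀ g : G, ∃ k ∈ K, k * g ∈ Subgroup.normalizer (M : Set G) := by
      intro g
      have hC' : IsFrobeniusComplement (C₁.map (MulAut.conjNormal g : ↥K ≃* ↥K).toMonoidHom) :=
        Helper23.isFrobeniusComplement_map (MulAut.conjNormal g : ↥K ≃* ↥K) hC₁
      obtain ⟨k, hk⟩ := Cfsg.Agent.S0038.result C₁
        (C₁.map (MulAut.conjNormal g : ↥K ≃* ↥K).toMonoidHom) hC₁ hC'
      refine ⟨k, k.2, ?_⟩
      have hkey : ∀ x : G, x ∈ M ↔ ((k : G) * g)⁻¹ * x * ((k : G) * g) ∈ M := by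
        intro x
        constructor
        · intro hx
          obtain ⟨hxK, hxC⟩ := (hMmem x).mp hx
          rw [← hk, Helper2.frobC_mem_conj_smul] at hxC
          obtain ⟨c, hc, hcx⟩ := hxC
          have h1 : g * (c : G) * g⁻¹ = (k : G)⁻¹ * x * (k : G) := congrArg Subtype.val hcx
          have h2 : ((k : G) * g)⁻¹ * x * ((k : G) * g) = (c : G) := by
            calc ((k : G) * g)⁻¹ * x * ((k : G) * g)
                = g⁻¹ * ((k : G)⁻¹ * x * (k : G)) * g := by group
              _ = (c : G) := by rw [← h1]; group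
          rw [h2]
          exact (hMmem _).mpr ⟨c.2, hc⟩
        · intro hx
          obtain ⟨hcK, hcC⟩ := (hMmem _).mp hx
          have hxK : x ∈ K := by
            have h1 := hKn.conj_mem _ hcK ((k : G) * g)
            have h2 : ((k : G) * g) * (((k : G) * g)⁻¹ * x * ((k : G) * g)) * ((k : G) * g)⁻¹ = x := by
              group
            rwa [h2] at h1
          refine (hMmem x).mpr ⟨hxK, ?_⟩
          rw [← hk, Helper2.frobC_mem_conj_smul]
          refine ⟨⟨_, hcK⟩, hcC, ?_⟩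
          apply Subtype.ext
          show g * (((k : G) * g)⁻¹ * x * ((k : G) * g)) * g⁻¹ = (k : G)⁻¹ * x * (k : G)
          group
      have hinv : ((k : G) * g)⁻¹ ∈ Subgroup.normalizer (M : Set G) := by
        rw [Subgroup.mem_normalizer_iff]
        intro n
        rw [inv_inv]
        exact hkey n
      have := Subgroup.inv_mem _ hinv
      rwa [inv_inv] at this
    have hqN : q ∣ Nat.card (Subgroup.normalizer (M : Set G)) := by
      refine hqGK.trans (Subgroup.card_dvd_of_surjective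
        ((QuotientGroup.mk' K).comp (Subgroup.normalizer (M : Set G)).subtype) ?_)
      intro y
      obtain ⟨g, rfl⟩ := QuotientGroup.mk'_surjective K y
      obtain ⟨k, hk, hkg⟩ := hfrat g
      refine ⟨⟨k * g, hkg⟩, ?_⟩
      show QuotientGroup.mk' K (k * g) = QuotientGroup.mk' K g
      rw [map_mul]
      have : QuotientGroup.mk' K k = 1 := (QuotientGroup.eq_one_iff k).mpr hk
      rw [this, one_mul]
    obtain ⟨y', hy'⟩ := exists_prime_orderOf_dvd_card'
      (G := Subgroup.normalizer (M : Set G)) q hqN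
    obtain ⟨y, hyN, hyq⟩ : ∃ y : G, y ∈ Subgroup.normalizer (M : Set G) ∧ orderOf y = q :=
      ⟨y', y'.2, by rw [Subgroup.orderOf_coe, hy']⟩
    obtain ⟨⟨c₀, hc₀C⟩, hc₀1'⟩ := Subgroup.ne_bot_iff_exists_ne_one.mp hC₁.1
    have hc₀1 : c₀ ≠ 1 := fun h => hc₀1' (Subtype.ext h)
    have hyK : y ∉ K := by
      intro hyK
      have h1 : (⟨y, hyK⟩ : ↥K) ∈ C₁ := by
        refine Helper2.frobC_mem hC₁ hc₀C hc₀1 ?_
        have h2 : y⁻¹ ∈ Subgroup.normalizer (M : Set G) := Subgroup.inv_mem _ hyN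
        rw [Subgroup.mem_normalizer_iff] at h2
        have h3 := (h2 (c₀ : G)).mp ((hMmem _).mpr ⟨c₀.2, hc₀C⟩)
        rw [inv_inv] at h3
        obtain ⟨_, h4⟩ := (hMmem _).mp h3
        exact h4
      have h5 : orderOf (⟨y, hyK⟩ : ↥K) ∣ Nat.card C₁ := C₁.orderOf_dvd_natCard h1
      rw [Subgroup.orderOf_mk, hyq, ← hm] at h5
      exact hqm h5
    have hypow : ∀ i : ℕ, 0 < i → i < q → y ^ i ∉ K := by
      intro i hi0 hiq hyi
      have h1 : orderOf (QuotientGroup.mk' K y) ∣ q := hyq ▸ orderOf_map_dvd _ y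
      rcases (Nat.dvd_prime hq).mp h1 with h | h
      · exact hyK ((QuotientGroup.eq_one_iff y).mp (orderOf_eq_one_iff.mp h))
      · have h2 : (QuotientGroup.mk' K y) ^ i = 1 := by
          rw [← map_pow]
          exact (QuotientGroup.eq_one_iff _).mpr hyi
        have h3 := orderOf_dvd_of_pow_eq_one h2
        rw [h] at h3
        exact absurd (Nat.le_of_dvd hi0 h3) (not_le_of_gt hiq)
    -- the normal Sylow `p`-subgroup of `H`
    haveI : Group.IsNilpotent ↥H := by
      haveI := hnil₁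
      exact Group.nilpotent_of_mulEquiv (Subgroup.subgroupOfEquivOfLe hHK)
    obtain ⟨P₀⟩ : Nonempty (Sylow p ↥H) := inferInstance
    have hall := (Group.isNilpotent_of_finite_tfae (G := ↥H)).out 0 3 |>.mp
      (inferInstance : Group.IsNilpotent ↥H)
    have hP₀n : (P₀ : Subgroup ↥H).Normal := hall p ⟨hp⟩ P₀
    haveI : (P₀ : Subgroup ↥H).Characteristic := Sylow.characteristic_of_normal P₀ hP₀n
    obtain ⟨P, hPdef⟩ : ∃ P : Subgroup G, P = (P₀ : Subgroup ↥H).map H.subtype := ⟨_, rfl⟩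
    have hPn : P.Normal := by
      rw [hPdef]
      exact ConjAct.normal_of_characteristic_of_normal
    have hPp : IsPGroup p P := by
      rw [hPdef]
      exact P₀.isPGroup'.map _
    have hPH : P ≤ H := by
      rw [hPdef]
      rintro x ⟨a, _, rfl⟩
      exact a.2
    have hP1 : P ≠ ⊥ := by
      have h1 := P₀.ne_bot_of_dvd_card hpH
      intro h
      apply h1
      rw [hPdef] at h
      exact (Subgroup.map_eq_bot_iff_of_injective _ H.subtype_injective).mp h
    haveI := hPn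
    obtain ⟨V, hVdef⟩ : ∃ V : Subgroup G, V = P ⊓ Subgroup.centralizer (P : Set G) := ⟨_, rfl⟩
    have hVn : V.Normal := by
      rw [hVdef]
      haveI : (Subgroup.centralizer (P : Set G)).Normal := Subgroup.normal_centralizer
      infer_instance
    have hVP : V ≤ P := by
      rw [hVdef]
      exact inf_le_left
    have hVc : ∀ a ∈ V, ∀ b ∈ V, a * b = b * a := by
      intro a ha b hb
      rw [hVdef] at ha hb
      exact Subgroup.mem_centralizer_iff.mp hb.2 a ha.1
    have hV1 : V ≠ ⊥ := by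
      haveI : Nontrivial ↥P := (Subgroup.nontrivial_iff_ne_bot P).mpr hP1
      haveI := hPp.center_nontrivial
      obtain ⟨⟨z, hz⟩, hz1⟩ := exists_ne (1 : Subgroup.center ↥P)
      intro h
      have hzV : (z : G) ∈ V := by
        rw [hVdef]
        refine Subgroup.mem_inf.mpr ⟨z.2, ?_⟩
        rw [Subgroup.mem_centralizer_iff]
        intro x hx
        have h1 := Subgroup.mem_center_iff.mp hz ⟨x, hx⟩
        exact congrArg Subtype.val h1
      rw [h, Subgroup.mem_bot] at hzV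
      apply hz1
      apply Subtype.ext
      apply Subtype.ext
      exact hzV
    haveI : IsMulCommutative V := .of_setLike_mul_comm hVc
    have hnormV : ∀ g : G, g ∈ Subgroup.normalizer (V : Set G) := by
      intro g
      rw [Subgroup.normalizer_eq_top_iff.mpr hVn]
      trivial
    have hcM : Nat.card M = m := by
      rw [hMdef, Subgroup.card_map_of_injective K.subtype_injective, hm]
    obtain ⟨v, hvV, hv1, hyv⟩ := Helper11.frob_fixed_point V M y q hq.pos
      (by rw [← hyq]; exact pow_orderOf_eq_one y) (fun _ _ => hnormV _) (hnormV y) hyN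
      (by
        intro n hn i hi0 hiq hc
        obtain ⟨hnK, hnC⟩ := (hMmem n).mp hn
        have hnH : n ∈ H := hGfrob (y ^ i) n (hypow i hi0 hiq) hnK hc.symm
        have h1 := hdisj₁ ⟨n, hnK⟩ (by rw [Subgroup.mem_subgroupOf]; exact hnH) hnC
        exact congrArg Subtype.val h1)
      (by
        intro v hv hfix
        have h1 : (c₀ : G) ∉ H := by
          intro h
          exact hc₀1 (hdisj₁ c₀ (by rw [Subgroup.mem_subgroupOf]; exact h) hc₀C)
        have h2 := hfix (c₀ : G) ((hMmem _).mpr ⟨c₀.2, hc₀C⟩)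
        have h3 : (c₀ : G) * v = v * (c₀ : G) := by
          calc (c₀ : G) * v = ((c₀ : G) * v * (c₀ : G)⁻¹) * (c₀ : G) := by group
            _ = v * (c₀ : G) := by rw [h2]
        exact hKfrob (c₀ : G) v c₀.2 h1 (hPH (hVP hv)) h3)
      (by
        rw [hcM]
        exact Nat.Coprime.coprime_dvd_right (Subgroup.card_dvd_of_le (hVP.trans hPH)) hcopH)
      hV1
    have hpv : p ∣ orderOf v := pgroup_dvd_orderOf hp hPp (hVP hvV) hv1
    have hv' := exists_pow_orderOf_eq v p hpv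
    have hcyv : Commute y v := by
      have : y * v = v * y := by
        calc y * v = (y * v * y⁻¹) * y := by group
          _ = v * y := by rw [hyv]
      exact this
    exact ⟨_, orderOf_mul_of_commute_primes (hcyv.pow_right _).symm hp hq hpq hv' hyq⟩
  intro p q hp hq hpq hpG hqG
  constructor
  · rintro ⟨g, hg⟩
    have hx := exists_pow_orderOf_eq g p (hg ▸ dvd_mul_right p q)
    have hy := exists_pow_orderOf_eq g q (hg ▸ dvd_mul_left q p)
    have hc : Commute (g ^ (orderOf g / p)) (g ^ (orderOf g / q)) := (Commute.refl g).pow_pow _ _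
    constructor
    · intro hpm
      by_contra hqm
      exact hnomix p q hp hq hpm hqm _ _ hx hy hc
    · intro hqm
      by_contra hpm
      exact hnomix q p hq hp hqm hpm _ _ hy hx hc.symm
  · intro hiff
    have hcoppq : Nat.Coprime p q := (Nat.coprime_primes hp hq).mpr hpq
    by_cases hpm : p ∣ m
    · have hqm := hiff.mp hpm
      have hpqm : p * q ∣ Nat.card C₁ := hm ▸ Nat.Coprime.mul_dvd_of_dvd_of_dvd hcoppq hpm hqm
      haveI := hC₁cyc
      obtain ⟨c, hc⟩ := cyclic_exists_orderOf (X := C₁) (p * q) hpqm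
      exact ⟨((c : ↥K) : G), by rw [Subgroup.orderOf_coe, Subgroup.orderOf_coe, hc]⟩
    · have hqm : ¬ q ∣ m := fun h => hpm (hiff.mpr h)
      have hsplit : ∀ r : ℕ, r.Prime → r ∣ Nat.card G → ¬ r ∣ m →
          r ∣ Nat.card H ∨ r ∣ Nat.card (G ⧸ K) := by
        intro r hr hrG hrm
        rw [hcG] at hrG
        rcases (Nat.Prime.dvd_mul hr).mp hrG with h | h
        · rcases (Nat.Prime.dvd_mul hr).mp h with h | h
          · exact Or.inl h
          · exact absurd h hrm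
        · exact Or.inr h
      rcases hsplit p hp hpG hpm with hpH | hpGK
      · rcases hsplit q hq hqG hqm with hqH | hqGK
        · haveI := hnil₁
          obtain ⟨g, hg⟩ := nilpotent_exists_order_pq (X := ↥(H.subgroupOf K)) hp hq hpq
            (hcN₁ ▸ hpH) (hcN₁ ▸ hqH)
          exact ⟨((g : ↥K) : G), by rw [Subgroup.orderOf_coe, Subgroup.orderOf_coe, hg]⟩
        · exact hmixed p q hp hq hpq hpH hqGK hqm
      · rcases hsplit q hq hqG hqm with hqH | hqGK
        · obtain ⟨g, hg⟩ := hmixed q p hq hp hpq.symm hqH hpGK hpm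
          exact ⟨g, by rw [hg, mul_comm]⟩
        · have hpqc : p * q ∣ Nat.card C₂ :=
            hcC₂ ▸ Nat.Coprime.mul_dvd_of_dvd_of_dvd hcoppq hpGK hqGK
          haveI := hC₂cyc
          obtain ⟨c, hc⟩ := cyclic_exists_orderOf (X := C₂) (p * q) hpqc
          obtain ⟨g, hg⟩ := exists_orderOf_of_surjective (QuotientGroup.mk' H)
            (QuotientGroup.mk'_surjective H) (c : G ⧸ H)
          exact ⟨g, by rw [hg, Subgroup.orderOf_coe, hc]⟩

end Cfsg.Agent.Helper21
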