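import Mathlib
import Cfsg.Agent.S0001
import Cfsg.Agent.Lead.ThB
import Cfsg.Agent.Lead.Glauberman
import Cfsg.Agent.Lead.SylowSub
import Cfsg.Agent.Lead.Coprime
import Cfsg.Agent.Helper11.FrobFixed
import Cfsg.Agent.Helper21.TwoFrob
import Cfsg.Agent.Helper21.PGroupAb

set_option autoImplicit false
set_option linter.style.haveILetI false
open Cfsg
open scoped Pointwise
open scoped IsMulCommutative

namespace Cfsg.Agent.Helper21

/-- The sum trick: if `y` normalises `F` and acts fixed-point-freely on it through its first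
`t - 1` powers, and `1 + ρ y + ⋯ + ρ y ^ (t - 1) = 0` in a ring representation `ρ`, then
`ρ f * |F| = |F|` for every `f ∈ F`. -/
theorem frob_sum_trivial {Γ : Type*} [Group Γ] {R : Type*} [Ring R] (ρ : Γ →* R)
    (F : Subgroup Γ) [Finite F] (y : Γ) (hyF : y ∈ Subgroup.normalizer (F : Set Γ))
    (t : ℕ) (ht : 0 < t)
    (hfpf : ∀ f ∈ F, ∀ i, 0 < i → i < t → f * y ^ i = y ^ i * f → f = 1)
    (hT : ∑ i ∈ Finset.range t, ρ y ^ i = 0) :
    ∀ f₀ ∈ F, ρ f₀ * (Nat.card F : R) = (Nat.card F : R) := by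
  classical
  haveI := Fintype.ofFinite ↥F
  have hA : ∀ i, 0 < i → i < t →
      ∑ f : ↥F, ρ ((f : Γ) * y ^ i * (f : Γ)⁻¹) = (∑ f : ↥F, ρ (f : Γ)) * ρ y ^ i := by
    intro i hi0 hit
    have hyi : y ^ i ∈ Subgroup.normalizer (F : Set Γ) := Subgroup.pow_mem _ hyF i
    have hmem : ∀ f : ↥F, (f : Γ) * y ^ i * (f : Γ)⁻¹ * (y ^ i)⁻¹ ∈ F := by
      intro f
      have h1 : y ^ i * (f : Γ)⁻¹ * (y ^ i)⁻¹ ∈ F :=
        (Subgroup.mem_normalizer_iff.mp hyi _).mp (F.inv_mem f.2)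
      have h2 := F.mul_mem f.2 h1
      have e : (f : Γ) * y ^ i * (f : Γ)⁻¹ * (y ^ i)⁻¹
          = (f : Γ) * (y ^ i * (f : Γ)⁻¹ * (y ^ i)⁻¹) := by
        simp only [mul_assoc]
      rw [e]; exact h2
    let e : ↥F → ↥F := fun f => ⟨(f : Γ) * y ^ i * (f : Γ)⁻¹ * (y ^ i)⁻¹, hmem f⟩
    have hinj : Function.Injective e := by
      intro f g hfg
      have h1 : (f : Γ) * y ^ i * (f : Γ)⁻¹ * (y ^ i)⁻¹
          = (g : Γ) * y ^ i * (g : Γ)⁻¹ * (y ^ i)⁻¹ := congrArg Subtype.val hfg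
      have h3 : (f : Γ) * y ^ i * (f : Γ)⁻¹ = (g : Γ) * y ^ i * (g : Γ)⁻¹ := mul_right_cancel h1
      have h2 : ((g : Γ)⁻¹ * (f : Γ)) * y ^ i = y ^ i * ((g : Γ)⁻¹ * (f : Γ)) := by
        calc ((g : Γ)⁻¹ * (f : Γ)) * y ^ i
            = (g : Γ)⁻¹ * ((f : Γ) * y ^ i * (f : Γ)⁻¹) * (f : Γ) := by
              simp only [mul_assoc, inv_mul_cancel, mul_one]
          _ = (g : Γ)⁻¹ * ((g : Γ) * y ^ i * (g : Γ)⁻¹) * (f : Γ) := by rw [h3]
          _ = y ^ i * ((g : Γ)⁻¹ * (f : Γ)) := by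
              simp only [mul_assoc, inv_mul_cancel_left]
      have h4 := hfpf _ (F.mul_mem (F.inv_mem g.2) f.2) i hi0 hit h2
      rw [inv_mul_eq_one] at h4
      exact Subtype.ext h4.symm
    have hbij : Function.Bijective e := ⟨hinj, Finite.surjective_of_injective hinj⟩
    have hsum : ∑ f : ↥F, ρ ((e f : ↥F) : Γ) = ∑ f : ↥F, ρ (f : Γ) :=
      Fintype.sum_bijective e hbij _ _ (fun _ => rfl)
    calc ∑ f : ↥F, ρ ((f : Γ) * y ^ i * (f : Γ)⁻¹)
        = ∑ f : ↥F, ρ ((e f : ↥F) : Γ) * ρ y ^ i := by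
          refine Finset.sum_congr rfl (fun f _ => ?_)
          rw [← map_pow, ← map_mul]
          congr 1
          show _ = (f : Γ) * y ^ i * (f : Γ)⁻¹ * (y ^ i)⁻¹ * y ^ i
          rw [inv_mul_cancel_right]
      _ = (∑ f : ↥F, ρ (f : Γ)) * ρ y ^ i := by rw [← Finset.sum_mul, hsum]
  obtain ⟨t', rfl⟩ := Nat.exists_eq_succ_of_ne_zero (Nat.pos_iff_ne_zero.mp ht)
  have h1 : ∑ f : ↥F, ρ (f : Γ) * (∑ i ∈ Finset.range (t' + 1), ρ y ^ i) * ρ ((f : Γ)⁻¹) = 0 := by
    rw [hT]; simp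
  have h2 : ∑ f : ↥F, ρ (f : Γ) * (∑ i ∈ Finset.range (t' + 1), ρ y ^ i) * ρ ((f : Γ)⁻¹)
      = ∑ i ∈ Finset.range (t' + 1), ∑ f : ↥F, ρ ((f : Γ) * y ^ i * (f : Γ)⁻¹) := by
    conv_rhs => rw [Finset.sum_comm]
    refine Finset.sum_congr rfl (fun f _ => ?_)
    rw [Finset.mul_sum, Finset.sum_mul]
    refine Finset.sum_congr rfl (fun i _ => ?_)
    rw [map_mul, map_mul, map_pow]
  have h3 : ∑ i ∈ Finset.range (t' + 1), ∑ f : ↥F, ρ ((f : Γ) * y ^ i * (f : Γ)⁻¹)
      = (∑ i ∈ Finset.range t', (∑ f : ↥F, ρ (f : Γ)) * ρ y ^ (i + 1)) + (Nat.card F : R) := by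
    rw [Finset.sum_range_succ']
    congr 1
    · refine Finset.sum_congr rfl (fun i hi => ?_)
      exact hA (i + 1) (Nat.succ_pos i) (Nat.succ_lt_succ (Finset.mem_range.mp hi))
    · simp [Nat.card_eq_fintype_card]
  have h4 : (∑ f : ↥F, ρ (f : Γ)) * (∑ i ∈ Finset.range (t' + 1), ρ y ^ i)
      = (∑ i ∈ Finset.range t', (∑ f : ↥F, ρ (f : Γ)) * ρ y ^ (i + 1))
        + (∑ f : ↥F, ρ (f : Γ)) := by
    rw [Finset.mul_sum, Finset.sum_range_succ', pow_zero, mul_one]
  have hPeq : (∑ f : ↥F, ρ (f : Γ)) = (Nat.card F : R) := by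
    rw [hT, mul_zero] at h4
    rw [h2, h3] at h1
    have h5 : (∑ i ∈ Finset.range t', (∑ f : ↥F, ρ (f : Γ)) * ρ y ^ (i + 1))
        = - (∑ f : ↥F, ρ (f : Γ)) := eq_neg_of_add_eq_zero_left h4.symm
    rw [h5] at h1
    exact neg_add_eq_zero.mp h1
  intro f₀ hf₀
  rw [← hPeq, Finset.mul_sum]
  exact Fintype.sum_equiv (Equiv.mulLeft (⟨f₀, hf₀⟩ : ↥F)) (fun f : ↥F => ρ f₀ * ρ (f : Γ))
    (fun f : ↥F => ρ (f : Γ)) (fun f => by simp [map_mul])

/-- partial products `v · v^y · ⋯` -/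
def mazW {Γ : Type*} [Group Γ] (v y : Γ) : ℕ → Γ
  | 0 => 1
  | (k + 1) => mazW v y k * (y ^ k * v * (y ^ k)⁻¹)

theorem mazW_spec {Γ : Type*} [Group Γ] (v y : Γ) (k : ℕ) :
    (v * y) ^ k = mazW v y k * y ^ k := by
  induction k with
  | zero => simp [mazW]
  | succ k ih =>
    rw [pow_succ, ih]
    show _ = mazW v y k * (y ^ k * v * (y ^ k)⁻¹) * y ^ (k + 1)
    rw [pow_succ]
    simp only [mul_assoc, inv_mul_cancel_left]

theorem conjEndN_sum_apply {G : Type*} [Group G] (W : Subgroup G) [W.Normal]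
    [IsMulCommutative W] (g : G) (w : G) (hw : w ∈ W) (k : ℕ) :
    (((Additive.toMul ((∑ i ∈ Finset.range k, (Lead.Th.conjEndN W g) ^ i)
      (Additive.ofMul ⟨w, hw⟩)) : W)) : G) = mazW w g k := by
  induction k with
  | zero => simp [mazW]
  | succ k ih =>
    rw [Finset.sum_range_succ]
    have h1 : (∑ x ∈ Finset.range k, (Lead.Th.conjEndN W) g ^ x + (Lead.Th.conjEndN W) g ^ k)
        (Additive.ofMul ⟨w, hw⟩)
        = (∑ x ∈ Finset.range k, (Lead.Th.conjEndN W) g ^ x) (Additive.ofMul ⟨w, hw⟩)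
          + ((Lead.Th.conjEndN W) g ^ k) (Additive.ofMul ⟨w, hw⟩) := rfl
    rw [h1, toMul_add, Subgroup.coe_mul, ih, ← map_pow, Lead.Th.conjEndN_apply]
    rfl

/-- Abelian-quotient step: `F` acts trivially on `N / N'` when `N / N'` is abelian. -/
theorem maz_quot_trivial {Γ : Type*} [Group Γ] [Finite Γ] (N N' : Subgroup Γ) [N.Normal]
    [N'.Normal] (hab : ∀ a ∈ N, ∀ b ∈ N, a * b * a⁻¹ * b⁻¹ ∈ N')
    (F : Subgroup Γ) (y : Γ) (hyF : y ∈ Subgroup.normalizer (F : Set Γ)) (t : ℕ) (ht : 0 < t)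
    (hfpf : ∀ f ∈ F, ∀ i, 0 < i → i < t → f * y ^ i = y ^ i * f → f = 1)
    (hcop : (Nat.card F).Coprime (Nat.card N))
    (hc : ∀ v ∈ N, (v * y) ^ t = 1) :
    ∀ f ∈ F, ∀ v ∈ N, f * v * f⁻¹ * v⁻¹ ∈ N' := by
  set π := QuotientGroup.mk' N' with hπ
  set W : Subgroup (Γ ⧸ N') := N.map π with hW
  haveI hWn : W.Normal := Subgroup.Normal.map inferInstance π (QuotientGroup.mk'_surjective N')
  haveI hWc : IsMulCommutative W := by
    refine .of_setLike_mul_comm ?_
    rintro _ ⟨a, ha, rfl⟩ _ ⟨b, hb, rfl⟩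
    rw [← map_mul, ← map_mul]
    refine (QuotientGroup.eq).mpr ?_
    have h1 := hab b⁻¹ (N.inv_mem hb) a⁻¹ (N.inv_mem ha)
    have e : (a * b)⁻¹ * (b * a) = b⁻¹ * a⁻¹ * b⁻¹⁻¹ * a⁻¹⁻¹ := by group
    rw [e]; exact h1
  set ρ : Γ →* AddMonoid.End (Additive ↥W) := (Lead.Th.conjEndN W).comp π with hρ
  have hy1 : y ^ t = 1 := by simpa using hc 1 N.one_mem
  have hT : ∑ i ∈ Finset.range t, ρ y ^ i = 0 := by
    refine DFunLike.ext _ _ (fun x => ?_)
    apply Helper11.additive_subgroup_ext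
    obtain ⟨⟨w, hw⟩, rfl⟩ : ∃ w' : ↥W, x = Additive.ofMul w' := ⟨Additive.toMul x, rfl⟩
    obtain ⟨v, hv, rfl⟩ := hw
    have h0 := conjEndN_sum_apply W (π y) (π v) ⟨v, hv, rfl⟩ t
    have h1 := mazW_spec (π v) (π y) t
    rw [← map_mul, ← map_pow, ← map_pow, hc v hv, hy1, map_one, mul_one] at h1
    rw [← h1] at h0
    exact h0
  have hA := frob_sum_trivial ρ F y hyF t ht hfpf hT
  intro f hf v hv
  have hvW : π v ∈ W := ⟨v, hv, rfl⟩
  set x : Additive ↥W := Additive.ofMul ⟨π v, hvW⟩ with hx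
  have h1 : ρ f ((Nat.card F : AddMonoid.End (Additive ↥W)) x)
      = (Nat.card F : AddMonoid.End (Additive ↥W)) x :=
    congrArg (fun φ : AddMonoid.End (Additive ↥W) => φ x) (hA f hf)
  rw [AddMonoid.End.natCast_apply, map_nsmul] at h1
  have h2 : Nat.card F • (ρ f x - x) = 0 := by rw [smul_sub, h1, sub_self]
  have h3 : addOrderOf (ρ f x - x) ∣ Nat.card F := addOrderOf_dvd_of_nsmul_eq_zero h2
  have h4 : addOrderOf (ρ f x - x) ∣ Nat.card N := by
    have h5 : addOrderOf (ρ f x - x) ∣ Nat.card (Additive ↥W) := addOrderOf_dvd_natCard _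
    have h6 : Nat.card (Additive ↥W) = Nat.card W := Nat.card_congr Additive.toMul
    have h7 : Nat.card W ∣ Nat.card N := Subgroup.card_map_dvd _ _
    rw [h6] at h5
    exact h5.trans h7
  have h8 : addOrderOf (ρ f x - x) = 1 := Nat.eq_one_of_dvd_coprimes hcop h3 h4
  have h9 : ρ f x = x := sub_eq_zero.mp (AddMonoid.addOrderOf_eq_one_iff.mp h8)
  have h10 := Lead.Th.conjEndN_apply W (π f) x
  have h11 : π f * π v * (π f)⁻¹ = π v := by
    have e : ρ f x = Lead.Th.conjEndN W (π f) x := rfl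
    rw [← e, h9] at h10
    exact h10.symm
  have h12 : π (f * v * f⁻¹ * v⁻¹) = 1 := by
    rw [map_mul, map_mul, map_mul, map_inv, map_inv, h11, mul_inv_cancel]
  exact (QuotientGroup.eq_one_iff _).mp h12

/-- Solvable case of the centralising lemma. -/
theorem maz_solv {Γ : Type*} [Group Γ] [Finite Γ] (F : Subgroup Γ) (y : Γ)
    (hyF : y ∈ Subgroup.normalizer (F : Set Γ)) (t : ℕ) (ht : 0 < t)
    (hfpf : ∀ f ∈ F, ∀ i, 0 < i → i < t → f * y ^ i = y ^ i * f → f = 1) :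
    ∀ n : ℕ, ∀ N : Subgroup Γ, N.Normal → Nat.card N ≤ n → Group.IsSolvable N →
      (Nat.card F).Coprime (Nat.card N) → (∀ v ∈ N, (v * y) ^ t = 1) →
      ∀ f ∈ F, ∀ v ∈ N, f * v = v * f := by
  intro n
  induction n with
  | zero =>
    intro N _ hcard
    have := Nat.card_pos (α := N)
    omega
  | succ n ih =>
    intro N hNn hcard hsolv hcop hc f hf v hv
    haveI := hNn
    haveI := hsolv
    by_cases hN1 : N = ⊥
    · subst hN1
      rw [Subgroup.mem_bot] at hv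
      subst hv
      simp
    set N' : Subgroup Γ := ⁅N, N⁆ with hN'
    haveI hN'n : N'.Normal := Subgroup.commutator_normal N N
    have hle : N' ≤ N := Subgroup.commutator_le_left N N
    have hne : N' ≠ N := by
      intro h
      haveI : Nontrivial ↥N := (Subgroup.nontrivial_iff_ne_bot N).mpr hN1
      have h1 := Group.IsSolvable.commutator_lt_top_of_nontrivial ↥N
      have h2 : (commutator ↥N).map N.subtype = ⁅N, N⁆ := Subgroup.map_subtype_commutator N
      have h3 : (commutator ↥N).map N.subtype = N := h2.trans h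
      have h4 : commutator ↥N = ⊤ := by
        apply Subgroup.map_injective N.subtype_injective
        rw [h3, ← MonoidHom.range_eq_map, Subgroup.range_subtype]
      exact h1.ne h4
    have hlt : N' < N := lt_of_le_of_ne hle hne
    have hcardlt : Nat.card N' < Nat.card N := S0001.card_lt_of_lt hlt
    have hcent : ∀ f ∈ F, ∀ m ∈ N', f * m = m * f := by
      refine ih N' hN'n (by omega) ?_ ?_ (fun v hv => hc v (hle hv))
      · exact Lead.isSolvable_of_le hle hsolv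
      · exact Nat.Coprime.coprime_dvd_right (Subgroup.card_dvd_of_le hle) hcop
    have hq := maz_quot_trivial N N' (fun a ha b hb => by
        have h1 := Subgroup.commutator_mem_commutator ha hb
        rwa [commutatorElement_def] at h1) F y hyF t ht hfpf hcop hc
    obtain ⟨m, hm⟩ : ∃ m, m = f * v * f⁻¹ * v⁻¹ := ⟨_, rfl⟩
    have hmN' : m ∈ N' := hm ▸ hq f hf v hv
    have hfv : f * v * f⁻¹ = m * v := by rw [hm]; group
    have hpow : ∀ j : ℕ, f ^ j * v * (f ^ j)⁻¹ = m ^ j * v := by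
      intro j
      induction j with
      | zero => simp
      | succ j ihj =>
        have hcm : f * m ^ j = m ^ j * f := hcent f hf _ (N'.pow_mem hmN' j)
        calc f ^ (j + 1) * v * (f ^ (j + 1))⁻¹ = f * (f ^ j * v * (f ^ j)⁻¹) * f⁻¹ := by
              rw [pow_succ']; group
          _ = f * (m ^ j * v) * f⁻¹ := by rw [ihj]
          _ = (f * m ^ j) * v * f⁻¹ := by simp only [mul_assoc]
          _ = m ^ j * (f * v * f⁻¹) := by rw [hcm]; simp only [mul_assoc]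
          _ = m ^ (j + 1) * v := by rw [hfv, pow_succ, mul_assoc]
    have h1 := hpow (orderOf f)
    rw [pow_orderOf_eq_one, one_mul, inv_one, mul_one] at h1
    have h2 : m ^ orderOf f = 1 := by
      have := mul_right_cancel (a := 1) (b := v) (c := m ^ orderOf f) (by rw [one_mul]; exact h1)
      exact this.symm
    have h3 : orderOf m ∣ Nat.card F :=
      (orderOf_dvd_of_pow_eq_one h2).trans (Subgroup.orderOf_dvd_natCard F hf)
    have h4 : orderOf m ∣ Nat.card N := Subgroup.orderOf_dvd_natCard N (hle hmN')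
    have h5 : orderOf m = 1 := Nat.eq_one_of_dvd_coprimes hcop h3 h4
    have h6 : m = 1 := orderOf_eq_one_iff.mp h5
    rw [h6, one_mul] at hfv
    calc f * v = f * v * f⁻¹ * f := by group
      _ = v * f := by rw [hfv]

/-- General case via invariant Sylow subgroups. -/
theorem maz_general {Γ : Type*} [Group Γ] [Finite Γ] (N F : Subgroup Γ) [hNn : N.Normal]
    (hsolv : Group.IsSolvable F) (y : Γ)
    (hyF : y ∈ Subgroup.normalizer (F : Set Γ)) (t : ℕ) (ht : 0 < t)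
    (hfpf : ∀ f ∈ F, ∀ i, 0 < i → i < t → f * y ^ i = y ^ i * f → f = 1)
    (hcop : (Nat.card F).Coprime (Nat.card N))
    (hc : ∀ v ∈ N, (v * y) ^ t = 1) :
    ∀ f ∈ F, ∀ v ∈ N, f * v = v * f := by
  have hFN : F ≤ Subgroup.normalizer (N : Set Γ) := by
    rw [Subgroup.normalizer_eq_top_iff.mpr hNn]; exact le_top
  obtain ⟨C, hC⟩ : ∃ C : Subgroup Γ, C = N ⊓ Subgroup.centralizer (F : Set Γ) := ⟨_, rfl⟩
  have hdvd : Nat.card N ∣ Nat.card C := by
    rw [Nat.dvd_iff_prime_pow_dvd_dvd]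
    intro p k hp hpk
    haveI : Fact p.Prime := ⟨hp⟩
    have hN0 : Nat.card N ≠ 0 := Nat.card_pos.ne'
    have hke : k ≤ (Nat.card N).factorization p := (hp.pow_dvd_iff_le_factorization hN0).mp hpk
    refine (pow_dvd_pow p hke).trans ?_
    obtain ⟨P⟩ : Nonempty (Sylow p N) := inferInstance
    obtain ⟨S₀, hS₀⟩ : ∃ S₀ : Subgroup Γ, S₀ = (P : Subgroup N).map N.subtype := ⟨_, rfl⟩
    have hS₀N : S₀ ≤ N := hS₀ ▸ Subgroup.map_subtype_le _
    have hS₀card : Nat.card S₀ = p ^ (Nat.card N).factorization p :=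
      hS₀ ▸ Lead.card_sylow_map N P
    have hconjN : ∀ (g : Γ) (Q : Subgroup Γ), Q ≤ N → MulAut.conj g • Q ≤ N := by
      intro g Q hQ x hx
      rw [Lead.mem_conj_smul'] at hx
      have h1 := hQ hx
      have h2 := hNn.conj_mem _ h1 g
      have e : g * (g⁻¹ * x * g) * g⁻¹ = x := by group
      rwa [e] at h2
    have hsyl : ∀ R : Subgroup Γ, R ≤ N → Nat.card R = p ^ (Nat.card N).factorization p →
        ∃ k ∈ N, R = MulAut.conj k • S₀ :=
      fun R hR hc => hS₀ ▸ Lead.exists_conj_eq_of_card N P R hR hc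
    obtain ⟨n, hnN, hnF⟩ := Lead.exists_conj_normalized F N hFN hcop (Or.inl hsolv) S₀ (by
      intro a ha
      exact hsyl _ (hconjN a S₀ hS₀N) (by rw [S0001.card_conj_smul, hS₀card]))
    obtain ⟨S, hS⟩ : ∃ S : Subgroup Γ, S = MulAut.conj n • S₀ := ⟨_, rfl⟩
    rw [← hS] at hnF
    have hSN : S ≤ N := hS ▸ hconjN n S₀ hS₀N
    have hScard : Nat.card S = p ^ (Nat.card N).factorization p := by
      rw [hS, S0001.card_conj_smul, hS₀card]
    obtain ⟨k, hkN, hk⟩ := hsyl (MulAut.conj y • S) (hconjN y S hSN)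
      (by rw [S0001.card_conj_smul, hScard])
    have hS₀' : S₀ = MulAut.conj n⁻¹ • S := by
      rw [hS, ← S0001.conj_mul_smul, inv_mul_cancel, map_one, one_smul]
    have hk' : MulAut.conj y • S = MulAut.conj (k * n⁻¹) • S := by
      rw [S0001.conj_mul_smul, ← hS₀']; exact hk
    have hkn : k * n⁻¹ ∈ N := N.mul_mem hkN (N.inv_mem hnN)
    have hFyS : F ≤ Subgroup.normalizer ((MulAut.conj (k * n⁻¹) • S : Subgroup Γ) : Set Γ) := by
      rw [← hk']
      intro a ha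
      rw [Lead.mem_normalizer_iff_conj_smul, ← S0001.conj_mul_smul]
      have h1 : y⁻¹ * a * y ∈ F := by
        have := (Subgroup.mem_normalizer_iff.mp (Subgroup.inv_mem _ hyF) a).mp ha
        simpa using this
      have h2 : MulAut.conj (y⁻¹ * a * y) • S = S :=
        Lead.mem_normalizer_iff_conj_smul.mp (hnF h1)
      have e : a * y = y * (y⁻¹ * a * y) := by group
      rw [e, S0001.conj_mul_smul, h2]
    obtain ⟨c, hcC, hcS⟩ := Lead.exists_centralizer_conj F N hFN hcop (Or.inl hsolv) S hnF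
      (k * n⁻¹) hkn hFyS
    obtain ⟨y', hy'⟩ : ∃ y' : Γ, y' = c⁻¹ * y := ⟨_, rfl⟩
    have hcN : c ∈ N := hcC.1
    have hcF : ∀ f ∈ F, f * c = c * f := fun f hf => Subgroup.mem_centralizer_iff.mp hcC.2 f hf
    have hy'S : y' ∈ Subgroup.normalizer (S : Set Γ) := by
      rw [Lead.mem_normalizer_iff_conj_smul, hy', S0001.conj_mul_smul, hk', ← hcS,
        ← S0001.conj_mul_smul, inv_mul_cancel, map_one, one_smul]
    have hconj : ∀ i : ℕ, ∀ f ∈ F, y' ^ i * f * (y' ^ i)⁻¹ = y ^ i * f * (y ^ i)⁻¹ := by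
      intro i
      induction i with
      | zero => intro f _; simp
      | succ i ihi =>
        intro f hf
        have h1 : y ^ i * f * (y ^ i)⁻¹ ∈ F :=
          (Subgroup.mem_normalizer_iff.mp (Subgroup.pow_mem _ hyF i) f).mp hf
        have h2 : y * (y ^ i * f * (y ^ i)⁻¹) * y⁻¹ ∈ F :=
          (Subgroup.mem_normalizer_iff.mp hyF _).mp h1
        have h3 := hcF _ h2
        calc y' ^ (i + 1) * f * (y' ^ (i + 1))⁻¹
            = y' * (y' ^ i * f * (y' ^ i)⁻¹) * y'⁻¹ := by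
              rw [pow_succ']; group
          _ = y' * (y ^ i * f * (y ^ i)⁻¹) * y'⁻¹ := by rw [ihi f hf]
          _ = c⁻¹ * ((y * (y ^ i * f * (y ^ i)⁻¹) * y⁻¹) * c) := by rw [hy']; group
          _ = c⁻¹ * (c * (y * (y ^ i * f * (y ^ i)⁻¹) * y⁻¹)) := by rw [h3]
          _ = y ^ (i + 1) * f * (y ^ (i + 1))⁻¹ := by rw [pow_succ']; group
    have hy'F : y' ∈ Subgroup.normalizer (F : Set Γ) := by
      apply mem_normalizer_of_conj'
      intro f hf
      have h1 := hconj 1 f hf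
      rw [pow_one, pow_one] at h1
      rw [h1]
      exact (Subgroup.mem_normalizer_iff.mp hyF f).mp hf
    have hfpf' : ∀ f ∈ F, ∀ i, 0 < i → i < t → f * y' ^ i = y' ^ i * f → f = 1 := by
      intro f hf i hi0 hit hcomm
      apply hfpf f hf i hi0 hit
      have h1 := hconj i f hf
      have h2 : y' ^ i * f * (y' ^ i)⁻¹ = f := by rw [← hcomm]; group
      rw [h2] at h1
      calc f * y ^ i = (y ^ i * f * (y ^ i)⁻¹) * y ^ i := by rw [← h1]
        _ = y ^ i * f := by group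
    have hc' : ∀ v ∈ S, (v * y') ^ t = 1 := by
      intro v hv
      have := hc (v * c⁻¹) (N.mul_mem (hSN hv) (N.inv_mem hcN))
      rw [hy', ← mul_assoc]; exact this
    obtain ⟨M, hM⟩ : ∃ M : Subgroup Γ, M = Subgroup.normalizer (S : Set Γ) := ⟨_, rfl⟩
    have hFM : F ≤ M := hM ▸ hnF
    have hSM : S ≤ M := hM ▸ Subgroup.le_normalizer
    have hy'M : y' ∈ M := hM ▸ hy'S
    have hMn : (S.subgroupOf M).Normal :=
      Subgroup.normal_subgroupOf_of_le_normalizer (le_of_eq hM)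
    have a1 : (⟨y', hy'M⟩ : ↥M) ∈
        Subgroup.normalizer ((F.subgroupOf M : Subgroup ↥M) : Set ↥M) := by
      apply mem_normalizer_of_conj'
      intro f hf
      rw [Subgroup.mem_subgroupOf] at hf ⊢
      exact (Subgroup.mem_normalizer_iff.mp hy'F _).mp hf
    have a2 : ∀ f ∈ F.subgroupOf M, ∀ i, 0 < i → i < t →
        f * (⟨y', hy'M⟩ : ↥M) ^ i = (⟨y', hy'M⟩ : ↥M) ^ i * f → f = 1 := by
      intro f hf i hi0 hit hcomm
      rw [Subgroup.mem_subgroupOf] at hf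
      have h0 : (f : Γ) * y' ^ i = y' ^ i * (f : Γ) := by
        have := congrArg Subtype.val hcomm
        simpa using this
      exact Subtype.ext (hfpf' (f : Γ) hf i hi0 hit h0)
    have a3 : Nat.card (S.subgroupOf M) ≤ Nat.card S := by
      rw [S0001.card_subgroupOf_of_le hSM]
    have a4 : Group.IsSolvable (S.subgroupOf M) := by
      have hp' : IsPGroup p (S.subgroupOf M) :=
        IsPGroup.of_card (by rw [S0001.card_subgroupOf_of_le hSM, hScard])
      haveI := hp'.isNilpotent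
      infer_instance
    have a5 : (Nat.card (F.subgroupOf M)).Coprime (Nat.card (S.subgroupOf M)) := by
      rw [S0001.card_subgroupOf_of_le hSM, S0001.card_subgroupOf_of_le hFM]
      exact Nat.Coprime.coprime_dvd_right (Subgroup.card_dvd_of_le hSN) hcop
    have a6 : ∀ v ∈ S.subgroupOf M, (v * (⟨y', hy'M⟩ : ↥M)) ^ t = 1 := by
      intro v hv
      rw [Subgroup.mem_subgroupOf] at hv
      have := hc' (v : Γ) hv
      exact Subtype.ext (by simpa using this)
    have key := maz_solv (F.subgroupOf M) ⟨y', hy'M⟩ a1 t ht a2 (Nat.card S) (S.subgroupOf M)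
      hMn a3 a4 a5 a6
    have hSC : S ≤ C := by
      intro v hv
      rw [hC]
      refine Subgroup.mem_inf.mpr ⟨hSN hv, ?_⟩
      rw [Subgroup.mem_centralizer_iff]
      intro f hf
      have := key ⟨f, hFM hf⟩ (by rw [Subgroup.mem_subgroupOf]; exact hf) ⟨v, hSM hv⟩
        (by rw [Subgroup.mem_subgroupOf]; exact hv)
      exact congrArg Subtype.val this
    rw [← hScard]
    exact Subgroup.card_dvd_of_le hSC
  have hCN : C = N :=
    Subgroup.eq_of_le_of_card_ge (hC ▸ inf_le_left) (Nat.le_of_dvd Nat.card_pos hdvd)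
  intro f hf v hv
  have hvC : v ∈ C := hCN ▸ hv
  rw [hC] at hvC
  exact Subgroup.mem_centralizer_iff.mp hvC.2 f hf

end Cfsg.Agent.Helper21
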