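import Mathlib
import Cfsg.Agent.Helper21.Metacyclic

set_option autoImplicit false
set_option linter.style.haveILetI false
set_option linter.unusedSectionVars false

namespace Cfsg.Agent.Helper21

/-- The exact `p`-adic valuation of the geometric sums. -/
theorem padicValNat_mcLam {p : ℕ} [hp : Fact p.Prime] (hp2 : p ≠ 2) (R : ℕ) (hR : 1 ≤ R)
    (hpR : p ∣ R - 1) (s : ℕ) : padicValNat p (mcLam R (p ^ s)) = s := by
  rcases eq_or_lt_of_le hR with h | h
  · rw [← h, mcLam_one, padicValNat.prime_pow]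
  obtain ⟨Q, rfl⟩ : ∃ Q, R = Q + 1 := ⟨R - 1, by omega⟩
  have hQ : Q ≠ 0 := by omega
  have hspec := mcLam_spec Q (p ^ s)
  have hodd : Odd p := hp.out.odd_of_ne_two hp2
  have hpQ : p ∣ Q := by simpa using hpR
  have hnr : ¬ p ∣ Q + 1 := by
    intro h1
    have h2 := (Nat.dvd_add_right hpQ).mp h1
    exact hp.out.one_lt.ne' (Nat.dvd_one.mp h2)
  have hv := padicValNat.pow_sub_pow hodd h (by simpa using hpQ) hnr
    (pow_ne_zero s hp.out.ne_zero)
  rw [one_pow, padicValNat.prime_pow] at hv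
  have hL : mcLam (Q + 1) (p ^ s) ≠ 0 := mcLam_ne_zero _ _ (pow_ne_zero s hp.out.ne_zero)
  have h3 : (Q + 1) ^ p ^ s - 1 = mcLam (Q + 1) (p ^ s) * Q := by omega
  rw [h3, padicValNat.mul hL hQ] at hv
  have : Q + 1 - 1 = Q := by omega
  rw [this] at hv
  omega

theorem dvd_of_pow_mem_zpowers {T : Type*} [Group T] [Finite T] {p : ℕ} {a : T} {m : ℕ}
    (ha : orderOf a = p ^ m) {u : ℕ} (hu : u ≤ m) {e : ℕ}
    (h : a ^ e ∈ Subgroup.zpowers (a ^ p ^ u)) : p ^ u ∣ e := by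
  obtain ⟨z, hz⟩ := (Submonoid.mem_powers_iff _ _).mp (mem_powers_iff_mem_zpowers.mpr h)
  rw [← pow_mul, pow_eq_pow_iff_modEq, ha] at hz
  exact (hz.dvd_iff (pow_dvd_pow p hu)).mp (Dvd.intro _ rfl)

theorem zpowers_pow_le_of_padicValNat {T : Type*} [Group T] [Finite T] {p : ℕ}
    [hp : Fact p.Prime] {a : T} {m : ℕ} (ha : orderOf a = p ^ m) {Λ s : ℕ} (hΛ : Λ ≠ 0)
    (hv : padicValNat p Λ ≤ s) :
    Subgroup.zpowers (a ^ p ^ s) ≤ Subgroup.zpowers (a ^ Λ) := by
  obtain ⟨u, hu, hL⟩ := exists_eq_zpowers_pow hp.out ha (Subgroup.zpowers (a ^ Λ))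
    (Subgroup.zpowers_le.mpr (pow_mem (Subgroup.mem_zpowers a) _))
  have h1 : a ^ Λ ∈ Subgroup.zpowers (a ^ p ^ u) := by rw [← hL]; exact Subgroup.mem_zpowers _
  have h2 := dvd_of_pow_mem_zpowers ha hu h1
  have h3 : u ≤ padicValNat p Λ := (padicValNat_dvd_iff_le hΛ).mp h2
  rw [hL, Subgroup.zpowers_le]
  exact pow_mem_zpowers_of_dvd a (pow_dvd_pow p (h3.trans hv))

/-- A relative version of `index_centralizer_le_card`. -/
theorem card_le_card_inf_centralizer_mul {T : Type*} [Group T] [Finite T] (H : Subgroup T)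
    (g : T) (K : Subgroup T) (h : ∀ x ∈ H, x * g * x⁻¹ * g⁻¹ ∈ K) :
    Nat.card H ≤ Nat.card (H ⊓ Subgroup.centralizer ({g} : Set T) : Subgroup T) * Nat.card K := by
  classical
  have h1 := Subgroup.relIndex_mul_relIndex (H := (⊥ : Subgroup T))
    (K := Subgroup.centralizer ({g} : Set T) ⊓ H) (L := H) bot_le inf_le_right
  rw [Subgroup.relIndex_bot_left, Subgroup.relIndex_bot_left, Subgroup.inf_relIndex_right] at h1
  have h2 : (Subgroup.centralizer ({g} : Set T)).relIndex H ≤ Nat.card K := by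
    rw [Subgroup.relIndex, Subgroup.index_eq_card]
    let f : ↥H ⧸ (Subgroup.centralizer ({g} : Set T)).subgroupOf H → K :=
      fun q => ⟨(q.out : T) * g * (q.out : T)⁻¹ * g⁻¹, h _ q.out.2⟩
    apply Nat.card_le_card_of_injective f
    intro q1 q2 hq
    have e1 : (q1.out : T) * g * (q1.out : T)⁻¹ * g⁻¹ = (q2.out : T) * g * (q2.out : T)⁻¹ * g⁻¹ :=
      congrArg Subtype.val hq
    have e2 : (q1.out : T) * g * (q1.out : T)⁻¹ = (q2.out : T) * g * (q2.out : T)⁻¹ :=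
      mul_right_cancel e1
    have e3 : (q1.out : ↥H ⧸ (Subgroup.centralizer ({g} : Set T)).subgroupOf H) = q2.out := by
      rw [QuotientGroup.eq, Subgroup.mem_subgroupOf, Subgroup.mem_centralizer_iff]
      intro y hy
      rw [Set.mem_singleton_iff] at hy
      rw [hy]
      simp only [Subgroup.coe_mul, Subgroup.coe_inv]
      have ea : g * ((q1.out : T)⁻¹ * (q2.out : T))
          = (q1.out : T)⁻¹ * ((q1.out : T) * g * (q1.out : T)⁻¹) * (q2.out : T) := by group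
      have eb : (q1.out : T)⁻¹ * (q2.out : T) * g
          = (q1.out : T)⁻¹ * ((q2.out : T) * g * (q2.out : T)⁻¹) * (q2.out : T) := by group
      rw [ea, eb, e2]
    rwa [QuotientGroup.out_eq', QuotientGroup.out_eq'] at e3
  rw [← h1, inf_comm]
  exact Nat.mul_le_mul_left _ h2

namespace MCData

variable {G : Type*} [Group G] [Finite G] {p : ℕ} [hp : Fact p.Prime] (D : MCData G p)

/-- The standard description of a subgroup. -/
theorem exists_param (L : Subgroup G) : ∃ u w x : ℕ, u ≤ D.m ∧ w ≤ D.k ∧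
    Subgroup.zpowers D.a ⊓ L = Subgroup.zpowers (D.a ^ p ^ u) ∧
    L.map (QuotientGroup.mk' (Subgroup.zpowers D.a)) =
      Subgroup.zpowers ((QuotientGroup.mk' (Subgroup.zpowers D.a) D.b) ^ p ^ w) ∧
    D.a ^ x * D.b ^ p ^ w ∈ L ∧
    L ≤ Subgroup.zpowers (D.a ^ p ^ u) ⊔ Subgroup.zpowers (D.a ^ x * D.b ^ p ^ w) ∧
    Nat.card L = p ^ (D.m - u) * p ^ (D.k - w) := by
  let π := QuotientGroup.mk' (Subgroup.zpowers D.a)
  have hπb : orderOf (π D.b) = p ^ D.k := D.orderOf_mk_b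
  obtain ⟨u, hu, hLN⟩ := exists_eq_zpowers_pow hp.out D.ha (Subgroup.zpowers D.a ⊓ L) inf_le_left
  have hπtop : Subgroup.zpowers (π D.b) = ⊤ := by
    have h1 : (Subgroup.zpowers D.a ⊔ Subgroup.zpowers D.b).map π = ⊤ := by
      rw [D.htop]; exact Subgroup.map_top_of_surjective π (QuotientGroup.mk'_surjective _)
    rw [Subgroup.map_sup, MonoidHom.map_zpowers, MonoidHom.map_zpowers] at h1
    have h2 : π D.a = 1 := (QuotientGroup.eq_one_iff _).mpr (Subgroup.mem_zpowers _)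
    rwa [h2, Subgroup.zpowers_one_eq_bot, bot_sup_eq] at h1
  obtain ⟨w, hw, hLπ⟩ := exists_eq_zpowers_pow hp.out hπb (L.map π)
    (by rw [hπtop]; exact le_top)
  obtain ⟨c, hcL, hc⟩ : ∃ c ∈ L, π c = π D.b ^ p ^ w := by
    have h1 : π D.b ^ p ^ w ∈ L.map π := by rw [hLπ]; exact Subgroup.mem_zpowers _
    obtain ⟨c, hc, hc'⟩ := h1
    exact ⟨c, hc, hc'⟩
  obtain ⟨x, hx⟩ : ∃ x : ℕ, c = D.a ^ x * D.b ^ p ^ w := by
    have h1 : c * (D.b ^ p ^ w)⁻¹ ∈ Subgroup.zpowers D.a := by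
      apply (QuotientGroup.eq_one_iff _).mp
      show π (c * (D.b ^ p ^ w)⁻¹) = 1
      rw [map_mul, map_inv, map_pow, hc, mul_inv_cancel]
    obtain ⟨x, hx⟩ := (Submonoid.mem_powers_iff _ _).mp (mem_powers_iff_mem_zpowers.mpr h1)
    exact ⟨x, by rw [hx, inv_mul_cancel_right]⟩
  have hcard : Nat.card L = p ^ (D.m - u) * p ^ (D.k - w) := by
    rw [card_eq_card_inf_mul_card_map (Subgroup.zpowers D.a) L, hLN, hLπ, Nat.card_zpowers,
      Nat.card_zpowers, orderOf_pow_prime_pow hp.out D.ha hu,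
      orderOf_pow_prime_pow hp.out hπb hw]
  have hLle : L ≤ Subgroup.zpowers (D.a ^ p ^ u) ⊔ Subgroup.zpowers c := by
    intro g hg
    have h1 : π g ∈ L.map π := ⟨g, hg, rfl⟩
    rw [hLπ, ← hc] at h1
    obtain ⟨z, hz⟩ := Subgroup.mem_zpowers_iff.mp h1
    have h2 : g * (c ^ z)⁻¹ ∈ Subgroup.zpowers D.a ⊓ L := by
      refine ⟨?_, L.mul_mem hg (L.inv_mem (L.zpow_mem hcL z))⟩
      apply (QuotientGroup.eq_one_iff _).mp
      show π (g * (c ^ z)⁻¹) = 1
      rw [map_mul, map_inv, map_zpow, hz, mul_inv_cancel]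
    rw [hLN] at h2
    have h3 : g = g * (c ^ z)⁻¹ * c ^ z := by rw [inv_mul_cancel_right]
    rw [h3]
    exact Subgroup.mul_mem _ (Subgroup.mem_sup_left h2)
      (Subgroup.mem_sup_right (Subgroup.zpow_mem _ (Subgroup.mem_zpowers c) z))
  rw [hx] at hcL hLle
  exact ⟨u, w, x, hu, hw, hLN, hLπ, hcL, hLle, hcard⟩

/-- The Chermak–Delgado measure is bounded. -/
theorem centralizer_bound (hp2 : p ≠ 2) (R : Subgroup G) :
    Nat.card R * Nat.card (Subgroup.centralizer (R : Set G))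
      ≤ p ^ (D.m + D.k - D.n) * p ^ (D.m + D.k - D.n) := by
  obtain ⟨u, w, x, hu, hw, hRN, hRπ, hcR, hRle, hcard⟩ := D.exists_param R
  have hnm := D.n_le_m
  have hnk := D.n_le_k hp2
  have haR : D.a ^ p ^ u ∈ R := by
    have h1 : D.a ^ p ^ u ∈ Subgroup.zpowers D.a ⊓ R := by
      rw [hRN]; exact Subgroup.mem_zpowers _
    exact h1.2
  have h1 : Subgroup.zpowers D.a ⊓ Subgroup.centralizer (R : Set G)
      ≤ Subgroup.zpowers (D.a ^ p ^ (D.n - w)) := by
    intro g hg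
    have hg1 : g ∈ Subgroup.zpowers D.a := hg.1
    have hg2 : g ∈ Subgroup.centralizer (R : Set G) := hg.2
    obtain ⟨i, rfl⟩ := (Submonoid.mem_powers_iff _ _).mp (mem_powers_iff_mem_zpowers.mpr hg1)
    have h2 := Subgroup.mem_centralizer_iff.mp hg2 _ hcR
    have h3 : D.a ^ i * D.b ^ p ^ w = D.b ^ p ^ w * D.a ^ i := by
      have h4 : D.a ^ x * (D.a ^ i * D.b ^ p ^ w) = D.a ^ x * (D.b ^ p ^ w * D.a ^ i) := by
        rw [← mul_assoc, ← mul_assoc, h2, ← mul_assoc, ← pow_add, ← pow_add, add_comm]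
      exact mul_left_cancel h4
    have h5 := (D.comm_iff hp2 i (p ^ w)).mp h3
    apply pow_mem_zpowers_of_dvd
    by_cases hwn : w ≤ D.n
    · have h6 : p ^ D.n = p ^ (D.n - w) * p ^ w := by rw [← pow_add, Nat.sub_add_cancel hwn]
      rw [h6] at h5
      exact Nat.dvd_of_mul_dvd_mul_right (pow_pos hp.out.pos w) h5
    · have h6 : D.n - w = 0 := by omega
      rw [h6, pow_zero]; exact one_dvd _
  have h2 : (Subgroup.centralizer (R : Set G)).map (QuotientGroup.mk' (Subgroup.zpowers D.a))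
      ≤ Subgroup.zpowers ((QuotientGroup.mk' (Subgroup.zpowers D.a) D.b) ^ p ^ (D.n - u)) := by
    rintro _ ⟨g, hg, rfl⟩
    obtain ⟨i, j, rfl⟩ := D.exists_rep g
    have h3 := Subgroup.mem_centralizer_iff.mp hg _ haR
    have h4 : D.a ^ p ^ u * D.b ^ j = D.b ^ j * D.a ^ p ^ u := by
      have h5 : D.a ^ i * (D.a ^ p ^ u * D.b ^ j) = D.a ^ i * (D.b ^ j * D.a ^ p ^ u) := by
        rw [← mul_assoc, ← mul_assoc, ← h3, ← mul_assoc, ← pow_add, ← pow_add, add_comm]
      exact mul_left_cancel h5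
    have h6 := (D.comm_iff hp2 (p ^ u) j).mp h4
    have h7 : p ^ (D.n - u) ∣ j := by
      by_cases hun : u ≤ D.n
      · have h8 : p ^ D.n = p ^ u * p ^ (D.n - u) := by
          rw [← pow_add, Nat.add_sub_cancel' hun]
        rw [h8] at h6
        exact Nat.dvd_of_mul_dvd_mul_left (pow_pos hp.out.pos u) h6
      · have h8 : D.n - u = 0 := by omega
        rw [h8, pow_zero]; exact one_dvd _
    rw [map_mul, map_pow, map_pow]
    have h9 : QuotientGroup.mk' (Subgroup.zpowers D.a) D.a = 1 :=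
      (QuotientGroup.eq_one_iff _).mpr (Subgroup.mem_zpowers _)
    rw [h9, one_pow, one_mul]
    exact pow_mem_zpowers_of_dvd _ h7
  have hc1 : Nat.card (Subgroup.zpowers D.a ⊓ Subgroup.centralizer (R : Set G) : Subgroup G)
      ≤ p ^ (D.m - (D.n - w)) := by
    have := Subgroup.card_le_of_le h1
    rwa [Nat.card_zpowers, orderOf_pow_prime_pow hp.out D.ha (by omega)] at this
  have hc2 : Nat.card ((Subgroup.centralizer (R : Set G)).map
      (QuotientGroup.mk' (Subgroup.zpowers D.a))) ≤ p ^ (D.k - (D.n - u)) := by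
    have := Subgroup.card_le_of_le h2
    rwa [Nat.card_zpowers, orderOf_pow_prime_pow hp.out D.orderOf_mk_b (by omega)] at this
  have hcC : Nat.card (Subgroup.centralizer (R : Set G))
      ≤ p ^ (D.m - (D.n - w)) * p ^ (D.k - (D.n - u)) := by
    rw [card_eq_card_inf_mul_card_map (Subgroup.zpowers D.a) (Subgroup.centralizer (R : Set G))]
    exact Nat.mul_le_mul hc1 hc2
  rw [hcard]
  calc p ^ (D.m - u) * p ^ (D.k - w) * Nat.card (Subgroup.centralizer (R : Set G))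
      ≤ p ^ (D.m - u) * p ^ (D.k - w) * (p ^ (D.m - (D.n - w)) * p ^ (D.k - (D.n - u))) :=
        Nat.mul_le_mul_left _ hcC
    _ = p ^ ((D.m - u) + (D.k - w) + ((D.m - (D.n - w)) + (D.k - (D.n - u)))) := by
        rw [pow_add, pow_add, pow_add]
    _ ≤ p ^ ((D.m + D.k - D.n) + (D.m + D.k - D.n)) :=
        Nat.pow_le_pow_right hp.out.pos (by omega)
    _ = p ^ (D.m + D.k - D.n) * p ^ (D.m + D.k - D.n) := by rw [pow_add]

/-- Subgroups containing the centre attain the bound. -/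
theorem centralizer_eq (hp2 : p ≠ 2) (R : Subgroup G) (hZ : Subgroup.center G ≤ R) :
    Nat.card R * Nat.card (Subgroup.centralizer (R : Set G))
      = p ^ (D.m + D.k - D.n) * p ^ (D.m + D.k - D.n) := by
  apply le_antisymm (D.centralizer_bound hp2 R)
  obtain ⟨u, w, x, hu, hw, hRN, hRπ, hcR, hRle, hcard⟩ := D.exists_param R
  have hnm := D.n_le_m
  have hnk := D.n_le_k hp2
  have hπb := D.orderOf_mk_b
  have hr0 : 0 < D.r := by have := D.hr1; omega
  have hun : u ≤ D.n := by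
    have h1 : D.a ^ p ^ D.n ∈ Subgroup.zpowers D.a ⊓ R := by
      refine ⟨pow_mem (Subgroup.mem_zpowers _) _, hZ ?_⟩
      rw [D.center_eq hp2]
      have := D.mem_M_of_dvd D.n (p ^ D.n) 0 dvd_rfl (dvd_zero _)
      rwa [pow_zero, mul_one] at this
    rw [hRN] at h1
    exact (Nat.pow_dvd_pow_iff_le_right hp.out.one_lt).mp (dvd_of_pow_mem_zpowers D.ha hu h1)
  have hbR : D.b ^ p ^ D.n ∈ R := by
    apply hZ
    rw [D.center_eq hp2]
    have := D.mem_M_of_dvd D.n 0 (p ^ D.n) (dvd_zero _) dvd_rfl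
    rwa [pow_zero, one_mul] at this
  have hwn : w ≤ D.n := by
    have h1 : (QuotientGroup.mk' (Subgroup.zpowers D.a) D.b) ^ p ^ D.n
        ∈ R.map (QuotientGroup.mk' (Subgroup.zpowers D.a)) := ⟨_, hbR, map_pow _ _ _⟩
    rw [hRπ] at h1
    exact (Nat.pow_dvd_pow_iff_le_right hp.out.one_lt).mp (dvd_of_pow_mem_zpowers hπb hw h1)
  have hcond : p ^ w ∣ x * p ^ (D.n - u) := by
    have h1 := pow_formula D.hconj x (p ^ w) (p ^ (D.n - w))
    rw [← pow_add, Nat.add_sub_cancel' hwn] at h1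
    obtain ⟨Λ, hΛ⟩ : ∃ Λ, Λ = mcLam (D.r ^ p ^ w) (p ^ (D.n - w)) := ⟨_, rfl⟩
    rw [← hΛ] at h1
    have h2 : D.a ^ (x * Λ) ∈ Subgroup.zpowers D.a ⊓ R := by
      refine ⟨pow_mem (Subgroup.mem_zpowers _) _, ?_⟩
      have h3 : D.a ^ (x * Λ) = (D.a ^ x * D.b ^ p ^ w) ^ p ^ (D.n - w) * (D.b ^ p ^ D.n)⁻¹ := by
        rw [h1, mul_inv_cancel_right]
      rw [h3]
      exact R.mul_mem (R.pow_mem hcR _) (R.inv_mem hbR)
    rw [hRN] at h2
    have h4 := dvd_of_pow_mem_zpowers D.ha hu h2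
    have hvΛ : padicValNat p Λ = D.n - w := by
      rw [hΛ]
      apply padicValNat_mcLam hp2 _ (Nat.one_le_pow _ _ hr0)
      have h5 := Nat.sub_dvd_pow_sub_pow D.r 1 (p ^ w)
      rw [one_pow] at h5
      exact D.hpr.trans h5
    by_cases hx0 : x = 0
    · rw [hx0, zero_mul]; exact dvd_zero _
    have hΛ0 : Λ ≠ 0 := by
      rw [hΛ]; exact mcLam_ne_zero _ _ (pow_ne_zero _ hp.out.ne_zero)
    have hpn0 : p ^ (D.n - u) ≠ 0 := pow_ne_zero _ hp.out.ne_zero
    rw [padicValNat_dvd_iff_le (mul_ne_zero hx0 hΛ0), padicValNat.mul hx0 hΛ0, hvΛ] at h4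
    rw [padicValNat_dvd_iff_le (mul_ne_zero hx0 hpn0), padicValNat.mul hx0 hpn0,
      padicValNat.prime_pow]
    omega
  -- the subgroup `H1 = ⟨a, b^(p^(n-u))⟩`
  obtain ⟨b1, hb1⟩ : ∃ b1, b1 = D.b ^ p ^ (D.n - u) := ⟨_, rfl⟩
  obtain ⟨H1, hH1⟩ : ∃ H1 : Subgroup G, H1 = Subgroup.zpowers D.a ⊔ Subgroup.zpowers b1 :=
    ⟨_, rfl⟩
  have h9 : QuotientGroup.mk' (Subgroup.zpowers D.a) D.a = 1 :=
    (QuotientGroup.eq_one_iff _).mpr (Subgroup.mem_zpowers _)
  have hcardH1 : Nat.card H1 = p ^ D.m * p ^ (D.k - (D.n - u)) := by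
    rw [card_eq_card_inf_mul_card_map (Subgroup.zpowers D.a) H1]
    have e1 : Subgroup.zpowers D.a ⊓ H1 = Subgroup.zpowers D.a := by
      rw [hH1]; exact inf_eq_left.mpr le_sup_left
    have e2 : H1.map (QuotientGroup.mk' (Subgroup.zpowers D.a))
        = Subgroup.zpowers ((QuotientGroup.mk' (Subgroup.zpowers D.a) D.b) ^ p ^ (D.n - u)) := by
      rw [hH1, Subgroup.map_sup, MonoidHom.map_zpowers, MonoidHom.map_zpowers, hb1, map_pow,
        h9, Subgroup.zpowers_one_eq_bot, bot_sup_eq]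
    rw [e1, e2, Nat.card_zpowers, Nat.card_zpowers, D.ha,
      orderOf_pow_prime_pow hp.out hπb (by omega)]
  haveI hTn : (Subgroup.zpowers (D.a ^ p ^ (D.t + w))).Normal := zpowers_pow_normal D.a D.hN _
  let q := QuotientGroup.mk' (Subgroup.zpowers (D.a ^ p ^ (D.t + w)))
  have hqT : ∀ e : ℕ, p ^ (D.t + w) ∣ e → q (D.a ^ e) = 1 := by
    intro e he
    exact (QuotientGroup.eq_one_iff _).mpr (pow_mem_zpowers_of_dvd _ he)
  have hcen : ∀ y : G, q y * q (D.b ^ p ^ w) = q (D.b ^ p ^ w) * q y := by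
    intro y
    have h1 := D.comm_mem_T hp2 w (D.b ^ p ^ w) (by
      have := D.mem_M_of_dvd w 0 (p ^ w) (dvd_zero _) dvd_rfl
      rwa [pow_zero, one_mul] at this) y
    have h2 : q (y * D.b ^ p ^ w * y⁻¹ * (D.b ^ p ^ w)⁻¹) = 1 :=
      (QuotientGroup.eq_one_iff _).mpr h1
    rw [map_mul, map_mul, map_mul, map_inv, map_inv] at h2
    have h3 := mul_inv_eq_one.mp h2
    exact mul_inv_eq_iff_eq_mul.mp h3
  obtain ⟨c, hc⟩ : ∃ c, c = D.a ^ x * D.b ^ p ^ w := ⟨_, rfl⟩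
  rw [← hc] at hcR hRle
  have hqc : q c = q (D.a ^ x) * q (D.b ^ p ^ w) := by rw [hc, map_mul]
  have hH1c : ∀ h ∈ H1, q h * q c = q c * q h := by
    have hle : H1 ≤ (Subgroup.centralizer
        ({q c} : Set (G ⧸ Subgroup.zpowers (D.a ^ p ^ (D.t + w))))).comap q := by
      rw [hH1]
      apply sup_le
      · rw [Subgroup.zpowers_le, Subgroup.mem_comap, Subgroup.mem_centralizer_iff]
        intro y hy
        rw [Set.mem_singleton_iff] at hy
        rw [hy, hqc]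
        calc q (D.a ^ x) * q (D.b ^ p ^ w) * q D.a
            = q (D.a ^ x) * (q D.a * q (D.b ^ p ^ w)) := by rw [mul_assoc, ← hcen D.a]
          _ = q (D.a ^ x * D.a) * q (D.b ^ p ^ w) := by rw [← mul_assoc, ← map_mul]
          _ = q (D.a * D.a ^ x) * q (D.b ^ p ^ w) := by rw [← pow_succ, ← pow_succ']
          _ = q D.a * (q (D.a ^ x) * q (D.b ^ p ^ w)) := by rw [map_mul, mul_assoc]
      · rw [Subgroup.zpowers_le, Subgroup.mem_comap, Subgroup.mem_centralizer_iff]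
        intro y hy
        rw [Set.mem_singleton_iff] at hy
        have h1 := conj_pow_aux D.hconj x (p ^ (D.n - u))
        have h3 : 0 < D.r ^ p ^ (D.n - u) := Nat.pow_pos hr0
        have h2 : x * D.r ^ p ^ (D.n - u) = x + x * (D.r ^ p ^ (D.n - u) - 1) := by
          rw [Nat.mul_sub_one]
          have := Nat.le_mul_of_pos_right x h3
          omega
        have hd : p ^ (D.t + w) ∣ x * (D.r ^ p ^ (D.n - u) - 1) :=
          (mc_dvd_iff hp2 D.hr1 D.hpr D.ht x (p ^ (D.n - u)) w).mpr hcond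
        have h4 : q b1 * q (D.a ^ x) = q (D.a ^ x) * q b1 := by
          rw [← map_mul, ← map_mul, hb1, h1, h2, pow_add D.a, map_mul, map_mul, map_mul,
            hqT _ hd, mul_one]
        rw [hy, hqc]
        calc q (D.a ^ x) * q (D.b ^ p ^ w) * q b1
            = q (D.a ^ x) * (q b1 * q (D.b ^ p ^ w)) := by rw [mul_assoc, ← hcen b1]
          _ = (q (D.a ^ x) * q b1) * q (D.b ^ p ^ w) := by rw [mul_assoc]
          _ = (q b1 * q (D.a ^ x)) * q (D.b ^ p ^ w) := by rw [h4]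
          _ = q b1 * (q (D.a ^ x) * q (D.b ^ p ^ w)) := by rw [mul_assoc]
    intro h hh
    have := hle hh
    rw [Subgroup.mem_comap, Subgroup.mem_centralizer_iff] at this
    exact (this (q c) (Set.mem_singleton _)).symm
  have hH1T : ∀ h ∈ H1, h * c * h⁻¹ * c⁻¹ ∈ Subgroup.zpowers (D.a ^ p ^ (D.t + w)) := by
    intro h hh
    apply (QuotientGroup.eq_one_iff _).mp
    show q (h * c * h⁻¹ * c⁻¹) = 1
    rw [map_mul, map_mul, map_mul, map_inv, map_inv, hH1c h hh]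
    group
  have hrel := card_le_card_inf_centralizer_mul H1 c _ hH1T
  rw [D.card_T w hwn, hcardH1] at hrel
  have hsub : H1 ⊓ Subgroup.centralizer ({c} : Set G) ≤ Subgroup.centralizer (R : Set G) := by
    intro h hh
    have hh1 : h ∈ H1 := hh.1
    have hh2 : h ∈ Subgroup.centralizer ({c} : Set G) := hh.2
    have hH1a : H1 ≤ Subgroup.centralizer ({D.a ^ p ^ u} : Set G) := by
      rw [hH1]
      apply sup_le
      · rw [Subgroup.zpowers_le, Subgroup.mem_centralizer_iff]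
        intro y hy
        rw [Set.mem_singleton_iff] at hy
        rw [hy, ← pow_succ, ← pow_succ']
      · rw [Subgroup.zpowers_le, Subgroup.mem_centralizer_iff]
        intro y hy
        rw [Set.mem_singleton_iff] at hy
        rw [hy, hb1]
        apply (D.comm_iff hp2 _ _).mpr
        exact dvd_of_eq (by rw [← pow_add, Nat.add_sub_cancel' hun])
    have h1 := Subgroup.mem_centralizer_iff.mp (hH1a hh1) _ (Set.mem_singleton _)
    have h2 := Subgroup.mem_centralizer_iff.mp hh2 _ (Set.mem_singleton _)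
    have h3 : Subgroup.zpowers (D.a ^ p ^ u) ⊔ Subgroup.zpowers c
        ≤ Subgroup.centralizer ({h} : Set G) := by
      apply sup_le
      · rw [Subgroup.zpowers_le, Subgroup.mem_centralizer_iff]
        intro y hy
        rw [Set.mem_singleton_iff] at hy
        rw [hy]; exact h1.symm
      · rw [Subgroup.zpowers_le, Subgroup.mem_centralizer_iff]
        intro y hy
        rw [Set.mem_singleton_iff] at hy
        rw [hy]; exact h2.symm
    rw [Subgroup.mem_centralizer_iff]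
    intro y hy
    exact (Subgroup.mem_centralizer_iff.mp (h3 (hRle hy)) h (Set.mem_singleton _)).symm
  have hge := Subgroup.card_le_of_le hsub
  rw [hcard]
  have e1 : p ^ (D.m + D.k - D.n) * p ^ (D.m + D.k - D.n) * p ^ (D.n - w)
      = p ^ ((D.m + D.k - D.n) + (D.m + D.k - D.n) + (D.n - w)) := by
    rw [pow_add, pow_add]
  have e2 : p ^ (D.m - u) * p ^ (D.k - w) * (p ^ D.m * p ^ (D.k - (D.n - u)))
      = p ^ ((D.m - u) + (D.k - w) + (D.m + (D.k - (D.n - u)))) := by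
    rw [pow_add, pow_add, pow_add]
  have h5 : p ^ (D.m + D.k - D.n) * p ^ (D.m + D.k - D.n) * p ^ (D.n - w)
      ≤ p ^ (D.m - u) * p ^ (D.k - w) * Nat.card (Subgroup.centralizer (R : Set G))
        * p ^ (D.n - w) := by
    calc p ^ (D.m + D.k - D.n) * p ^ (D.m + D.k - D.n) * p ^ (D.n - w)
        = p ^ (D.m - u) * p ^ (D.k - w) * (p ^ D.m * p ^ (D.k - (D.n - u))) := by
          rw [e1, e2]; congr 1; omega
      _ ≤ p ^ (D.m - u) * p ^ (D.k - w) *
            (Nat.card (H1 ⊓ Subgroup.centralizer ({c} : Set G) : Subgroup G) * p ^ (D.n - w)) :=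
          Nat.mul_le_mul_left _ hrel
      _ ≤ p ^ (D.m - u) * p ^ (D.k - w) *
            (Nat.card (Subgroup.centralizer (R : Set G)) * p ^ (D.n - w)) :=
          Nat.mul_le_mul_left _ (Nat.mul_le_mul_right _ hge)
      _ = p ^ (D.m - u) * p ^ (D.k - w) * Nat.card (Subgroup.centralizer (R : Set G))
            * p ^ (D.n - w) := by ring
  exact Nat.le_of_mul_le_mul_right h5 (pow_pos hp.out.pos _)

/-- Factorisation into two cyclic subgroups with trivial intersection. -/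
theorem exists_factorization (D : MCData G p) (hp2 : p ≠ 2) : ∃ A B : Subgroup G,
    IsCyclic A ∧ IsCyclic B ∧ A ⊓ B = ⊥ ∧ Nat.card A * Nat.card B = Nat.card G := by
  have hnm := D.n_le_m
  have hnk := D.n_le_k hp2
  have hr0 : 0 < D.r := by have := D.hr1; omega
  obtain ⟨π, hπ⟩ : ∃ π : G →* G ⧸ Subgroup.zpowers D.a,
      π = QuotientGroup.mk' (Subgroup.zpowers D.a) := ⟨_, rfl⟩
  have hπb : orderOf (π D.b) = p ^ D.k := by rw [hπ]; exact D.orderOf_mk_b
  have hπa : π D.a = 1 := by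
    rw [hπ]; exact (QuotientGroup.eq_one_iff _).mpr (Subgroup.mem_zpowers _)
  have hπN : ∀ g : G, π g = 1 ↔ g ∈ Subgroup.zpowers D.a := by
    intro g; rw [hπ]; exact QuotientGroup.eq_one_iff _
  obtain ⟨v, hv, hbv⟩ := exists_eq_zpowers_pow hp.out D.ha (Subgroup.zpowers (D.b ^ p ^ D.k))
    (Subgroup.zpowers_le.mpr ((D.hk _).mpr dvd_rfl))
  have hy : ∀ s, s ≤ D.k → s ≤ v → ∃ y : G, y ^ p ^ s = 1 ∧ π y = π D.b ^ p ^ (D.k - s) := by
    intro s hsk hsv
    obtain ⟨Λ, hΛ⟩ : ∃ Λ, Λ = mcLam (D.r ^ p ^ (D.k - s)) (p ^ s) := ⟨_, rfl⟩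
    have hvΛ : padicValNat p Λ = s := by
      rw [hΛ]
      apply padicValNat_mcLam hp2 _ (Nat.one_le_pow _ _ hr0)
      have h5 := Nat.sub_dvd_pow_sub_pow D.r 1 (p ^ (D.k - s))
      rw [one_pow] at h5
      exact D.hpr.trans h5
    have hΛ0 : Λ ≠ 0 := by
      rw [hΛ]; exact mcLam_ne_zero _ _ (pow_ne_zero _ hp.out.ne_zero)
    have h1 : (D.b ^ p ^ D.k)⁻¹ ∈ Subgroup.zpowers (D.a ^ Λ) := by
      apply zpowers_pow_le_of_padicValNat D.ha hΛ0 hvΛ.le
      have h2 : (D.b ^ p ^ D.k)⁻¹ ∈ Subgroup.zpowers (D.a ^ p ^ v) := by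
        rw [← hbv]; exact Subgroup.inv_mem _ (Subgroup.mem_zpowers _)
      have h3 : Subgroup.zpowers (D.a ^ p ^ v) ≤ Subgroup.zpowers (D.a ^ p ^ s) := by
        rw [Subgroup.zpowers_le]; exact pow_mem_zpowers_of_dvd _ (pow_dvd_pow p hsv)
      exact h3 h2
    obtain ⟨i, hi⟩ := (Submonoid.mem_powers_iff _ _).mp (mem_powers_iff_mem_zpowers.mpr h1)
    refine ⟨D.a ^ i * D.b ^ p ^ (D.k - s), ?_, ?_⟩
    · rw [pow_formula D.hconj i (p ^ (D.k - s)) (p ^ s), ← hΛ, ← pow_add,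
        Nat.sub_add_cancel hsk, mul_comm i, pow_mul, hi, inv_mul_cancel]
    · rw [map_mul, map_pow, map_pow, hπa, one_pow, one_mul]
  have hcardG := D.card_G hp2
  have hyprop : ∀ s, s ≤ D.k → ∀ y : G, y ^ p ^ s = 1 → π y = π D.b ^ p ^ (D.k - s) →
      orderOf y = p ^ s ∧ Subgroup.zpowers y ⊓ Subgroup.zpowers D.a = ⊥ := by
    intro s hsk y hy1 hy2
    have ho : orderOf (π y) = p ^ s := by
      rw [hy2, orderOf_pow_prime_pow hp.out hπb (Nat.sub_le _ _), Nat.sub_sub_self hsk]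
    have h1 : orderOf y ∣ p ^ s := orderOf_dvd_of_pow_eq_one hy1
    have h2 : p ^ s ∣ orderOf y := by
      rw [← ho]; exact orderOf_map_dvd π y
    have h3 : orderOf y = p ^ s := Nat.dvd_antisymm h1 h2
    refine ⟨h3, ?_⟩
    rw [eq_bot_iff]
    intro g hg
    have hg1 : g ∈ Subgroup.zpowers y := hg.1
    have hg2 : g ∈ Subgroup.zpowers D.a := hg.2
    obtain ⟨z, rfl⟩ := (Submonoid.mem_powers_iff _ _).mp (mem_powers_iff_mem_zpowers.mpr hg1)
    have h4 : π (y ^ z) = 1 := (hπN _).mpr hg2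
    rw [map_pow, ← orderOf_dvd_iff_pow_eq_one, ho, ← h3] at h4
    rw [Subgroup.mem_bot]
    exact orderOf_dvd_iff_pow_eq_one.mp h4
  by_cases hvm : v = D.m
  · have h1 : D.b ^ p ^ D.k = 1 := by
      have h2 : D.b ^ p ^ D.k ∈ Subgroup.zpowers (D.a ^ p ^ v) := by
        rw [← hbv]; exact Subgroup.mem_zpowers _
      rw [hvm, ← D.ha, pow_orderOf_eq_one, Subgroup.zpowers_one_eq_bot, Subgroup.mem_bot] at h2
      exact h2
    obtain ⟨ho, hinf⟩ := hyprop D.k le_rfl D.b h1 (by rw [Nat.sub_self, pow_zero, pow_one])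
    refine ⟨Subgroup.zpowers D.a, Subgroup.zpowers D.b, inferInstance, inferInstance, ?_, ?_⟩
    · rw [inf_comm]; exact hinf
    · rw [Nat.card_zpowers, Nat.card_zpowers, D.ha, ho, hcardG]
  by_cases hkv : D.k ≤ v
  · obtain ⟨y, hy1, hy2⟩ := hy D.k le_rfl hkv
    obtain ⟨ho, hinf⟩ := hyprop D.k le_rfl y hy1 hy2
    refine ⟨Subgroup.zpowers D.a, Subgroup.zpowers y, inferInstance, inferInstance, ?_, ?_⟩
    · rw [inf_comm]; exact hinf
    · rw [Nat.card_zpowers, Nat.card_zpowers, D.ha, ho, hcardG]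
  · have hvk : v ≤ D.k := by omega
    obtain ⟨y, hy1, hy2⟩ := hy v hvk le_rfl
    obtain ⟨ho, hinf⟩ := hyprop v hvk y hy1 hy2
    have hob : orderOf D.b = p ^ (D.k + (D.m - v)) := by
      have h1 : orderOf (D.b ^ p ^ D.k) = p ^ (D.m - v) := by
        rw [← Nat.card_zpowers, hbv, Nat.card_zpowers, orderOf_pow_prime_pow hp.out D.ha hv]
      have h2 : p ^ D.k ∣ orderOf D.b := by
        rw [← hπb]; exact orderOf_map_dvd π D.b
      have h3 := orderOf_pow_of_dvd (pow_ne_zero D.k hp.out.ne_zero) h2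
      rw [h1] at h3
      rw [pow_add, h3, Nat.mul_div_cancel' h2]
    refine ⟨Subgroup.zpowers y, Subgroup.zpowers D.b, inferInstance, inferInstance, ?_, ?_⟩
    · by_contra hne
      obtain ⟨u, hu, hI⟩ := exists_eq_zpowers_pow hp.out hob
        (Subgroup.zpowers y ⊓ Subgroup.zpowers D.b) inf_le_right
      have hult : u < D.k + (D.m - v) := by
        by_contra h
        have h1 : u = D.k + (D.m - v) := by omega
        apply hne
        rw [hI, h1, ← hob, pow_orderOf_eq_one, Subgroup.zpowers_one_eq_bot]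
      have hg : D.b ^ p ^ (D.k + (D.m - v) - 1) ∈ Subgroup.zpowers y ⊓ Subgroup.zpowers D.b := by
        rw [hI]; exact pow_mem_zpowers_of_dvd _ (pow_dvd_pow p (by omega))
      have hgN : D.b ^ p ^ (D.k + (D.m - v) - 1) ∈ Subgroup.zpowers D.a :=
        (D.hk _).mpr (pow_dvd_pow p (by omega))
      have hg1 : D.b ^ p ^ (D.k + (D.m - v) - 1)
          ∈ Subgroup.zpowers y ⊓ Subgroup.zpowers D.a := ⟨hg.1, hgN⟩
      rw [hinf, Subgroup.mem_bot, ← orderOf_dvd_iff_pow_eq_one, hob,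
        Nat.pow_dvd_pow_iff_le_right hp.out.one_lt] at hg1
      omega
    · rw [Nat.card_zpowers, Nat.card_zpowers, ho, hob, hcardG, ← pow_add, ← pow_add]
      congr 1
      omega

end MCData

/-- Metacyclic `p`-groups are cyclic or admit metacyclic data (the abelian non-cyclic ones
included). -/
theorem exists_mcdata_or_cyclic {G : Type*} [Group G] [Finite G] {p : ℕ} [hp : Fact p.Prime]
    (hG : IsPGroup p G) (hmc : Cfsg.IsMetacyclic G) : IsCyclic G ∨ Nonempty (MCData G p) := by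
  by_cases hab : ∀ x y : G, x * y = y * x
  swap
  · exact Or.inr (exists_mcdata hG hmc hab)
  obtain ⟨N, hNn, hNc, hQc⟩ := hmc
  haveI := hNc
  haveI := hQc
  obtain ⟨a0, ha0⟩ := IsCyclic.exists_generator (α := N)
  obtain ⟨q, hq⟩ := IsCyclic.exists_generator (α := G ⧸ N)
  obtain ⟨b, rfl⟩ := QuotientGroup.mk_surjective q
  have hNa : Subgroup.zpowers (a0 : G) = N := by
    ext x
    constructor
    · intro hx
      obtain ⟨z, rfl⟩ := Subgroup.mem_zpowers_iff.mp hx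
      exact N.zpow_mem a0.2 z
    · intro hx
      obtain ⟨z, hz⟩ := Subgroup.mem_zpowers_iff.mp (ha0 ⟨x, hx⟩)
      rw [Subgroup.mem_zpowers_iff]
      refine ⟨z, ?_⟩
      have := congrArg Subtype.val hz
      exact (Subgroup.coe_zpow N a0 z).symm.trans this
  obtain ⟨a, ha_def⟩ : ∃ a : G, a = (a0 : G) := ⟨_, rfl⟩
  rw [← ha_def] at hNa
  haveI hNn' : (Subgroup.zpowers a).Normal := by rw [hNa]; exact hNn
  have htop : Subgroup.zpowers a ⊔ Subgroup.zpowers b = ⊤ := by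
    rw [eq_top_iff]
    intro g _
    obtain ⟨z, hz⟩ := Subgroup.mem_zpowers_iff.mp (hq (g : G ⧸ N))
    have h1 : g * (b ^ z)⁻¹ ∈ N := by
      apply (QuotientGroup.eq_one_iff _).mp
      rw [QuotientGroup.mk_mul, QuotientGroup.mk_inv, QuotientGroup.mk_zpow, hz, mul_inv_cancel]
    have h3 : g = g * (b ^ z)⁻¹ * b ^ z := by rw [inv_mul_cancel_right]
    rw [h3]
    exact Subgroup.mul_mem _ (Subgroup.mem_sup_left (by rw [hNa]; exact h1))
      (Subgroup.mem_sup_right (Subgroup.zpow_mem _ (Subgroup.mem_zpowers b) z))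
  obtain ⟨m, hm⟩ : ∃ m, orderOf a = p ^ m := by
    obtain ⟨j, hj⟩ := hG a
    obtain ⟨m, -, hm⟩ := (Nat.dvd_prime_pow hp.out).mp (orderOf_dvd_of_pow_eq_one hj)
    exact ⟨m, hm⟩
  have hapow : a ^ p ^ m = 1 := by rw [← hm]; exact pow_orderOf_eq_one a
  by_cases hm0 : m = 0
  · left
    have ha1 : a = 1 := by
      rw [hm0, pow_zero] at hm; exact orderOf_eq_one_iff.mp hm
    rw [ha1, Subgroup.zpowers_one_eq_bot, bot_sup_eq] at htop
    exact isCyclic_iff_exists_zpowers_eq_top.mpr ⟨b, htop⟩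
  · right
    obtain ⟨k, hk⟩ : ∃ k, orderOf (QuotientGroup.mk' (Subgroup.zpowers a) b) = p ^ k := by
      obtain ⟨j, hj⟩ := hG b
      have h1 : (QuotientGroup.mk' (Subgroup.zpowers a) b) ^ p ^ j = 1 := by
        rw [← map_pow, hj, map_one]
      obtain ⟨k, -, hk⟩ := (Nat.dvd_prime_pow hp.out).mp (orderOf_dvd_of_pow_eq_one h1)
      exact ⟨k, hk⟩
    refine ⟨⟨a, b, m, k, m, 0, 1 + p ^ m, hm, hNn', htop, ?_, ?_, ?_, ?_, rfl, ?_⟩⟩
    · rw [pow_add, pow_one, hapow, mul_one]; exact hab b a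
    · have := pow_pos hp.out.pos m; omega
    · rw [Nat.add_sub_cancel_left]; exact dvd_pow_self p hm0
    · rw [Nat.add_sub_cancel_left, padicValNat.prime_pow]
    · intro j
      rw [← hk, orderOf_dvd_iff_pow_eq_one, ← map_pow]
      exact (QuotientGroup.eq_one_iff _).symm

end Cfsg.Agent.Helper21
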