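import Mathlib
import Cfsg.Prelude
import Cfsg.Agent.Helper21.IrredPrime
import Cfsg.Agent.S0001
import Cfsg.Agent.Lead.Glauberman
import Cfsg.Agent.Lead.SylowSub
import Cfsg.Agent.Lead.Coprime

set_option autoImplicit false
set_option linter.style.haveILetI false

namespace Cfsg.Agent.Helper21

open scoped Pointwise

universe u

/-- Common endgame for the structure of minimal non-`p`-closed-type groups: `G = P N` with `P` a
non-normal Sylow `p`-subgroup, `N` a minimal normal `p'`-subgroup, `p`-subgroups of maximal order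
are normal in proper subgroups, and no nontrivial normal `p`-subgroup. -/
theorem min_structure {G : Type u} [Group G] [Finite G] {p : ℕ} [hpf : Fact p.Prime] (P : Sylow p G)
    (hPn : ¬ (P : Subgroup G).Normal)
    (N : Subgroup G) [hNn : N.Normal] (hpN : ¬ p ∣ Nat.card ↥N) (hN1 : N ≠ ⊥)
    (hNmin : ∀ B : Subgroup G, B.Normal → B ≤ N → B = ⊥ ∨ B = N)
    (hPN : (P : Subgroup G) ⊔ N = ⊤)
    (hK : ∀ H : Subgroup G, H ≠ ⊤ → ∀ R : Subgroup G, R ≤ P → R ≤ H →
      (∀ S : Subgroup G, S ≤ H → IsPGroup p S → Nat.card S ≤ Nat.card R) →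
      H ≤ Subgroup.normalizer (R : Set G))
    (hQ : ∀ R : Subgroup G, R.Normal → R ≤ P → R = ⊥) :
    ∃ q : ℕ, q.Prime ∧ q ≠ p ∧ Nat.card G = p * q ^ orderOf (q : ZMod p) ∧
      ∃ A : Subgroup G, A.Normal ∧ Nat.card ↥A = q ^ orderOf (q : ZMod p) ∧
        Cfsg.IsElementaryAbelian q A ∧
        ∀ B : Subgroup G, B.Normal → B ≤ A → B = ⊥ ∨ B = A := by
  classical
  have hp := hpf.out
  obtain ⟨kP, hkP⟩ := IsPGroup.iff_card.mp P.2
  have hcopPN : (Nat.card (P : Subgroup G)).Coprime (Nat.card N) := by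
    rw [hkP]; exact Nat.Coprime.pow_left _ ((Nat.Prime.coprime_iff_not_dvd hp).mpr hpN)
  have hPNbot : (P : Subgroup G) ⊓ N = ⊥ := Lead.inf_eq_bot_of_coprime hcopPN
  have hNtop : Subgroup.normalizer (N : Set G) = ⊤ := Subgroup.normalizer_eq_top_iff.mpr hNn
  have hcardRN : ∀ R : Subgroup G, R ≤ P →
      Nat.card (R ⊔ N : Subgroup G) = Nat.card N * Nat.card R := by
    intro R hR
    have hcop : (Nat.card R).Coprime (Nat.card N) :=
      Nat.Coprime.coprime_dvd_left (Subgroup.card_dvd_of_le hR) hcopPN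
    have h1 := Lead.relIndex_sup_of_le_normalizer R N (by rw [hNtop]; exact le_top)
    rw [Lead.relIndex_eq_card_of_coprime hcop] at h1
    have h2 := (N.subgroupOf (R ⊔ N)).card_mul_index
    rw [S0001.card_subgroupOf_of_le le_sup_right] at h2
    have h3 : (N.subgroupOf (R ⊔ N)).index = Nat.card R := h1
    rw [h3] at h2
    exact h2.symm
  have hcardG : Nat.card G = Nat.card N * Nat.card (P : Subgroup G) := by
    have := hcardRN P le_rfl
    rw [hPN, Subgroup.card_top] at this
    exact this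
  -- step 2
  have hcent : ∀ R : Subgroup G, R ≤ P → R ≠ P → ∀ n ∈ N, ∀ r ∈ R, n * r = r * n := by
    intro R hR hRP
    have hne : R ⊔ N ≠ ⊤ := by
      intro h
      have h1 := hcardRN R hR
      rw [h, Subgroup.card_top, hcardG] at h1
      have h2 : Nat.card (P : Subgroup G) = Nat.card R :=
        Nat.eq_of_mul_eq_mul_left Nat.card_pos h1
      exact hRP (Subgroup.eq_of_le_of_card_ge hR h2.le)
    have hmaxR : ∀ S : Subgroup G, S ≤ R ⊔ N → IsPGroup p S → Nat.card S ≤ Nat.card R := by
      intro S hS hSp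
      obtain ⟨k, hk⟩ := IsPGroup.iff_card.mp hSp
      have h1 : Nat.card S ∣ Nat.card N * Nat.card R := by
        rw [← hcardRN R hR]; exact Subgroup.card_dvd_of_le hS
      have h2 : (Nat.card S).Coprime (Nat.card N) := by
        rw [hk]; exact Nat.Coprime.pow_left _ ((Nat.Prime.coprime_iff_not_dvd hp).mpr hpN)
      exact Nat.le_of_dvd Nat.card_pos (h2.dvd_of_dvd_mul_left h1)
    have hnorm := hK (R ⊔ N) hne R hR le_sup_left hmaxR
    intro n hn r hr
    have hnR : n ∈ Subgroup.normalizer (R : Set G) := hnorm (Subgroup.mem_sup_right hn)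
    have h1 : n * r * n⁻¹ * r⁻¹ ∈ R :=
      R.mul_mem ((Subgroup.mem_normalizer_iff.mp hnR r).mp hr) (R.inv_mem hr)
    have h2 : n * r * n⁻¹ * r⁻¹ ∈ N := by
      have : n * r * n⁻¹ * r⁻¹ = n * (r * n⁻¹ * r⁻¹) := by group
      rw [this]; exact N.mul_mem hn (hNn.conj_mem _ (N.inv_mem hn) r)
    have h3 : n * r * n⁻¹ * r⁻¹ ∈ (P : Subgroup G) ⊓ N := ⟨hR h1, h2⟩
    rw [hPNbot, Subgroup.mem_bot] at h3
    calc n * r = (n * r * n⁻¹ * r⁻¹) * r * n := by group
      _ = r * n := by rw [h3, one_mul]
  -- step 3 : |P| = p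
  have hPbot : (P : Subgroup G) ≠ ⊥ := by
    intro h; apply hPn; rw [h]; infer_instance
  haveI : Nontrivial ↥(P : Subgroup G) := (Subgroup.nontrivial_iff_ne_bot _).mpr hPbot
  obtain ⟨⟨⟨z, hzP⟩, hzc⟩, hz1⟩ : ∃ z : Subgroup.center ↥(P : Subgroup G), z ≠ 1 := by
    haveI := P.2.center_nontrivial
    exact exists_ne 1
  have hz1' : z ≠ 1 := fun h => hz1 (Subtype.ext (Subtype.ext h))
  have hzcomm : ∀ u ∈ (P : Subgroup G), u * z = z * u := by
    intro u hu
    have := Subgroup.mem_center_iff.mp hzc ⟨u, hu⟩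
    exact congrArg Subtype.val this
  have hoz : orderOf z ≠ 1 := by rwa [Ne, orderOf_eq_one_iff]
  obtain ⟨j, hj⟩ : ∃ j, orderOf z = p ^ j := by
    obtain ⟨k, hk⟩ := P.2 ⟨z, hzP⟩
    have hk' : z ^ p ^ k = 1 := congrArg Subtype.val hk
    obtain ⟨j, -, hj⟩ := (Nat.dvd_prime_pow hp).mp (orderOf_dvd_of_pow_eq_one hk')
    exact ⟨j, hj⟩
  have hj0 : j ≠ 0 := by rintro rfl; exact hoz (by rw [hj, pow_zero])
  obtain ⟨w, hw⟩ : ∃ w, w = z ^ (p ^ (j - 1)) := ⟨_, rfl⟩
  have how : orderOf w = p := by
    apply orderOf_eq_prime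
    · rw [hw, ← pow_mul, ← pow_succ, Nat.sub_add_cancel (Nat.pos_of_ne_zero hj0), ← hj]
      exact pow_orderOf_eq_one z
    · intro h
      rw [hw] at h
      have h1 : orderOf z ∣ p ^ (j - 1) := orderOf_dvd_of_pow_eq_one h
      rw [hj] at h1
      have h2 := Nat.le_of_dvd (pow_pos hp.pos _) h1
      have h3 := (Nat.pow_le_pow_iff_right hp.one_lt).mp h2
      omega
  have hwP : w ∈ (P : Subgroup G) := by rw [hw]; exact Subgroup.pow_mem _ hzP _
  have hwcomm : ∀ u ∈ (P : Subgroup G), u * w = w * u := by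
    intro u hu
    rw [hw]
    exact (Commute.pow_right (show Commute u z from hzcomm u hu) _)
  have hcardP : Nat.card (P : Subgroup G) = p := by
    by_contra hne
    have hRP : Subgroup.zpowers w ≠ (P : Subgroup G) := by
      intro h; apply hne; rw [← h, Nat.card_zpowers, how]
    have hRle : Subgroup.zpowers w ≤ (P : Subgroup G) := by
      rw [Subgroup.zpowers_le]; exact hwP
    have hc := hcent _ hRle hRP
    have hnormal : (Subgroup.zpowers w).Normal := by
      rw [← Subgroup.normalizer_eq_top_iff, eq_top_iff, ← hPN]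
      apply sup_le
      · intro u hu
        apply ip_mem_normalizer
        intro y hy
        obtain ⟨i, hi⟩ := Subgroup.mem_zpowers_iff.mp hy
        have h1 : u * w ^ i = w ^ i * u :=
          (Commute.zpow_right (show Commute u w from hwcomm u hu) i)
        have : u * y * u⁻¹ = y := by rw [← hi, h1]; group
        rw [this]; exact hy
      · intro n hn
        apply ip_mem_normalizer
        intro y hy
        have : n * y * n⁻¹ = y := by rw [hc n hn y hy]; group
        rw [this]; exact hy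
    have hbot := hQ _ hnormal hRle
    rw [Subgroup.zpowers_eq_bot] at hbot
    rw [hbot, orderOf_one] at how
    exact hp.one_lt.ne how
  -- step 5
  haveI : Group.IsNilpotent ↥(P : Subgroup G) := P.2.isNilpotent
  have hsyl : ∀ q : ℕ, q.Prime → q ∣ Nat.card N → ∃ Q : Subgroup G, Q ≤ N ∧
      Nat.card Q = q ^ (Nat.card N).factorization q ∧
      (P : Subgroup G) ≤ Subgroup.normalizer (Q : Set G) := by
    intro q hq hqN
    haveI : Fact q.Prime := ⟨hq⟩
    obtain ⟨Q₁⟩ : Nonempty (Sylow q ↥N) := inferInstance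
    obtain ⟨Q, hQdef⟩ : ∃ Q : Subgroup G, Q = (Q₁ : Subgroup ↥N).map N.subtype := ⟨_, rfl⟩
    have hQN : Q ≤ N := by rw [hQdef]; exact Subgroup.map_subtype_le _
    have hQcard : Nat.card Q = q ^ (Nat.card N).factorization q := by
      rw [hQdef]; exact Lead.card_sylow_map N Q₁
    have hconjle : ∀ a : G, MulAut.conj a • Q ≤ N := by
      intro a y hy
      rw [Lead.mem_conj_smul'] at hy
      have := hNn.conj_mem _ (hQN hy) a
      have e : a * (a⁻¹ * y * a) * a⁻¹ = y := by group
      rwa [e] at this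
    have hconj : ∀ a ∈ (P : Subgroup G), ∃ k ∈ N, MulAut.conj a • Q = MulAut.conj k • Q := by
      intro a _
      have h2 : Nat.card (MulAut.conj a • Q : Subgroup G) = q ^ (Nat.card N).factorization q := by
        rw [S0001.card_conj_smul, hQcard]
      obtain ⟨k, hk, hkeq⟩ := Lead.exists_conj_eq_of_card N Q₁ (MulAut.conj a • Q) (hconjle a) h2
      exact ⟨k, hk, by rw [hkeq, hQdef]⟩
    obtain ⟨n, hn, hnP⟩ := Lead.exists_conj_normalized (P : Subgroup G) N
      (by rw [hNtop]; exact le_top) hcopPN (Or.inl inferInstance) Q hconj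
    exact ⟨MulAut.conj n • Q, hconjle n, by rw [S0001.card_conj_smul, hQcard], hnP⟩
  have hdich : ∀ q : ℕ, q.Prime → q ∣ Nat.card N → ∀ Q : Subgroup G, Q ≤ N →
      Nat.card Q = q ^ (Nat.card N).factorization q →
      (P : Subgroup G) ≤ Subgroup.normalizer (Q : Set G) →
      Q = N ∨ (∀ u ∈ (P : Subgroup G), ∀ y ∈ Q, u * y = y * u) := by
    intro q hq hqN Q hQN hQcard hPQ
    by_cases htop : (P : Subgroup G) ⊔ Q = ⊤
    · left
      have hQnormal : Q.Normal := by
        rw [← Subgroup.normalizer_eq_top_iff, eq_top_iff, ← htop]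
        exact sup_le hPQ Subgroup.le_normalizer
      have hQbot : Q ≠ ⊥ := by
        intro h
        rw [h, Subgroup.card_bot] at hQcard
        have hfact : 0 < (Nat.card N).factorization q :=
          hq.factorization_pos_of_dvd Nat.card_pos.ne' hqN
        have := Nat.one_lt_pow hfact.ne' hq.one_lt
        omega
      exact (hNmin Q hQnormal hQN).resolve_left hQbot
    · right
      have hmaxP : ∀ S : Subgroup G, S ≤ (P : Subgroup G) ⊔ Q → IsPGroup p S →
          Nat.card S ≤ Nat.card (P : Subgroup G) := by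
        intro S _ hS
        obtain ⟨P', hP'⟩ := hS.exists_le_sylow
        calc Nat.card S ≤ Nat.card (P' : Subgroup G) := Subgroup.card_le_of_le hP'
          _ = Nat.card (P : Subgroup G) := by
            rw [P'.card_eq_multiplicity, P.card_eq_multiplicity]
      have hnorm := hK _ htop (P : Subgroup G) le_rfl le_sup_left hmaxP
      intro u hu y hy
      have hyP : y ∈ Subgroup.normalizer ((P : Subgroup G) : Set G) :=
        hnorm (Subgroup.mem_sup_right hy)
      have h1 : y * u * y⁻¹ * u⁻¹ ∈ (P : Subgroup G) :=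
        (P : Subgroup G).mul_mem ((Subgroup.mem_normalizer_iff.mp hyP u).mp hu)
          ((P : Subgroup G).inv_mem hu)
      have h2 : y * u * y⁻¹ * u⁻¹ ∈ Q := by
        have : y * u * y⁻¹ * u⁻¹ = y * (u * y⁻¹ * u⁻¹) := by group
        rw [this]
        exact Q.mul_mem hy ((Subgroup.mem_normalizer_iff.mp (hPQ hu) y⁻¹).mp (Q.inv_mem hy))
      have h3 : y * u * y⁻¹ * u⁻¹ ∈ (P : Subgroup G) ⊓ N := ⟨h1, hQN h2⟩
      rw [hPNbot, Subgroup.mem_bot] at h3
      calc u * y = (y * u * y⁻¹ * u⁻¹)⁻¹ * y * u := by group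
        _ = y * u := by rw [h3]; group
  have hexq : ∃ q : ℕ, q.Prime ∧ q ∣ Nat.card N ∧ ∃ k, Nat.card N = q ^ k := by
    by_contra hcon
    apply hPn
    have hNC : N ≤ Subgroup.centralizer ((P : Subgroup G) : Set G) := by
      have hidx : (Subgroup.centralizer ((P : Subgroup G) : Set G) ⊓ N).relIndex N = 1 := by
        by_contra hne
        obtain ⟨q, hq, hqd⟩ := Nat.exists_prime_and_dvd hne
        have hqN : q ∣ Nat.card N := hqd.trans (Subgroup.relIndex_dvd_card _ _)
        obtain ⟨Q, hQN, hQcard, hPQ⟩ := hsyl q hq hqN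
        rcases hdich q hq hqN Q hQN hQcard hPQ with h | h
        · exact hcon ⟨q, hq, hqN, _, h ▸ hQcard⟩
        · have hQle : Q ≤ Subgroup.centralizer ((P : Subgroup G) : Set G) ⊓ N := by
            intro y hy
            refine Subgroup.mem_inf.mpr ⟨?_, hQN hy⟩
            rw [Subgroup.mem_centralizer_iff]
            intro u hu
            exact h u hu y hy
          have h1 : (Subgroup.centralizer ((P : Subgroup G) : Set G) ⊓ N).relIndex N ∣
              Q.relIndex N := Subgroup.relIndex_dvd_of_le_left N hQle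
          have h2 : Nat.card Q * Q.relIndex N = Nat.card N := by
            have := (Q.subgroupOf N).card_mul_index
            rwa [S0001.card_subgroupOf_of_le hQN] at this
          have h3 : ¬ q ∣ Q.relIndex N := by
            intro hd
            obtain ⟨c, hc⟩ := hd
            have : q ^ ((Nat.card N).factorization q + 1) ∣ Nat.card N :=
              ⟨c, by
                calc Nat.card N = Nat.card Q * Q.relIndex N := h2.symm
                  _ = q ^ ((Nat.card N).factorization q + 1) * c := by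
                    rw [hQcard, hc, pow_succ]; ring⟩
            exact (Nat.pow_succ_factorization_not_dvd Nat.card_pos.ne' hq) this
          exact h3 (hqd.trans h1)
      rw [Subgroup.relIndex_eq_one] at hidx
      exact hidx.trans inf_le_left
    rw [← Subgroup.normalizer_eq_top_iff, eq_top_iff, ← hPN]
    apply sup_le Subgroup.le_normalizer
    intro n hn
    apply ip_mem_normalizer
    intro u hu
    have := Subgroup.mem_centralizer_iff.mp (hNC hn) u hu
    have e : n * u * n⁻¹ = u := by rw [← this]; group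
    rw [e]; exact hu
  obtain ⟨q, hq, hqN, k, hk⟩ := hexq
  haveI : Fact q.Prime := ⟨hq⟩
  have hqp : q ≠ p := by rintro rfl; exact hpN hqN
  have hNq : IsPGroup q ↥N := IsPGroup.of_card hk
  -- step 6
  have hNab : IsMulCommutative ↥N := by
    haveI : Group.IsNilpotent ↥N := hNq.isNilpotent
    exact S0001.abelian_of_minimal_solvable N hN1 inferInstance
      (fun M' hM' hM'1 hM'N => by
        rcases hNmin M' hM' hM'N with h | h
        · exact absurd h hM'1
        · exact h.ge)
  have hNcomm : ∀ a ∈ N, ∀ b ∈ N, a * b = b * a := by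
    intro a ha b hb
    have := hNab.is_comm.comm ⟨a, ha⟩ ⟨b, hb⟩
    exact congrArg Subtype.val this
  have hexpq : ∀ a ∈ N, a ^ q = 1 := by
    let Ω : Subgroup G :=
      { carrier := {g | g ∈ N ∧ g ^ q = 1}
        mul_mem' := by
          rintro a b ⟨ha, ha'⟩ ⟨hb, hb'⟩
          refine ⟨N.mul_mem ha hb, ?_⟩
          rw [Commute.mul_pow (show Commute a b from hNcomm a ha b hb), ha', hb', one_mul]
        one_mem' := ⟨N.one_mem, one_pow _⟩
        inv_mem' := by
          rintro a ⟨ha, ha'⟩
          exact ⟨N.inv_mem ha, by rw [inv_pow, ha', inv_one]⟩ }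
    have hΩn : Ω.Normal := by
      refine ⟨fun a ha g => ?_⟩
      obtain ⟨ha1, ha2⟩ := ha
      exact ⟨hNn.conj_mem a ha1 g, by rw [conj_pow, ha2, mul_one, mul_inv_cancel]⟩
    have hΩN : Ω ≤ N := fun a ha => ha.1
    have hΩ1 : Ω ≠ ⊥ := by
      obtain ⟨x, hx⟩ := exists_prime_orderOf_dvd_card' (G := ↥N) q hqN
      intro h
      have hxΩ : (x : G) ∈ Ω := by
        refine ⟨x.2, ?_⟩
        have : x ^ q = 1 := by rw [← hx]; exact pow_orderOf_eq_one x
        exact congrArg Subtype.val this
      rw [h, Subgroup.mem_bot] at hxΩ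
      have hx1 : x = 1 := Subtype.ext hxΩ
      rw [hx1, orderOf_one] at hx
      exact hq.one_lt.ne hx
    have hΩeq := (hNmin Ω hΩn hΩN).resolve_left hΩ1
    intro a ha
    have : a ∈ Ω := by rw [hΩeq]; exact ha
    exact this.2
  have hEA : Cfsg.IsElementaryAbelian q N := ⟨hNab, hexpq⟩
  -- step 7
  have hna : ¬ IsMulCommutative G := by
    intro hc
    apply hPn
    refine ⟨fun n hn g => ?_⟩
    have := hc.is_comm.comm g n
    have e : g * n * g⁻¹ = n := by rw [this]; group
    rw [e]; exact hn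
  have hidx : N.index = p := by
    have h1 := N.card_mul_index
    rw [hcardG, hcardP] at h1
    exact Nat.eq_of_mul_eq_mul_left Nat.card_pos h1
  have hcore := minNonPClosed_core hq hqp hna N hEA hidx hNmin
  refine ⟨q, hq, hqp, ?_, N, hNn, hcore.1, hEA, hNmin⟩
  rw [hcardG, hcardP, hcore.1, mul_comm]

end Cfsg.Agent.Helper21
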