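import Mathlib
import Cfsg.Agent.Helper18.NilCover

set_option autoImplicit false

namespace Cfsg.Agent.Helper21

/-- Abstract criterion: two non-commuting `p`-elements whose centralizers lie in a common proper
subgroup exclude nilpotent minimal covers (when `p`-subgroups are abelian). -/
theorem nc_no_cover {G : Type*} [Group G] [Finite G] {p : ℕ} [Fact p.Prime]
    (hab : ∀ Q : Subgroup G, IsPGroup p Q → ∀ a ∈ Q, ∀ b ∈ Q, a * b = b * a)
    (x y : G) (hx : x ^ p = 1) (hy : y ^ p = 1) (hxy : x * y ≠ y * x)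
    (H : Subgroup G) (hH : H ≠ ⊤)
    (hxH : ∀ g : G, g * x = x * g → g ∈ H) (hyH : ∀ g : G, g * y = y * g → g ∈ H) :
    ¬ ∃ 𝓐 : Finset (Subgroup G), ((∀ A ∈ 𝓐, A ≠ ⊤) ∧ (∀ g : G, ∃ A ∈ 𝓐, g ∈ A)) ∧
      (∀ 𝓑 : Finset (Subgroup G), (∀ A ∈ 𝓑, A ≠ ⊤) ∧ (∀ g : G, ∃ A ∈ 𝓑, g ∈ A) →
        𝓐.card ≤ 𝓑.card) ∧ (∀ A ∈ 𝓐, Group.IsNilpotent ↥A) := by
  rintro ⟨𝓐, ⟨hprop, hcov⟩, hmin, hnil⟩
  obtain ⟨A₁, hA₁, hxA₁⟩ := hcov x
  obtain ⟨A₂, hA₂, hyA₂⟩ := hcov y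
  have hx1 : x ^ (p ^ 1) = 1 := by rw [pow_one]; exact hx
  have hy1 : y ^ (p ^ 1) = 1 := by rw [pow_one]; exact hy
  have l1 : A₁ ≤ H := fun a ha =>
    hxH a (Cfsg.Agent.Helper18.nc_central hab A₁ (hnil A₁ hA₁) hxA₁ hx1 ha)
  have l2 : A₂ ≤ H := fun a ha =>
    hyH a (Cfsg.Agent.Helper18.nc_central hab A₂ (hnil A₂ hA₂) hyA₂ hy1 ha)
  have heq := Cfsg.Agent.Helper18.nc_le_unique 𝓐 hprop hcov hmin hH hA₁ hA₂ l1 l2
  have hyA₁ : y ∈ A₁ := heq ▸ hyA₂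
  exact hxy (Cfsg.Agent.Helper18.nc_central hab A₁ (hnil A₁ hA₁) hyA₁ hy1 hxA₁)

/-- A `p`-subgroup of `S_n` with `n < 2p` has order dividing `p`. -/
theorem perm_pgroup_card {n p : ℕ} [hp : Fact p.Prime] (hn2p : n < 2 * p)
    (Q : Subgroup (Equiv.Perm (Fin n))) (hQ : IsPGroup p Q) : Nat.card Q ∣ p := by
  obtain ⟨k, hk⟩ := IsPGroup.iff_card.mp hQ
  have hdvd : Nat.card Q ∣ n.factorial := by
    have h1 := Subgroup.card_subgroup_dvd_card Q
    rwa [Nat.card_perm, Nat.card_fin] at h1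
  rw [hk] at hdvd ⊢
  have hk1 : k ≤ 1 := by
    by_contra hcon
    have h2 : p ^ 2 ∣ n.factorial := (pow_dvd_pow p (by omega)).trans hdvd
    have hp2 := hp.out.two_le
    by_cases hn0 : n = 0
    · subst hn0
      have h3 : p ^ 2 ∣ 1 := by simpa using h2
      have h4 := Nat.le_of_dvd one_pos h3
      nlinarith
    · have hlog : Nat.log p n < 2 := Nat.log_lt_of_lt_pow hn0 (by nlinarith)
      have h3 := (Nat.Prime.pow_dvd_factorial_iff hp.out hlog).mp h2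
      have h4 : ∑ i ∈ Finset.Ico 1 2, n / p ^ i = n / p := by
        rw [Finset.sum_eq_single 1]
        · rw [pow_one]
        · intro b hb hb1
          rw [Finset.mem_Ico] at hb
          omega
        · intro h
          exfalso; apply h; rw [Finset.mem_Ico]; omega
      rw [h4] at h3
      have h5 : n / p < 2 := Nat.div_lt_of_lt_mul (by linarith)
      omega
  have hk01 : k = 0 ∨ k = 1 := by omega
  rcases hk01 with rfl | rfl
  · rw [pow_zero]; exact one_dvd p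
  · rw [pow_one]

/-- A subgroup of order dividing a prime is commutative. -/
theorem comm_of_card_dvd_prime {G : Type*} [Group G] {p : ℕ} [hp : Fact p.Prime]
    (Q : Subgroup G) (h : Nat.card Q ∣ p) : ∀ a ∈ Q, ∀ b ∈ Q, a * b = b * a := by
  rcases (Nat.dvd_prime hp.out).mp h with h1 | h1
  · have hbot : Q = ⊥ := Subgroup.card_eq_one.mp h1
    intro a ha b hb
    rw [hbot, Subgroup.mem_bot] at ha hb
    rw [ha, hb]
  · have hcyc : IsCyclic ↥Q := isCyclic_of_prime_card h1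
    obtain ⟨g, hg⟩ := IsCyclic.exists_generator (α := ↥Q)
    intro a ha b hb
    obtain ⟨i, hi⟩ := Subgroup.mem_zpowers_iff.mp (hg ⟨a, ha⟩)
    obtain ⟨j, hj⟩ := Subgroup.mem_zpowers_iff.mp (hg ⟨b, hb⟩)
    have h2 : (⟨a, ha⟩ : ↥Q) * ⟨b, hb⟩ = ⟨b, hb⟩ * ⟨a, ha⟩ := by
      rw [← hi, ← hj, ← zpow_add, ← zpow_add, add_comm]
    exact congrArg Subtype.val h2

/-- `p`-subgroups are abelian in any group embedded in `S_n` with `n < 2p`. -/
theorem hab_of_inj {G : Type*} [Group G] {n p : ℕ} [hp : Fact p.Prime] (hn2p : n < 2 * p)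
    (ι : G →* Equiv.Perm (Fin n)) (hι : Function.Injective ι) :
    ∀ Q : Subgroup G, IsPGroup p Q → ∀ a ∈ Q, ∀ b ∈ Q, a * b = b * a := by
  intro Q hQ
  have h1 : Nat.card ↥(Q.map ι) ∣ p := perm_pgroup_card hn2p (Q.map ι) (hQ.map ι)
  rw [Subgroup.card_map_of_injective hι] at h1
  exact comm_of_card_dvd_prime Q h1

/-- A permutation of odd prime order is even. -/
theorem perm_sign_of_pow_prime {n p : ℕ} [hp : Fact p.Prime] (hp2 : p ≠ 2)
    (σ : Equiv.Perm (Fin n)) (hσ : σ ^ p = 1) : Equiv.Perm.sign σ = 1 := by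
  have h1 := congrArg Equiv.Perm.sign hσ
  rw [map_pow, map_one] at h1
  rcases Int.units_eq_one_or (Equiv.Perm.sign σ) with h | h
  · exact h
  · rw [h, Odd.neg_one_pow (hp.out.odd_of_ne_two hp2)] at h1
    exact absurd h1 (by decide)

/-- If `σ ^ p = 1` and `σ ^ k` fixes `a` with `k` prime to `p`, then `σ` fixes `a`. -/
theorem perm_fix_of_pow_coprime {n p : ℕ} [hp : Fact p.Prime] (σ : Equiv.Perm (Fin n))
    (hσ : σ ^ p = 1) (k : ℕ) (hk : Nat.Coprime k p) (a : Fin n) (h : (σ ^ k) a = a) :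
    σ a = a := by
  by_cases h1 : σ = 1
  · rw [h1]; rfl
  · have ho : orderOf σ = p := orderOf_eq_prime hσ h1
    obtain ⟨m, hm⟩ := exists_pow_eq_self_of_coprime (x := σ) (n := k) (by rw [ho]; exact hk)
    have h2 := Equiv.Perm.pow_apply_eq_self_of_apply_eq_self h m
    rw [hm] at h2
    exact h2

/-- A group between `A_n` and `S_n` has no nilpotent minimal cover, when there is a prime
`5 ≤ p < n < 2p`. -/
theorem nc_perm {G : Type*} [Group G] [Finite G] (n : ℕ) (ι : G →* Equiv.Perm (Fin n))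
    (hι : Function.Injective ι) (hA : alternatingGroup (Fin n) ≤ ι.range)
    (p : ℕ) [hp : Fact p.Prime] (hp5 : 5 ≤ p) (hpn : p < n) (hn2p : n < 2 * p) :
    ¬ ∃ 𝓐 : Finset (Subgroup G), ((∀ A ∈ 𝓐, A ≠ ⊤) ∧ (∀ g : G, ∃ A ∈ 𝓐, g ∈ A)) ∧
      (∀ 𝓑 : Finset (Subgroup G), (∀ A ∈ 𝓑, A ≠ ⊤) ∧ (∀ g : G, ∃ A ∈ 𝓑, g ∈ A) →
        𝓐.card ≤ 𝓑.card) ∧ (∀ A ∈ 𝓐, Group.IsNilpotent ↥A) := by
  classical
  have hab := hab_of_inj (p := p) hn2p ι hι
  have hdvd : p ∣ Nat.card (Equiv.Perm (Fin n)) := by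
    rw [Nat.card_perm, Nat.card_fin]
    exact (Nat.Prime.dvd_factorial hp.out).mpr hpn.le
  obtain ⟨σ, hσo⟩ := exists_prime_orderOf_dvd_card' p hdvd
  have hσp : σ ^ p = 1 := by rw [← hσo]; exact pow_orderOf_eq_one σ
  have hσ1 : σ ≠ 1 := by
    intro h
    rw [h, orderOf_one] at hσo
    omega
  have hp2 : p ≠ 2 := by omega
  have hsσ : Equiv.Perm.sign σ = 1 := perm_sign_of_pow_prime hp2 σ hσp
  obtain ⟨a, ha⟩ : ∃ a, σ a ≠ a := by
    by_contra hcon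
    exact hσ1 (Equiv.ext fun c => not_not.mp (fun h => hcon ⟨c, h⟩))
  have h2 : σ (σ a) ≠ a := by
    intro h
    apply ha
    apply perm_fix_of_pow_coprime σ hσp 2 _ a
    · rw [pow_two]; exact h
    · exact (Nat.coprime_primes Nat.prime_two hp.out).mpr (Ne.symm hp2)
  have h3 : σ (σ (σ a)) ≠ a := by
    intro h
    apply ha
    apply perm_fix_of_pow_coprime σ hσp 3 _ a
    · rw [pow_succ, pow_two]; exact h
    · exact (Nat.coprime_primes Nat.prime_three hp.out).mpr (by omega)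
  have h12 : σ (σ a) ≠ σ a := fun h => ha (σ.injective h)
  obtain ⟨c₀, hc₀⟩ : ∃ c, σ c = c := by
    apply Equiv.Perm.exists_fixed_point_of_prime (p := p) (n := 1)
    · rw [Fintype.card_fin]
      intro hd
      have h4 := Nat.dvd_sub hd (dvd_refl p)
      exact Nat.not_dvd_of_pos_of_lt (by omega) (by omega) h4
    · rw [pow_one]; exact hσp
  have hc₀a : c₀ ≠ a := fun h => ha (h ▸ hc₀)
  have hc₀1 : c₀ ≠ σ a := fun h => h12 (by rw [← h]; exact hc₀)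
  have hc₀2 : c₀ ≠ σ (σ a) := fun h => h12 (σ.injective (by rw [← h]; exact hc₀))
  -- the stabilizer of the fixed point set of σ
  let H₀ : Subgroup (Equiv.Perm (Fin n)) :=
    { carrier := {g | ∀ c, σ (g c) = g c ↔ σ c = c}
      mul_mem' := by
        intro g h hg hh c
        rw [Equiv.Perm.mul_apply, hg (h c), hh c]
      one_mem' := by
        intro c
        exact Iff.rfl
      inv_mem' := by
        intro g hg c
        have h5 := hg (g⁻¹ c)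
        rw [Equiv.Perm.coe_inv, Equiv.apply_symm_apply] at h5
        rw [Equiv.Perm.coe_inv]
        exact h5.symm }
  have hH₀ : ∀ g : Equiv.Perm (Fin n), g ∈ H₀ ↔ ∀ c, σ (g c) = g c ↔ σ c = c :=
    fun g => Iff.rfl
  have hcent : ∀ g : Equiv.Perm (Fin n), g * σ = σ * g → g ∈ H₀ := by
    intro g hg
    rw [hH₀]
    intro c
    have e : σ (g c) = g (σ c) := by
      have h5 := congrArg (fun f : Equiv.Perm (Fin n) => f c) hg
      simp only [Equiv.Perm.mul_apply] at h5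
      exact h5.symm
    rw [e]
    exact g.injective.eq_iff
  obtain ⟨g₀, hg₀⟩ : ∃ g₀ : Equiv.Perm (Fin n), g₀ = Equiv.swap a (σ a) := ⟨_, rfl⟩
  have hg₀a : g₀ a = σ a := by rw [hg₀, Equiv.swap_apply_left]
  have hg₀a1 : g₀ (σ a) = a := by rw [hg₀, Equiv.swap_apply_right]
  have hg₀ne : ∀ c, c ≠ a → c ≠ σ a → g₀ c = c := by
    intro c h5 h6
    rw [hg₀, Equiv.swap_apply_of_ne_of_ne h5 h6]
  have hg₀inv : g₀⁻¹ = g₀ := by rw [hg₀, Equiv.swap_inv]
  have hg₀s : Equiv.Perm.sign g₀ = -1 := by rw [hg₀, Equiv.Perm.sign_swap (Ne.symm ha)]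
  have hg₀H : g₀ ∈ H₀ := by
    rw [hH₀]
    intro c
    by_cases hca : c = a
    · rw [hca, hg₀a]
      exact ⟨fun h => absurd h h12, fun h => absurd h ha⟩
    · by_cases hca1 : c = σ a
      · rw [hca1, hg₀a1]
        exact ⟨fun h => absurd h ha, fun h => absurd h h12⟩
      · rw [hg₀ne c hca hca1]
  have hσA : σ ∈ alternatingGroup (Fin n) := Equiv.Perm.mem_alternatingGroup.mpr hsσ
  obtain ⟨x, hx⟩ := MonoidHom.mem_range.mp (hA hσA)
  have hτA : g₀ * σ * g₀⁻¹ ∈ alternatingGroup (Fin n) := by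
    rw [Equiv.Perm.mem_alternatingGroup, map_mul, map_mul, map_inv, hsσ, mul_one,
      mul_inv_cancel]
  obtain ⟨y, hy⟩ := MonoidHom.mem_range.mp (hA hτA)
  have hxp : x ^ p = 1 := hι (by rw [map_pow, hx, hσp, map_one])
  have hyp : y ^ p = 1 :=
    hι (by rw [map_pow, hy, conj_pow, hσp, mul_one, mul_inv_cancel, map_one])
  have hxy : x * y ≠ y * x := by
    intro h
    have h' := congrArg ι h
    rw [map_mul, map_mul, hx, hy] at h'
    have e1 : (σ * (g₀ * σ * g₀⁻¹)) a = σ (σ (σ a)) := by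
      rw [hg₀inv]
      simp only [Equiv.Perm.mul_apply]
      rw [hg₀a, hg₀ne _ h2 h12]
    have e2 : (g₀ * σ * g₀⁻¹ * σ) a = a := by
      rw [hg₀inv]
      simp only [Equiv.Perm.mul_apply]
      rw [hg₀a1, hg₀a1]
    rw [h', e2] at e1
    exact h3 e1.symm
  have hH : H₀.comap ι ≠ ⊤ := by
    intro htop
    have hkA : Equiv.swap c₀ a * Equiv.swap (σ a) (σ (σ a)) ∈ alternatingGroup (Fin n) := by
      rw [Equiv.Perm.mem_alternatingGroup, map_mul, Equiv.Perm.sign_swap hc₀a,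
        Equiv.Perm.sign_swap (Ne.symm h12)]
      rfl
    obtain ⟨k, hk⟩ := MonoidHom.mem_range.mp (hA hkA)
    have hk1 : k ∈ H₀.comap ι := htop ▸ Subgroup.mem_top k
    rw [Subgroup.mem_comap, hk, hH₀] at hk1
    have h5 := hk1 c₀
    rw [Equiv.Perm.mul_apply, Equiv.swap_apply_of_ne_of_ne hc₀1 hc₀2,
      Equiv.swap_apply_left] at h5
    exact ha (h5.mpr hc₀)
  have hxH : ∀ g : G, g * x = x * g → g ∈ H₀.comap ι := by
    intro g hg
    rw [Subgroup.mem_comap]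
    apply hcent
    have h5 := congrArg ι hg
    rw [map_mul, map_mul, hx] at h5
    exact h5
  have hyH : ∀ g : G, g * y = y * g → g ∈ H₀.comap ι := by
    intro g hg
    rw [Subgroup.mem_comap]
    have h5 := congrArg ι hg
    rw [map_mul, map_mul, hy] at h5
    have h6 : g₀⁻¹ * ι g * g₀ * σ = σ * (g₀⁻¹ * ι g * g₀) := by
      have h7 : g₀⁻¹ * (ι g * (g₀ * σ * g₀⁻¹)) * g₀ = g₀⁻¹ * (g₀ * σ * g₀⁻¹ * ι g) * g₀ := by
        rw [h5]
      simpa [mul_assoc] using h7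
    have h8 := hcent _ h6
    have h9 : ι g = g₀ * (g₀⁻¹ * ι g * g₀) * g₀⁻¹ := by group
    rw [h9]
    exact H₀.mul_mem (H₀.mul_mem hg₀H h8) (H₀.inv_mem hg₀H)
  exact nc_no_cover hab x y hxp hyp hxy (H₀.comap ι) hH hxH hyH

/-- Bertrand: for `n ≥ 6` there is a prime `5 ≤ p < n < 2p`. -/
theorem bertrand_mid (n : ℕ) (hn : 6 ≤ n) : ∃ p, p.Prime ∧ 5 ≤ p ∧ p < n ∧ n < 2 * p := by
  obtain ⟨p, hp, h1, h2⟩ := Nat.exists_prime_lt_and_le_two_mul (n / 2) (by omega)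
  refine ⟨p, hp, ?_, ?_, by omega⟩
  · have h4 : 4 ≤ p := by omega
    rcases Nat.eq_or_lt_of_le h4 with h | h
    · rw [← h] at hp
      exact absurd hp (by norm_num)
    · exact h
  · by_contra hcon
    have h3 : p = 2 * (n / 2) := by omega
    have h4 : 2 ∣ p := ⟨n / 2, h3⟩
    rcases (Nat.dvd_prime hp).mp h4 with h | h
    · omega
    · omega

set_option maxRecDepth 100000 in
theorem sym4_cent_a : ∀ g : Equiv.Perm (Fin 4),
    g * (Equiv.swap 0 1 * Equiv.swap 1 2) = (Equiv.swap 0 1 * Equiv.swap 1 2) * g →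
    Equiv.Perm.sign g = 1 := by
  decide

set_option maxRecDepth 100000 in
theorem sym4_cent_b : ∀ g : Equiv.Perm (Fin 4),
    g * (Equiv.swap 0 1 * Equiv.swap 1 3) = (Equiv.swap 0 1 * Equiv.swap 1 3) * g →
    Equiv.Perm.sign g = 1 := by
  decide

/-- `S₄` has no nilpotent minimal cover. -/
theorem nc_sym4 : ¬ ∃ 𝓐 : Finset (Subgroup (Equiv.Perm (Fin 4))),
    ((∀ A ∈ 𝓐, A ≠ ⊤) ∧ (∀ g : Equiv.Perm (Fin 4), ∃ A ∈ 𝓐, g ∈ A)) ∧
      (∀ 𝓑 : Finset (Subgroup (Equiv.Perm (Fin 4))),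
        (∀ A ∈ 𝓑, A ≠ ⊤) ∧ (∀ g : Equiv.Perm (Fin 4), ∃ A ∈ 𝓑, g ∈ A) →
        𝓐.card ≤ 𝓑.card) ∧ (∀ A ∈ 𝓐, Group.IsNilpotent ↥A) := by
  have hfact : Fact (Nat.Prime 3) := ⟨Nat.prime_three⟩
  have hab := hab_of_inj (p := 3) (n := 4) (by norm_num) (MonoidHom.id _) Function.injective_id
  refine nc_no_cover hab (Equiv.swap 0 1 * Equiv.swap 1 2) (Equiv.swap 0 1 * Equiv.swap 1 3)
    (by decide) (by decide) (by decide) (alternatingGroup (Fin 4)) ?_ ?_ ?_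
  · intro h
    have h1 : Equiv.swap (0 : Fin 4) 1 ∈ alternatingGroup (Fin 4) := h ▸ Subgroup.mem_top _
    rw [Equiv.Perm.mem_alternatingGroup, Equiv.Perm.sign_swap (by decide)] at h1
    exact absurd h1 (by decide)
  · exact fun g hg => Equiv.Perm.mem_alternatingGroup.mpr (sym4_cent_a g hg)
  · exact fun g hg => Equiv.Perm.mem_alternatingGroup.mpr (sym4_cent_b g hg)

set_option maxRecDepth 100000 in
theorem sym5_cent_a : ∀ g : Equiv.Perm (Fin 5),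
    g * (Equiv.swap 0 1 * Equiv.swap 1 2 * Equiv.swap 2 3 * Equiv.swap 3 4) =
      (Equiv.swap 0 1 * Equiv.swap 1 2 * Equiv.swap 2 3 * Equiv.swap 3 4) * g →
    Equiv.Perm.sign g = 1 := by
  decide

set_option maxRecDepth 100000 in
theorem sym5_cent_b : ∀ g : Equiv.Perm (Fin 5),
    g * (Equiv.swap 0 1 * Equiv.swap 1 3 * Equiv.swap 3 2 * Equiv.swap 2 4) =
      (Equiv.swap 0 1 * Equiv.swap 1 3 * Equiv.swap 3 2 * Equiv.swap 2 4) * g →
    Equiv.Perm.sign g = 1 := by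
  decide

/-- `S₅` has no nilpotent minimal cover. -/
theorem nc_sym5 : ¬ ∃ 𝓐 : Finset (Subgroup (Equiv.Perm (Fin 5))),
    ((∀ A ∈ 𝓐, A ≠ ⊤) ∧ (∀ g : Equiv.Perm (Fin 5), ∃ A ∈ 𝓐, g ∈ A)) ∧
      (∀ 𝓑 : Finset (Subgroup (Equiv.Perm (Fin 5))),
        (∀ A ∈ 𝓑, A ≠ ⊤) ∧ (∀ g : Equiv.Perm (Fin 5), ∃ A ∈ 𝓑, g ∈ A) →
        𝓐.card ≤ 𝓑.card) ∧ (∀ A ∈ 𝓐, Group.IsNilpotent ↥A) := by
  have hfact : Fact (Nat.Prime 5) := ⟨by norm_num⟩
  have hab := hab_of_inj (p := 5) (n := 5) (by norm_num) (MonoidHom.id _) Function.injective_id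
  refine nc_no_cover hab (Equiv.swap 0 1 * Equiv.swap 1 2 * Equiv.swap 2 3 * Equiv.swap 3 4)
    (Equiv.swap 0 1 * Equiv.swap 1 3 * Equiv.swap 3 2 * Equiv.swap 2 4)
    (by decide) (by decide) (by decide) (alternatingGroup (Fin 5)) ?_ ?_ ?_
  · intro h
    have h1 : Equiv.swap (0 : Fin 5) 1 ∈ alternatingGroup (Fin 5) := h ▸ Subgroup.mem_top _
    rw [Equiv.Perm.mem_alternatingGroup, Equiv.Perm.sign_swap (by decide)] at h1
    exact absurd h1 (by decide)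
  · exact fun g hg => Equiv.Perm.mem_alternatingGroup.mpr (sym5_cent_a g hg)
  · exact fun g hg => Equiv.Perm.mem_alternatingGroup.mpr (sym5_cent_b g hg)

set_option maxRecDepth 100000 in
theorem alt5_cent_a : ∀ g : Equiv.Perm (Fin 5),
    g * (Equiv.swap 0 1 * Equiv.swap 1 2) = (Equiv.swap 0 1 * Equiv.swap 1 2) * g →
    Equiv.Perm.sign g = 1 → g 4 = 4 := by
  decide

set_option maxRecDepth 100000 in
theorem alt5_cent_b : ∀ g : Equiv.Perm (Fin 5),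
    g * (Equiv.swap 0 1 * Equiv.swap 1 3) = (Equiv.swap 0 1 * Equiv.swap 1 3) * g →
    Equiv.Perm.sign g = 1 → g 4 = 4 := by
  decide

theorem alt5_mem_a : (Equiv.swap 0 1 * Equiv.swap 1 2 : Equiv.Perm (Fin 5)) ∈
    alternatingGroup (Fin 5) := by
  rw [Equiv.Perm.mem_alternatingGroup]; decide

theorem alt5_mem_b : (Equiv.swap 0 1 * Equiv.swap 1 3 : Equiv.Perm (Fin 5)) ∈
    alternatingGroup (Fin 5) := by
  rw [Equiv.Perm.mem_alternatingGroup]; decide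

theorem alt5_mem_c : (Equiv.swap 2 3 * Equiv.swap 3 4 : Equiv.Perm (Fin 5)) ∈
    alternatingGroup (Fin 5) := by
  rw [Equiv.Perm.mem_alternatingGroup]; decide

/-- `A₅` has no nilpotent minimal cover. -/
theorem nc_alt5 : ¬ ∃ 𝓐 : Finset (Subgroup ↥(alternatingGroup (Fin 5))),
    ((∀ A ∈ 𝓐, A ≠ ⊤) ∧ (∀ g : ↥(alternatingGroup (Fin 5)), ∃ A ∈ 𝓐, g ∈ A)) ∧
      (∀ 𝓑 : Finset (Subgroup ↥(alternatingGroup (Fin 5))),
        (∀ A ∈ 𝓑, A ≠ ⊤) ∧ (∀ g : ↥(alternatingGroup (Fin 5)), ∃ A ∈ 𝓑, g ∈ A) →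
        𝓐.card ≤ 𝓑.card) ∧ (∀ A ∈ 𝓐, Group.IsNilpotent ↥A) := by
  have hfact : Fact (Nat.Prime 3) := ⟨Nat.prime_three⟩
  have hab := hab_of_inj (p := 3) (n := 5) (by norm_num) (alternatingGroup (Fin 5)).subtype
    (Subgroup.subtype_injective _)
  refine nc_no_cover hab ⟨_, alt5_mem_a⟩ ⟨_, alt5_mem_b⟩ ?_ ?_ ?_
    ((MulAction.stabilizer (Equiv.Perm (Fin 5)) (4 : Fin 5)).comap
      (alternatingGroup (Fin 5)).subtype) ?_ ?_ ?_
  · apply Subtype.ext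
    show (Equiv.swap 0 1 * Equiv.swap 1 2 : Equiv.Perm (Fin 5)) ^ 3 = 1
    decide
  · apply Subtype.ext
    show (Equiv.swap 0 1 * Equiv.swap 1 3 : Equiv.Perm (Fin 5)) ^ 3 = 1
    decide
  · intro h
    have h1 := congrArg Subtype.val h
    revert h1
    show ¬ ((Equiv.swap 0 1 * Equiv.swap 1 2 : Equiv.Perm (Fin 5)) *
      (Equiv.swap 0 1 * Equiv.swap 1 3) = (Equiv.swap 0 1 * Equiv.swap 1 3) *
      (Equiv.swap 0 1 * Equiv.swap 1 2))
    decide
  · intro h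
    have h1 : (⟨_, alt5_mem_c⟩ : ↥(alternatingGroup (Fin 5))) ∈
        (MulAction.stabilizer (Equiv.Perm (Fin 5)) (4 : Fin 5)).comap
          (alternatingGroup (Fin 5)).subtype := h ▸ Subgroup.mem_top _
    rw [Subgroup.mem_comap, MulAction.mem_stabilizer_iff] at h1
    revert h1
    show ¬ ((Equiv.swap 2 3 * Equiv.swap 3 4 : Equiv.Perm (Fin 5)) 4 = 4)
    decide
  · intro g hg
    rw [Subgroup.mem_comap, MulAction.mem_stabilizer_iff]
    exact alt5_cent_a g.1 (congrArg Subtype.val hg) (Equiv.Perm.mem_alternatingGroup.mp g.2)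
  · intro g hg
    rw [Subgroup.mem_comap, MulAction.mem_stabilizer_iff]
    exact alt5_cent_b g.1 (congrArg Subtype.val hg) (Equiv.Perm.mem_alternatingGroup.mp g.2)

end Cfsg.Agent.Helper21
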