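import Mathlib
import Cfsg.Agent.Lead.SylowSub
import Cfsg.Agent.Lead.ThB
import Cfsg.Agent.Helper21.PGroupAb

set_option autoImplicit false
set_option linter.style.haveILetI false

/-!
# Solvable non-nilpotent groups in which every non-abelian subgroup is self-normalizing
-/

namespace Cfsg.Agent.Helper21

open scoped IsMulCommutative

/-- A Sylow subgroup contained in an abelian normal subgroup is normal. -/
theorem sylow_normal_of_le_abelian_normal {G : Type*} [Group G] [Finite G] {p : ℕ}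
    [Fact p.Prime] (P : Sylow p G) (K : Subgroup G) [hK : K.Normal]
    (hKc : ∀ a ∈ K, ∀ b ∈ K, a * b = b * a)
    (hPK : (P : Subgroup G) ≤ K) : (P : Subgroup G).Normal := by
  refine ⟨fun n hn g => ?_⟩
  have hy : g * n * g⁻¹ ∈ K := hK.conj_mem n (hPK hn) g
  have hpg : IsPGroup p (Subgroup.zpowers (g * n * g⁻¹)) := by
    have h1 : Subgroup.zpowers (g * n * g⁻¹) =
        (Subgroup.zpowers n).map (MulAut.conj g).toMonoidHom := by
      rw [MonoidHom.map_zpowers]; rfl
    rw [h1]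
    exact (P.2.to_le ((Subgroup.zpowers_le).mpr hn)).map _
  have hnorm : Subgroup.zpowers (g * n * g⁻¹) ≤
      Subgroup.normalizer ((P : Subgroup G) : Set G) := by
    rw [Subgroup.zpowers_le]
    apply mem_normalizer_of_conj'
    intro h hh
    have h2 : g * n * g⁻¹ * h * (g * n * g⁻¹)⁻¹ = h := by
      rw [hKc _ hy h (hPK hh)]; group
    rw [h2]; exact hh
  have hsup := IsPGroup.to_sup_of_normal_right' hpg P.2 hnorm
  have heq := P.is_maximal' hsup le_sup_right
  have h3 : g * n * g⁻¹ ∈ Subgroup.zpowers (g * n * g⁻¹) ⊔ (P : Subgroup G) :=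
    Subgroup.mem_sup_left (Subgroup.mem_zpowers _)
  rw [heq] at h3
  exact h3

/-- The `p'`-part of an abelian normal subgroup. -/
theorem exists_pprime_part {G : Type*} [Group G] [Finite G] (p : ℕ) [Fact p.Prime]
    (K : Subgroup G) [hK : K.Normal] (hKc : ∀ a ∈ K, ∀ b ∈ K, a * b = b * a) :
    ∃ A : Subgroup G, A.Normal ∧ A ≤ K ∧ ¬ p ∣ Nat.card A ∧
      ∀ g ∈ K, ∃ e : ℕ, g ^ (p ^ e) ∈ A := by
  have hp : p.Prime := Fact.out
  let A : Subgroup G :=
    { carrier := {g | g ∈ K ∧ ¬ p ∣ orderOf g}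
      one_mem' := ⟨K.one_mem, by rw [orderOf_one]; exact hp.not_dvd_one⟩
      mul_mem' := by
        rintro a b ⟨ha, ha'⟩ ⟨hb, hb'⟩
        refine ⟨K.mul_mem ha hb, fun hd => ?_⟩
        have h1 : orderOf (a * b) ∣ Nat.lcm (orderOf a) (orderOf b) :=
          (show Commute a b from hKc a ha b hb).orderOf_mul_dvd_lcm
        have h2 := (hd.trans h1).trans (Nat.lcm_dvd_mul _ _)
        rcases (Nat.Prime.dvd_mul hp).mp h2 with h | h
        · exact ha' h
        · exact hb' h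
      inv_mem' := by
        rintro a ⟨ha, ha'⟩
        exact ⟨K.inv_mem ha, by rw [orderOf_inv]; exact ha'⟩ }
  have hAmem : ∀ g, g ∈ A ↔ g ∈ K ∧ ¬ p ∣ orderOf g := fun g => Iff.rfl
  refine ⟨A, ⟨fun n hn g => ?_⟩, fun g hg => ((hAmem g).mp hg).1, ?_, ?_⟩
  · obtain ⟨h1, h2⟩ := (hAmem n).mp hn
    refine (hAmem _).mpr ⟨hK.conj_mem n h1 g, ?_⟩
    have h3 : orderOf (g * n * g⁻¹) = orderOf n :=
      orderOf_injective (MulAut.conj g).toMonoidHom (MulAut.conj g).injective n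
    rw [h3]; exact h2
  · intro hd
    obtain ⟨x, hx⟩ := exists_prime_orderOf_dvd_card' p hd
    have h1 := ((hAmem _).mp x.2).2
    rw [Subgroup.orderOf_coe, hx] at h1
    exact h1 dvd_rfl
  · intro g hg
    refine ⟨(orderOf g).factorization p, (hAmem _).mpr ⟨K.pow_mem hg _, ?_⟩⟩
    rw [orderOf_pow_of_dvd (pow_pos hp.pos _).ne' (Nat.ordProj_dvd _ _)]
    exact Nat.not_dvd_ordCompl hp (orderOf_pos g).ne'

/-- The structure `⟨x⟩ ⋉ A` forces every non-abelian subgroup to be self-normalizing. -/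
theorem selfnorm_of_structure {G : Type*} [Group G] [Finite G] (x : G) (A : Subgroup G) (p : ℕ)
    (hp : p.Prime) [hAn : A.Normal] (hAc : ∀ a ∈ A, ∀ b ∈ A, a * b = b * a) (k : ℕ)
    (hk : orderOf x = p ^ k)
    (hcompl : (Subgroup.zpowers x).IsComplement' A) (hxp : x ^ p ∈ Subgroup.center G)
    (hfpf : ∀ a : G, a ∈ A → a ≠ 1 → x * a * x⁻¹ ≠ a)
    (H : Subgroup G) (hH : ¬ IsMulCommutative H) : Subgroup.normalizer (H : Set G) = H := by
  classical
  have hdec : ∀ g : G, ∃ n : ℕ, ∃ a ∈ A, g = x ^ n * a := by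
    intro g
    obtain ⟨⟨⟨u, hu⟩, ⟨a, ha⟩⟩, hua⟩ := hcompl.2 g
    have hu' : u ∈ Submonoid.powers x :=
      (isOfFinOrder_of_finite x).mem_powers_iff_mem_zpowers.mpr hu
    obtain ⟨n, rfl⟩ := (Submonoid.mem_powers_iff _ _).mp hu'
    exact ⟨n, a, ha, hua.symm⟩
  have hπ : ∀ a ∈ A, (QuotientGroup.mk' A) a = 1 :=
    fun a ha => (QuotientGroup.eq_one_iff a).mpr ha
  obtain ⟨h, hhH, a₁, ha₁, hh⟩ : ∃ h ∈ H, ∃ a₁ ∈ A, h = x * a₁ := by
    have h1 : ∃ h ∈ H, ∃ n : ℕ, ∃ a ∈ A, h = x ^ n * a ∧ ¬ p ∣ n := by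
      by_contra hcon
      apply hH
      refine .of_setLike_mul_comm ?_
      intro u hu v hv
      obtain ⟨n, a, ha, rfl⟩ := hdec u
      obtain ⟨m, b, hb, rfl⟩ := hdec v
      have hn : p ∣ n := by
        by_contra h'
        exact hcon ⟨_, hu, n, a, ha, rfl, h'⟩
      have hm : p ∣ m := by
        by_contra h'
        exact hcon ⟨_, hv, m, b, hb, rfl, h'⟩
      obtain ⟨n', rfl⟩ := hn
      obtain ⟨m', rfl⟩ := hm
      have c1 : ∀ g : G, Commute (x ^ (p * n')) g := fun g => by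
        rw [pow_mul]
        exact (Subgroup.mem_center_iff.mp (Subgroup.pow_mem _ hxp n') g).symm
      have c2 : ∀ g : G, Commute (x ^ (p * m')) g := fun g => by
        rw [pow_mul]
        exact (Subgroup.mem_center_iff.mp (Subgroup.pow_mem _ hxp m') g).symm
      exact (Commute.mul_left (c1 _)
        (Commute.mul_right (c2 a).symm (show Commute a b from hAc a ha b hb))).eq
    obtain ⟨h₀, hh₀, n, a, ha, rfl, hn⟩ := h1
    have hcop : Nat.Coprime n (orderOf x) := by
      rw [hk]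
      exact Nat.Coprime.pow_right k ((Nat.Prime.coprime_iff_not_dvd hp).mpr hn).symm
    obtain ⟨m, -, hm⟩ := Nat.exists_mul_mod_eq_of_coprime 1 hcop (orderOf_pos x).ne'
    have hxm : x ^ (n * m) = x := by
      rw [← pow_mod_orderOf, hm, pow_mod_orderOf, pow_one]
    refine ⟨(x ^ n * a) ^ m, H.pow_mem hh₀ m, x⁻¹ * (x ^ n * a) ^ m, ?_, by group⟩
    apply (QuotientGroup.eq_one_iff _).mp
    show (QuotientGroup.mk' A) (x⁻¹ * (x ^ n * a) ^ m) = 1
    rw [map_mul, map_inv, map_pow, map_mul, hπ a ha, mul_one, ← map_pow, ← pow_mul, hxm,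
      inv_mul_cancel]
  apply le_antisymm _ Subgroup.le_normalizer
  intro g hg
  obtain ⟨l, a'', ha'', rfl⟩ := hdec g
  have hhl : h ^ l ∈ H := H.pow_mem hhH l
  obtain ⟨a', ha'def⟩ : ∃ a', a' = (h ^ l)⁻¹ * (x ^ l * a'') := ⟨_, rfl⟩
  have ha'A : a' ∈ A := by
    rw [ha'def]
    apply (QuotientGroup.eq_one_iff _).mp
    show (QuotientGroup.mk' A) ((h ^ l)⁻¹ * (x ^ l * a'')) = 1
    rw [hh, map_mul, map_inv, map_pow, map_mul, map_mul, hπ a₁ ha₁, hπ a'' ha'', mul_one,
      mul_one, map_pow, inv_mul_cancel]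
  have ha'N : a' ∈ Subgroup.normalizer (H : Set G) := by
    rw [ha'def]
    exact Subgroup.mul_mem _ (Subgroup.inv_mem _ (Subgroup.le_normalizer hhl)) hg
  suffices hsuff : a' ∈ H by
    have h1 : x ^ l * a'' = h ^ l * a' := by rw [ha'def]; group
    rw [h1]; exact H.mul_mem hhl hsuff
  have hinj : ∀ u ∈ A, ∀ v ∈ A, u * h * u⁻¹ * h⁻¹ = v * h * v⁻¹ * h⁻¹ → u = v := by
    intro u hu v hv huv
    have h1 : u * h * u⁻¹ = v * h * v⁻¹ := mul_right_cancel huv
    have hd : (v⁻¹ * u) * h = h * (v⁻¹ * u) := by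
      calc (v⁻¹ * u) * h = v⁻¹ * (u * h * u⁻¹) * u := by group
        _ = v⁻¹ * (v * h * v⁻¹) * u := by rw [h1]
        _ = h * (v⁻¹ * u) := by group
    have hdA : v⁻¹ * u ∈ A := A.mul_mem (A.inv_mem hv) hu
    have hdx : x * (v⁻¹ * u) * x⁻¹ = v⁻¹ * u := by
      rw [hh] at hd
      have h2 : (v⁻¹ * u) * x * a₁ = x * (v⁻¹ * u) * a₁ := by
        calc (v⁻¹ * u) * x * a₁ = (v⁻¹ * u) * (x * a₁) := by group
          _ = x * a₁ * (v⁻¹ * u) := hd
          _ = x * (a₁ * (v⁻¹ * u)) := by group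
          _ = x * ((v⁻¹ * u) * a₁) := by rw [hAc a₁ ha₁ _ hdA]
          _ = x * (v⁻¹ * u) * a₁ := by group
      have h3 := mul_right_cancel h2
      rw [← h3]; group
    by_contra hne
    have hd1 : v⁻¹ * u ≠ 1 := by
      intro h4
      apply hne
      have h5 : u = v * (v⁻¹ * u) := by group
      rw [h5, h4, mul_one]
    exact hfpf _ hdA hd1 hdx
  have hφmem : ∀ b ∈ H ⊓ A, b * h * b⁻¹ * h⁻¹ ∈ H ⊓ A := by
    intro b hb
    refine ⟨H.mul_mem (H.mul_mem (H.mul_mem hb.1 hhH) (H.inv_mem hb.1)) (H.inv_mem hhH), ?_⟩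
    have h1 : b * h * b⁻¹ * h⁻¹ = b * (h * b⁻¹ * h⁻¹) := by group
    rw [h1]; exact A.mul_mem hb.2 (hAn.conj_mem _ (A.inv_mem hb.2) h)
  let f : ↥(H ⊓ A) → ↥(H ⊓ A) := fun b => ⟨(b : G) * h * (b : G)⁻¹ * h⁻¹, hφmem b b.2⟩
  have hfinj : Function.Injective f := by
    intro b b' hbb
    apply Subtype.ext
    exact hinj _ b.2.2 _ b'.2.2 (congrArg Subtype.val hbb)
  have hfsurj : Function.Surjective f := Finite.surjective_of_injective hfinj
  have hφa' : a' * h * a'⁻¹ * h⁻¹ ∈ H ⊓ A := by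
    refine ⟨H.mul_mem ?_ (H.inv_mem hhH), ?_⟩
    · exact ((Subgroup.mem_normalizer_iff.mp ha'N) h).mp hhH
    · have h1 : a' * h * a'⁻¹ * h⁻¹ = a' * (h * a'⁻¹ * h⁻¹) := by group
      rw [h1]; exact A.mul_mem ha'A (hAn.conj_mem _ (A.inv_mem ha'A) h)
  obtain ⟨b, hb⟩ := hfsurj ⟨_, hφa'⟩
  have hba' : (b : G) = a' := hinj _ b.2.2 _ ha'A (congrArg Subtype.val hb)
  rw [← hba']; exact b.2.1

/-- Structure of a solvable non-nilpotent group in which every non-abelian subgroup is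
self-normalizing. -/
theorem structure_of_selfnorm {G : Type*} [Group G] [Finite G] [Group.IsSolvable G]
    (hnn : ¬ Group.IsNilpotent G)
    (hS : ∀ H : Subgroup G, ¬ IsMulCommutative H → Subgroup.normalizer (H : Set G) = H) :
    ∃ (x : G) (A : Subgroup G) (p : ℕ), p.Prime ∧ A.Normal ∧ IsMulCommutative A ∧
      (∃ k : ℕ, orderOf x = p ^ k) ∧
      ¬ p ∣ Nat.card A ∧ (Subgroup.zpowers x).IsComplement' A ∧ x ^ p ∈ Subgroup.center G ∧
      ∀ a : G, a ∈ A → a ≠ 1 → x * a * x⁻¹ ≠ a := by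
  classical
  have hab : ∀ N : Subgroup G, N.Normal → N ≠ ⊤ → ∀ a ∈ N, ∀ b ∈ N, a * b = b * a := by
    intro N hN hNt a ha b hb
    by_contra hne
    have hc : ¬ IsMulCommutative N := fun hc => hne (setLike_mul_comm ha hb)
    have h1 := hS N hc
    rw [Subgroup.normalizer_eq_top_iff.mpr hN] at h1
    exact hNt h1.symm
  haveI : Nontrivial G := by
    by_contra h
    rw [not_nontrivial_iff_subsingleton] at h
    exact hnn inferInstance
  have hG' : commutator G ≠ ⊤ := (Group.IsSolvable.commutator_lt_top_of_nontrivial G).ne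
  have hKc := hab (commutator G) inferInstance hG'
  obtain ⟨p, hpf, P, hPn⟩ : ∃ (p : ℕ) (_ : Fact p.Prime) (P : Sylow p G),
      ¬ (P : Subgroup G).Normal := by
    by_contra hcon
    apply hnn
    apply ((Group.isNilpotent_of_finite_tfae (G := G)).out 0 3).mpr
    intro p hp P
    by_contra h
    exact hcon ⟨p, hp, P, h⟩
  haveI := hpf
  have hp : p.Prime := hpf.out
  have hPK : (P : Subgroup G) ⊔ commutator G = ⊤ := by
    by_contra hne
    have hKn : ((P : Subgroup G) ⊔ commutator G).Normal := by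
      refine ⟨fun n hn g => ?_⟩
      have h1 : g * n * g⁻¹ = (g * n * g⁻¹ * n⁻¹) * n := by group
      rw [h1]
      refine Subgroup.mul_mem _ (Subgroup.mem_sup_right ?_) hn
      rw [commutator_eq_closure]
      exact Subgroup.subset_closure ⟨g, n, rfl⟩
    have hc := hab _ hKn hne
    haveI := hKn
    exact hPn (sylow_normal_of_le_abelian_normal P _ hc le_sup_left)
  obtain ⟨A, hAn, hAK, hpA, hApow⟩ := exists_pprime_part p (commutator G) hKc
  haveI := hAn
  have hAc : ∀ a ∈ A, ∀ b ∈ A, a * b = b * a := fun a ha b hb => hKc a (hAK ha) b (hAK hb)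
  obtain ⟨j, hj⟩ := IsPGroup.iff_card.mp P.2
  have hGA : IsPGroup p (G ⧸ A) := by
    intro q
    obtain ⟨g, rfl⟩ := QuotientGroup.mk_surjective q
    have hg : g ∈ ((P : Subgroup G) ⊔ commutator G : Subgroup G) := hPK ▸ Subgroup.mem_top g
    rw [← SetLike.mem_coe, Subgroup.mul_normal] at hg
    obtain ⟨u, hu, d, hd, rfl⟩ := Set.mem_mul.mp hg
    have hupow : u ^ (p ^ j) = 1 := by
      have h1 := pow_card_eq_one' (G := (P : Subgroup G)) (x := ⟨u, hu⟩)
      rw [hj] at h1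
      exact congrArg Subtype.val h1
    have hgK : (u * d) ^ (p ^ j) ∈ commutator G := by
      apply (QuotientGroup.eq_one_iff _).mp
      show (QuotientGroup.mk' (commutator G)) ((u * d) ^ (p ^ j)) = 1
      have hd' : (QuotientGroup.mk' (commutator G)) d = 1 := (QuotientGroup.eq_one_iff d).mpr hd
      rw [map_pow, map_mul, hd', mul_one, ← map_pow, hupow, map_one]
    obtain ⟨e, he⟩ := hApow _ hgK
    refine ⟨j + e, ?_⟩
    show (QuotientGroup.mk' A (u * d)) ^ (p ^ (j + e)) = 1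
    rw [← map_pow, pow_add, pow_mul]
    exact (QuotientGroup.eq_one_iff _).mpr he
  obtain ⟨j', hj'⟩ := IsPGroup.iff_card.mp hGA
  have hcardG : Nat.card G = p ^ j' * Nat.card A := by
    rw [← hj']; exact Subgroup.card_eq_card_quotient_mul_card_subgroup A
  have hcopA : Nat.Coprime p (Nat.card A) := (Nat.Prime.coprime_iff_not_dvd hp).mpr hpA
  have hjj : p ^ j = p ^ j' := by
    apply Nat.dvd_antisymm
    · have h1 : p ^ j ∣ p ^ j' * Nat.card A := by
        rw [← hcardG, ← hj]; exact Subgroup.card_subgroup_dvd_card _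
      exact (Nat.Coprime.pow_left j hcopA).dvd_of_dvd_mul_right h1
    · rw [← hj]
      exact P.pow_dvd_card_of_pow_dvd_card (by rw [hcardG]; exact dvd_mul_right _ _)
  have hcardPA : Nat.card (P : Subgroup G) * Nat.card A = Nat.card G := by
    rw [hj, hjj, hcardG]
  have hcop : Nat.Coprime (Nat.card (P : Subgroup G)) (Nat.card A) := by
    rw [hj]; exact Nat.Coprime.pow_left j hcopA
  have hcompl : (P : Subgroup G).IsComplement' A :=
    Subgroup.isComplement'_of_coprime hcardPA hcop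
  have hPA : ∀ u ∈ (P : Subgroup G), u ∈ A → u = 1 := by
    intro u hu hu'
    have h0 := (Subgroup.disjoint_of_coprime_natCard hcop).eq_bot
    have h1 : u ∈ (P : Subgroup G) ⊓ A := ⟨hu, hu'⟩
    rw [h0, Subgroup.mem_bot] at h1
    exact h1
  have hdec : ∀ g : G, ∃ u ∈ (P : Subgroup G), ∃ a ∈ A, g = u * a := by
    intro g
    obtain ⟨⟨⟨u, hu⟩, ⟨a, ha⟩⟩, hua⟩ := hcompl.2 g
    exact ⟨u, hu, a, ha, hua.symm⟩
  -- an element of `P` not centralizing `A` generates `P`
  have hK : ∀ y ∈ (P : Subgroup G), (∃ a ∈ A, y * a ≠ a * y) →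
      Subgroup.zpowers y = (P : Subgroup G) := by
    rintro y hy ⟨a, ha, hya⟩
    by_contra hne
    have hlt : Subgroup.zpowers y < (P : Subgroup G) :=
      lt_of_le_of_ne ((Subgroup.zpowers_le).mpr hy) hne
    obtain ⟨t, htP, hty, htN⟩ := Lead.exists_mem_normalizer_not_mem P.2 hlt
    have hHnc : ¬ IsMulCommutative (Subgroup.zpowers y ⊔ A : Subgroup G) := by
      intro hc
      apply hya
      exact setLike_mul_comm (s := (Subgroup.zpowers y ⊔ A : Subgroup G))
        (Subgroup.mem_sup_left (Subgroup.mem_zpowers y)) (Subgroup.mem_sup_right ha)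
    have hself := hS _ hHnc
    have htH : t ∈ Subgroup.normalizer ((Subgroup.zpowers y ⊔ A : Subgroup G) : Set G) := by
      apply mem_normalizer_of_conj'
      intro h hh
      rw [← SetLike.mem_coe, Subgroup.mul_normal] at hh ⊢
      obtain ⟨u, hu, d, hd, rfl⟩ := Set.mem_mul.mp hh
      exact Set.mem_mul.mpr ⟨t * u * t⁻¹, ((Subgroup.mem_normalizer_iff.mp htN) u).mp hu,
        t * d * t⁻¹, hAn.conj_mem d hd t, by group⟩
    rw [hself] at htH
    rw [← SetLike.mem_coe, Subgroup.mul_normal] at htH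
    obtain ⟨u, hu, d, hd, hud⟩ := Set.mem_mul.mp htH
    have hd1 : d = 1 := by
      apply hPA d _ hd
      have h1 : d = u⁻¹ * t := by rw [← hud]; group
      rw [h1]
      exact Subgroup.mul_mem _ (Subgroup.inv_mem _ ((Subgroup.zpowers_le).mpr hy hu)) htP
    apply hty
    rw [← hud, hd1, mul_one]; exact hu
  obtain ⟨x, hxP, a₀, ha₀, hxa₀⟩ : ∃ x ∈ (P : Subgroup G), ∃ a ∈ A, x * a ≠ a * x := by
    by_contra hcon
    apply hPn
    refine ⟨fun n hn g => ?_⟩
    obtain ⟨u, hu, a, ha, rfl⟩ := hdec g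
    have h1 : n * a = a * n := by
      by_contra h'
      exact hcon ⟨n, hn, a, ha, h'⟩
    have h2 : u * a * n * (u * a)⁻¹ = u * n * u⁻¹ := by
      rw [mul_assoc u a n, ← h1]; group
    rw [h2]
    exact Subgroup.mul_mem _ (Subgroup.mul_mem _ hu hn) (Subgroup.inv_mem _ hu)
  have hxz : Subgroup.zpowers x = (P : Subgroup G) := hK x hxP ⟨a₀, ha₀, hxa₀⟩
  have hxord : orderOf x = p ^ j := by rw [← Nat.card_zpowers, hxz, hj]
  have hj1 : j ≠ 0 := by
    intro h0
    rw [h0, pow_zero, orderOf_eq_one_iff] at hxord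
    apply hxa₀
    rw [hxord, one_mul, mul_one]
  have hxpA : ∀ a ∈ A, x ^ p * a = a * x ^ p := by
    intro a ha
    by_contra hne
    have h1 := hK (x ^ p) (Subgroup.pow_mem _ hxP p) ⟨a, ha, hne⟩
    have h2 : orderOf (x ^ p) = orderOf x := by
      rw [← Nat.card_zpowers, h1, ← hxz, Nat.card_zpowers]
    rw [orderOf_pow_of_dvd hp.ne_zero (by rw [hxord]; exact dvd_pow_self p hj1)] at h2
    have h3 := Nat.div_lt_self (orderOf_pos x) hp.one_lt
    omega
  have hdecx : ∀ g : G, ∃ n : ℕ, ∃ a ∈ A, g = x ^ n * a := by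
    intro g
    obtain ⟨u, hu, a, ha, rfl⟩ := hdec g
    rw [← hxz] at hu
    have hu' : u ∈ Submonoid.powers x :=
      (isOfFinOrder_of_finite x).mem_powers_iff_mem_zpowers.mpr hu
    obtain ⟨n, rfl⟩ := (Submonoid.mem_powers_iff _ _).mp hu'
    exact ⟨n, a, ha, rfl⟩
  have hxpZ : x ^ p ∈ Subgroup.center G := by
    rw [Subgroup.mem_center_iff]
    intro g
    obtain ⟨n, a, ha, rfl⟩ := hdecx g
    have h1 : Commute (x ^ n) (x ^ p) := (Commute.refl x).pow_pow n p
    rw [mul_assoc, ← hxpA a ha, ← mul_assoc, h1.eq, mul_assoc]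
  have hfpf : ∀ c : G, c ∈ A → c ≠ 1 → x * c * x⁻¹ ≠ c := by
    intro c hcA hc1 hxc
    haveI : IsMulCommutative A := .of_setLike_mul_comm hAc
    obtain ⟨T, hT⟩ : ∃ T, T = Lead.Th.conjEndN A x := ⟨_, rfl⟩
    have hTp : T ^ p = 1 := by
      rw [hT, ← map_pow]
      apply Lead.Th.conjEndN_eq_one
      intro w hw
      rw [hxpA w hw]; group
    obtain ⟨Φ, hΦ⟩ : ∃ Φ, Φ = ∑ i ∈ Finset.range p, T ^ i := ⟨_, rfl⟩
    have hΦT : Φ * (T - 1) = 0 := by rw [hΦ, geom_sum_mul, hTp, sub_self]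
    have hΦcomm : ∀ n : ℕ, Φ * T ^ n = T ^ n * Φ := by
      intro n
      rw [hΦ, Finset.sum_mul, Finset.mul_sum]
      apply Finset.sum_congr rfl
      intro i _
      rw [← pow_add, ← pow_add, add_comm]
    let B : Subgroup G :=
      { carrier := {g | ∃ hg : g ∈ A, Φ (Additive.ofMul (⟨g, hg⟩ : A)) = 0}
        one_mem' := ⟨A.one_mem, map_zero Φ⟩
        mul_mem' := by
          rintro a b ⟨ha, ha0⟩ ⟨hb, hb0⟩
          refine ⟨A.mul_mem ha hb, ?_⟩
          have h1 : Additive.ofMul (⟨a * b, A.mul_mem ha hb⟩ : A) =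
              Additive.ofMul (⟨a, ha⟩ : A) + Additive.ofMul (⟨b, hb⟩ : A) := rfl
          rw [h1, map_add, ha0, hb0, add_zero]
        inv_mem' := by
          rintro a ⟨ha, ha0⟩
          refine ⟨A.inv_mem ha, ?_⟩
          have h1 : Additive.ofMul (⟨a⁻¹, A.inv_mem ha⟩ : A) =
              - Additive.ofMul (⟨a, ha⟩ : A) := rfl
          rw [h1, map_neg, ha0, neg_zero] }
    have hBmem : ∀ g, g ∈ B ↔ ∃ hg : g ∈ A, Φ (Additive.ofMul (⟨g, hg⟩ : A)) = 0 :=
      fun g => Iff.rfl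
    have hBA : B ≤ A := fun g hg => ((hBmem g).mp hg).1
    have hTapp : ∀ (n : ℕ) (w : G) (hw : w ∈ A), (T ^ n) (Additive.ofMul (⟨w, hw⟩ : A)) =
        Additive.ofMul (⟨x ^ n * w * (x ^ n)⁻¹, hAn.conj_mem w hw (x ^ n)⟩ : A) := by
      intro n w hw
      apply Helper11.additive_subgroup_ext
      rw [hT, ← map_pow, Lead.Th.conjEndN_apply]
      rfl
    have hBn : B.Normal := by
      refine ⟨fun n hn g => ?_⟩
      obtain ⟨hnA, hn0⟩ := (hBmem n).mp hn
      obtain ⟨m, a, ha, rfl⟩ := hdecx g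
      have h1 : x ^ m * a * n * (x ^ m * a)⁻¹ = x ^ m * n * (x ^ m)⁻¹ := by
        rw [mul_assoc (x ^ m) a n, hAc a ha n hnA]; group
      rw [h1]
      refine (hBmem _).mpr ⟨hAn.conj_mem n hnA (x ^ m), ?_⟩
      have h2 : Φ ((T ^ m) (Additive.ofMul (⟨n, hnA⟩ : A))) = 0 := by
        have h3 : Φ ((T ^ m) (Additive.ofMul (⟨n, hnA⟩ : A))) =
            (Φ * T ^ m) (Additive.ofMul (⟨n, hnA⟩ : A)) := rfl
        rw [h3, hΦcomm m]
        have h4 : (T ^ m * Φ) (Additive.ofMul (⟨n, hnA⟩ : A)) =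
            (T ^ m) (Φ (Additive.ofMul (⟨n, hnA⟩ : A))) := rfl
        rw [h4, hn0, map_zero]
      exact Eq.trans (congrArg Φ (hTapp m n hnA).symm) h2
    haveI := hBn
    -- fixed points in `B` are trivial
    have hBC : ∀ b ∈ B, x * b * x⁻¹ = b → b = 1 := by
      intro b hb hxb
      obtain ⟨hbA, hb0⟩ := (hBmem b).mp hb
      have hfix : ∀ i : ℕ, (T ^ i) (Additive.ofMul (⟨b, hbA⟩ : A)) =
          Additive.ofMul (⟨b, hbA⟩ : A) := by
        intro i
        rw [hTapp i b hbA]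
        apply Helper11.additive_subgroup_ext
        show x ^ i * b * (x ^ i)⁻¹ = b
        have h1 : Commute x b := by
          have h2 : x * b = b * x := by
            calc x * b = x * b * x⁻¹ * x := by group
              _ = b * x := by rw [hxb]
          exact h2
        rw [(h1.pow_left i).eq]; group
      have hsum : Φ (Additive.ofMul (⟨b, hbA⟩ : A)) = p • Additive.ofMul (⟨b, hbA⟩ : A) := by
        have hsum' : ∀ n : ℕ, (∑ i ∈ Finset.range n, T ^ i) (Additive.ofMul (⟨b, hbA⟩ : A)) =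
            n • Additive.ofMul (⟨b, hbA⟩ : A) := by
          intro n
          induction n with
          | zero =>
            rw [Finset.range_zero, Finset.sum_empty, zero_smul]
            rfl
          | succ n ih =>
            rw [Finset.sum_range_succ]
            have h1 : (∑ i ∈ Finset.range n, T ^ i + T ^ n) (Additive.ofMul (⟨b, hbA⟩ : A)) =
                (∑ i ∈ Finset.range n, T ^ i) (Additive.ofMul (⟨b, hbA⟩ : A)) +
                  (T ^ n) (Additive.ofMul (⟨b, hbA⟩ : A)) := rfl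
            rw [h1, ih, hfix n, succ_nsmul]
        rw [hΦ]
        exact hsum' p
      rw [hsum] at hb0
      have hbp : b ^ p = 1 := by
        have h1 : Additive.toMul (p • Additive.ofMul (⟨b, hbA⟩ : A)) = (⟨b, hbA⟩ : A) ^ p := rfl
        rw [hb0] at h1
        have h2 : ((⟨b, hbA⟩ : A) ^ p : A) = 1 := h1.symm
        exact congrArg Subtype.val h2
      have h1 : orderOf b ∣ p := orderOf_dvd_of_pow_eq_one hbp
      have h2 : orderOf b ∣ Nat.card A := A.orderOf_dvd_natCard hbA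
      have h3 : orderOf b ∣ 1 := by
        have h4 := Nat.dvd_gcd h1 h2
        rwa [Nat.Coprime.gcd_eq_one hcopA] at h4
      exact orderOf_eq_one_iff.mp (Nat.dvd_one.mp h3)
    have hBcomm : ∀ a ∈ A, x * a * x⁻¹ * a⁻¹ ∈ B := by
      intro a ha
      have hmem : x * a * x⁻¹ * a⁻¹ ∈ A := A.mul_mem (hAn.conj_mem a ha x) (A.inv_mem ha)
      refine (hBmem _).mpr ⟨hmem, ?_⟩
      have e : Additive.ofMul (⟨x * a * x⁻¹ * a⁻¹, hmem⟩ : A) =
          (T - 1) (Additive.ofMul (⟨a, ha⟩ : A)) := by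
        apply Helper11.additive_subgroup_ext
        have h1 : (T - 1) (Additive.ofMul (⟨a, ha⟩ : A)) =
            T (Additive.ofMul (⟨a, ha⟩ : A)) - Additive.ofMul (⟨a, ha⟩ : A) := rfl
        rw [h1, toMul_sub, Subgroup.coe_div, hT, Lead.Th.conjEndN_apply, div_eq_mul_inv]
        rfl
      rw [e]
      have h2 : Φ ((T - 1) (Additive.ofMul (⟨a, ha⟩ : A))) =
          (Φ * (T - 1)) (Additive.ofMul (⟨a, ha⟩ : A)) := rfl
      rw [h2, hΦT]
      rfl
    have hb₀ := hBcomm a₀ ha₀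
    have hb₀x : x * (x * a₀ * x⁻¹ * a₀⁻¹) ≠ (x * a₀ * x⁻¹ * a₀⁻¹) * x := by
      intro h
      have h1 : x * (x * a₀ * x⁻¹ * a₀⁻¹) * x⁻¹ = x * a₀ * x⁻¹ * a₀⁻¹ := by
        rw [h]; group
      have h2 := hBC _ hb₀ h1
      apply hxa₀
      calc x * a₀ = (x * a₀ * x⁻¹ * a₀⁻¹) * (a₀ * x) := by group
        _ = a₀ * x := by rw [h2, one_mul]
    have hHnc : ¬ IsMulCommutative (Subgroup.zpowers x ⊔ B : Subgroup G) := by
      intro hc
      apply hb₀x
      exact setLike_mul_comm (s := (Subgroup.zpowers x ⊔ B : Subgroup G))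
        (Subgroup.mem_sup_left (Subgroup.mem_zpowers x)) (Subgroup.mem_sup_right hb₀)
    have hself := hS _ hHnc
    have hcx : c * x = x * c := by
      calc c * x = x * c * x⁻¹ * x := by rw [hxc]
        _ = x * c := by group
    have hle : Subgroup.zpowers x ⊔ B ≤ Subgroup.centralizer ({c} : Set G) := by
      refine sup_le ((Subgroup.zpowers_le).mpr ?_) ?_
      · rw [Subgroup.mem_centralizer_iff]
        intro y hy
        rw [Set.mem_singleton_iff] at hy
        subst hy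
        exact hcx
      · intro b hb
        rw [Subgroup.mem_centralizer_iff]
        intro y hy
        rw [Set.mem_singleton_iff] at hy
        subst hy
        exact hAc _ hcA b (hBA hb)
    have hcN : c ∈ Subgroup.normalizer ((Subgroup.zpowers x ⊔ B : Subgroup G) : Set G) := by
      apply mem_normalizer_of_conj'
      intro h hh
      have h1 := Subgroup.mem_centralizer_iff.mp (hle hh) c rfl
      have h2 : c * h * c⁻¹ = h := by rw [h1]; group
      rw [h2]; exact hh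
    rw [hself] at hcN
    rw [← SetLike.mem_coe, Subgroup.mul_normal] at hcN
    obtain ⟨u, hu, b, hb, hub⟩ := Set.mem_mul.mp hcN
    have hu1 : u = 1 := by
      apply hPA u (hxz ▸ hu)
      have h1 : u = c * b⁻¹ := by rw [← hub]; group
      rw [h1]; exact A.mul_mem hcA (A.inv_mem (hBA hb))
    rw [hu1, one_mul] at hub
    rw [← hub] at hc1 hxc
    exact hc1 (hBC b hb hxc)
  exact ⟨x, A, p, hp, hAn, .of_setLike_mul_comm hAc, ⟨j, hxord⟩, hpA, by rw [hxz]; exact hcompl,
    hxpZ, hfpf⟩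

end Cfsg.Agent.Helper21
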